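import Groth.Agent.Lib.helper19.RegularLocal
import Mathlib.RingTheory.Regular.RegularSequence

set_option autoImplicit false

namespace Groth.Agent.Lib.helper19

open IsLocalRing RingTheory.Sequence
open scoped Pointwise

universe u

theorem spanFinrank_ofList_le {R : Type u} [CommRing R] (l : List R) :
    (Ideal.ofList l).spanFinrank ≤ l.length := by
  classical
  have h1 : {r | r ∈ l} = ((l.toFinset : Finset R) : Set R) := by
    ext; simp
  have h2 := Submodule.spanFinrank_span_le_ncard_of_finite (R := R) l.toFinset.finite_toSet
  rw [Set.ncard_coe_finset] at h2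
  unfold Ideal.ofList
  rw [h1]
  exact h2.trans (List.toFinset_card_le l)

theorem isWeaklyRegular_of_ofList_eq_maximalIdeal_aux (n : ℕ) : ∀ (R : Type u) [CommRing R]
    [IsRegularLocalRing R] (l : List R), l.length = n → Ideal.ofList l = maximalIdeal R →
    ringKrullDim R = n → IsWeaklyRegular R l := by
  induction n with
  | zero =>
    intro R _ _ l hl _ _
    rw [List.length_eq_zero_iff] at hl
    subst hl
    exact ⟨fun i h => absurd h (by simp)⟩
  | succ n ih =>
    intro R _ _ l hl hspan hdim
    match l, hl with
    | r :: rs, hl =>
      have hlen : rs.length = n := by simpa using hl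
      rw [Ideal.ofList_cons] at hspan
      have hr : r ∈ maximalIdeal R := by
        rw [← hspan]; exact Ideal.mem_sup_left (Ideal.subset_span rfl)
      have hsf : (maximalIdeal R).spanFinrank = n + 1 := by
        have := IsRegularLocalRing.spanFinrank_maximalIdeal (R := R)
        rw [hdim] at this; exact_mod_cast this
      have hr2 : r ∉ maximalIdeal R ^ 2 := by
        intro hr2
        have hle : maximalIdeal R ≤ Ideal.ofList rs := by
          apply Submodule.le_of_le_smul_of_le_jacobson_bot (I := maximalIdeal R)
            (IsNoetherian.noetherian _)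
            (IsLocalRing.jacobson_eq_maximalIdeal _ bot_ne_top).ge
          rw [smul_eq_mul, ← pow_two]
          conv_lhs => rw [← hspan]
          rw [sup_comm]
          exact sup_le_sup_left ((Ideal.span_singleton_le_iff_mem _).mpr hr2) _
        have heq : maximalIdeal R = Ideal.ofList rs := by
          apply le_antisymm hle
          rw [← hspan]; exact le_sup_right
        have := spanFinrank_ofList_le rs
        rw [← heq, hsf, hlen] at this
        omega
      have hdom : IsDomain R := isDomain_of_isRegularLocalRing R
      have hr0 : r ≠ 0 := fun h => hr2 (h ▸ Ideal.zero_mem _)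
      obtain ⟨hreg, hdimS⟩ := isRegularLocalRing_quotient_span_singleton hr hr2
      have hdimS' : ringKrullDim (R ⧸ Ideal.span ({r} : Set R)) = n := by
        rw [hdim] at hdimS
        have hn := IsRegularLocalRing.spanFinrank_maximalIdeal
          (R := R ⧸ Ideal.span ({r} : Set R))
        rw [← hn] at hdimS ⊢
        norm_cast at hdimS ⊢
        omega
      have hspanS : Ideal.ofList (rs.map (Ideal.Quotient.mk (Ideal.span ({r} : Set R)))) =
          maximalIdeal (R ⧸ Ideal.span ({r} : Set R)) := by
        rw [maximalIdeal_quotient, ← hspan, ← Ideal.map_ofList, Ideal.map_sup]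
        have : Ideal.map (Ideal.Quotient.mk (Ideal.span ({r} : Set R))) (Ideal.span {r}) = ⊥ := by
          rw [Ideal.map_quotient_self]
        rw [this, bot_sup_eq]
      have hS := ih (R ⧸ Ideal.span ({r} : Set R))
        (rs.map (Ideal.Quotient.mk (Ideal.span ({r} : Set R)))) (by simpa using hlen) hspanS hdimS'
      rw [isWeaklyRegular_cons_iff]
      refine ⟨(isSMulRegular_iff_right_eq_zero_of_smul.mpr fun y hy => by
        rcases mul_eq_zero.mp hy with h | h
        · exact absurd h hr0
        · exact h), ?_⟩
      have hS' : IsWeaklyRegular (R ⧸ Ideal.span ({r} : Set R)) rs :=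
        (isWeaklyRegular_map_algebraMap_iff (R ⧸ Ideal.span ({r} : Set R))
          (R ⧸ Ideal.span ({r} : Set R)) rs).mp hS
      have h : Ideal.span ({r} : Set R) = r • (⊤ : Ideal R) := by
        simp [← Submodule.ideal_span_singleton_smul]
      exact ((Ideal.quotientEquivAlgOfEq R h).toLinearEquiv.isWeaklyRegular_congr rs).mp hS'

/-- In a regular local ring, a list of `dim R` generators of the maximal ideal is a regular
sequence. -/
theorem isRegular_of_ofList_eq_maximalIdeal (R : Type u) [CommRing R]
    [IsRegularLocalRing R] (l : List R) (hspan : Ideal.ofList l = maximalIdeal R)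
    (hdim : ringKrullDim R = l.length) : IsRegular R l := by
  rw [IsLocalRing.isRegular_iff_isWeaklyRegular_of_subset_maximalIdeal]
  · exact isWeaklyRegular_of_ofList_eq_maximalIdeal_aux l.length R l rfl hspan hdim
  · intro r hr
    rw [← hspan]
    exact Ideal.subset_span hr

end Groth.Agent.Lib.helper19
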