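import Mathlib.RingTheory.RegularLocalRing.Defs
import Mathlib.RingTheory.KrullDimension.Regular
import Mathlib.RingTheory.KrullDimension.NonZeroDivisors
import Mathlib.RingTheory.Ideal.MinimalPrime.Noetherian
import Mathlib.RingTheory.Nakayama

set_option autoImplicit false

namespace Groth.Agent.Lib.helper19

open IsLocalRing

universe u

variable {R : Type u} [CommRing R]

/-- The quotient of a local ring by a proper ideal is local. -/
theorem isLocalRing_quotient [IsLocalRing R] (I : Ideal R) (hI : I ≠ ⊤) : IsLocalRing (R ⧸ I) := by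
  haveI : Nontrivial (R ⧸ I) := Ideal.Quotient.nontrivial_iff.mpr hI
  exact IsLocalRing.of_surjective' (Ideal.Quotient.mk I) Ideal.Quotient.mk_surjective

theorem span_singleton_ne_top [IsLocalRing R] {x : R} (hx : x ∈ maximalIdeal R) :
    Ideal.span ({x} : Set R) ≠ ⊤ := by
  intro h
  have : Ideal.span ({x} : Set R) ≤ maximalIdeal R := (Ideal.span_singleton_le_iff_mem _).mpr hx
  rw [h] at this
  exact (maximalIdeal.isMaximal R).ne_top (top_le_iff.mp this)

/-- The maximal ideal of a quotient of a local ring is the image of the maximal ideal. -/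
theorem maximalIdeal_quotient [IsLocalRing R] (I : Ideal R) [IsLocalRing (R ⧸ I)] :
    maximalIdeal (R ⧸ I) = (maximalIdeal R).map (Ideal.Quotient.mk I) := by
  have hI : I ≠ ⊤ := by
    intro h
    have : Subsingleton (R ⧸ I) := by
      rw [h]; exact Ideal.Quotient.subsingleton_iff.mpr rfl
    exact not_subsingleton (R ⧸ I) this
  have hle : I ≤ maximalIdeal R := le_maximalIdeal hI
  apply le_antisymm
  · intro y hy
    obtain ⟨r, rfl⟩ := Ideal.Quotient.mk_surjective y
    apply Ideal.mem_map_of_mem
    rw [mem_maximalIdeal, mem_nonunits_iff] at hy ⊢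
    intro hu
    exact hy (hu.map _)
  · rw [Ideal.map_le_iff_le_comap]
    intro r hr
    rw [Ideal.mem_comap, mem_maximalIdeal, mem_nonunits_iff]
    intro hu
    obtain ⟨u, hu'⟩ := hu
    obtain ⟨v, hv⟩ := Ideal.Quotient.mk_surjective (u⁻¹ : (R ⧸ I)ˣ).1
    have h1 : Ideal.Quotient.mk I (r * v - 1) = 0 := by
      rw [map_sub, map_mul, hv, ← hu', map_one]; simp
    rw [Ideal.Quotient.eq_zero_iff_mem] at h1
    have h2 : r * v - 1 ∈ maximalIdeal R := hle h1
    have h3 : r * v ∈ maximalIdeal R := Ideal.mul_mem_right _ _ hr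
    have h4 : (1 : R) ∈ maximalIdeal R := by
      have := Ideal.sub_mem _ h3 h2
      simpa using this
    exact (maximalIdeal.isMaximal R).ne_top ((Ideal.eq_top_iff_one _).mpr h4)

/-- If `x ∈ m \ m²` then `x` can be completed to a minimal generating set of `m`. -/
theorem exists_finset_insert_span_eq_maximalIdeal [IsLocalRing R] [IsNoetherianRing R] {x : R}
    (hx : x ∈ maximalIdeal R) (hx2 : x ∉ maximalIdeal R ^ 2) :
    ∃ t : Finset R, Ideal.span (insert x (t : Set R)) = maximalIdeal R ∧
      t.card + 1 = (maximalIdeal R).spanFinrank := by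
  classical
  obtain ⟨s, hs, hs'⟩ := Submodule.FG.exists_span_finset_card_eq_spanFinrank
    (p := maximalIdeal R) (IsNoetherian.noetherian _)
  have hsm : ∀ y ∈ s, y ∈ maximalIdeal R := fun y hy => by
    rw [← hs']; exact Submodule.subset_span hy
  have hxs : x ∈ Submodule.span R (s : Set R) := by rw [hs']; exact hx
  obtain ⟨a, -, ha⟩ := Submodule.mem_span_finset.mp hxs
  have hex : ∃ y ∈ s, IsUnit (a y) := by
    by_contra hcon
    push Not at hcon
    apply hx2
    rw [← ha, pow_two]
    apply Ideal.sum_mem
    intro y hy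
    rw [smul_eq_mul]
    exact Ideal.mul_mem_mul ((mem_maximalIdeal _).mpr (hcon y hy)) (hsm y hy)
  obtain ⟨y₀, hy₀, hu⟩ := hex
  refine ⟨s.erase y₀, ?_, ?_⟩
  · apply le_antisymm
    · rw [Ideal.span_le]
      intro r hr
      rcases hr with rfl | hr
      · exact hx
      · exact hsm r (Finset.mem_of_mem_erase hr)
    · have hy₀mem : y₀ ∈ Ideal.span (insert x ((s.erase y₀ : Finset R) : Set R)) := by
        obtain ⟨u, hu'⟩ := hu
        have hsum : x = a y₀ * y₀ + ∑ y ∈ s.erase y₀, a y • y := by
          rw [← ha, ← Finset.add_sum_erase s _ hy₀, smul_eq_mul]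
        have : y₀ = (u⁻¹ : Rˣ) * (x - ∑ y ∈ s.erase y₀, a y • y) := by
          rw [hsum, add_sub_cancel_right, ← hu', ← mul_assoc, Units.inv_mul, one_mul]
        suffices hsuff : ((u⁻¹ : Rˣ) : R) * (x - ∑ y ∈ s.erase y₀, a y • y) ∈
            Ideal.span (insert x ((s.erase y₀ : Finset R) : Set R)) by
          rw [← this] at hsuff; exact hsuff
        apply Ideal.mul_mem_left
        apply Ideal.sub_mem
        · exact Ideal.subset_span (Set.mem_insert _ _)
        · apply Ideal.sum_mem
          intro y hy
          rw [smul_eq_mul]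
          apply Ideal.mul_mem_left
          exact Ideal.subset_span (Set.mem_insert_of_mem _ hy)
      rw [← hs']
      change Ideal.span (s : Set R) ≤ _
      rw [Ideal.span_le]
      intro y hy
      by_cases h : y = y₀
      · rw [h]; exact hy₀mem
      · exact Ideal.subset_span (Set.mem_insert_of_mem _ (Finset.mem_erase.mpr ⟨h, hy⟩))
  · rw [Finset.card_erase_of_mem hy₀, ← hs]
    have : 0 < s.card := Finset.card_pos.mpr ⟨y₀, hy₀⟩
    omega

/-- If `x ∈ m \ m²` then the embedding dimension of `R/(x)` drops by (at least) one. -/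
theorem spanFinrank_maximalIdeal_quotient_succ_le [IsLocalRing R] [IsNoetherianRing R] {x : R}
    (hx : x ∈ maximalIdeal R) (hx2 : x ∉ maximalIdeal R ^ 2)
    [IsLocalRing (R ⧸ Ideal.span ({x} : Set R))] :
    (maximalIdeal (R ⧸ Ideal.span ({x} : Set R))).spanFinrank + 1 ≤
      (maximalIdeal R).spanFinrank := by
  classical
  obtain ⟨t, ht, htc⟩ := exists_finset_insert_span_eq_maximalIdeal hx hx2
  rw [← htc, add_le_add_iff_right, maximalIdeal_quotient, ← ht, Ideal.map_span, Set.image_insert_eq]
  have h0 : Ideal.Quotient.mk (Ideal.span ({x} : Set R)) x = 0 :=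
    Ideal.Quotient.eq_zero_iff_mem.mpr (Ideal.subset_span rfl)
  rw [h0]
  have : Ideal.span (insert (0 : R ⧸ Ideal.span ({x} : Set R))
      (Ideal.Quotient.mk (Ideal.span ({x} : Set R)) '' (t : Set R))) =
      Ideal.span ((t.image (Ideal.Quotient.mk (Ideal.span ({x} : Set R))) : Finset _) : Set _) := by
    rw [Finset.coe_image]
    apply le_antisymm
    · rw [Ideal.span_le]
      rintro y (rfl | hy)
      · exact Ideal.zero_mem _
      · exact Ideal.subset_span hy
    · exact Ideal.span_mono (Set.subset_insert _ _)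
  rw [this]
  calc _ ≤ (t.image (Ideal.Quotient.mk (Ideal.span ({x} : Set R)))).card := by
        have := Submodule.spanFinrank_span_le_ncard_of_finite (R := R ⧸ Ideal.span ({x} : Set R))
          (t.image (Ideal.Quotient.mk (Ideal.span ({x} : Set R)))).finite_toSet
        rw [Set.ncard_coe_finset] at this
        exact this
    _ ≤ t.card := Finset.card_image_le

/-- The quotient of a regular local ring by `x ∈ m \ m²` is a regular local ring of dimension one
less. -/
theorem isRegularLocalRing_quotient_span_singleton [IsRegularLocalRing R] {x : R}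
    (hx : x ∈ maximalIdeal R) (hx2 : x ∉ maximalIdeal R ^ 2) :
    IsRegularLocalRing (R ⧸ Ideal.span ({x} : Set R)) ∧
      ringKrullDim (R ⧸ Ideal.span ({x} : Set R)) + 1 = ringKrullDim R := by
  have hloc : IsLocalRing (R ⧸ Ideal.span ({x} : Set R)) :=
    isLocalRing_quotient _ (span_singleton_ne_top hx)
  have h1 := spanFinrank_maximalIdeal_quotient_succ_le hx hx2
  have h2 : ringKrullDim R ≤ ringKrullDim (R ⧸ Ideal.span ({x} : Set R)) + 1 := by
    have := ringKrullDim_le_ringKrullDim_quotient_add_encard ({x} : Set R) (by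
      rw [IsLocalRing.ringJacobson_eq_maximalIdeal]
      simpa using hx)
    simpa using this
  have h3 := ringKrullDim_le_spanFinrank_maximalIdeal (R ⧸ Ideal.span ({x} : Set R))
  have h4 : (((maximalIdeal R).spanFinrank : ℕ) : WithBot ℕ∞) = ringKrullDim R :=
    IsRegularLocalRing.spanFinrank_maximalIdeal
  rw [← h4] at h2 ⊢
  have key : (((maximalIdeal (R ⧸ Ideal.span ({x} : Set R))).spanFinrank : ℕ) : WithBot ℕ∞) ≤
      ringKrullDim (R ⧸ Ideal.span ({x} : Set R)) ∧
      ringKrullDim (R ⧸ Ideal.span ({x} : Set R)) + 1 =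
        (((maximalIdeal R).spanFinrank : ℕ) : WithBot ℕ∞) := by
    generalize ringKrullDim (R ⧸ Ideal.span ({x} : Set R)) = a at *
    generalize (maximalIdeal R).spanFinrank = N at *
    generalize (maximalIdeal (R ⧸ Ideal.span ({x} : Set R))).spanFinrank = n at *
    induction a using WithBot.recBotCoe with
    | bot => simp at h2
    | coe a =>
      induction a using ENat.recTopCoe with
      | top => exact absurd (WithBot.coe_le_coe.mp h3) (not_le.mpr (ENat.coe_lt_top n))
      | coe k =>
        norm_cast at h2 h3 ⊢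
        omega
  exact ⟨IsRegularLocalRing.of_spanFinrank_maximalIdeal_le _ key.1, key.2⟩

/-- Prime avoidance: in a Noetherian local ring whose maximal ideal is not a minimal prime there
is `x ∈ m \ m²` avoiding all minimal primes. -/
theorem exists_mem_maximalIdeal_notMem_sq_notMem_minimalPrimes [IsLocalRing R] [IsNoetherianRing R]
    (hm : maximalIdeal R ∉ minimalPrimes R) :
    ∃ x ∈ maximalIdeal R, x ∉ maximalIdeal R ^ 2 ∧ ∀ p ∈ minimalPrimes R, x ∉ p := by
  classical
  by_contra hcon
  push Not at hcon
  have hfin : (minimalPrimes R).Finite := minimalPrimes.finite_of_isNoetherianRing R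
  let F : Finset (Ideal R) := insert (maximalIdeal R ^ 2) hfin.toFinset
  have hsub : ((maximalIdeal R : Ideal R) : Set R) ⊆ ⋃ i ∈ (F : Set (Ideal R)), (i : Set R) := by
    intro x hx
    by_cases hx2 : x ∈ maximalIdeal R ^ 2
    · refine Set.mem_biUnion (x := maximalIdeal R ^ 2) ?_ hx2
      simp [F]
    · obtain ⟨p, hp, hxp⟩ := hcon x hx hx2
      refine Set.mem_biUnion (x := p) ?_ hxp
      simp [F, hp]
  have := (Ideal.subset_union_prime (s := F) (f := fun i => i) (maximalIdeal R ^ 2)
    (maximalIdeal R ^ 2) (fun i hi hia _ => by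
      have : i ∈ minimalPrimes R := by
        simpa [F, hia] using hi
      exact this.1.1)).mp hsub
  obtain ⟨i, hi, hle⟩ := this
  simp only [F, Finset.mem_insert, Set.Finite.mem_toFinset] at hi
  rcases hi with rfl | hi
  · -- m ≤ m² so m = ⊥
    have hbot : maximalIdeal R = ⊥ := by
      apply Submodule.eq_bot_of_le_smul_of_le_jacobson_bot (maximalIdeal R) (maximalIdeal R)
        (IsNoetherian.noetherian _)
      · rw [smul_eq_mul, ← pow_two]; exact hle
      · exact (IsLocalRing.jacobson_eq_maximalIdeal _ bot_ne_top).ge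
    apply hm
    rw [hbot]
    refine ⟨⟨hbot ▸ (maximalIdeal.isMaximal R).isPrime, le_rfl⟩, fun q _ _ => bot_le⟩
  · apply hm
    have : maximalIdeal R = i := by
      apply le_antisymm hle
      exact le_maximalIdeal hi.1.1.ne_top
    rw [this]; exact hi

theorem isDomain_of_isRegularLocalRing_aux (d : ℕ) : ∀ (R : Type u) [CommRing R]
    [IsRegularLocalRing R], ringKrullDim R = d → IsDomain R := by
  induction d with
  | zero =>
    intro R _ _ hd
    have h0 : (maximalIdeal R).spanFinrank = 0 := by
      have := IsRegularLocalRing.spanFinrank_maximalIdeal (R := R)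
      rw [hd] at this; exact_mod_cast this
    have hbot : maximalIdeal R = ⊥ :=
      (Submodule.spanFinrank_eq_zero_iff_eq_bot (IsNoetherian.noetherian _)).mp h0
    have : IsField R := IsLocalRing.isField_iff_maximalIdeal_eq.mpr hbot
    exact this.isDomain
  | succ d ih =>
    intro R _ _ hd
    have hm : maximalIdeal R ∉ minimalPrimes R := by
      intro h
      have h1 := Ideal.height_eq_zero_iff.mpr h
      have h2 := IsLocalRing.maximalIdeal_height_eq_ringKrullDim (R := R)
      rw [h1, hd] at h2
      norm_cast at h2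
    obtain ⟨x, hx, hx2, hxp⟩ := exists_mem_maximalIdeal_notMem_sq_notMem_minimalPrimes hm
    obtain ⟨hreg, hdim⟩ := isRegularLocalRing_quotient_span_singleton hx hx2
    have hdimS : ringKrullDim (R ⧸ Ideal.span ({x} : Set R)) = d := by
      rw [hd] at hdim
      have hn := IsRegularLocalRing.spanFinrank_maximalIdeal (R := R ⧸ Ideal.span ({x} : Set R))
      rw [← hn] at hdim ⊢
      norm_cast at hdim ⊢
      omega
    have hdom : IsDomain (R ⧸ Ideal.span ({x} : Set R)) := ih _ hdimS
    have hprime : (Ideal.span ({x} : Set R)).IsPrime :=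
      (Ideal.Quotient.isDomain_iff_prime _).mp hdom
    obtain ⟨p, hp, hpx⟩ := Ideal.exists_minimalPrimes_le (I := ⊥)
      (J := Ideal.span ({x} : Set R)) bot_le
    have hxp' : x ∉ p := hxp p hp
    have hpprime : p.IsPrime := hp.1.1
    have hpbot : p = ⊥ := by
      apply Submodule.eq_bot_of_le_smul_of_le_jacobson_bot (maximalIdeal R) p
        (IsNoetherian.noetherian _)
      · intro y hy
        obtain ⟨a, rfl⟩ := Ideal.mem_span_singleton'.mp (hpx hy)
        have ha : a ∈ p := (hpprime.mem_or_mem hy).resolve_right hxp'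
        rw [mul_comm, ← smul_eq_mul]
        exact Submodule.smul_mem_smul hx ha
      · exact (IsLocalRing.jacobson_eq_maximalIdeal _ bot_ne_top).ge
    have : (⊥ : Ideal R).IsPrime := hpbot ▸ hpprime
    exact IsDomain.of_bot_isPrime R

/-- A regular local ring is a domain. -/
theorem isDomain_of_isRegularLocalRing (R : Type u) [CommRing R] [IsRegularLocalRing R] :
    IsDomain R := by
  have h := IsRegularLocalRing.spanFinrank_maximalIdeal (R := R)
  exact isDomain_of_isRegularLocalRing_aux _ R h.symm

end Groth.Agent.Lib.helper19
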