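import Mathlib
import Groth.Prelude.Def_ModelsG
import Groth.Agent.Lib.helper19.RegularLocal

set_option autoImplicit false
universe u
open CategoryTheory CategoryTheory.Limits AlgebraicGeometry TopologicalSpace

namespace Groth.Agent.Lib.Helper19.Mod19912

open IsLocalRing

/-- ring core -/
theorem core {R O V : Type u} [CommRing R] [IsDomain R] [IsDiscreteValuationRing R]
    [CommRing O] [IsRegularLocalRing O]
    [CommRing V] [IsDomain V] [IsDiscreteValuationRing V] [Algebra R V]
    (hV : Ideal.map (algebraMap R V) (maximalIdeal R) = maximalIdeal V)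
    (ρ : R →+* O) (θ : O →+* V) [IsLocalHom θ] (hθρ : ∀ r, θ (ρ r) = algebraMap R V r) :
    IsRegularLocalRing (O ⧸ Ideal.map ρ (maximalIdeal R)) := by
  obtain ⟨π, hπ⟩ := IsDiscreteValuationRing.exists_irreducible R
  have hmR : maximalIdeal R = Ideal.span {π} := hπ.maximalIdeal_eq
  have hmap : Ideal.map ρ (maximalIdeal R) = Ideal.span {ρ π} := by
    rw [hmR, Ideal.map_span, Set.image_singleton]
  have hmV : maximalIdeal V = Ideal.span {algebraMap R V π} := by
    rw [← hV, hmR, Ideal.map_span, Set.image_singleton]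
  have hirr : Irreducible (algebraMap R V π) := by
    rw [IsDiscreteValuationRing.irreducible_iff_uniformizer]
    exact hmV
  have hθm : ∀ x ∈ maximalIdeal O, θ x ∈ maximalIdeal V := by
    intro x hx
    rw [mem_maximalIdeal, mem_nonunits_iff] at hx ⊢
    exact fun hu => hx (isUnit_of_map_unit θ x hu)
  have h1 : ρ π ∈ maximalIdeal O := by
    rw [mem_maximalIdeal, mem_nonunits_iff]
    intro hu
    have := hu.map θ
    rw [hθρ] at this
    exact hirr.not_isUnit this
  have h2 : ρ π ∉ maximalIdeal O ^ 2 := by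
    intro hmem
    have h3 : θ (ρ π) ∈ maximalIdeal V ^ 2 := by
      have : (maximalIdeal O ^ 2).map θ ≤ maximalIdeal V ^ 2 := by
        rw [Ideal.map_pow]
        exact Ideal.pow_right_mono (Ideal.map_le_iff_le_comap.2 hθm) 2
      exact this (Ideal.mem_map_of_mem θ hmem)
    rw [hθρ, hmV, Ideal.span_singleton_pow, Ideal.mem_span_singleton] at h3
    obtain ⟨c, hc⟩ := h3
    have hne : algebraMap R V π ≠ 0 := hirr.ne_zero
    have : (1 : V) = algebraMap R V π * c := by
      apply mul_left_cancel₀ hne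
      rw [mul_one, ← mul_assoc, ← pow_two]
      exact hc
    exact hirr.not_isUnit (IsUnit.of_mul_eq_one _ this.symm)
  rw [hmap]
  exact (Groth.Agent.Lib.helper19.isRegularLocalRing_quotient_span_singleton h1 h2).1

end Groth.Agent.Lib.Helper19.Mod19912

namespace Groth.Agent.Lib.Helper19.Mod19912

open IsLocalRing

theorem main19912
    (R : Type u) [CommRing R] [IsDomain R] [IsDiscreteValuationRing R]
    (YR : Over (Spec (CommRingCat.of R)))
    (V : Type u) [CommRing V] [IsDomain V] [IsDiscreteValuationRing V] [Algebra R V]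
    (hV : Ideal.map (algebraMap R V) (IsLocalRing.maximalIdeal R) = IsLocalRing.maximalIdeal V)
    (σ : Spec (CommRingCat.of V) ⟶ YR.left)
    (hσ : σ ≫ YR.hom = Spec.map (CommRingCat.ofHom (algebraMap R V)))
    (y : YR.left) (hy : σ.base (IsLocalRing.closedPoint V) = y)
    (hreg : IsRegularLocalRing (YR.left.presheaf.stalk y)) :
    IsRegularLocalRing (YR.left.presheaf.stalk y ⧸
      Ideal.map (Models.stalkHom R YR y) (IsLocalRing.maximalIdeal R)) := by
  subst hy
  let θ : YR.left.presheaf.stalk (σ (closedPoint V)) →+* V :=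
    (Scheme.stalkClosedPointTo σ).hom
  haveI : IsLocalHom θ := Scheme.isLocalHom_stalkClosedPointTo' σ
  refine core hV (Models.stalkHom R YR _) θ ?_
  intro r
  have h1 := Scheme.germ_stalkClosedPointTo σ ⊤ trivial
  have h2 : θ (Models.stalkHom R YR (σ (closedPoint V)) r) =
      (YR.left.presheaf.germ ⊤ _ trivial ≫ Scheme.stalkClosedPointTo σ).hom
        (Coh.toGlobal YR.hom r) := rfl
  rw [h2, h1]
  have h3 : Coh.toGlobal YR.hom r =
      ((Scheme.ΓSpecIso (CommRingCat.of R)).inv ≫ YR.hom.appTop).hom r := rfl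
  rw [h3]
  have h4 := congrArg (fun g => g.appTop) hσ
  simp only [Scheme.Hom.comp_appTop] at h4
  have h5 := Scheme.ΓSpecIso_naturality (CommRingCat.ofHom (algebraMap R V))
  have h6 : ((Scheme.ΓSpecIso (CommRingCat.of R)).inv ≫ YR.hom.appTop ≫ σ.appTop ≫
      (Scheme.ΓSpecIso (CommRingCat.of V)).hom) = CommRingCat.ofHom (algebraMap R V) := by
    rw [← Category.assoc YR.hom.appTop, h4, h5, Iso.inv_hom_id_assoc]
  have h7 := congrArg (fun g => g.hom r) h6
  simp only [CommRingCat.hom_comp, RingHom.comp_apply, CommRingCat.hom_ofHom] at h7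
  simp only [CommRingCat.hom_comp, RingHom.comp_apply, Iso.trans_hom, Functor.mapIso_hom,
    Iso.op_hom, eqToIso.hom]
  convert h7 using 2
  have h8 : ∀ (e : (⊤ : (Spec (CommRingCat.of V)).Opens) = ⊤) (z : Γ(Spec (CommRingCat.of V), ⊤)),
      ((Spec (CommRingCat.of V)).presheaf.map (eqToHom e).op).hom z = z := by
    intro e z
    simp
  exact h8 _ _

end Groth.Agent.Lib.Helper19.Mod19912
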