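import Mathlib
import Groth.Agent.Lib.Helper5.RegSmoothPerfect

set_option autoImplicit false
set_option linter.unusedSectionVars false
universe u

namespace Groth.Agent.Lib.Helper19.SecSm1

open IsLocalRing TensorProduct KaehlerDifferential Groth.Agent.Lib.Helper5.RegSmoothCore

/-- A bijective algebra map from a field gives a formally smooth algebra. -/
theorem formallySmooth_of_bijective (k K : Type u) [Field k] [CommRing K] [Algebra k K]
    (h : Function.Bijective (algebraMap k K)) : Algebra.FormallySmooth k K :=
  Algebra.FormallySmooth.of_equiv (AlgEquiv.ofBijective (Algebra.ofId k K) h)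

/-- Variant of helper5's `isSmoothAt_of_regular`: instead of a perfect base field, assume the
residue field at `q` is formally smooth over `k`. -/
theorem isSmoothAt_of_regular' (k : Type u) [Field k] (S : Type u) [CommRing S]
    [Algebra k S] [Algebra.FiniteType k S] (q : Ideal S) [q.IsPrime]
    [IsRegularLocalRing (Localization.AtPrime q)]
    [hres : Algebra.FormallySmooth k (ResidueField (Localization.AtPrime q))] :
    Algebra.IsSmoothAt k q := by
  obtain ⟨n, f₀, hf₀⟩ := Algebra.FiniteType.iff_quotient_mvPolynomial''.mp
    (inferInstance : Algebra.FiniteType k S)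
  let N : Ideal (MvPolynomial (Fin n) k) := q.comap (f₀ : MvPolynomial (Fin n) k →+* S)
  have hN : N.IsPrime := Ideal.comap_isPrime _ _
  let φr : Localization.AtPrime N →+* Localization.AtPrime q :=
    Localization.localRingHom N q (f₀ : MvPolynomial (Fin n) k →+* S) rfl
  have hφsurj : Function.Surjective φr :=
    RingHom.surjective_localRingHom_of_surjective _ hf₀ q
  let φ : Localization.AtPrime N →ₐ[k] Localization.AtPrime q :=
    { φr with
      commutes' := fun c => by
        change φr (algebraMap k (Localization.AtPrime N) c) = _
        rw [IsScalarTower.algebraMap_apply k (MvPolynomial (Fin n) k) (Localization.AtPrime N),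
          Localization.localRingHom_to_map]
        change algebraMap S _ (f₀ (algebraMap k _ c)) = _
        rw [f₀.commutes, ← IsScalarTower.algebraMap_apply] }
  have h1 : Algebra.FormallyEtale (MvPolynomial (Fin n) k) (Localization.AtPrime N) :=
    .of_isLocalization N.primeCompl
  have h2 : Algebra.FormallySmooth k (Localization.AtPrime N) :=
    .comp _ (MvPolynomial (Fin n) k) _
  have h3 : Module.Free (Localization.AtPrime N) Ω[Localization.AtPrime N⁄k] :=
    .of_equiv (KaehlerDifferential.tensorKaehlerEquivOfFormallyEtale k (MvPolynomial (Fin n) k)
      (Localization.AtPrime N))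
  have h4 : Module.Finite (Localization.AtPrime N) Ω[Localization.AtPrime N⁄k] := inferInstance
  have h5 : IsRegularLocalRing (Localization.AtPrime N) := inferInstance
  -- the residue fields agree
  haveI : IsLocalHom φr := Localization.isLocalHom_localRingHom N q _ rfl
  let ψ : ResidueField (Localization.AtPrime N) →ₐ[k] ResidueField (Localization.AtPrime q) :=
    { ResidueField.map φr with
      commutes' := fun c => by
        change ResidueField.map φr (residue _ (algebraMap k (Localization.AtPrime N) c)) = _
        rw [ResidueField.map_residue]
        have : φr (algebraMap k (Localization.AtPrime N) c) =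
            algebraMap k (Localization.AtPrime q) c := φ.commutes c
        rw [this]
        rfl }
  have hψ : Function.Bijective ψ := by
    refine ⟨(ResidueField.map φr).injective, ?_⟩
    intro y
    obtain ⟨y, rfl⟩ := residue_surjective y
    obtain ⟨x, rfl⟩ := hφsurj y
    exact ⟨residue _ x, ResidueField.map_residue φr x⟩
  have h6 : Algebra.FormallySmooth k (ResidueField (Localization.AtPrime N)) :=
    Algebra.FormallySmooth.of_equiv (AlgEquiv.ofBijective ψ hψ).symm
  let e : (Localization.AtPrime N ⧸ RingHom.ker φ) ≃ₐ[k] Localization.AtPrime q :=
    Ideal.quotientKerAlgEquivOfSurjective (f := φ) hφsurj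
  have h7 : IsRegularLocalRing (Localization.AtPrime N ⧸ RingHom.ker φ) :=
    IsRegularLocalRing.of_ringEquiv e.symm.toRingEquiv
  have h8 := formallySmooth_quotient k (Localization.AtPrime N) (RingHom.ker φ)
  exact Algebra.FormallySmooth.of_equiv (A := Localization.AtPrime N ⧸ RingHom.ker φ) e

/-- A regular local ring essentially of finite type over a field, with residue field formally
smooth over that field, is formally smooth. -/
theorem formallySmooth_of_regular_of_residue (K A : Type u) [Field K]
    [CommRing A] [Algebra K A] [Algebra.EssFiniteType K A] [IsRegularLocalRing A]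
    [hres : Algebra.FormallySmooth K (ResidueField A)] :
    Algebra.FormallySmooth K A := by
  let S₀ := Algebra.EssFiniteType.subalgebra K A
  let q : Ideal S₀ := (IsLocalRing.maximalIdeal A).comap (algebraMap S₀ A)
  haveI hq : q.IsPrime := Ideal.comap_isPrime _ _
  have hM : Algebra.EssFiniteType.submonoid K A = q.primeCompl := by
    ext x
    change IsUnit (algebraMap S₀ A x) ↔ x ∉ q
    rw [Ideal.mem_comap, IsLocalRing.mem_maximalIdeal, mem_nonunits_iff, not_not]
  haveI : IsLocalization.AtPrime A q := by
    change IsLocalization q.primeCompl A
    rw [← hM]
    infer_instance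
  let e : Localization.AtPrime q ≃ₐ[S₀] A :=
    IsLocalization.algEquiv q.primeCompl (Localization.AtPrime q) A
  haveI : IsRegularLocalRing (Localization.AtPrime q) :=
    IsRegularLocalRing.of_ringEquiv e.symm.toRingEquiv
  -- transport the residue field hypothesis
  haveI : IsLocalHom (e.restrictScalars K : Localization.AtPrime q →ₐ[K] A).toRingHom :=
    ⟨fun a ha => by
      have := ha.map (e.symm : A →+* Localization.AtPrime q)
      simpa using this⟩
  let ψ : ResidueField (Localization.AtPrime q) →ₐ[K] ResidueField A :=
    { ResidueField.map (e.restrictScalars K : Localization.AtPrime q →ₐ[K] A).toRingHom with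
      commutes' := fun c => by
        change ResidueField.map _ (residue _ (algebraMap K (Localization.AtPrime q) c)) = _
        rw [ResidueField.map_residue]
        have : (e.restrictScalars K : Localization.AtPrime q →ₐ[K] A).toRingHom
            (algebraMap K (Localization.AtPrime q) c) = algebraMap K A c :=
          (e.restrictScalars K : Localization.AtPrime q →ₐ[K] A).commutes c
        rw [this]
        rfl }
  have hψ : Function.Bijective ψ := by
    refine ⟨(ResidueField.map _).injective, ?_⟩
    intro y
    obtain ⟨y, rfl⟩ := residue_surjective y
    obtain ⟨x, rfl⟩ := e.surjective y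
    exact ⟨residue _ x, ResidueField.map_residue _ x⟩
  haveI : Algebra.FormallySmooth K (ResidueField (Localization.AtPrime q)) :=
    Algebra.FormallySmooth.of_equiv (AlgEquiv.ofBijective ψ hψ).symm
  haveI : Algebra.IsSmoothAt K q := isSmoothAt_of_regular' K S₀ q
  haveI : Algebra.FormallySmooth K (Localization.AtPrime q) := ‹Algebra.IsSmoothAt K q›
  exact Algebra.FormallySmooth.of_equiv (e.restrictScalars K)

end Groth.Agent.Lib.Helper19.SecSm1
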