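import Mathlib
import Groth.Agent.Lib.helper19.SecSm1
import Groth.Agent.Lib.helper19.RegularLocal

set_option autoImplicit false
set_option linter.unusedSectionVars false
universe u

namespace Groth.Agent.Lib.Helper19.SecSm2

open IsLocalRing TensorProduct

variable (A B : Type u) [CommRing A] [CommRing B] [Algebra A B] [IsLocalRing A] [IsLocalRing B]

/-- a retraction of a local algebra onto its (local) base maps the maximal ideal into the maximal
ideal. -/
theorem retraction_mem (ρ : B →+* A) (hρ : ∀ a, ρ (algebraMap A B a) = a) (b : B)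
    (hb : b ∈ maximalIdeal B) : ρ b ∈ maximalIdeal A := by
  rw [mem_maximalIdeal, mem_nonunits_iff]
  intro hu
  obtain ⟨u, hu'⟩ := hu
  have h1 : ρ (b * algebraMap A B (↑u⁻¹ : A) - 1) = 0 := by
    rw [map_sub, map_mul, hρ, map_one, ← hu', Units.mul_inv, sub_self]
  have hker : RingHom.ker ρ ≤ maximalIdeal B := by
    apply le_maximalIdeal
    rw [Ne, Ideal.eq_top_iff_one, RingHom.mem_ker, map_one]
    exact one_ne_zero
  have h2 : b * algebraMap A B (↑u⁻¹ : A) - 1 ∈ maximalIdeal B := hker h1
  have h3 : b * algebraMap A B (↑u⁻¹ : A) ∈ maximalIdeal B := Ideal.mul_mem_right _ _ hb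
  have h4 : (1 : B) ∈ maximalIdeal B := by
    have := Ideal.sub_mem _ h3 h2
    simpa using this
  exact (Ideal.ne_top_iff_one _).mp (maximalIdeal.isMaximal B).ne_top h4

theorem sub_mem (ρ : B →+* A) (hρ : ∀ a, ρ (algebraMap A B a) = a) (b : B) :
    b - algebraMap A B (ρ b) ∈ maximalIdeal B := by
  have hker : RingHom.ker ρ ≤ maximalIdeal B := by
    apply le_maximalIdeal
    rw [Ne, Ideal.eq_top_iff_one, RingHom.mem_ker, map_one]
    exact one_ne_zero
  apply hker
  rw [RingHom.mem_ker, map_sub, hρ, sub_self]

end Groth.Agent.Lib.Helper19.SecSm2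

namespace Groth.Agent.Lib.Helper19.SecSm2

open IsLocalRing TensorProduct Groth.Agent.Lib.helper19

variable (A B : Type u) [CommRing A] [CommRing B] [Algebra A B] [IsLocalRing A]

/-- the closed fibre local ring is regular. -/
theorem isRegularLocalRing_fibre [IsDomain A] [IsPrincipalIdealRing A] [IsRegularLocalRing B]
    [IsLocalHom (algebraMap A B)] (ρ : B →+* A) (hρ : ∀ a, ρ (algebraMap A B a) = a) :
    IsRegularLocalRing (B ⧸ (maximalIdeal A).map (algebraMap A B)) := by
  obtain ⟨π, hπ⟩ := (IsPrincipalIdealRing.principal (maximalIdeal A)).principal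
  have hmap : (maximalIdeal A).map (algebraMap A B) = Ideal.span {algebraMap A B π} := by
    rw [hπ, Ideal.submodule_span_eq, Ideal.map_span, Set.image_singleton]
  have hπm : π ∈ maximalIdeal A := by
    rw [hπ]; exact Submodule.mem_span_singleton_self π
  by_cases h0 : π = 0
  · have hbot : (maximalIdeal A).map (algebraMap A B) = ⊥ := by
      rw [hmap, h0, map_zero]
      simp
    rw [hbot]
    exact IsRegularLocalRing.of_ringEquiv (RingEquiv.quotientBot B).symm
  · have hx : algebraMap A B π ∈ maximalIdeal B := by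
      rw [mem_maximalIdeal, mem_nonunits_iff]
      intro hu
      have := isUnit_of_map_unit (algebraMap A B) π hu
      exact (mem_maximalIdeal π).mp hπm this
    have hx2 : algebraMap A B π ∉ maximalIdeal B ^ 2 := by
      intro hmem
      have h1 : ρ (algebraMap A B π) ∈ (maximalIdeal B ^ 2).map ρ := Ideal.mem_map_of_mem ρ hmem
      rw [hρ, Ideal.map_pow] at h1
      have h2 : (maximalIdeal B).map ρ ≤ maximalIdeal A := by
        rw [Ideal.map_le_iff_le_comap]
        intro b hb
        exact retraction_mem A B ρ hρ b hb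
      have h3 : π ∈ maximalIdeal A ^ 2 := Ideal.pow_right_mono h2 2 h1
      rw [hπ, Ideal.submodule_span_eq, Ideal.span_singleton_pow, Ideal.mem_span_singleton] at h3
      obtain ⟨a, ha⟩ := h3
      have h4 : π * (1 - π * a) = 0 := by
        rw [mul_sub, mul_one, ← mul_assoc, ← pow_two, ← ha, sub_self]
      rcases mul_eq_zero.mp h4 with h5 | h5
      · exact h0 h5
      · have h6 : IsUnit π := IsUnit.of_mul_eq_one a (by rw [sub_eq_zero] at h5; exact h5.symm)
        exact (mem_maximalIdeal π).mp hπm h6
    rw [hmap]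
    exact (isRegularLocalRing_quotient_span_singleton hx hx2).1

end Groth.Agent.Lib.Helper19.SecSm2
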