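import Mathlib
import Groth.Prelude.Def_ModelsG
import Groth.Agent.Lib.helper19.Mod19912
import Groth.Agent.Lib.helper19.SecSm2
import Groth.Agent.Lib.Helper13.StalkSpecLoc

set_option autoImplicit false
universe u

namespace Groth.Agent.Lib.Helper19.ArSec1

open CategoryTheory AlgebraicGeometry IsLocalRing

variable (R : Type u) [CommRing R] [IsDomain R] [IsDiscreteValuationRing R]
  (X : Over (Spec (CommRingCat.of R)))

theorem fromSpecStalk_hom (x : X.left) :
    X.left.fromSpecStalk x ≫ X.hom = Spec.map (CommRingCat.ofHom (Models.stalkHom R X x)) := by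
  have h1 : X.hom = X.left.toSpecΓ ≫
      Spec.map ((Scheme.ΓSpecIso (CommRingCat.of R)).inv ≫ X.hom.appTop) := by
    rw [Spec.map_comp, ← Scheme.toSpecΓ_naturality_assoc, toSpecΓ_SpecMap_ΓSpecIso_inv,
      Category.comp_id]
  rw [h1, Scheme.fromSpecStalk_toSpecΓ_assoc, ← Spec.map_comp]
  rfl

theorem mem_specialFibre_iff (x : X.left) (a : Spec (X.left.presheaf.stalk x)) :
    (X.left.fromSpecStalk x) a ∈ Models.specialFibreSet R X ↔
      Ideal.map (Models.stalkHom R X x) (maximalIdeal R) ≤ a.asIdeal := by
  have h1 : X.hom ((X.left.fromSpecStalk x) a) =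
      (Spec.map (CommRingCat.ofHom (Models.stalkHom R X x))) a := by
    rw [← fromSpecStalk_hom]; rfl
  rw [Models.specialFibreSet, Set.mem_preimage, h1, Ideal.map_le_iff_le_comap]
  constructor
  · intro h
    have h' : (Spec.map (CommRingCat.ofHom (Models.stalkHom R X x))) a = closedPoint R := h
    have : (maximalIdeal R) = ((Spec.map (CommRingCat.ofHom (Models.stalkHom R X x))) a).asIdeal := by
      rw [h']; rfl
    rw [this]
    exact le_of_eq rfl
  · intro h
    change (Spec.map (CommRingCat.ofHom (Models.stalkHom R X x))) a = closedPoint R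
    apply PrimeSpectrum.ext
    have hmax : (maximalIdeal R).IsMaximal := inferInstance
    exact (hmax.eq_of_le (Ideal.IsPrime.ne_top inferInstance) h).symm

end Groth.Agent.Lib.Helper19.ArSec1
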