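import Mathlib
import Groth.Agent.Lib.Helper13.StalkSpecLoc

set_option autoImplicit false
universe u

namespace Groth.Agent.Lib.Helper19.ArSec2

open CategoryTheory AlgebraicGeometry IsLocalRing

variable {X : Scheme.{u}} (p : X) (F : Set X) (hFc : IsClosed F)
  (I : Ideal (X.presheaf.stalk p)) [hI : I.IsPrime]
  (hF : ∀ a : Spec (X.presheaf.stalk p), (X.fromSpecStalk p) a ∈ F ↔ I ≤ a.asIdeal)

/-- the point of `X` attached to the prime `I`. -/
noncomputable def eta : X := (X.fromSpecStalk p) (⟨I, hI⟩ : PrimeSpectrum (X.presheaf.stalk p))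

theorem eta_specializes : eta p I ⤳ p := by
  have : eta p I ∈ Set.range (X.fromSpecStalk p) := ⟨_, rfl⟩
  rwa [Scheme.range_fromSpecStalk] at this

include hF in
theorem eta_mem : eta p I ∈ F := (hF _).mpr le_rfl

include hFc hF in
theorem closure_eta_subset : closure {eta p I} ⊆ F :=
  closure_minimal (Set.singleton_subset_iff.mpr (eta_mem p F I hF)) hFc

include hF in
/-- a generization of `p` in `F` is a specialization of `eta`. -/
theorem eta_specializes_of_mem {ξ : X} (h : ξ ⤳ p) (hξ : ξ ∈ F) : eta p I ⤳ ξ := by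
  have : ξ ∈ Set.range (X.fromSpecStalk p) := by rw [Scheme.range_fromSpecStalk]; exact h
  obtain ⟨a, rfl⟩ := this
  have h1 := (hF a).mp hξ
  have h2 : (⟨I, hI⟩ : PrimeSpectrum (X.presheaf.stalk p)) ⤳ a :=
    (PrimeSpectrum.le_iff_specializes _ _).mp h1
  exact h2.map (X.fromSpecStalk p).continuous

include hF in
theorem eq_eta_of_specializes {ξ : X} (hξ : ξ ∈ F) (h : ξ ⤳ eta p I) : ξ = eta p I := by
  have hp : ξ ⤳ p := h.trans (eta_specializes p I)
  have : ξ ∈ Set.range (X.fromSpecStalk p) := by rw [Scheme.range_fromSpecStalk]; exact hp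
  obtain ⟨a, rfl⟩ := this
  have h1 := (hF a).mp hξ
  have h2 : a ⤳ (⟨I, hI⟩ : PrimeSpectrum (X.presheaf.stalk p)) :=
    ((X.fromSpecStalk p).isEmbedding.isInducing.specializes_iff).mp h
  have h3 : a.asIdeal ≤ I :=
    (PrimeSpectrum.le_iff_specializes (a : PrimeSpectrum (X.presheaf.stalk p)) ⟨I, hI⟩).mpr h2
  have : a = (⟨I, hI⟩ : PrimeSpectrum (X.presheaf.stalk p)) :=
    PrimeSpectrum.ext (le_antisymm h3 h1)
  rw [this]; rfl

include hFc hF in
theorem maximal_closure_eta :
    Maximal (fun S : Set X => IsIrreducible S ∧ S ⊆ F) (closure {eta p I}) := by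
  refine ⟨⟨isIrreducible_singleton.closure, closure_eta_subset p F hFc I hF⟩, ?_⟩
  rintro S ⟨hS, hSF⟩ hle
  have hT : IsIrreducible (closure S) := hS.closure
  have hTF : closure S ⊆ F := closure_minimal hSF hFc
  have hgen := hS.isGenericPoint_genericPoint_closure
  set ξ := hS.genericPoint with hξdef
  have hcl : closure {ξ} = closure S := hgen
  have hξT : ξ ∈ closure S := by rw [← hcl]; exact subset_closure rfl
  have hηS : eta p I ∈ closure {ξ} := by
    rw [hcl]; exact subset_closure (hle (subset_closure rfl))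
  have h1 : ξ ⤳ eta p I := specializes_iff_mem_closure.mpr hηS
  have h2 := eq_eta_of_specializes p F I hF (hTF hξT) h1
  intro x hx
  have : x ∈ closure S := subset_closure hx
  rw [← hcl, h2] at this
  exact this

include hFc hF in
theorem eq_closure_eta_of_maximal {S : Set X}
    (hS : Maximal (fun S : Set X => IsIrreducible S ∧ S ⊆ F) S) (hp : p ∈ S) :
    S = closure {eta p I} := by
  obtain ⟨⟨hSi, hSF⟩, hmax⟩ := hS
  have hT : IsIrreducible (closure S) := hSi.closure
  have hTF : closure S ⊆ F := closure_minimal hSF hFc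
  have hgen := hSi.isGenericPoint_genericPoint_closure
  set ξ := hSi.genericPoint with hξdef
  have hcl : closure {ξ} = closure S := hgen
  have hξT : ξ ∈ closure S := by rw [← hcl]; exact subset_closure rfl
  have hpξ : ξ ⤳ p := by
    rw [specializes_iff_mem_closure, hcl]; exact subset_closure hp
  have h1 := eta_specializes_of_mem p F I hF hpξ (hTF hξT)
  have h2 : closure {ξ} ⊆ closure {eta p I} := by
    apply closure_minimal _ isClosed_closure
    rw [Set.singleton_subset_iff]
    exact specializes_iff_mem_closure.mp h1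
  have h3 : S ⊆ closure {eta p I} := fun x hx => h2 (hcl ▸ subset_closure hx)
  have hmx := maximal_closure_eta p F hFc I hF
  exact le_antisymm h3 (hmax hmx.1 h3)

theorem mem_closure_eta : p ∈ closure {eta p I} :=
  specializes_iff_mem_closure.mp (eta_specializes p I)

end Groth.Agent.Lib.Helper19.ArSec2
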