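import Mathlib
import Groth.Prelude.Def_ModelsG
import Groth.Agent.Lib.helper19.ArSec1
import Groth.Agent.Lib.helper19.ArSec2

set_option autoImplicit false
set_option linter.unusedSectionVars false
universe u

namespace Groth.Agent.Lib.Helper19.ArSec3

open CategoryTheory AlgebraicGeometry IsLocalRing Groth.Agent.Lib.Helper13.StalkSpecLoc

variable (R : Type u) [CommRing R] [IsDomain R] [IsDiscreteValuationRing R]
  (X : Over (Spec (CommRingCat.of R)))

theorem stalkHom_specializes {y p : X.left} (h : y ⤳ p) (r : R) :
    X.left.presheaf.stalkSpecializes h (Models.stalkHom R X p r) = Models.stalkHom R X y r := by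
  unfold Models.stalkHom
  simp only [RingHom.comp_apply]
  exact TopCat.Presheaf.germ_stalkSpecializes_apply X.left.presheaf (U := ⊤) (hy := Set.mem_univ p) h _

theorem primeOf_eta (p : X.left) (I : Ideal (X.left.presheaf.stalk p)) [hI : I.IsPrime] :
    primeOf (ArSec2.eta_specializes p I) = I := by
  have h1 := fromSpecStalk_primeOf (ArSec2.eta_specializes p I)
  have hinj : Function.Injective (X.left.fromSpecStalk p) :=
    (X.left.fromSpecStalk p).isEmbedding.injective
  have h2 : (⟨primeOf (ArSec2.eta_specializes p I), inferInstance⟩ :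
      PrimeSpectrum (X.left.presheaf.stalk p)) = ⟨I, hI⟩ := hinj h1
  exact congrArg PrimeSpectrum.asIdeal h2

theorem length_eta (p : X.left)
    [hI : (Ideal.map (Models.stalkHom R X p) (maximalIdeal R)).IsPrime] :
    Module.length (X.left.presheaf.stalk (ArSec2.eta p (Ideal.map (Models.stalkHom R X p) (maximalIdeal R))))
      (X.left.presheaf.stalk (ArSec2.eta p (Ideal.map (Models.stalkHom R X p) (maximalIdeal R))) ⧸
        Ideal.map (Models.stalkHom R X (ArSec2.eta p (Ideal.map (Models.stalkHom R X p) (maximalIdeal R))))
          (maximalIdeal R)) = 1 := by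
  set I := Ideal.map (Models.stalkHom R X p) (maximalIdeal R) with hIdef
  set η := ArSec2.eta p I with hη
  have h : η ⤳ p := ArSec2.eta_specializes p I
  have hprime : primeOf h = I := primeOf_eta R X p I
  letI := (X.left.presheaf.stalkSpecializes h).hom.toAlgebra
  haveI := isLocalization_stalkSpecializes h
  have hmax : Ideal.map (algebraMap (X.left.presheaf.stalk p) (X.left.presheaf.stalk η)) (primeOf h) =
      maximalIdeal (X.left.presheaf.stalk η) :=
    IsLocalization.AtPrime.map_eq_maximalIdeal (primeOf h) (X.left.presheaf.stalk η)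
  have hJ : Ideal.map (Models.stalkHom R X η) (maximalIdeal R) =
      maximalIdeal (X.left.presheaf.stalk η) := by
    rw [← hmax, hprime, hIdef, Ideal.map_map]
    congr 1
    ext r
    exact (stalkHom_specializes R X h r).symm
  rw [hJ, Module.length_eq_one_iff, isSimpleModule_iff_isCoatom, ← Ideal.isMaximal_def]
  infer_instance

end Groth.Agent.Lib.Helper19.ArSec3
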