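import Mathlib.RingTheory.MvPowerSeries.Equiv
import Mathlib.RingTheory.AdicCompletion.Completeness
import Mathlib.RingTheory.AdicCompletion.Functoriality
import Mathlib.RingTheory.AdicCompletion.LocalRing

set_option autoImplicit false

namespace Groth.Agent.Lib.helper19

universe u

variable {R : Type u} [CommRing R] {n : ℕ} (a : Fin n → R)

theorem idealOfVars_pow_le_comap (k : ℕ) :
    MvPolynomial.idealOfVars (Fin n) R ^ k ≤
      (Ideal.span (Set.range a) ^ k).comap
        ((MvPolynomial.aeval a : MvPolynomial (Fin n) R →ₐ[R] R) : MvPolynomial (Fin n) R →+* R) := by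
  refine le_trans (Ideal.pow_right_mono ?_ k) (Ideal.le_comap_pow _ k)
  unfold MvPolynomial.idealOfVars
  rw [Ideal.span_le]
  rintro _ ⟨i, rfl⟩
  simp only [SetLike.mem_coe, Ideal.mem_comap, RingHom.coe_coe, MvPolynomial.aeval_X]
  exact Ideal.subset_span ⟨i, rfl⟩

/-- The truncated evaluation maps `R⟦X₁,…,Xₙ⟧ → R/(a₁,…,aₙ)^k`. -/
noncomputable def psMap (k : ℕ) :
    MvPowerSeries (Fin n) R →+* R ⧸ Ideal.span (Set.range a) ^ k :=
  (Ideal.quotientMap _
    ((MvPolynomial.aeval a : MvPolynomial (Fin n) R →ₐ[R] R) : MvPolynomial (Fin n) R →+* R)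
    (idealOfVars_pow_le_comap a k)).comp
    ((MvPowerSeries.truncTotalAlgHom (Fin n) R k : MvPowerSeries (Fin n) R →ₐ[MvPolynomial (Fin n) R]
      MvPolynomial (Fin n) R ⧸ MvPolynomial.idealOfVars (Fin n) R ^ k) :
      MvPowerSeries (Fin n) R →+* _)

theorem psMap_apply (k : ℕ) (p : MvPowerSeries (Fin n) R) :
    psMap a k p = Ideal.Quotient.mk _ (MvPolynomial.aeval a (MvPowerSeries.truncTotal k p)) := rfl

theorem psMap_coe (k : ℕ) (p : MvPolynomial (Fin n) R) :
    psMap a k (p : MvPowerSeries (Fin n) R) = Ideal.Quotient.mk _ (MvPolynomial.aeval a p) := by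
  have h := (MvPowerSeries.truncTotalAlgHom (Fin n) R k).commutes p
  unfold psMap
  rw [RingHom.comp_apply]
  change (Ideal.quotientMap _ _ _) ((MvPowerSeries.truncTotalAlgHom (Fin n) R k)
    (algebraMap (MvPolynomial (Fin n) R) (MvPowerSeries (Fin n) R) p)) = _
  rw [h]
  rfl

theorem psMap_compat {m k : ℕ} (hle : m ≤ k) :
    (Ideal.Quotient.factorPow (Ideal.span (Set.range a)) hle).comp (psMap a k) = psMap a m := by
  ext p
  rw [RingHom.comp_apply, psMap_apply, psMap_apply, Ideal.Quotient.factor_mk,
    Ideal.Quotient.mk_eq_mk_iff_sub_mem, ← map_sub]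
  exact idealOfVars_pow_le_comap a m
    (MvPowerSeries.truncTotal_sub_truncTotal_mem_pow_idealOfVars hle (le_refl m) p)

/-- The ring map `R⟦X₁,…,Xₙ⟧ → R^` (completion at `(a₁,…,aₙ)`) sending `Xᵢ` to `aᵢ`. -/
noncomputable def psToCompletion :
    MvPowerSeries (Fin n) R →+* AdicCompletion (Ideal.span (Set.range a)) R :=
  AdicCompletion.liftRingHom _ (psMap a) (psMap_compat a)

theorem psToCompletion_coe (p : MvPolynomial (Fin n) R) :
    psToCompletion a (p : MvPowerSeries (Fin n) R) =
      algebraMap R (AdicCompletion (Ideal.span (Set.range a)) R) (MvPolynomial.aeval a p) := by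
  apply AdicCompletion.ext_evalₐ
  intro k
  unfold psToCompletion
  rw [AdicCompletion.evalₐ_liftRingHom, psMap_coe, AlgHom.commutes]
  rfl

theorem psToCompletion_C (r : R) :
    psToCompletion a (MvPowerSeries.C r) =
      algebraMap R (AdicCompletion (Ideal.span (Set.range a)) R) r := by
  have := psToCompletion_coe a (MvPolynomial.C r)
  rwa [MvPolynomial.coe_C, MvPolynomial.aeval_C, Algebra.algebraMap_self_apply] at this

theorem psToCompletion_X (i : Fin n) :
    psToCompletion a (MvPowerSeries.X i) =
      algebraMap R (AdicCompletion (Ideal.span (Set.range a)) R) (a i) := by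
  have := psToCompletion_coe a (MvPolynomial.X i)
  rwa [MvPolynomial.coe_X, MvPolynomial.aeval_X] at this

theorem map_psToCompletion_span_X :
    (Ideal.span (Set.range (MvPowerSeries.X : Fin n → MvPowerSeries (Fin n) R))).map
      (psToCompletion a) =
    (Ideal.span (Set.range a)).map
      (algebraMap R (AdicCompletion (Ideal.span (Set.range a)) R)) := by
  rw [Ideal.map_span, Ideal.map_span, ← Set.range_comp, ← Set.range_comp]
  congr 2
  ext i : 1
  exact psToCompletion_X a i

theorem psToCompletion_surjective : Function.Surjective (psToCompletion a) := by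
  have hfg : (Ideal.span (Set.range a)).FG := by
    classical
    exact ⟨Finset.univ.image a, by simp⟩
  have hcomp := AdicCompletion.isAdicComplete_self (Ideal.span (Set.range a)) hfg
  have haus : IsHausdorff ((Ideal.span (Set.range
      (MvPowerSeries.X : Fin n → MvPowerSeries (Fin n) R))).map (psToCompletion a))
      (AdicCompletion (Ideal.span (Set.range a)) R) := by
    rw [map_psToCompletion_span_X]
    exact hcomp.toIsHausdorff
  apply surjective_of_mk_map_comp_surjective (psToCompletion a)
    (I := Ideal.span (Set.range (MvPowerSeries.X : Fin n → MvPowerSeries (Fin n) R)))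
  intro z
  obtain ⟨y, rfl⟩ := Ideal.Quotient.mk_surjective z
  obtain ⟨r, hr⟩ := Ideal.Quotient.mk_surjective
    (AdicCompletion.evalOneₐ (Ideal.span (Set.range a)) y)
  refine ⟨MvPowerSeries.C r, ?_⟩
  rw [RingHom.comp_apply, psToCompletion_C, Ideal.Quotient.mk_eq_mk_iff_sub_mem,
    map_psToCompletion_span_X, ← AdicCompletion.ker_evalOneₐ_eq_map _ hfg, RingHom.mem_ker]
  simp only [AlgHom.toRingHom_eq_coe, RingHom.coe_coe, map_sub, AlgHom.commutes]
  rw [← hr, sub_eq_zero]
  rfl

/-- The adic completion of a Noetherian ring is Noetherian. -/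
theorem isNoetherianRing_adicCompletion (R : Type u) [CommRing R] [IsNoetherianRing R]
    (I : Ideal R) : IsNoetherianRing (AdicCompletion I R) := by
  obtain ⟨n, a, ha⟩ := Submodule.fg_iff_exists_fin_generating_family.mp
    (IsNoetherian.noetherian I)
  change Ideal.span (Set.range a) = I at ha
  subst ha
  exact isNoetherianRing_of_surjective _ _ (psToCompletion a) (psToCompletion_surjective a)

end Groth.Agent.Lib.helper19
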