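import Mathlib

set_option autoImplicit false
set_option linter.style.haveILetI false
universe u

namespace Groth.Agent.Lib.Helper19.ComplMap

open IsLocalRing

section Eval

variable {R : Type*} [CommRing R] (I : Ideal R)

theorem factorPow_evalₐ {m n : ℕ} (hle : m ≤ n) (x : AdicCompletion I R) :
    Ideal.Quotient.factorPow I hle (AdicCompletion.evalₐ I n x) = AdicCompletion.evalₐ I m x := by
  obtain ⟨c, rfl⟩ := AdicCompletion.mk_surjective I R x
  rw [AdicCompletion.evalₐ_mk, AdicCompletion.evalₐ_mk]
  show Ideal.Quotient.mk (I ^ m) (c.val n) = Ideal.Quotient.mk (I ^ m) (c.val m)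
  rw [Ideal.Quotient.mk_eq_mk_iff_sub_mem]
  have h := c.property hle
  rw [SModEq.sub_mem] at h
  have h2 : (I ^ m • ⊤ : Ideal R) = I ^ m := by ext x; simp
  have h3 : c.val m - c.val n ∈ I ^ m := h2 ▸ h
  have := (I ^ m).neg_mem h3
  rwa [neg_sub] at this

end Eval

section Construct

variable (A B : Type u) [CommRing A] [CommRing B] [IsLocalRing A] [IsLocalRing B]
  [IsNoetherianRing A] [IsNoetherianRing B] [Algebra A B] [IsLocalHom (algebraMap A B)]

theorem pow_le_comap (n : ℕ) :
    (maximalIdeal A) ^ n ≤ ((maximalIdeal (AdicCompletion (maximalIdeal B) B)) ^ n).comap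
      ((algebraMap B (AdicCompletion (maximalIdeal B) B)).comp (algebraMap A B)) := by
  rw [← Ideal.map_le_iff_le_comap, Ideal.map_pow]
  refine Ideal.pow_right_mono ?_ n
  have h02 := (local_hom_TFAE ((algebraMap B (AdicCompletion (maximalIdeal B) B)).comp
    (algebraMap A B))).out 0 2
  exact h02.mp inferInstance

/-- The level-`n` component of the completion map. -/
noncomputable def levelMap (n : ℕ) : AdicCompletion (maximalIdeal A) A →+*
    (AdicCompletion (maximalIdeal B) B) ⧸ (maximalIdeal (AdicCompletion (maximalIdeal B) B)) ^ n :=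
  (Ideal.quotientMap _ ((algebraMap B (AdicCompletion (maximalIdeal B) B)).comp (algebraMap A B))
    (pow_le_comap A B n)).comp (AdicCompletion.evalₐ (maximalIdeal A) n).toRingHom

theorem levelMap_of (n : ℕ) (a : A) :
    levelMap A B n (algebraMap A (AdicCompletion (maximalIdeal A) A) a) =
      Ideal.Quotient.mk _ (algebraMap B (AdicCompletion (maximalIdeal B) B) (algebraMap A B a)) := by
  simp [levelMap, AdicCompletion.algebraMap_apply]

theorem levelMap_compat {m n : ℕ} (hle : m ≤ n) :
    (Ideal.Quotient.factorPow (maximalIdeal (AdicCompletion (maximalIdeal B) B)) hle).comp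
      (levelMap A B n) = levelMap A B m := by
  refine RingHom.ext fun x => ?_
  obtain ⟨a, ha⟩ := Ideal.Quotient.mk_surjective (AdicCompletion.evalₐ (maximalIdeal A) n x)
  have hm : AdicCompletion.evalₐ (maximalIdeal A) m x = Ideal.Quotient.mk _ a := by
    rw [← factorPow_evalₐ (maximalIdeal A) hle x, ← ha]
    rfl
  simp only [levelMap, RingHom.comp_apply, AlgHom.toRingHom_eq_coe, RingHom.coe_coe, ← ha, hm,
    Ideal.quotientMap_mk]
  rfl

/-- The completion map `Â → B̂`. -/
noncomputable def complMap :
    AdicCompletion (maximalIdeal A) A →+* AdicCompletion (maximalIdeal B) B :=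
  IsAdicComplete.liftRingHom (maximalIdeal (AdicCompletion (maximalIdeal B) B))
    (levelMap A B) (fun hle => levelMap_compat A B hle)

theorem complMap_comp :
    (complMap A B).comp (algebraMap A (AdicCompletion (maximalIdeal A) A)) =
      (algebraMap B (AdicCompletion (maximalIdeal B) B)).comp (algebraMap A B) := by
  apply DFunLike.coe_injective
  apply IsHausdorff.funext' (maximalIdeal (AdicCompletion (maximalIdeal B) B))
  intro n a
  simp only [RingHom.coe_comp, Function.comp_apply, complMap, IsAdicComplete.mk_liftRingHom]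
  exact levelMap_of A B n a

end Construct

end Groth.Agent.Lib.Helper19.ComplMap
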