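import Mathlib
import Groth.Agent.Lib.Helper5.ComplKaehler

set_option autoImplicit false
set_option linter.style.haveILetI false
universe u

namespace Groth.Agent.Lib.Helper19.ComplUnram

open IsLocalRing

section Basic

variable {A B : Type u} [CommRing A] [CommRing B] [IsLocalRing A] [IsLocalRing B]
  [IsNoetherianRing A] [IsNoetherianRing B] [Algebra A B] [IsLocalHom (algebraMap A B)]
  (ψ : AdicCompletion (maximalIdeal A) A →+* AdicCompletion (maximalIdeal B) B)
  (hψ : ψ.comp (algebraMap A (AdicCompletion (maximalIdeal A) A)) =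
      (algebraMap B (AdicCompletion (maximalIdeal B) B)).comp (algebraMap A B))

include hψ

theorem map_map_eq :
    (maximalIdeal (AdicCompletion (maximalIdeal A) A)).map ψ =
      ((maximalIdeal A).map (algebraMap A B)).map
        (algebraMap B (AdicCompletion (maximalIdeal B) B)) := by
  rw [AdicCompletion.maximalIdeal_eq_map, Ideal.map_map, hψ, ← Ideal.map_map]

theorem isLocalHom_of_compat : IsLocalHom ψ := by
  refine ((local_hom_TFAE ψ).out 0 2).mpr ?_
  rw [map_map_eq ψ hψ, AdicCompletion.maximalIdeal_eq_map (R := B)]
  have h02 := (local_hom_TFAE (algebraMap A B)).out 0 2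
  exact Ideal.map_mono (h02.mp ‹IsLocalHom (algebraMap A B)›)

theorem map_eq_iff :
    (maximalIdeal (AdicCompletion (maximalIdeal A) A)).map ψ =
        maximalIdeal (AdicCompletion (maximalIdeal B) B) ↔
      (maximalIdeal A).map (algebraMap A B) = maximalIdeal B := by
  haveI : Module.FaithfullyFlat B (AdicCompletion (maximalIdeal B) B) :=
    Module.FaithfullyFlat.of_flat_of_isLocalHom
  rw [map_map_eq ψ hψ, AdicCompletion.maximalIdeal_eq_map (R := B)]
  exact ⟨fun h => Ideal.map_injective_of_faithfullyFlat
    (B := AdicCompletion (maximalIdeal B) B) h, fun h => by rw [h]⟩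

end Basic

end Groth.Agent.Lib.Helper19.ComplUnram
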