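import Mathlib
import Groth.Agent.Lib.helper19.ComplUnram1

set_option autoImplicit false
set_option linter.style.haveILetI false
universe u

namespace Groth.Agent.Lib.Helper19.ComplUnram

open IsLocalRing

/-- The residue field of the completion is the residue field. -/
noncomputable def eRes (A : Type u) [CommRing A] [IsLocalRing A] [IsNoetherianRing A] :
    ResidueField A ≃+* ResidueField (AdicCompletion (maximalIdeal A) A) :=
  RingEquiv.ofBijective (ResidueField.map (algebraMap A (AdicCompletion (maximalIdeal A) A)))
    (AdicCompletion.residueField_map_bijective A)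

theorem eRes_residue (A : Type u) [CommRing A] [IsLocalRing A] [IsNoetherianRing A] (a : A) :
    eRes A (residue A a) = residue _ (algebraMap A (AdicCompletion (maximalIdeal A) A) a) := rfl

section Residue

variable {A B : Type u} [CommRing A] [CommRing B] [IsLocalRing A] [IsLocalRing B]
  [IsNoetherianRing A] [IsNoetherianRing B] [Algebra A B] [IsLocalHom (algebraMap A B)]
  [Algebra (AdicCompletion (maximalIdeal A) A) (AdicCompletion (maximalIdeal B) B)]
  [IsLocalHom (algebraMap (AdicCompletion (maximalIdeal A) A) (AdicCompletion (maximalIdeal B) B))]
  (hψ : (algebraMap (AdicCompletion (maximalIdeal A) A) (AdicCompletion (maximalIdeal B) B)).comp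
      (algebraMap A (AdicCompletion (maximalIdeal A) A)) =
      (algebraMap B (AdicCompletion (maximalIdeal B) B)).comp (algebraMap A B))

include hψ

theorem residue_compat :
    (algebraMap (ResidueField (AdicCompletion (maximalIdeal A) A))
      (ResidueField (AdicCompletion (maximalIdeal B) B))).comp (eRes A : _ →+* _) =
    RingHom.comp (eRes B : _ →+* _) (algebraMap (ResidueField A) (ResidueField B)) := by
  refine RingHom.ext fun x => ?_
  obtain ⟨a, rfl⟩ := residue_surjective x
  simp only [RingHom.comp_apply, RingHom.coe_coe, eRes_residue,
    IsLocalRing.ResidueField.algebraMap_residue]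
  congr 1
  exact RingHom.congr_fun hψ a

theorem residue_compat_symm :
    (algebraMap (ResidueField A) (ResidueField B)).comp ((eRes A).symm : _ →+* _) =
    RingHom.comp ((eRes B).symm : _ →+* _)
      (algebraMap (ResidueField (AdicCompletion (maximalIdeal A) A))
        (ResidueField (AdicCompletion (maximalIdeal B) B))) := by
  ext x
  simpa [RingEquiv.eq_symm_apply] using
    (RingHom.ext_iff.mp (residue_compat hψ) ((eRes A).symm x)).symm

theorem finite_iff :
    Module.Finite (ResidueField A) (ResidueField B) ↔
      Module.Finite (ResidueField (AdicCompletion (maximalIdeal A) A))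
        (ResidueField (AdicCompletion (maximalIdeal B) B)) :=
  ⟨fun _ => Module.Finite.of_equiv_equiv (eRes A) (eRes B) (residue_compat hψ),
    fun _ => Module.Finite.of_equiv_equiv (eRes A).symm (eRes B).symm (residue_compat_symm hψ)⟩

theorem separable_iff :
    Algebra.IsSeparable (ResidueField A) (ResidueField B) ↔
      Algebra.IsSeparable (ResidueField (AdicCompletion (maximalIdeal A) A))
        (ResidueField (AdicCompletion (maximalIdeal B) B)) :=
  Algebra.IsSeparable.iff_of_equiv_equiv (eRes A) (eRes B) (residue_compat hψ)

end Residue

end Groth.Agent.Lib.Helper19.ComplUnram
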