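import Mathlib
import Groth.Agent.Lib.helper19.ComplUnram2

set_option autoImplicit false
set_option linter.style.haveILetI false
universe u

namespace Groth.Agent.Lib.Helper19.ComplUnram

open IsLocalRing

section Finite

variable {R S : Type*} [CommRing R] [CommRing S] [IsLocalRing R] [IsLocalRing S] [Algebra R S]
  [IsLocalHom (algebraMap R S)]

/-- Complete Nakayama for local algebras: if `m_R S = m_S`, `S` is `m_S`-adically separated,
`R` is `m_R`-adically complete, and the residue field extension is finite, then `S` is finite
over `R`. -/
theorem finite_of_map_maximalIdeal_eq [IsPrecomplete (maximalIdeal R) R]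
    [IsHausdorff (maximalIdeal S) S]
    (hm : (maximalIdeal R).map (algebraMap R S) = maximalIdeal S)
    [Module.Finite (ResidueField R) (ResidueField S)] : Module.Finite R S := by
  haveI : IsHausdorff (maximalIdeal R) S := by
    rw [← IsHausdorff.map_algebraMap_iff (S := S), hm]
    infer_instance
  refine Groth.Agent.Lib.Helper5.ComplKaehler.finite_of_finite_quotient (maximalIdeal R) (N := S) ?_
  have h1 : (maximalIdeal R) • (⊤ : Submodule R S) = (maximalIdeal S).restrictScalars R := by
    rw [Ideal.smul_top_eq_map, hm]
  haveI : Module.Finite R (ResidueField S) := Module.Finite.trans (ResidueField R) (ResidueField S)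
  have e1 : (S ⧸ ((maximalIdeal R) • (⊤ : Submodule R S))) ≃ₗ[R]
      (S ⧸ (maximalIdeal S).restrictScalars R) := Submodule.quotEquivOfEq _ _ h1
  have e2 : (S ⧸ (maximalIdeal S).restrictScalars R) ≃ₗ[R] (S ⧸ maximalIdeal S) :=
    Submodule.Quotient.restrictScalarsEquiv R (maximalIdeal S)
  have h2 : Module.Finite R (S ⧸ maximalIdeal S) := ‹Module.Finite R (ResidueField S)›
  exact Module.Finite.equiv (e1.trans e2).symm

end Finite

end Groth.Agent.Lib.Helper19.ComplUnram
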