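import Mathlib
import Groth.Agent.Lib.helper19.ComplUnram3

set_option autoImplicit false
set_option linter.style.haveILetI false
universe u

namespace Groth.Agent.Lib.Helper19.ComplUnram

open IsLocalRing

/-- S9561. -/
theorem main_unram (A B : Type u) [CommRing A] [CommRing B]
    [IsLocalRing A] [IsLocalRing B] [IsNoetherianRing A] [IsNoetherianRing B] [Algebra A B]
    [IsLocalHom (algebraMap A B)]
    (ψ : AdicCompletion (IsLocalRing.maximalIdeal A) A →+*
      AdicCompletion (IsLocalRing.maximalIdeal B) B)
    (hψ : ψ.comp (algebraMap A (AdicCompletion (IsLocalRing.maximalIdeal A) A)) =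
      (algebraMap B (AdicCompletion (IsLocalRing.maximalIdeal B) B)).comp (algebraMap A B)) :
    ((IsLocalRing.maximalIdeal A).map (algebraMap A B) = IsLocalRing.maximalIdeal B ∧
        Module.Finite (IsLocalRing.ResidueField A) (IsLocalRing.ResidueField B) ∧
        Algebra.IsSeparable (IsLocalRing.ResidueField A) (IsLocalRing.ResidueField B)) ↔
      (ψ.FiniteType ∧ ψ.FormallyUnramified) := by
  letI : Algebra (AdicCompletion (maximalIdeal A) A) (AdicCompletion (maximalIdeal B) B) :=
    ψ.toAlgebra
  haveI : IsLocalHom (algebraMap (AdicCompletion (maximalIdeal A) A)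
      (AdicCompletion (maximalIdeal B) B)) := isLocalHom_of_compat ψ hψ
  have hψ' : (algebraMap (AdicCompletion (maximalIdeal A) A)
      (AdicCompletion (maximalIdeal B) B)).comp
      (algebraMap A (AdicCompletion (maximalIdeal A) A)) =
      (algebraMap B (AdicCompletion (maximalIdeal B) B)).comp (algebraMap A B) := hψ
  constructor
  · rintro ⟨h1, h2, h3⟩
    have hm : (maximalIdeal (AdicCompletion (maximalIdeal A) A)).map
        (algebraMap (AdicCompletion (maximalIdeal A) A) (AdicCompletion (maximalIdeal B) B)) =
        maximalIdeal (AdicCompletion (maximalIdeal B) B) := (map_eq_iff ψ hψ).mpr h1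
    haveI : Module.Finite (ResidueField (AdicCompletion (maximalIdeal A) A))
        (ResidueField (AdicCompletion (maximalIdeal B) B)) := (finite_iff hψ').mp h2
    haveI : Algebra.IsSeparable (ResidueField (AdicCompletion (maximalIdeal A) A))
        (ResidueField (AdicCompletion (maximalIdeal B) B)) := (separable_iff hψ').mp h3
    haveI : Module.Finite (AdicCompletion (maximalIdeal A) A)
        (AdicCompletion (maximalIdeal B) B) := finite_of_map_maximalIdeal_eq hm
    refine ⟨?_, ?_⟩
    · exact RingHom.Finite.finiteType (RingHom.finite_algebraMap.mpr inferInstance)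
    · exact RingHom.formallyUnramified_algebraMap.mpr
        (Algebra.FormallyUnramified.of_map_maximalIdeal hm)
  · rintro ⟨hft, hfu⟩
    haveI : Algebra.FiniteType (AdicCompletion (maximalIdeal A) A)
        (AdicCompletion (maximalIdeal B) B) := hft
    haveI : Algebra.FormallyUnramified (AdicCompletion (maximalIdeal A) A)
        (AdicCompletion (maximalIdeal B) B) := hfu
    have hm := Algebra.FormallyUnramified.map_maximalIdeal
      (R := AdicCompletion (maximalIdeal A) A) (S := AdicCompletion (maximalIdeal B) B)
    exact ⟨(map_eq_iff ψ hψ).mp hm, (finite_iff hψ').mpr inferInstance,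
      (separable_iff hψ').mpr inferInstance⟩

end Groth.Agent.Lib.Helper19.ComplUnram
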