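import Mathlib
import Groth.Agent.Lib.helper19.ComplUnram4

set_option autoImplicit false
set_option linter.style.haveILetI false
universe u

namespace Groth.Agent.Lib.Helper19.ComplUnram

open IsLocalRing TensorProduct

section FlatLift

variable {R R' M : Type*} [CommRing R] [CommRing R'] [Algebra R R'] [IsLocalRing R]
  [IsLocalRing R'] [AddCommGroup M] [Module R M] [Module R' M] [IsScalarTower R R' M]
  (hm : (maximalIdeal R).map (algebraMap R R') = maximalIdeal R')

include hm in
theorem algebraMap_mem_maximalIdeal (a : maximalIdeal R) :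
    algebraMap R R' a.1 ∈ maximalIdeal R' :=
  hm ▸ Ideal.mem_map_of_mem _ a.2

/-- The comparison map `m ⊗[R] M → m' ⊗[R'] M`. -/
noncomputable def uMap : (maximalIdeal R) ⊗[R] M →ₗ[R] (maximalIdeal R') ⊗[R'] M :=
  TensorProduct.lift (LinearMap.mk₂ R
    (fun (a : maximalIdeal R) (y : M) =>
      (⟨algebraMap R R' a.1, algebraMap_mem_maximalIdeal hm a⟩ : maximalIdeal R') ⊗ₜ[R'] y)
    (fun a b y => by
      rw [← TensorProduct.add_tmul]
      congr 1
      ext
      simp)
    (fun r a y => by
      rw [TensorProduct.smul_tmul']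
      congr 1
      ext
      simp [Algebra.smul_def])
    (fun a y z => TensorProduct.tmul_add _ _ _)
    (fun r a y => TensorProduct.tmul_smul _ _ _))

theorem uMap_tmul (a : maximalIdeal R) (y : M) :
    uMap (M := M) hm (a ⊗ₜ y) =
      (⟨algebraMap R R' a.1, algebraMap_mem_maximalIdeal hm a⟩ : maximalIdeal R') ⊗ₜ[R'] y := by
  simp [uMap]

theorem uMap_surjective : Function.Surjective (uMap (M := M) hm) := by
  intro z
  induction z using TensorProduct.induction_on with
  | zero => exact ⟨0, map_zero _⟩
  | add z w hz hw =>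
    obtain ⟨z', rfl⟩ := hz
    obtain ⟨w', rfl⟩ := hw
    exact ⟨z' + w', map_add _ _ _⟩
  | tmul x y =>
    obtain ⟨x, hx⟩ := x
    have key : ∀ (x : R') (hx : x ∈ (maximalIdeal R).map (algebraMap R R')) (y : M),
        ∃ w, uMap (M := M) hm w = (⟨x, hm ▸ hx⟩ : maximalIdeal R') ⊗ₜ[R'] y := by
      intro x hx
      induction hx using Submodule.span_induction with
      | mem x hx' =>
        obtain ⟨a, ha, rfl⟩ := hx'
        intro y
        exact ⟨(⟨a, ha⟩ : maximalIdeal R) ⊗ₜ y, uMap_tmul hm _ _⟩
      | zero =>
        intro y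
        refine ⟨0, ?_⟩
        rw [map_zero]
        have : (⟨0, hm ▸ Submodule.zero_mem _⟩ : maximalIdeal R') = 0 := rfl
        rw [this, TensorProduct.zero_tmul]
      | add x₁ x₂ h₁ h₂ ih₁ ih₂ =>
        intro y
        obtain ⟨w₁, hw₁⟩ := ih₁ y
        obtain ⟨w₂, hw₂⟩ := ih₂ y
        refine ⟨w₁ + w₂, ?_⟩
        rw [map_add, hw₁, hw₂, ← TensorProduct.add_tmul]
        rfl
      | smul c x₁ h₁ ih₁ =>
        intro y
        obtain ⟨w, hw⟩ := ih₁ (c • y)
        refine ⟨w, ?_⟩
        rw [hw, ← TensorProduct.smul_tmul]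
        rfl
    have hx' : x ∈ (maximalIdeal R).map (algebraMap R R') := hm ▸ hx
    exact key x hx' y

theorem lid_rTensor_uMap (w : (maximalIdeal R) ⊗[R] M) :
    TensorProduct.lid R' M ((maximalIdeal R').subtype.rTensor M (uMap (M := M) hm w)) =
      TensorProduct.lid R M ((maximalIdeal R).subtype.rTensor M w) := by
  induction w using TensorProduct.induction_on with
  | zero => simp
  | add z w hz hw => simp only [map_add, hz, hw]
  | tmul a y =>
    rw [uMap_tmul]
    simp

include hm in
theorem rTensor_maximalIdeal_injective [Module.Flat R M] :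
    Function.Injective ((maximalIdeal R').subtype.rTensor M) := by
  rw [injective_iff_map_eq_zero]
  intro z hz
  obtain ⟨w, rfl⟩ := uMap_surjective (M := M) hm z
  have h1 := lid_rTensor_uMap (M := M) hm w
  rw [hz, map_zero] at h1
  have h2 : (maximalIdeal R).subtype.rTensor M w = 0 :=
    (TensorProduct.lid R M).injective (by rw [← h1, map_zero])
  have h3 : Function.Injective ((maximalIdeal R).subtype.rTensor M) :=
    Module.Flat.rTensor_preserves_injective_linearMap _ Subtype.val_injective
  have h4 : w = 0 := h3 (by rw [h2, map_zero])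
  rw [h4, map_zero]

include hm in
/-- A finitely presented module over `R'` which is flat over `R` is free over `R'`, when
`m_R R' = m_R'`. -/
theorem free_of_flat_base [Module.Flat R M] [Module.FinitePresentation R' M] :
    Module.Free R' M :=
  Module.free_of_maximalIdeal_rTensor_injective (rTensor_maximalIdeal_injective hm)

end FlatLift

end Groth.Agent.Lib.Helper19.ComplUnram
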