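import Groth.Agent.Lib.helper19.FlatEt
import Mathlib

namespace Helper19.FlatDesc
universe u
open TensorProduct

/-- Flatness of `R → S` descends along a faithfully flat `S → S'`. -/
theorem flat_of_faithfullyFlat_of_flat (R S S' : Type u) [CommRing R] [CommRing S] [CommRing S']
    [Algebra R S] [Algebra S S'] [Algebra R S'] [IsScalarTower R S S']
    [Module.FaithfullyFlat S S'] [Module.Flat R S'] : Module.Flat R S := by
  rw [Module.Flat.iff_lTensor_preserves_injective_linearMap]
  intro N P _ _ _ _ f hf
  have h0 : Function.Injective (f.baseChange S) ↔ Function.Injective (f.lTensor S) := by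
    rw [← LinearMap.baseChange_eq_ltensor]
  rw [← h0, ← Module.FaithfullyFlat.lTensor_injective_iff_injective S S']
  have hS' : Function.Injective (f.baseChange S') := by
    have : Function.Injective (f.lTensor S') :=
      Module.Flat.lTensor_preserves_injective_linearMap f hf
    rwa [← LinearMap.baseChange_eq_ltensor] at this
  let eN := AlgebraTensorModule.cancelBaseChange R S S' S' N
  let eP := AlgebraTensorModule.cancelBaseChange R S S' S' P
  have hcomm : ∀ z, eP ((f.baseChange S).lTensor S' z) = f.baseChange S' (eN z) := by
    intro z
    induction z with
    | zero => simp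
    | tmul s' y =>
      induction y with
      | zero => simp
      | tmul s n => simp [eN, eP]
      | add a b ha hb => simp only [tmul_add, map_add, ha, hb]
    | add a b ha hb => simp only [map_add, ha, hb]
  intro z z' hzz'
  apply eN.injective
  apply hS'
  rw [← hcomm, ← hcomm, hzz']

end Helper19.FlatDesc
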