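import Mathlib
import Groth.Agent.Lib.helper19.ComplUnram5
import Groth.Agent.Lib.helper19.CompletionNoetherian
import Groth.Agent.Lib.helper19.FlatDesc

set_option autoImplicit false
set_option linter.style.haveILetI false
universe u

namespace Groth.Agent.Lib.Helper19.ComplUnram

open IsLocalRing

/-- S9562. -/
theorem main_etale (A B : Type u) [CommRing A] [CommRing B]
    [IsLocalRing A] [IsLocalRing B] [IsNoetherianRing A] [IsNoetherianRing B] [Algebra A B]
    [IsLocalHom (algebraMap A B)]
    (ψ : AdicCompletion (IsLocalRing.maximalIdeal A) A →+*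
      AdicCompletion (IsLocalRing.maximalIdeal B) B)
    (hψ : ψ.comp (algebraMap A (AdicCompletion (IsLocalRing.maximalIdeal A) A)) =
      (algebraMap B (AdicCompletion (IsLocalRing.maximalIdeal B) B)).comp (algebraMap A B)) :
    ((Module.Flat A B ∧
        (IsLocalRing.maximalIdeal A).map (algebraMap A B) = IsLocalRing.maximalIdeal B ∧
        Module.Finite (IsLocalRing.ResidueField A) (IsLocalRing.ResidueField B) ∧
        Algebra.IsSeparable (IsLocalRing.ResidueField A) (IsLocalRing.ResidueField B)) ↔
          ψ.Etale) ∧
      (ψ.Etale →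
        letI := ψ.toAlgebra
        ∃ n : ℕ, 0 < n ∧
          Nonempty ((Fin n → AdicCompletion (IsLocalRing.maximalIdeal A) A)
            ≃ₗ[AdicCompletion (IsLocalRing.maximalIdeal A) A]
            AdicCompletion (IsLocalRing.maximalIdeal B) B)) := by
  letI : Algebra (AdicCompletion (maximalIdeal A) A) (AdicCompletion (maximalIdeal B) B) :=
    ψ.toAlgebra
  haveI : IsLocalHom (algebraMap (AdicCompletion (maximalIdeal A) A)
      (AdicCompletion (maximalIdeal B) B)) := isLocalHom_of_compat ψ hψ
  haveI : IsNoetherianRing (AdicCompletion (maximalIdeal A) A) :=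
    Groth.Agent.Lib.helper19.isNoetherianRing_adicCompletion A (maximalIdeal A)
  haveI : IsScalarTower A (AdicCompletion (maximalIdeal A) A)
      (AdicCompletion (maximalIdeal B) B) :=
    .of_algebraMap_eq (fun a => (RingHom.congr_fun hψ a).symm)
  haveI : IsScalarTower A B (AdicCompletion (maximalIdeal B) B) :=
    .of_algebraMap_eq (fun _ => rfl)
  haveI : Module.FaithfullyFlat B (AdicCompletion (maximalIdeal B) B) :=
    Module.FaithfullyFlat.of_flat_of_isLocalHom
  have hmA : (maximalIdeal A).map (algebraMap A (AdicCompletion (maximalIdeal A) A)) =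
      maximalIdeal (AdicCompletion (maximalIdeal A) A) :=
    AdicCompletion.maximalIdeal_eq_map.symm
  have hunr := main_unram A B ψ hψ
  -- consequences of étaleness
  have key : ψ.Etale → Module.Finite (AdicCompletion (maximalIdeal A) A)
      (AdicCompletion (maximalIdeal B) B) ∧ Module.Flat (AdicCompletion (maximalIdeal A) A)
      (AdicCompletion (maximalIdeal B) B) := by
    intro h
    haveI : Algebra.Etale (AdicCompletion (maximalIdeal A) A)
        (AdicCompletion (maximalIdeal B) B) := h
    have hm := Algebra.FormallyUnramified.map_maximalIdeal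
      (R := AdicCompletion (maximalIdeal A) A) (S := AdicCompletion (maximalIdeal B) B)
    exact ⟨finite_of_map_maximalIdeal_eq hm, inferInstance⟩
  refine ⟨⟨?_, ?_⟩, ?_⟩
  · rintro ⟨hflat, h1, h2, h3⟩
    obtain ⟨hft, hfu⟩ := hunr.mp ⟨h1, h2, h3⟩
    haveI : Algebra.FiniteType (AdicCompletion (maximalIdeal A) A)
        (AdicCompletion (maximalIdeal B) B) := hft
    haveI : Algebra.FormallyUnramified (AdicCompletion (maximalIdeal A) A)
        (AdicCompletion (maximalIdeal B) B) := hfu
    have hm := Algebra.FormallyUnramified.map_maximalIdeal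
      (R := AdicCompletion (maximalIdeal A) A) (S := AdicCompletion (maximalIdeal B) B)
    haveI : Module.Finite (AdicCompletion (maximalIdeal A) A)
        (AdicCompletion (maximalIdeal B) B) := finite_of_map_maximalIdeal_eq hm
    haveI : Module.Flat A (AdicCompletion (maximalIdeal B) B) :=
      Module.Flat.trans A B (AdicCompletion (maximalIdeal B) B)
    haveI : Module.FinitePresentation (AdicCompletion (maximalIdeal A) A)
        (AdicCompletion (maximalIdeal B) B) := Module.finitePresentation_of_finite _ _
    haveI : Module.Free (AdicCompletion (maximalIdeal A) A)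
        (AdicCompletion (maximalIdeal B) B) := free_of_flat_base (R := A) hmA
    haveI : Algebra.FinitePresentation (AdicCompletion (maximalIdeal A) A)
        (AdicCompletion (maximalIdeal B) B) := Algebra.FinitePresentation.of_finiteType.mp hft
    exact Algebra.Etale.of_formallyUnramified_of_flat
  · intro h
    obtain ⟨hfin, hflat⟩ := key h
    haveI : Algebra.Etale (AdicCompletion (maximalIdeal A) A)
        (AdicCompletion (maximalIdeal B) B) := h
    have hft : ψ.FiniteType :=
      (inferInstance : Algebra.FiniteType (AdicCompletion (maximalIdeal A) A)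
        (AdicCompletion (maximalIdeal B) B))
    have hfu : ψ.FormallyUnramified :=
      (inferInstance : Algebra.FormallyUnramified (AdicCompletion (maximalIdeal A) A)
        (AdicCompletion (maximalIdeal B) B))
    obtain ⟨h1, h2, h3⟩ := hunr.mpr ⟨hft, hfu⟩
    refine ⟨?_, h1, h2, h3⟩
    haveI : Module.Flat A (AdicCompletion (maximalIdeal B) B) :=
      Module.Flat.trans A (AdicCompletion (maximalIdeal A) A) (AdicCompletion (maximalIdeal B) B)
    exact Helper19.FlatDesc.flat_of_faithfullyFlat_of_flat A B (AdicCompletion (maximalIdeal B) B)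
  · intro h
    obtain ⟨hfin, hflat⟩ := key h
    haveI := hfin
    haveI := hflat
    haveI : Module.Free (AdicCompletion (maximalIdeal A) A)
        (AdicCompletion (maximalIdeal B) B) := Module.free_of_flat_of_isLocalRing
    refine ⟨Module.finrank (AdicCompletion (maximalIdeal A) A)
      (AdicCompletion (maximalIdeal B) B), (Module.finrank_pos_iff_of_free _ _).mpr inferInstance,
      ⟨(Module.finBasis (AdicCompletion (maximalIdeal A) A)
        (AdicCompletion (maximalIdeal B) B)).equivFun.symm⟩⟩

end Groth.Agent.Lib.Helper19.ComplUnram
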