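import Groth.Agent.Lib.helper19.RegularLocal
import Mathlib.RingTheory.AdicCompletion.LocalRing
import Mathlib.RingTheory.AdicCompletion.AsTensorProduct
import Mathlib.RingTheory.Ideal.GoingDown
import Mathlib.RingTheory.DiscreteValuationRing.TFAE

set_option autoImplicit false

namespace Groth.Agent.Lib.helper19

open IsLocalRing

universe u

variable (A : Type u) [CommRing A] [IsLocalRing A] [IsNoetherianRing A]

/-- Dimension of the completion of a Noetherian local ring, assuming the completion is known to be
Noetherian. -/
theorem ringKrullDim_adicCompletion_eq_of_isNoetherianRing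
    [IsNoetherianRing (AdicCompletion (maximalIdeal A) A)] :
    ringKrullDim (AdicCompletion (maximalIdeal A) A) = ringKrullDim A := by
  have hover : (maximalIdeal (AdicCompletion (maximalIdeal A) A)).LiesOver (maximalIdeal A) :=
    ⟨(IsLocalRing.maximalIdeal_comap (algebraMap A (AdicCompletion (maximalIdeal A) A))).symm⟩
  have h := Ideal.height_eq_height_add_of_liesOver_of_hasGoingDown (maximalIdeal A)
    (maximalIdeal (AdicCompletion (maximalIdeal A) A))
  have hmap : (maximalIdeal (AdicCompletion (maximalIdeal A) A)).map
      (Ideal.Quotient.mk ((maximalIdeal A).map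
        (algebraMap A (AdicCompletion (maximalIdeal A) A)))) = ⊥ := by
    rw [← AdicCompletion.maximalIdeal_eq_map, Ideal.map_quotient_self]
  have hnt : Nontrivial (AdicCompletion (maximalIdeal A) A ⧸ (maximalIdeal A).map
      (algebraMap A (AdicCompletion (maximalIdeal A) A))) := by
    rw [← AdicCompletion.maximalIdeal_eq_map]
    exact Ideal.Quotient.nontrivial_iff.mpr (maximalIdeal.isMaximal _).ne_top
  rw [hmap, Ideal.height_bot, add_zero] at h
  rw [← IsLocalRing.maximalIdeal_height_eq_ringKrullDim,
    ← IsLocalRing.maximalIdeal_height_eq_ringKrullDim, h]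

theorem isRegularLocalRing_adicCompletion_iff_of_isNoetherianRing
    [IsNoetherianRing (AdicCompletion (maximalIdeal A) A)] :
    IsRegularLocalRing A ↔ IsRegularLocalRing (AdicCompletion (maximalIdeal A) A) := by
  rw [isRegularLocalRing_iff, isRegularLocalRing_iff, AdicCompletion.spanFinrank_maximalIdeal_eq,
    ringKrullDim_adicCompletion_eq_of_isNoetherianRing]

/-- A Noetherian local ring is a DVR iff it is regular of dimension one. -/
theorem isDiscreteValuationRing_iff_isRegularLocalRing_and_dim_eq_one
    (B : Type u) [CommRing B] [IsLocalRing B] [IsNoetherianRing B] :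
    (∃ _ : IsDomain B, IsDiscreteValuationRing B) ↔
      IsRegularLocalRing B ∧ ringKrullDim B = 1 := by
  constructor
  · rintro ⟨hdom, hdvr⟩
    refine ⟨inferInstance, ?_⟩
    exact IsPrincipalIdealRing.ringKrullDim_eq_one B (IsDiscreteValuationRing.not_isField B)
  · rintro ⟨hreg, hdim⟩
    have hdom : IsDomain B := isDomain_of_isRegularLocalRing B
    refine ⟨hdom, ?_⟩
    rw [← IsLocalRing.finrank_CotangentSpace_eq_one_iff,
      ← IsLocalRing.spanFinrank_maximalIdeal_eq_finrank_cotangentSpace]
    have := IsRegularLocalRing.spanFinrank_maximalIdeal (R := B)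
    rw [hdim] at this
    exact_mod_cast this

theorem isDiscreteValuationRing_adicCompletion_iff_of_isNoetherianRing
    [IsNoetherianRing (AdicCompletion (maximalIdeal A) A)] :
    (∃ _ : IsDomain A, IsDiscreteValuationRing A) ↔
      ∃ _ : IsDomain (AdicCompletion (maximalIdeal A) A),
        IsDiscreteValuationRing (AdicCompletion (maximalIdeal A) A) := by
  rw [isDiscreteValuationRing_iff_isRegularLocalRing_and_dim_eq_one,
    isDiscreteValuationRing_iff_isRegularLocalRing_and_dim_eq_one,
    ← isRegularLocalRing_adicCompletion_iff_of_isNoetherianRing,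
    ringKrullDim_adicCompletion_eq_of_isNoetherianRing]

end Groth.Agent.Lib.helper19
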