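import Mathlib
import Groth.Agent.S2597
import Groth.Agent.S2758

set_option autoImplicit false
universe u
open CategoryTheory CategoryTheory.Limits AlgebraicGeometry TopologicalSpace

namespace Groth.Agent.Lib.Helper19.FlatDimFormula

/-- Flat dimension formula for local homomorphisms of Noetherian local rings. -/
theorem ringKrullDim_eq_add_of_flat (A B : Type u) [CommRing A] [CommRing B] [IsNoetherianRing A]
    [IsNoetherianRing B] [IsLocalRing A] [IsLocalRing B] [Algebra A B]
    [IsLocalHom (algebraMap A B)] [Module.Flat A B] :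
    ringKrullDim B = ringKrullDim A +
      ringKrullDim (B ⧸ (IsLocalRing.maximalIdeal A).map (algebraMap A B)) := by
  refine Groth.Agent.S2597.result A B ?_
  intro p hp hpne q hq hqm
  haveI := hp
  haveI : q.IsPrime := hq.1.1
  have hpq : p ≤ q.comap (algebraMap A B) := by
    rw [← Ideal.map_le_iff_le_comap]; exact hq.1.2
  have hlt : p < q.under A := by
    refine lt_of_le_of_ne hpq ?_
    intro h
    apply hpne
    rw [h]; exact hqm
  obtain ⟨P, hPq, hP, hPp⟩ := Algebra.HasGoingDown.exists_ideal_le_liesOver_of_lt (p := p) q hlt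
  have hPle : p.map (algebraMap A B) ≤ P := by
    rw [Ideal.map_le_iff_le_comap]
    exact (hPp.over).le
  have : q ≤ P := hq.2 ⟨hP, hPle⟩ hPq
  have hPeq : P = q := le_antisymm hPq this
  subst hPeq
  exact absurd (hPp.over) (ne_of_lt hlt)

/-- Scheme form: flat stalk map between Noetherian stalks. -/
theorem stalk_dim {X Y : Scheme.{u}} (f : X ⟶ Y) (x : X)
    [IsNoetherianRing (X.presheaf.stalk x)] [IsNoetherianRing (Y.presheaf.stalk (f.base x))]
    (hflat : (f.stalkMap x).hom.Flat) :
    ringKrullDim ↑(X.presheaf.stalk x) =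
      ringKrullDim ↑(Y.presheaf.stalk (f.base x)) +
        ringKrullDim (↑(X.presheaf.stalk x) ⧸
          (IsLocalRing.maximalIdeal ↑(Y.presheaf.stalk (f.base x))).map (f.stalkMap x).hom) := by
  algebraize [(f.stalkMap x).hom]
  haveI : IsLocalHom (algebraMap (Y.presheaf.stalk (f.base x)) (X.presheaf.stalk x)) :=
    f.toLRSHom.prop x
  exact ringKrullDim_eq_add_of_flat (Y.presheaf.stalk (f.base x)) (X.presheaf.stalk x)

end Groth.Agent.Lib.Helper19.FlatDimFormula
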