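import Mathlib
import Groth.Agent.Lib.helper19.FlatDimFormula

set_option autoImplicit false
universe u

namespace Groth.Agent.Lib.Helper19.FlatHeight

open IsLocalRing

variable (A B : Type u) [CommRing A] [CommRing B] [Algebra A B] [IsNoetherianRing A]
  [IsNoetherianRing B] [Module.Flat A B] (p : Ideal A) [p.IsPrime] (q : Ideal B) [q.IsPrime]
  [q.LiesOver p]

/-- Height formula for flat maps of Noetherian rings. -/
theorem height_eq_add :
    ((q.height : ℕ∞) : WithBot ℕ∞) = ((p.height : ℕ∞) : WithBot ℕ∞) +
      ringKrullDim (Localization.AtPrime q ⧸ p.map (algebraMap A (Localization.AtPrime q))) := by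
  let _ := Localization.AtPrime.algebraOfLiesOver p q
  have hloc : IsLocalHom (algebraMap (Localization.AtPrime p) (Localization.AtPrime q)) := by
    rw [RingHom.algebraMap_toAlgebra]
    exact Localization.isLocalHom_localRingHom p q (algebraMap A B) Ideal.LiesOver.over
  have h := FlatDimFormula.ringKrullDim_eq_add_of_flat (Localization.AtPrime p)
    (Localization.AtPrime q)
  rw [IsLocalization.AtPrime.ringKrullDim_eq_height q (Localization.AtPrime q),
    IsLocalization.AtPrime.ringKrullDim_eq_height p (Localization.AtPrime p)] at h
  have hmap : (maximalIdeal (Localization.AtPrime p)).map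
      (algebraMap (Localization.AtPrime p) (Localization.AtPrime q)) =
      p.map (algebraMap A (Localization.AtPrime q)) := by
    rw [← Localization.AtPrime.map_eq_maximalIdeal, Ideal.map_map,
      ← IsScalarTower.algebraMap_eq]
  rw [hmap] at h
  exact h

theorem height_le : p.height ≤ q.height := by
  have h := height_eq_add A B p q
  have hne : p.map (algebraMap A (Localization.AtPrime q)) ≠ ⊤ := by
    intro htop
    have h1 : p.map (algebraMap A (Localization.AtPrime q)) ≤
        maximalIdeal (Localization.AtPrime q) := by
      rw [Ideal.map_le_iff_le_comap]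
      intro a ha
      rw [Ideal.mem_comap, IsScalarTower.algebraMap_apply A B (Localization.AtPrime q),
        ← Localization.AtPrime.map_eq_maximalIdeal]
      apply Ideal.mem_map_of_mem
      have : a ∈ q.under A := by rw [← Ideal.LiesOver.over (P := q) (p := p)]; exact ha
      exact this
    rw [htop] at h1
    exact (maximalIdeal.isMaximal _).ne_top (top_le_iff.mp h1)
  haveI : Nontrivial (Localization.AtPrime q ⧸ p.map (algebraMap A (Localization.AtPrime q))) :=
    Ideal.Quotient.nontrivial_iff.mpr hne
  have h0 : (0 : WithBot ℕ∞) ≤
      ringKrullDim (Localization.AtPrime q ⧸ p.map (algebraMap A (Localization.AtPrime q))) :=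
    ringKrullDim_nonneg_of_nontrivial
  have : ((p.height : ℕ∞) : WithBot ℕ∞) ≤ ((q.height : ℕ∞) : WithBot ℕ∞) := by
    rw [h]
    exact le_add_of_nonneg_right h0
  exact_mod_cast this

omit [q.LiesOver p] in
theorem liesOver_of_mem_minimalPrimes (hq : q ∈ (p.map (algebraMap A B)).minimalPrimes) :
    q.LiesOver p := by
  constructor
  have hpq : p ≤ q.under A := by
    rw [Ideal.under_def, ← Ideal.map_le_iff_le_comap]; exact hq.1.2
  by_contra hne
  have hlt : p < q.under A := lt_of_le_of_ne hpq hne
  obtain ⟨P, hPq, hP, hPp⟩ := Algebra.HasGoingDown.exists_ideal_le_liesOver_of_lt (p := p) q hlt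
  have hPle : p.map (algebraMap A B) ≤ P := by
    rw [Ideal.map_le_iff_le_comap]
    exact (hPp.over).le
  have : q ≤ P := hq.2 ⟨hP, hPle⟩ hPq
  have hPeq : P = q := le_antisymm hPq this
  subst hPeq
  exact absurd (hPp.over) (ne_of_lt hlt)

theorem height_eq_of_mem_minimalPrimes (hq : q ∈ (p.map (algebraMap A B)).minimalPrimes) :
    q.height = p.height := by
  have h := height_eq_add A B p q
  have hle : ringKrullDim (Localization.AtPrime q ⧸
      p.map (algebraMap A (Localization.AtPrime q))) ≤ 0 := by
    rw [ringKrullDim_quotient]
    have : Subsingleton (PrimeSpectrum.zeroLocus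
        ((p.map (algebraMap A (Localization.AtPrime q)) : Ideal _) : Set (Localization.AtPrime q))) := by
      have key : ∀ P : PrimeSpectrum (Localization.AtPrime q),
          P ∈ PrimeSpectrum.zeroLocus ((p.map (algebraMap A (Localization.AtPrime q)) : Ideal _) :
            Set (Localization.AtPrime q)) → P.asIdeal = maximalIdeal (Localization.AtPrime q) := by
        intro P hP
        have hP' : p.map (algebraMap A (Localization.AtPrime q)) ≤ P.asIdeal := hP
        have h1 : p.map (algebraMap A B) ≤ P.asIdeal.comap (algebraMap B (Localization.AtPrime q)) := by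
          rw [Ideal.map_le_iff_le_comap, Ideal.comap_comap, ← IsScalarTower.algebraMap_eq,
            ← Ideal.map_le_iff_le_comap]
          exact hP'
        have h2 : P.asIdeal.comap (algebraMap B (Localization.AtPrime q)) ≤ q := by
          have hle : P.asIdeal ≤ maximalIdeal (Localization.AtPrime q) :=
            le_maximalIdeal P.2.ne_top
          calc P.asIdeal.comap (algebraMap B (Localization.AtPrime q))
              ≤ (maximalIdeal (Localization.AtPrime q)).comap
                  (algebraMap B (Localization.AtPrime q)) := Ideal.comap_mono hle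
            _ = q := Localization.AtPrime.comap_maximalIdeal
        have h3 : q ≤ P.asIdeal.comap (algebraMap B (Localization.AtPrime q)) :=
          hq.2 ⟨Ideal.comap_isPrime _ _, h1⟩ h2
        have h4 : P.asIdeal.comap (algebraMap B (Localization.AtPrime q)) = q := le_antisymm h2 h3
        rw [← Localization.AtPrime.map_eq_maximalIdeal]
        have h5 := congrArg (Ideal.map (algebraMap B (Localization.AtPrime q))) h4
        rw [IsLocalization.map_comap q.primeCompl] at h5
        exact h5
      constructor
      rintro ⟨P, hP⟩ ⟨Q, hQ⟩
      apply Subtype.ext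
      apply PrimeSpectrum.ext
      rw [key P hP, key Q hQ]
    exact Order.krullDim_nonpos_of_subsingleton
  have hne : p.map (algebraMap A (Localization.AtPrime q)) ≠ ⊤ := by
    intro htop
    have h1 : p.map (algebraMap A (Localization.AtPrime q)) ≤
        maximalIdeal (Localization.AtPrime q) := by
      rw [Ideal.map_le_iff_le_comap]
      intro a ha
      rw [Ideal.mem_comap, IsScalarTower.algebraMap_apply A B (Localization.AtPrime q),
        ← Localization.AtPrime.map_eq_maximalIdeal]
      apply Ideal.mem_map_of_mem
      have : a ∈ q.under A := by rw [← Ideal.LiesOver.over (P := q) (p := p)]; exact ha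
      exact this
    rw [htop] at h1
    exact (maximalIdeal.isMaximal _).ne_top (top_le_iff.mp h1)
  haveI : Nontrivial (Localization.AtPrime q ⧸ p.map (algebraMap A (Localization.AtPrime q))) :=
    Ideal.Quotient.nontrivial_iff.mpr hne
  have h0 : (0 : WithBot ℕ∞) ≤
      ringKrullDim (Localization.AtPrime q ⧸ p.map (algebraMap A (Localization.AtPrime q))) :=
    ringKrullDim_nonneg_of_nontrivial
  have h00 : ringKrullDim (Localization.AtPrime q ⧸
      p.map (algebraMap A (Localization.AtPrime q))) = 0 := le_antisymm hle h0
  rw [h00, add_zero] at h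
  exact_mod_cast h

end Groth.Agent.Lib.Helper19.FlatHeight
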