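import Groth.Agent.Lib.helper19.RegularLocalSeq
import Mathlib.RingTheory.Ideal.Quotient.Operations

set_option autoImplicit false

namespace Groth.Agent.Lib.helper19

open IsLocalRing RingTheory.Sequence

universe u

variable {R : Type u} [CommRing R]

/-- A chosen set-theoretic section of the quotient map. -/
noncomputable def quotLift (I : Ideal R) : R ⧸ I → R :=
  Function.surjInv (Ideal.Quotient.mk_surjective (I := I))

theorem mk_quotLift (I : Ideal R) (y : R ⧸ I) : Ideal.Quotient.mk I (quotLift I y) = y :=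
  Function.surjInv_eq _ y

theorem comap_mk_ofList (I : Ideal R) (l : List (R ⧸ I)) :
    (Ideal.ofList l).comap (Ideal.Quotient.mk I) = Ideal.ofList (l.map (quotLift I)) ⊔ I := by
  have h : Ideal.ofList l = (Ideal.ofList (l.map (quotLift I))).map (Ideal.Quotient.mk I) := by
    rw [Ideal.map_ofList, List.map_map]
    congr 1
    conv_lhs => rw [← List.map_id l]
    apply List.map_congr_left
    intro y _
    simp [mk_quotLift]
  rw [h, Ideal.comap_map_of_surjective' _ Ideal.Quotient.mk_surjective, Ideal.mk_ker]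

theorem exists_list_ofList_eq [IsNoetherianRing R] (K : Ideal R) :
    ∃ l : List R, l.length = K.spanFinrank ∧ Ideal.ofList l = K := by
  classical
  obtain ⟨s, hs, hs'⟩ := Submodule.FG.exists_span_finset_card_eq_spanFinrank
    (p := K) (IsNoetherian.noetherian _)
  refine ⟨s.toList, by simpa using hs, ?_⟩
  rw [← hs']
  unfold Ideal.ofList
  congr 1
  ext y
  simp

theorem comap_mk_maximalIdeal [IsLocalRing R] (I : Ideal R) [IsLocalRing (R ⧸ I)] :
    (maximalIdeal (R ⧸ I)).comap (Ideal.Quotient.mk I) = maximalIdeal R := by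
  have hI : I ≠ ⊤ := by
    intro h
    have : Subsingleton (R ⧸ I) := by
      rw [h]; exact Ideal.Quotient.subsingleton_iff.mpr rfl
    exact not_subsingleton (R ⧸ I) this
  rw [maximalIdeal_quotient, Ideal.comap_map_of_surjective' _ Ideal.Quotient.mk_surjective,
    Ideal.mk_ker, sup_eq_left]
  exact le_maximalIdeal hI

/-- If `R` and `R/I` are regular local and `I ≠ 0`, then `I` contains an element outside `m²`. -/
theorem exists_mem_notMem_sq_of_quotient_regular [IsRegularLocalRing R] (I : Ideal R)
    [IsRegularLocalRing (R ⧸ I)] (hI : I ≠ ⊥) : ∃ x ∈ I, x ∉ maximalIdeal R ^ 2 := by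
  by_contra hcon
  push Not at hcon
  have hle : I ≤ maximalIdeal R ^ 2 := fun x hx => hcon x hx
  obtain ⟨l, hl, hl'⟩ := exists_list_ofList_eq (maximalIdeal (R ⧸ I))
  have h1 : maximalIdeal R = Ideal.ofList (l.map (quotLift I)) ⊔ I := by
    rw [← comap_mk_ofList, hl', comap_mk_maximalIdeal]
  have h2 : maximalIdeal R ≤ Ideal.ofList (l.map (quotLift I)) := by
    apply Submodule.le_of_le_smul_of_le_jacobson_bot (I := maximalIdeal R)
      (IsNoetherian.noetherian _)
      (IsLocalRing.jacobson_eq_maximalIdeal _ bot_ne_top).ge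
    rw [smul_eq_mul, ← pow_two]
    conv_lhs => rw [h1]
    exact sup_le_sup_left hle _
  have h3 : (maximalIdeal R).spanFinrank ≤ (maximalIdeal (R ⧸ I)).spanFinrank := by
    have heq : maximalIdeal R = Ideal.ofList (l.map (quotLift I)) := by
      apply le_antisymm h2
      rw [h1]; exact le_sup_left
    rw [heq]
    refine (spanFinrank_ofList_le _).trans ?_
    simp [hl]
  have hdom : IsDomain R := isDomain_of_isRegularLocalRing R
  obtain ⟨y, hyI, hy0⟩ := Submodule.exists_mem_ne_zero_of_ne_bot hI
  have h4 : ringKrullDim (R ⧸ I) + 1 ≤ ringKrullDim R :=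
    ringKrullDim_succ_le_of_surjective (Ideal.Quotient.mk I) Ideal.Quotient.mk_surjective
      (mem_nonZeroDivisors_of_ne_zero hy0) (Ideal.Quotient.eq_zero_iff_mem.mpr hyI)
  have h5 := IsRegularLocalRing.spanFinrank_maximalIdeal (R := R)
  have h6 := IsRegularLocalRing.spanFinrank_maximalIdeal (R := R ⧸ I)
  rw [← h5, ← h6] at h4
  norm_cast at h4
  omega

theorem ne_top_of_isLocalRing_quotient (I : Ideal R) [IsLocalRing (R ⧸ I)] : I ≠ ⊤ := by
  intro h
  have : Subsingleton (R ⧸ I) := by
    rw [h]; exact Ideal.Quotient.subsingleton_iff.mpr rfl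
  exact not_subsingleton (R ⧸ I) this

theorem exists_lists_of_quotient_regular_aux (d : ℕ) : ∀ (R : Type u) [CommRing R]
    [IsRegularLocalRing R] (I : Ideal R) [IsRegularLocalRing (R ⧸ I)], ringKrullDim R = d →
    ∃ l₁ l₂ : List R, l₁.length + l₂.length = d ∧
      Ideal.ofList (l₁ ++ l₂) = maximalIdeal R ∧ I = Ideal.ofList l₁ := by
  induction d with
  | zero =>
    intro R _ _ I _ hd
    have h0 : (maximalIdeal R).spanFinrank = 0 := by
      have := IsRegularLocalRing.spanFinrank_maximalIdeal (R := R)
      rw [hd] at this; exact_mod_cast this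
    have hbot : maximalIdeal R = ⊥ :=
      (Submodule.spanFinrank_eq_zero_iff_eq_bot (IsNoetherian.noetherian _)).mp h0
    have hI : I = ⊥ := by
      rw [eq_bot_iff, ← hbot]
      exact le_maximalIdeal (ne_top_of_isLocalRing_quotient I)
    exact ⟨[], [], rfl, by simp [hbot], by simp [hI]⟩
  | succ d ih =>
    intro R _ _ I _ hd
    have hsf : (maximalIdeal R).spanFinrank = d + 1 := by
      have := IsRegularLocalRing.spanFinrank_maximalIdeal (R := R)
      rw [hd] at this; exact_mod_cast this
    by_cases hI : I = ⊥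
    · obtain ⟨l, hl, hl'⟩ := exists_list_ofList_eq (maximalIdeal R)
      exact ⟨[], l, by simp [hl, hsf], by simpa using hl', by simp [hI]⟩
    · obtain ⟨x, hxI, hx2⟩ := exists_mem_notMem_sq_of_quotient_regular I hI
      have hx : x ∈ maximalIdeal R := le_maximalIdeal (ne_top_of_isLocalRing_quotient I) hxI
      obtain ⟨hreg, hdim⟩ := isRegularLocalRing_quotient_span_singleton hx hx2
      have hdimS : ringKrullDim (R ⧸ Ideal.span ({x} : Set R)) = d := by
        rw [hd] at hdim
        have hn := IsRegularLocalRing.spanFinrank_maximalIdeal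
          (R := R ⧸ Ideal.span ({x} : Set R))
        rw [← hn] at hdim ⊢
        norm_cast at hdim ⊢
        omega
      have hle : Ideal.span ({x} : Set R) ≤ I := (Ideal.span_singleton_le_iff_mem _).mpr hxI
      have hreg' : IsRegularLocalRing ((R ⧸ Ideal.span ({x} : Set R)) ⧸
          I.map (Ideal.Quotient.mk (Ideal.span ({x} : Set R)))) :=
        IsRegularLocalRing.of_ringEquiv (DoubleQuot.quotQuotEquivQuotOfLE hle).symm
      obtain ⟨l₁', l₂', hlen, hspan, hI₁⟩ := ih (R ⧸ Ideal.span ({x} : Set R))
        (I.map (Ideal.Quotient.mk (Ideal.span ({x} : Set R)))) hdimS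
      refine ⟨x :: l₁'.map (quotLift _), l₂'.map (quotLift _), ?_, ?_, ?_⟩
      · simp only [List.length_cons, List.length_map]; omega
      · rw [List.cons_append, ← List.map_append, Ideal.ofList_cons, sup_comm, ← comap_mk_ofList,
          hspan, comap_mk_maximalIdeal]
      · rw [Ideal.ofList_cons, sup_comm, ← comap_mk_ofList, ← hI₁,
          Ideal.comap_map_of_surjective' _ Ideal.Quotient.mk_surjective, Ideal.mk_ker,
          sup_eq_left.mpr hle]

end Groth.Agent.Lib.helper19
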