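import Mathlib

namespace Helper19.EtLift
universe u
open TensorProduct Algebra

theorem main (R : Type u) [CommRing R] (I : Ideal R) (Sb : Type u)
    [CommRing Sb] [Algebra (R ⧸ I) Sb] [Algebra.Etale (R ⧸ I) Sb] :
    ∃ (S : Type u) (_ : CommRing S) (_ : Algebra R S), Algebra.Etale R S ∧
      Nonempty (((R ⧸ I) ⊗[R] S) ≃ₐ[R ⧸ I] Sb) := by
  classical
  letI : Algebra R Sb := ((algebraMap (R ⧸ I) Sb).comp (algebraMap R (R ⧸ I))).toAlgebra
  haveI : IsScalarTower R (R ⧸ I) Sb := IsScalarTower.of_algebraMap_eq' rfl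
  have h0 : Algebra.IsStandardSmoothOfRelativeDimension 0 (R ⧸ I) Sb :=
    Algebra.Etale.iff_isStandardSmoothOfRelativeDimension_zero.mp inferInstance
  obtain ⟨ι, σ, _, _, P, hP⟩ := h0.out
  haveI : P.HasCoeffs R := ⟨fun x _ => Ideal.Quotient.mk_surjective x⟩
  let M₀ := P.toPresentation.ModelOfHasCoeffs R
  let e : (R ⧸ I) ⊗[R] M₀ ≃ₐ[R ⧸ I] Sb := P.toPresentation.tensorModelOfHasCoeffsEquiv R
  let P₀ : PreSubmersivePresentation R M₀ ι σ := P.toPreSubmersivePresentation.ofHasCoeffs R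
  let Δ₀ : M₀ := P₀.jacobian
  let T := Localization.Away Δ₀
  let Q : SubmersivePresentation M₀ T Unit Unit := SubmersivePresentation.localizationAway T Δ₀
  let PT : SubmersivePresentation R T (Unit ⊕ ι) (Unit ⊕ σ) :=
    { toPreSubmersivePresentation := Q.toPreSubmersivePresentation.comp P₀
      jacobian_isUnit := by
        rw [PreSubmersivePresentation.comp_jacobian_eq_jacobian_smul_jacobian, Algebra.smul_def,
          IsUnit.mul_iff]
        exact ⟨IsLocalization.map_units _ (⟨Δ₀, 1, by simp⟩ : Submonoid.powers Δ₀),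
          Q.jacobian_isUnit⟩ }
  have hdim : PT.dimension = 0 := by
    change (Q.toPreSubmersivePresentation.comp P₀).dimension = 0
    rw [PreSubmersivePresentation.dimension_comp_eq_dimension_add_dimension]
    have h1 : Q.dimension = 0 := Presentation.localizationAway_dimension_zero Δ₀
    have h2 : P₀.dimension = 0 := hP
    change Q.dimension + P₀.dimension = 0
    rw [h1, h2]
  haveI : Algebra.IsStandardSmoothOfRelativeDimension 0 R T :=
    PT.isStandardSmoothOfRelativeDimension hdim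
  refine ⟨T, inferInstance, inferInstance, inferInstance, ?_⟩
  have hΔ : e ((1 : R ⧸ I) ⊗ₜ[R] Δ₀) = P.jacobian := by
    letI := Fintype.ofFinite σ
    have h1 : Δ₀ = Ideal.Quotient.mk _ (P.jacobianOfHasCoeffs R) := by
      change P₀.jacobian = _
      rw [PreSubmersivePresentation.jacobian_eq_jacobiMatrix_det]
      rfl
    rw [h1]
    change P.toPresentation.tensorModelOfHasCoeffsEquiv R (1 ⊗ₜ _) = _
    rw [Presentation.tensorModelOfHasCoeffsEquiv_tmul, map_one, one_mul,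
      P.aeval_jacobianOfHasCoeffs]
  have hu : IsUnit ((1 : R ⧸ I) ⊗ₜ[R] Δ₀ : (R ⧸ I) ⊗[R] M₀) := by
    have := (P.jacobian_isUnit).map e.symm
    rwa [← hΔ, e.symm_apply_apply] at this
  let e₁ : (R ⧸ I) ⊗[R] T ≃ₐ[R ⧸ I] Localization.Away ((1 : R ⧸ I) ⊗ₜ[R] Δ₀) :=
    IsLocalization.Away.tensorProductEquivTMulRight R (R ⧸ I) Δ₀ T
  let e₂ : (R ⧸ I) ⊗[R] M₀ ≃ₐ[(R ⧸ I) ⊗[R] M₀] Localization.Away ((1 : R ⧸ I) ⊗ₜ[R] Δ₀) :=
    IsLocalization.atUnits _ (Submonoid.powers ((1 : R ⧸ I) ⊗ₜ[R] Δ₀)) (by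
      rintro _ ⟨n, rfl⟩
      exact hu.pow n)
  exact ⟨e₁.trans (((e₂.restrictScalars (R ⧸ I)).symm).trans e)⟩

end Helper19.EtLift
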