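import Groth.Agent.Lib.Helper12.SectionZMT
import Groth.Agent.Lib.Helper12.IdemLift
import Groth.Agent.Lib.helper19.EtLift

set_option autoImplicit false
set_option linter.style.haveILetI false
universe u
open TensorProduct

namespace Groth.Agent.Lib.helper19.FinEtLift
open Groth.Agent.Lib.Helper12

variable {A : Type u} [CommRing A] (I : Ideal A) (B' : Type u) [CommRing B'] [Algebra A B']

variable {B'} in
theorem mul_mem_zmtSet {y r : B'} (hy : IsIntegral A y) (hr : r ∈ zmtSet A B') :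
    y * r ∈ zmtSet A B' := by
  refine ⟨hy.mul hr.1, fun x => ?_⟩
  obtain ⟨m, hm⟩ := hr.2 x
  exact ⟨m, by rw [mul_pow, mul_assoc]; exact (hy.pow m).mul hm⟩

theorem exists_mem_zmtSet_sub_one_mem [Algebra.FiniteType A B'] [Algebra.QuasiFinite A B']
    [Module.Finite A (B' ⧸ I.map (algebraMap A B'))] :
    ∃ Δ ∈ zmtSet A B', Δ - 1 ∈ I.map (algebraMap A B') := by
  classical
  set J := I.map (algebraMap A B') with hJ
  let Ac := integralClosure A B'
  let 𝔷 : Ideal Ac :=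
    { carrier := {r | (r : B') ∈ zmtSet A B'}
      add_mem' := fun {a b} ha hb => add_mem_zmtSet ha hb
      zero_mem' := zero_mem_zmtSet
      smul_mem' := fun c r hr => mul_mem_zmtSet c.2 hr }
  let 𝔨 : Ideal Ac := J.comap (algebraMap Ac B')
  by_contra! hcon
  have hne : 𝔷 ⊔ 𝔨 ≠ ⊤ := by
    intro htop
    have h1 : (1 : Ac) ∈ 𝔷 ⊔ 𝔨 := by rw [htop]; trivial
    obtain ⟨z, hz, κ, hκ, hzk⟩ := Submodule.mem_sup.mp h1
    refine hcon z hz ?_
    have h2 : (z : B') + (κ : B') = 1 := congr((↑$hzk : B'))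
    have h3 : (z : B') - 1 = -(κ : B') := by rw [← h2]; ring
    rw [h3]; exact J.neg_mem hκ
  obtain ⟨𝔫, h𝔫max, hle⟩ := Ideal.exists_le_maximal _ hne
  haveI := h𝔫max.isPrime
  haveI : Algebra.IsIntegral A (B' ⧸ J) := inferInstance
  haveI : Algebra.IsIntegral Ac (B' ⧸ J) := Algebra.IsIntegral.tower_top A
  have hker : (⊥ : Ideal (B' ⧸ J)).comap (algebraMap Ac (B' ⧸ J)) ≤ 𝔫 := by
    intro x hx
    apply hle; apply Ideal.mem_sup_right
    have : Ideal.Quotient.mk J (x : B') = 0 := hx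
    exact (Ideal.Quotient.eq_zero_iff_mem (I := J)).mp this
  obtain ⟨Q, -, hQprime, hQ⟩ := Ideal.exists_ideal_over_prime_of_isIntegral 𝔫 _ hker
  let 𝔮 : Ideal B' := Q.comap (Ideal.Quotient.mk J)
  haveI : 𝔮.IsPrime := Ideal.comap_isPrime _ _
  obtain ⟨r, hr𝔮, hrint, hr⟩ :=
    Algebra.zariskisMainProperty_iff.mp (Algebra.ZariskisMainProperty.of_finiteType (R := A) 𝔮)
  have h4 : (⟨r, hrint⟩ : Ac) ∈ 𝔫 := hle (Ideal.mem_sup_left ⟨hrint, hr⟩)
  rw [← hQ] at h4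
  exact hr𝔮 h4

variable {B'} in
theorem exists_finite_subalgebra [Algebra.FiniteType A B'] {Δ : B'} (hΔz : Δ ∈ zmtSet A B') :
    ∃ B₀ : Subalgebra A B', B₀.toSubmodule.FG ∧ Δ ∈ B₀ ∧ ∀ x : B', ∃ N : ℕ, Δ ^ N * x ∈ B₀ := by
  classical
  obtain ⟨hΔint, hΔ⟩ := hΔz
  obtain ⟨s, hs⟩ := Algebra.FiniteType.out (R := A) (A := B')
  choose m hm using hΔ
  set t : Set B' := insert Δ ((fun x => Δ ^ m x * x) '' (s : Set B')) with ht
  have htfin : t.Finite := ((Finset.finite_toSet s).image _).insert Δ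
  have htint : ∀ y ∈ t, IsIntegral A y := by
    intro y hy
    rcases hy with rfl | ⟨x, -, rfl⟩
    · exact hΔint
    · exact hm x
  refine ⟨Algebra.adjoin A t, fg_adjoin_of_finite htfin htint,
    Algebra.subset_adjoin (Set.mem_insert _ _), ?_⟩
  have hΔB : Δ ∈ Algebra.adjoin A t := Algebra.subset_adjoin (Set.mem_insert _ _)
  intro x
  have hx : x ∈ Algebra.adjoin A (s : Set B') := by rw [hs]; exact Algebra.mem_top
  induction hx using Algebra.adjoin_induction with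
  | mem x hx =>
    exact ⟨m x, Algebra.subset_adjoin (Set.mem_insert_of_mem _ ⟨x, hx, rfl⟩)⟩
  | algebraMap a =>
    exact ⟨0, by rw [pow_zero, one_mul]; exact Subalgebra.algebraMap_mem _ a⟩
  | add x y _ _ hx hy =>
    obtain ⟨N₁, h₁⟩ := hx
    obtain ⟨N₂, h₂⟩ := hy
    refine ⟨N₁ + N₂, ?_⟩
    have : Δ ^ (N₁ + N₂) * (x + y) = Δ ^ N₂ * (Δ ^ N₁ * x) + Δ ^ N₁ * (Δ ^ N₂ * y) := by
      rw [pow_add]; ring
    rw [this]
    exact Subalgebra.add_mem _ (Subalgebra.mul_mem _ (Subalgebra.pow_mem _ hΔB _) h₁)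
      (Subalgebra.mul_mem _ (Subalgebra.pow_mem _ hΔB _) h₂)
  | mul x y _ _ hx hy =>
    obtain ⟨N₁, h₁⟩ := hx
    obtain ⟨N₂, h₂⟩ := hy
    refine ⟨N₁ + N₂, ?_⟩
    have : Δ ^ (N₁ + N₂) * (x * y) = (Δ ^ N₁ * x) * (Δ ^ N₂ * y) := by
      rw [pow_add]; ring
    rw [this]
    exact Subalgebra.mul_mem _ h₁ h₂

theorem exists_idem_finite [HenselianRing A I] [Algebra.FiniteType A B'] [Algebra.QuasiFinite A B']
    [Module.Finite A (B' ⧸ I.map (algebraMap A B'))] :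
    ∃ e : B', IsIdempotentElem e ∧ e - 1 ∈ I.map (algebraMap A B') ∧
      Module.Finite A (B' ⧸ Ideal.span {1 - e}) := by
  classical
  obtain ⟨Δ, hΔz, hΔ1⟩ := exists_mem_zmtSet_sub_one_mem I B'
  obtain ⟨B₀, hfg, hΔB₀, hloc⟩ := exists_finite_subalgebra hΔz
  haveI : Module.Finite A B₀ := Module.Finite.iff_fg.mpr hfg
  set J := I.map (algebraMap A B') with hJ
  set J₀ := I.map (algebraMap A B₀) with hJ₀
  let Δ₀ : B₀ := ⟨Δ, hΔB₀⟩
  have hJ₀J : ∀ b : B₀, b ∈ J₀ → (b : B') ∈ J := by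
    intro b hb
    have : J₀.map (B₀.val : B₀ →+* B') ≤ J := by
      rw [hJ₀, Ideal.map_map]
      have : ((B₀.val : B₀ →+* B').comp (algebraMap A B₀)) = algebraMap A B' :=
        RingHom.ext fun a => rfl
      rw [this]
    exact this (Ideal.mem_map_of_mem _ hb)
  -- Fact 3
  have fact3' : ∀ y ∈ J, ∃ N : ℕ, ∃ b₀ : B₀, b₀ ∈ J₀ ∧ (b₀ : B') = Δ ^ N * y := by
    intro y hy
    rw [hJ, Ideal.map] at hy
    induction hy using Submodule.span_induction with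
    | mem y hy =>
      obtain ⟨i, hi, rfl⟩ := hy
      exact ⟨0, algebraMap A B₀ i, Ideal.mem_map_of_mem _ hi, by simp⟩
    | zero => exact ⟨0, 0, J₀.zero_mem, by simp⟩
    | add x y _ _ hx hy =>
      obtain ⟨N₁, b₁, hb₁, h₁⟩ := hx
      obtain ⟨N₂, b₂, hb₂, h₂⟩ := hy
      refine ⟨N₁ + N₂, Δ₀ ^ N₂ * b₁ + Δ₀ ^ N₁ * b₂,
        J₀.add_mem (J₀.mul_mem_left _ hb₁) (J₀.mul_mem_left _ hb₂), ?_⟩
      simp only [Subalgebra.coe_add, Subalgebra.coe_mul, Subalgebra.coe_pow, h₁, h₂, Δ₀]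
      rw [pow_add]; ring
    | smul c y _ hy =>
      obtain ⟨N, b, hb, h⟩ := hy
      obtain ⟨M, hM⟩ := hloc c
      refine ⟨N + M, ⟨Δ ^ M * c, hM⟩ * b, J₀.mul_mem_left _ hb, ?_⟩
      simp only [Subalgebra.coe_mul, h, smul_eq_mul]
      rw [pow_add]; ring
  have fact3 : ∀ b : B₀, (b : B') ∈ J → ∃ N : ℕ, Δ₀ ^ N * b ∈ J₀ := by
    intro b hb
    obtain ⟨N, b₀, hb₀, h⟩ := fact3' _ hb
    refine ⟨N, ?_⟩
    convert hb₀ using 1
    exact Subtype.ext (by simp [h, Δ₀])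
  obtain ⟨N, hN⟩ := fact3 (1 - Δ₀) (by
    have : ((1 - Δ₀ : B₀) : B') = -(Δ - 1) := by simp [Δ₀]
    rw [this]; exact J.neg_mem hΔ1)
  have hNk : ∀ k : ℕ, Δ₀ ^ N * (1 - Δ₀ ^ k) ∈ J₀ := by
    intro k
    induction k with
    | zero => simp
    | succ k ih =>
      have : Δ₀ ^ N * (1 - Δ₀ ^ (k + 1)) = Δ₀ ^ N * (1 - Δ₀ ^ k) + Δ₀ ^ k * (Δ₀ ^ N * (1 - Δ₀)) := by
        ring
      rw [this]; exact J₀.add_mem ih (J₀.mul_mem_left _ hN)
  set c : B₀ := Δ₀ ^ (N + 1) with hc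
  have hcc : c * c - c ∈ J₀ := by
    have : c * c - c = -(Δ₀ * (Δ₀ ^ N * (1 - Δ₀ ^ (N + 1)))) := by rw [hc]; ring
    rw [this]; exact J₀.neg_mem (J₀.mul_mem_left _ (hNk _))
  have hjac : I ≤ Ideal.jacobson ⊥ := HenselianRing.jac
  obtain ⟨e, he, hec⟩ := exists_idempotent_lift_of_finite hjac
    (factorLift_of_henselianRing (I := I)) c hcc
  -- e ≡ 1 mod J
  have he1 : (e : B') - 1 ∈ J := by
    have h1 : ((e - c : B₀) : B') ∈ J := hJ₀J _ hec
    have h2 : (c : B') - 1 ∈ J := by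
      have : (c : B') - 1 = (Δ - 1) * ∑ i ∈ Finset.range (N + 1), Δ ^ i := by
        rw [hc]; simp only [Subalgebra.coe_pow, Δ₀]
        rw [mul_comm, geom_sum_mul]
      rw [this]; exact J.mul_mem_right _ hΔ1
    have : (e : B') - 1 = ((e - c : B₀) : B') + ((c : B') - 1) := by simp
    rw [this]; exact J.add_mem h1 h2
  -- unit
  have hJ₀jac : J₀ ≤ Ideal.jacobson ⊥ := map_le_jacobson_of_isIntegral hjac B₀
  let t : B₀ := c * e + (1 - e)
  have ht1 : t - 1 ∈ J₀ := by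
    have : t - 1 = c * (e - c) + (c * c - c) - (e - c) := by simp only [t]; ring
    rw [this]
    exact J₀.sub_mem (J₀.add_mem (J₀.mul_mem_left _ hec) hcc) hec
  obtain ⟨w, hw⟩ := (isUnit_of_sub_one_mem hJ₀jac ht1).exists_right_inv
  let u : B₀ := Δ₀ ^ N * w
  have hu : Δ₀ * u * e = e := by
    have h1 : t * w * e = e := by rw [hw, one_mul]
    have h2 : t * e = c * e := by
      simp only [t]
      have : (c * e + (1 - e)) * e = c * (e * e) + (e - e * e) := by ring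
      rw [this, he.eq, sub_self, add_zero]
    calc Δ₀ * u * e = (t * e) * w := by rw [h2, hc]; simp only [u]; ring
      _ = t * w * e := by ring
      _ = e := h1
  have huK : ∀ K : ℕ, (Δ₀ * u) ^ K * e = e := by
    intro K
    induction K with
    | zero => simp
    | succ K ih => rw [pow_succ, mul_assoc, hu, ih]
  have hex : ∀ x : B', (e : B') * x ∈ B₀ := by
    intro x
    obtain ⟨K, hK⟩ := hloc x
    have h1 : ((e : B₀) : B') * x = ((u ^ K * e * ⟨Δ ^ K * x, hK⟩ : B₀) : B') := by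
      have h2 := congr((↑$(huK K) : B'))
      simp only [Subalgebra.coe_mul, Subalgebra.coe_pow, Δ₀] at h2 ⊢
      calc (e : B') * x = ((Δ * (u : B')) ^ K * (e : B')) * x := by rw [h2]
        _ = _ := by rw [mul_pow]; ring
    rw [h1]; exact Subtype.mem _
  have he' : IsIdempotentElem (e : B') := by
    have := congr((↑$(he.eq) : B'))
    exact this
  refine ⟨e, he', he1, ?_⟩
  let ψ : B₀ →ₗ[A] (B' ⧸ Ideal.span {1 - (e : B')}) :=
    (Ideal.Quotient.mkₐ A (Ideal.span {1 - (e : B')})).toLinearMap ∘ₗ B₀.val.toLinearMap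
  refine Module.Finite.of_surjective ψ fun y => ?_
  obtain ⟨y, rfl⟩ := Ideal.Quotient.mk_surjective y
  refine ⟨⟨(e : B') * y, hex y⟩, ?_⟩
  show Ideal.Quotient.mk _ ((e : B') * y) = Ideal.Quotient.mk _ y
  rw [Ideal.Quotient.eq, Ideal.mem_span_singleton]
  exact ⟨-y, by ring⟩

theorem tmul_eq_zero_of_mem {y : B'} (hy : y ∈ I.map (algebraMap A B')) :
    (1 : A ⧸ I) ⊗ₜ[A] y = (0 : (A ⧸ I) ⊗[A] B') := by
  rw [Ideal.map] at hy
  induction hy using Submodule.span_induction with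
  | mem y hy =>
    obtain ⟨i, hi, rfl⟩ := hy
    rw [Algebra.algebraMap_eq_smul_one, ← TensorProduct.smul_tmul]
    have : i • (1 : A ⧸ I) = 0 := by
      rw [Algebra.smul_def, mul_one]
      exact Ideal.Quotient.eq_zero_iff_mem.mpr hi
    rw [this, TensorProduct.zero_tmul]
  | zero => simp
  | add x y _ _ hx hy => rw [TensorProduct.tmul_add, hx, hy, add_zero]
  | smul c y _ hy =>
    have : (1 : A ⧸ I) ⊗ₜ[A] (c • y) = ((1 : A ⧸ I) ⊗ₜ[A] c) * ((1 : A ⧸ I) ⊗ₜ[A] y) := by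
      rw [Algebra.TensorProduct.tmul_mul_tmul, one_mul, smul_eq_mul]
    rw [this, hy, mul_zero]

theorem main (A : Type u) [CommRing A] (I : Ideal A) [HenselianRing A I]
    (C : Type u) [CommRing C] [Algebra (A ⧸ I) C] [Module.Finite (A ⧸ I) C]
    [Algebra.Etale (A ⧸ I) C] :
    ∃ (B : Type u) (_ : CommRing B) (_ : Algebra A B), Module.Finite A B ∧ Algebra.Etale A B ∧
      Nonempty (TensorProduct A (A ⧸ I) B ≃ₐ[A ⧸ I] C) := by
  classical
  obtain ⟨B', _, _, hB'et, ⟨ε⟩⟩ := Helper19.EtLift.main A I C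
  haveI : Module.Finite (A ⧸ I) ((A ⧸ I) ⊗[A] B') := Module.Finite.equiv ε.symm.toLinearEquiv
  haveI : Module.Finite A ((A ⧸ I) ⊗[A] B') := Module.Finite.trans (A ⧸ I) _
  haveI : Module.Finite A (B' ⧸ I.map (algebraMap A B')) := by
    let φ : (B' ⧸ I.map (algebraMap A B')) ≃ₗ[A] (A ⧸ I) ⊗[A] B' :=
      ((Algebra.TensorProduct.quotIdealMapEquivTensorQuot B' I).toLinearEquiv.restrictScalars
        A).trans (TensorProduct.comm A B' (A ⧸ I))
    exact Module.Finite.equiv φ.symm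
  obtain ⟨e, he, he1, hfin⟩ := exists_idem_finite I B'
  let B := B' ⧸ Ideal.span {1 - e}
  haveI : IsLocalization.Away e B := IsLocalization.Away.quotient_of_isIdempotentElem he
  haveI : Algebra.Etale B' B := Algebra.Etale.of_isLocalizationAway e
  haveI : Algebra.Etale A B := Algebra.Etale.comp A B' B
  refine ⟨B, inferInstance, inferInstance, hfin, inferInstance, ⟨?_⟩⟩
  have h1e : (1 : A ⧸ I) ⊗ₜ[A] (1 - e) = (0 : (A ⧸ I) ⊗[A] B') := by
    have : 1 - e = -(e - 1) := by ring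
    rw [this]
    exact tmul_eq_zero_of_mem I B' (neg_mem he1)
  let ψ : B →ₐ[A] (A ⧸ I) ⊗[A] B' :=
    Ideal.Quotient.liftₐ _ Algebra.TensorProduct.includeRight (by
      intro x hx
      rw [Ideal.mem_span_singleton] at hx
      obtain ⟨c, rfl⟩ := hx
      rw [map_mul]
      show (1 : A ⧸ I) ⊗ₜ[A] (1 - e) * _ = 0
      rw [h1e, zero_mul])
  let F : (A ⧸ I) ⊗[A] B →ₐ[A ⧸ I] (A ⧸ I) ⊗[A] B' :=
    Algebra.TensorProduct.lift (Algebra.ofId _ _) ψ (fun _ _ => Commute.all _ _)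
  let G : (A ⧸ I) ⊗[A] B' →ₐ[A ⧸ I] (A ⧸ I) ⊗[A] B :=
    Algebra.TensorProduct.map (AlgHom.id _ _) (Ideal.Quotient.mkₐ A _)
  have hψ : ∀ x : B', ψ (Ideal.Quotient.mk _ x) = (1 : A ⧸ I) ⊗ₜ[A] x := fun x => rfl
  have hFG : F.comp G = AlgHom.id _ _ := by
    ext x
    have : ψ ((Ideal.Quotient.mkₐ A (Ideal.span {1 - e})) x) = (1 : A ⧸ I) ⊗ₜ[A] x := hψ x
    simp [F, G, this]
  have hGF : G.comp F = AlgHom.id _ _ := by
    ext x
    obtain ⟨x, rfl⟩ := Ideal.Quotient.mk_surjective x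
    simp [F, G, hψ]
    rfl
  exact (AlgEquiv.ofAlgHom F G hFG hGF).trans ε

end Groth.Agent.Lib.helper19.FinEtLift
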