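import Mathlib

set_option autoImplicit false
set_option linter.style.haveILetI false
universe u

open TensorProduct

namespace Groth.Agent.Lib.Helper19.QFL

/-- "Finite piece" data at a prime `Q₀` of an `R'`-algebra `T`, relative to a prime `p'` of `R'`:
an idempotent `e ∉ Q₀` with `T/(1-e)` finite over `R'`, such that `Q₀` is the only prime of `D(e)`
lying over `p'`. -/
def DQ {R' : Type u} [CommRing R'] (p' : Ideal R') (T : Type u) [CommRing T] [Algebra R' T]
    (Q₀ : Ideal T) : Prop :=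
  ∃ e : T, IsIdempotentElem e ∧ e ∉ Q₀ ∧ Module.Finite R' (T ⧸ Ideal.span {1 - e}) ∧
    ∀ Q : Ideal T, Q.IsPrime → Q.LiesOver p' → e ∉ Q → Q = Q₀

theorem DQ.of_algEquiv {R' : Type u} [CommRing R'] {p' : Ideal R'} {T T' : Type u} [CommRing T]
    [Algebra R' T] [CommRing T'] [Algebra R' T'] (ε : T ≃ₐ[R'] T') {Q₀ : Ideal T}
    (h : DQ p' T Q₀) : DQ p' T' (Q₀.comap ε.symm.toRingHom) := by
  obtain ⟨e, he, heQ, hfin, huniq⟩ := h
  refine ⟨ε e, he.map ε, ?_, ?_, ?_⟩
  · simpa [Ideal.mem_comap] using heQ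
  · have hIJ : Ideal.span {1 - ε e} = (Ideal.span {1 - e}).map (ε : T →+* T') := by
      rw [Ideal.map_span, Set.image_singleton]
      simp
    let f := Ideal.quotientEquivAlg (Ideal.span {1 - e}) (Ideal.span {1 - ε e}) ε hIJ
    exact Module.Finite.equiv f.toLinearEquiv
  · intro Q hQ hQp heQ'
    have h1 : (Q.comap ε.toRingHom).LiesOver p' := by
      constructor
      rw [Ideal.over_def Q p']
      ext r
      simp [Ideal.under_def, Ideal.mem_comap]
    have h2 := huniq (Q.comap ε.toRingHom) (Ideal.comap_isPrime _ _) h1 (by simpa [Ideal.mem_comap] using heQ')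
    rw [← h2]
    ext y
    simp [Ideal.mem_comap]

theorem DQ.baseChange {R' : Type u} [CommRing R'] {p' : Ideal R'} [p'.IsPrime] {T : Type u}
    [CommRing T] [Algebra R' T] {Q₀ : Ideal T} (h : DQ p' T Q₀)
    (R'' : Type u) [CommRing R''] [Algebra R' R''] (p'' : Ideal R'') [p''.IsPrime]
    [p''.LiesOver p']
    (hb : Function.Bijective (Ideal.ResidueField.mapₐ p' p'' (Algebra.ofId _ _) (p''.over_def p')))
    (Q₁ : Ideal (R'' ⊗[R'] T)) [Q₁.IsPrime] [Q₁.LiesOver p'']
    (hQ₁ : Q₁.comap Algebra.TensorProduct.includeRight.toRingHom = Q₀) :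
    DQ p'' (R'' ⊗[R'] T) Q₁ := by
  obtain ⟨e, he, heQ, hfin, huniq⟩ := h
  have hinc : ∀ t : T, (Algebra.TensorProduct.includeRight : T →ₐ[R'] R'' ⊗[R'] T) t = 1 ⊗ₜ t :=
    fun t => rfl
  refine ⟨1 ⊗ₜ e, ?_, ?_, ?_, ?_⟩
  · have := he.map (Algebra.TensorProduct.includeRight : T →ₐ[R'] R'' ⊗[R'] T)
    simpa [hinc] using this
  · intro hmem
    apply heQ
    rw [← hQ₁]
    exact hmem
  · have hIJ : (Ideal.span {1 - e}).map
        (Algebra.TensorProduct.includeRight : T →ₐ[R'] R'' ⊗[R'] T) =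
        Ideal.span {1 - (1 : R'') ⊗ₜ[R'] e} := by
      rw [Ideal.map_span, Set.image_singleton, hinc, TensorProduct.tmul_sub]
      rfl
    let f1 := Algebra.TensorProduct.tensorQuotientEquiv (R := R') R'' T R'' (Ideal.span {1 - e})
    let f2 := Ideal.quotientEquivAlgOfEq R'' hIJ
    haveI : Module.Finite R'' (R'' ⊗[R'] (T ⧸ Ideal.span {1 - e})) := inferInstance
    exact Module.Finite.equiv (f1.trans f2).toLinearEquiv
  · intro Q hQ hQp heQ'
    haveI := hQ
    haveI := hQp
    have h1 : (Q.comap Algebra.TensorProduct.includeRight.toRingHom).LiesOver p' := by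
      constructor
      rw [Ideal.over_def p'' p', Ideal.over_def Q p'']
      ext r
      simp only [Ideal.under_def, Ideal.mem_comap]
      have : (Algebra.TensorProduct.includeRight : T →ₐ[R'] R'' ⊗[R'] T) (algebraMap R' T r) =
          algebraMap R'' (R'' ⊗[R'] T) (algebraMap R' R'' r) := by
        rw [AlgHom.commutes, IsScalarTower.algebraMap_apply R' R'' (R'' ⊗[R'] T)]
      simp only [AlgHom.toRingHom_eq_coe, RingHom.coe_coe, this]
    have h2 := huniq (Q.comap Algebra.TensorProduct.includeRight.toRingHom)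
      (Ideal.comap_isPrime _ _) h1 heQ'
    exact Ideal.eq_of_comap_eq_comap_of_bijective_residueFieldMap hb Q Q₁ (h2.trans hQ₁.symm)

end Groth.Agent.Lib.Helper19.QFL
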