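import Mathlib
import Groth.Agent.Lib.helper19.QFL1

set_option autoImplicit false
set_option linter.style.haveILetI false
universe u

open TensorProduct

namespace Groth.Agent.Lib.Helper19.QFL

theorem finite_quot_of_finite_away {R' T : Type u} [CommRing R'] [CommRing T] [Algebra R' T]
    (e : T) (he : IsIdempotentElem e) (h : Module.Finite R' (Localization.Away e)) :
    Module.Finite R' (T ⧸ Ideal.span {1 - e}) := by
  haveI : IsLocalization.Away e (T ⧸ Ideal.span {1 - e}) :=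
    IsLocalization.away_of_isIdempotentElem he (by simp)
      Ideal.Quotient.mk_surjective
  let f : Localization.Away e ≃ₐ[T] (T ⧸ Ideal.span {1 - e}) :=
    IsLocalization.algEquiv (Submonoid.powers e) _ _
  exact Module.Finite.equiv (f.restrictScalars R').toLinearEquiv

theorem transport (R : Type u) [CommRing R] (R' : Type u) [CommRing R'] [Algebra R R']
    (R'' : Type u) [CommRing R''] [Algebra R' R''] [Algebra R R''] [IsScalarTower R R' R'']
    (A : Type u) [CommRing A] [Algebra R A]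
    (P₂ : Ideal R'') (Q₀ : Ideal (R' ⊗[R] A)) (q : Ideal A)
    (hq : Q₀.comap Algebra.TensorProduct.includeRight.toRingHom = q)
    (Q₁ : Ideal (R'' ⊗[R'] (R' ⊗[R] A))) [Q₁.IsPrime] [Q₁.LiesOver P₂]
    (hQ₁ : Q₁.comap Algebra.TensorProduct.includeRight.toRingHom = Q₀)
    (h : DQ P₂ (R'' ⊗[R'] (R' ⊗[R] A)) Q₁) :
    ∃ (Q : Ideal (R'' ⊗[R] A)) (_ : Q.IsPrime) (_ : Q.LiesOver P₂),
      Q.comap Algebra.TensorProduct.includeRight.toRingHom = q ∧ DQ P₂ (R'' ⊗[R] A) Q := by
  let ε := Algebra.TensorProduct.cancelBaseChange R R' R'' R'' A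
  refine ⟨Q₁.comap ε.symm.toRingHom, Ideal.comap_isPrime _ _, ?_, ?_, h.of_algEquiv ε⟩
  · constructor
    rw [Ideal.over_def Q₁ P₂]
    ext r
    have : ε.symm (r ⊗ₜ[R] (1 : A)) = r ⊗ₜ[R'] ((1 : R') ⊗ₜ[R] (1 : A)) :=
      Algebra.TensorProduct.cancelBaseChange_symm_tmul R R' R'' R'' A r 1
    simp only [Ideal.under_def, Ideal.mem_comap, Algebra.TensorProduct.algebraMap_apply,
      Algebra.algebraMap_self, RingHom.id_apply]
    show _ ↔ ε.symm (r ⊗ₜ[R] (1 : A)) ∈ Q₁
    rw [this]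
    rfl
  · rw [← hq, ← hQ₁]
    ext x
    simp only [Ideal.mem_comap]
    have : ε.symm ((1 : R'') ⊗ₜ[R] x) = (1 : R'') ⊗ₜ[R'] ((1 : R') ⊗ₜ[R] x) :=
      Algebra.TensorProduct.cancelBaseChange_symm_tmul R R' R'' R'' A 1 x
    show ε.symm ((1 : R'') ⊗ₜ[R] x) ∈ Q₁ ↔ _
    rw [this]
    rfl

theorem exists_family_finset {ι : Type} (R : Type u) [CommRing R] (A : ι → Type u)
    [∀ i, CommRing (A i)] [∀ i, Algebra R (A i)] [∀ i, Algebra.FiniteType R (A i)]
    (p : Ideal R) [p.IsPrime] (q : ∀ i, Ideal (A i)) [∀ i, (q i).IsPrime]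
    [∀ i, (q i).LiesOver p] [∀ i, Algebra.QuasiFiniteAt R (q i)] (s : Finset ι) :
    ∃ (R' : Type u) (_ : CommRing R') (_ : Algebra R R') (_ : Algebra.Etale R R')
      (p' : Ideal R') (_ : p'.IsPrime) (_ : p'.LiesOver p),
      Function.Bijective (Ideal.ResidueField.mapₐ p p' (Algebra.ofId _ _) (p'.over_def p)) ∧
      ∀ i ∈ s, ∃ (Q : Ideal (R' ⊗[R] A i)) (_ : Q.IsPrime) (_ : Q.LiesOver p'),
        Q.comap Algebra.TensorProduct.includeRight.toRingHom = q i ∧ DQ p' (R' ⊗[R] A i) Q := by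
  classical
  induction s using Finset.induction_on with
  | empty =>
    refine ⟨R, inferInstance, inferInstance, inferInstance, p, inferInstance, ⟨rfl⟩, ?_,
      fun i hi => absurd hi (Finset.notMem_empty i)⟩
    rw! [Algebra.ofId_self, Ideal.ResidueField.mapₐ_id]
    exact Function.bijective_id
  | insert a s ha ih =>
    obtain ⟨R', _, _, _, p', _, _, hb, h⟩ := ih
    -- the prime of `R' ⊗ A a` over `p'` and `q a`
    let Qa := (Ideal.fiberIsoOfBijectiveResidueField (S := A a) hb).symm ⟨q a, inferInstance,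
      inferInstance⟩
    have hQa : Qa.1.comap Algebra.TensorProduct.includeRight.toRingHom = q a :=
      Ideal.comap_fiberIsoOfBijectiveResidueField_symm hb _
    haveI : Qa.1.IsPrime := Qa.2.1
    haveI : Qa.1.LiesOver p' := Qa.2.2
    haveI : Algebra.QuasiFiniteAt R' Qa.1 :=
      Algebra.QuasiFiniteAt.baseChange (R := R) (q a) Qa.1 hQa.symm
    obtain ⟨R'', _, _, _, P₂, _, _, e, he, P', _, _, hP', heP', hb2, hfin, huniq⟩ :=
      Algebra.exists_etale_isIdempotentElem_forall_liesOver_eq p' Qa.1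
    letI : Algebra R R'' := ((algebraMap R' R'').comp (algebraMap R R')).toAlgebra
    haveI : IsScalarTower R R' R'' := IsScalarTower.of_algebraMap_eq' rfl
    haveI : Algebra.Etale R R'' := Algebra.Etale.comp R R' R''
    haveI : P₂.LiesOver p := Ideal.LiesOver.trans P₂ p' p
    have hb3 : Function.Bijective
        (Ideal.ResidueField.mapₐ p P₂ (Algebra.ofId _ _) (P₂.over_def p)) := by
      convert hb2.comp hb
      rw [← @AlgHom.coe_restrictScalars' R R', ← AlgHom.coe_comp]; congr 1; ext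
    refine ⟨R'', inferInstance, inferInstance, inferInstance, P₂, inferInstance, inferInstance,
      hb3, fun i hi => ?_⟩
    rcases Finset.mem_insert.mp hi with rfl | hi
    · refine transport R R' R'' (A i) P₂ Qa.1 (q i) hQa P' hP' ?_
      exact ⟨e, he, heP', finite_quot_of_finite_away e he hfin,
        fun Q hQ hQp heQ => huniq Q hQ hQp heQ⟩
    · obtain ⟨Q, _, _, hQq, hD⟩ := h i hi
      let Q₁ := (Ideal.fiberIsoOfBijectiveResidueField (S := R' ⊗[R] A i) hb2).symm ⟨Q,
        inferInstance, inferInstance⟩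
      have hQ₁ : Q₁.1.comap Algebra.TensorProduct.includeRight.toRingHom = Q :=
        Ideal.comap_fiberIsoOfBijectiveResidueField_symm hb2 _
      haveI : Q₁.1.IsPrime := Q₁.2.1
      haveI : Q₁.1.LiesOver P₂ := Q₁.2.2
      exact transport R R' R'' (A i) P₂ Q (q i) hQq Q₁.1 hQ₁
        (hD.baseChange R'' P₂ hb2 Q₁.1 hQ₁)

theorem exists_family {ι : Type} [Finite ι] (R : Type u) [CommRing R] (A : ι → Type u)
    [∀ i, CommRing (A i)] [∀ i, Algebra R (A i)] [∀ i, Algebra.FiniteType R (A i)]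
    (p : Ideal R) [p.IsPrime] (q : ∀ i, Ideal (A i)) [∀ i, (q i).IsPrime]
    [∀ i, (q i).LiesOver p] [∀ i, Algebra.QuasiFiniteAt R (q i)] :
    ∃ (R' : Type u) (_ : CommRing R') (_ : Algebra R R') (_ : Algebra.Etale R R')
      (p' : Ideal R') (_ : p'.IsPrime) (_ : p'.LiesOver p),
      Function.Bijective (Ideal.ResidueField.mapₐ p p' (Algebra.ofId _ _) (p'.over_def p)) ∧
      ∀ i, ∃ (Q : Ideal (R' ⊗[R] A i)) (_ : Q.IsPrime) (_ : Q.LiesOver p'),
        Q.comap Algebra.TensorProduct.includeRight.toRingHom = q i ∧ DQ p' (R' ⊗[R] A i) Q := by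
  classical
  haveI := Fintype.ofFinite ι
  obtain ⟨R', h1, h2, h3, p', h4, h5, hb, h⟩ := exists_family_finset R A p q Finset.univ
  exact ⟨R', h1, h2, h3, p', h4, h5, hb, fun i => h i (Finset.mem_univ i)⟩

end Groth.Agent.Lib.Helper19.QFL
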