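import Mathlib
import Groth.Agent.Lib.Helper9.UnivHomeoRing

set_option autoImplicit false
set_option linter.style.haveILetI false
universe u

open AlgebraicGeometry CategoryTheory CategoryTheory.Limits Scheme.Pullback

namespace Groth.Agent.Lib.Helper19.QFL

theorem isIso_residueFieldMap_of_eq {Y S : Scheme.{u}} (g : Y ⟶ S) {y y' : Y} (h : y = y')
    (hiso : IsIso (g.residueFieldMap y)) : IsIso (g.residueFieldMap y') := by
  subst h; exact hiso

theorem isIso_residueFieldMap_comp_fromSpec {S : Scheme.{u}} {S₀ : S.Opens}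
    (hS₀ : IsAffineOpen S₀) {Y : Scheme.{u}} (h : Y ⟶ Spec Γ(S, S₀)) (y : Y)
    (hy : IsIso (h.residueFieldMap y)) : IsIso ((h ≫ hS₀.fromSpec).residueFieldMap y) := by
  rw [Scheme.residueFieldMap_comp]
  have h1 : IsIso (hS₀.fromSpec.residueFieldMap (h y)) := inferInstance
  exact @IsIso.comp_isIso _ _ _ _ _ _ _ h1 hy

/-- Ring-level bijectivity of residue fields gives an iso of scheme-theoretic residue fields. -/
theorem isIso_residueFieldMap_of_bijective {R R' : Type u} [CommRing R] [CommRing R']
    [Algebra R R'] (p : Ideal R) [p.IsPrime] (p' : Ideal R') [p'.IsPrime] [p'.LiesOver p]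
    (h : Function.Bijective (Ideal.ResidueField.mapₐ p p' (Algebra.ofId R R') (p'.over_def p))) :
    IsIso ((Spec.map (CommRingCat.ofHom (algebraMap R R'))).residueFieldMap
      (⟨p', inferInstance⟩ : Spec (CommRingCat.of R'))) := by
  rw [Groth.Agent.Lib.Helper9.UnivHomeoRing.isIso_residueFieldMap_SpecMap_iff]
  obtain rfl : p = p'.comap (algebraMap R R') := p'.over_def p
  exact h

theorem bijective_residueFieldMap_fst_aux {X Y S : Scheme.{u}} {f : X ⟶ S} {g : Y ⟶ S}
    (T : Triplet f g) (p : Spec T.tensor) (hiso : IsIso (g.residueFieldMap T.y)) :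
    Function.Bijective ((pullback.fst f g).residueFieldMap (T.SpecTensorTo p)) := by
  set t' := T.SpecTensorTo p with ht'
  have hy : (pullback.snd f g) t' = T.y := T.snd_SpecTensorTo_apply p
  have hiso' : IsIso (g.residueFieldMap (pullback.snd f g t')) :=
    isIso_residueFieldMap_of_eq g hy.symm hiso
  haveI : IsIso ((S.residueFieldCongr T.hy).inv ≫ g.residueFieldMap T.y) := inferInstance
  haveI : IsIso T.tensorInl := pushout_inl_iso_of_right_iso _ _
  haveI : IsIso ((S.residueFieldCongr (Triplet.ofPoint t').hy).inv ≫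
      g.residueFieldMap (Triplet.ofPoint t').y) := by
    haveI : IsIso (g.residueFieldMap (Triplet.ofPoint t').y) := hiso'
    infer_instance
  have hI2 : IsIso (Triplet.ofPoint t').tensorInl := pushout_inl_iso_of_right_iso _ _
  have hfield : IsField T.tensor :=
    MulEquiv.isField (Field.toIsField _) (asIso T.tensorInl).commRingCatIsoToRingEquiv.symm.toMulEquiv
  letI := hfield.toField
  haveI : p.asIdeal.IsMaximal := by
    rw [Ideal.eq_bot_of_prime p.asIdeal]; exact Ideal.bot_isMaximal
  have key := Triplet.Spec_ofPointTensor_SpecTensorTo T p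
  rw [← Scheme.Spec.map_residueFieldIso_inv_eq_fromSpecResidueField, ← Spec.map_comp,
    ← Spec.map_comp, ← Spec.map_comp] at key
  have key2 := Spec.map_injective key
  have hsurj : Function.Surjective (ofPointTensor t').hom := by
    intro c
    obtain ⟨b, hb⟩ := Ideal.algebraMap_residueField_surjective p.asIdeal
      ((Scheme.Spec.residueFieldIso T.tensor p).hom.hom
        ((Scheme.Hom.residueFieldMap T.SpecTensorTo p).hom c))
    refine ⟨(Triplet.tensorCongr (T.ofPoint_SpecTensorTo p).symm).hom.hom b, ?_⟩
    apply (Scheme.Hom.residueFieldMap T.SpecTensorTo p).hom.injective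
    have h3 := congrArg (fun φ => φ.hom b) key2
    simp only [CommRingCat.hom_comp, RingHom.comp_apply, CommRingCat.hom_ofHom] at h3
    rw [h3, hb]
    have hz : ∀ z, (Scheme.Spec.residueFieldIso T.tensor p).inv.hom
        ((Scheme.Spec.residueFieldIso T.tensor p).hom.hom z) = z := fun z => by
      rw [← RingHom.comp_apply, ← CommRingCat.hom_comp, Iso.hom_inv_id]; rfl
    exact hz _
  have hfac : (pullback.fst f g).residueFieldMap t' =
      (Triplet.ofPoint t').tensorInl ≫ ofPointTensor t' := by
    exact (pushout.inl_desc _ _ _).symm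
  refine ⟨((pullback.fst f g).residueFieldMap t').hom.injective, ?_⟩
  rw [hfac]
  exact hsurj.comp ((ConcreteCategory.isIso_iff_bijective _).mp hI2).2

theorem bijective_residueFieldMap_fst {X Y S : Scheme.{u}} (f : X ⟶ S) (g : Y ⟶ S)
    (t : ↑(pullback f g)) (hiso : IsIso (g.residueFieldMap (pullback.snd f g t))) :
    Function.Bijective ((pullback.fst f g).residueFieldMap t) := by
  have := bijective_residueFieldMap_fst_aux (Triplet.ofPoint t) (SpecOfPoint t) hiso
  rwa [SpecTensorTo_SpecOfPoint] at this

theorem eq_of_fst_eq_of_snd_eq {X Y S : Scheme.{u}} (f : X ⟶ S) (g : Y ⟶ S)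
    (t t' : ↑(pullback f g)) (hiso : IsIso (g.residueFieldMap (pullback.snd f g t')))
    (h1 : pullback.fst f g t = pullback.fst f g t')
    (h2 : pullback.snd f g t = pullback.snd f g t') : t = t' := by
  apply carrierEquiv.injective
  rw [carrierEquiv_eq_iff]
  have e : Triplet.ofPoint t = Triplet.ofPoint t' := Triplet.ext h1 h2
  refine ⟨e, ?_⟩
  set T := Triplet.ofPoint t' with hT
  haveI : IsIso ((S.residueFieldCongr T.hy).inv ≫ g.residueFieldMap T.y) := by
    haveI : IsIso (g.residueFieldMap T.y) := hiso
    infer_instance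
  haveI : IsIso T.tensorInl := pushout_inl_iso_of_right_iso _ _
  have hfield : IsField T.tensor :=
    MulEquiv.isField (Field.toIsField _) (asIso T.tensorInl).commRingCatIsoToRingEquiv.symm.toMulEquiv
  letI := hfield.toField
  haveI : Subsingleton (PrimeSpectrum T.tensor) := inferInstance
  exact Subsingleton.elim (α := PrimeSpectrum T.tensor) _ _

end Groth.Agent.Lib.Helper19.QFL
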