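import Mathlib

set_option autoImplicit false
set_option linter.style.haveILetI false
universe u

namespace Groth.Agent.Lib.Helper19.GraphIdem

open TensorProduct

section Idem

variable {C : Type*} [CommRing C] {T : Type*} [CommRing T] [Algebra C T]

/-- The product decomposition attached to an idempotent. -/
noncomputable def prodEquiv (e : T) (he : IsIdempotentElem e) :
    T ≃ₐ[C] (T ⧸ Ideal.span {1 - e}) × (T ⧸ Ideal.span {e}) :=
  AlgEquiv.ofBijective
    (AlgHom.prod (Ideal.Quotient.mkₐ C (Ideal.span {1 - e})) (Ideal.Quotient.mkₐ C (Ideal.span {e})))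
    (by
      constructor
      · rw [injective_iff_map_eq_zero]
        intro x hx
        have h1 : Ideal.Quotient.mk (Ideal.span {1 - e}) x = 0 := congrArg Prod.fst hx
        have h2 : Ideal.Quotient.mk (Ideal.span {e}) x = 0 := congrArg Prod.snd hx
        rw [Ideal.Quotient.eq_zero_iff_mem, Ideal.mem_span_singleton'] at h1 h2
        obtain ⟨a, ha⟩ := h1
        obtain ⟨b, hb⟩ := h2
        have h3 : e * x = 0 := by
          rw [← ha, mul_comm a, ← mul_assoc, mul_sub, mul_one, he.eq, sub_self, zero_mul]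
        have h4 : e * x = x := by
          rw [← hb, mul_comm b, ← mul_assoc, he.eq]
        rw [← h4, h3]
      · rintro ⟨a, b⟩
        obtain ⟨a, rfl⟩ := Ideal.Quotient.mk_surjective a
        obtain ⟨b, rfl⟩ := Ideal.Quotient.mk_surjective b
        refine ⟨e * a + (1 - e) * b, ?_⟩
        apply Prod.ext
        · show Ideal.Quotient.mk _ (e * a + (1 - e) * b) = Ideal.Quotient.mk _ a
          rw [Ideal.Quotient.eq, Ideal.mem_span_singleton']
          refine ⟨b - a, ?_⟩
          ring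
        · show Ideal.Quotient.mk _ (e * a + (1 - e) * b) = Ideal.Quotient.mk _ b
          rw [Ideal.Quotient.eq, Ideal.mem_span_singleton']
          refine ⟨a - b, ?_⟩
          ring)

theorem prodEquiv_fst (e : T) (he : IsIdempotentElem e) (t : T) :
    (prodEquiv (C := C) e he t).1 = Ideal.Quotient.mk _ t := rfl

end Idem

section Graph

variable {R : Type u} [CommRing R] {S : Type u} [CommRing S] [Algebra R S]
  {C : Type u} [CommRing C] [Algebra R C] (r : S) (φ : C →ₐ[R] Localization.Away r)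

/-- `C ⊗ S → C ⊗ S_r`. -/
noncomputable def lam : C ⊗[R] S →ₐ[R] C ⊗[R] Localization.Away r :=
  Algebra.TensorProduct.map (AlgHom.id R C) (IsScalarTower.toAlgHom R S (Localization.Away r))

/-- `C ⊗ S_r → S_r`. -/
noncomputable def mu : C ⊗[R] Localization.Away r →ₐ[R] Localization.Away r :=
  Algebra.TensorProduct.lift φ (AlgHom.id R _) (fun _ _ => Commute.all _ _)

/-- `C ⊗ S → S_r`. -/
noncomputable def nu : C ⊗[R] S →ₐ[R] Localization.Away r := (mu r φ).comp (lam r)

/-- `C ⊗ C → C ⊗ S_r`. -/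
noncomputable def iota : C ⊗[R] C →ₐ[R] C ⊗[R] Localization.Away r :=
  Algebra.TensorProduct.map (AlgHom.id R C) φ

@[simp] theorem lam_tmul (c : C) (s : S) :
    lam (R := R) r (c ⊗ₜ s) = c ⊗ₜ algebraMap S (Localization.Away r) s := rfl

@[simp] theorem mu_tmul (c : C) (l : Localization.Away r) : mu r φ (c ⊗ₜ l) = φ c * l := by
  simp [mu]

@[simp] theorem nu_tmul (c : C) (s : S) :
    nu r φ (c ⊗ₜ s) = φ c * algebraMap S (Localization.Away r) s := by
  simp [nu]

@[simp] theorem iota_tmul (a b : C) : iota r φ (a ⊗ₜ b) = a ⊗ₜ φ b := rfl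

theorem exists_lam_eq (z : C ⊗[R] Localization.Away r) :
    ∃ (k : ℕ) (t : C ⊗[R] S), lam r t =
      ((1 : C) ⊗ₜ[R] (algebraMap S (Localization.Away r) r)) ^ k * z := by
  induction z using TensorProduct.induction_on with
  | zero => exact ⟨0, 0, by simp⟩
  | tmul c l =>
    obtain ⟨k, s, hs⟩ := IsLocalization.Away.surj r l
    refine ⟨k, c ⊗ₜ s, ?_⟩
    rw [lam_tmul, Algebra.TensorProduct.tmul_pow, one_pow, Algebra.TensorProduct.tmul_mul_tmul,
      one_mul, ← hs, mul_comm]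
  | add z₁ z₂ h₁ h₂ =>
    obtain ⟨k₁, t₁, ht₁⟩ := h₁
    obtain ⟨k₂, t₂, ht₂⟩ := h₂
    refine ⟨k₁ + k₂, ((1 : C) ⊗ₜ[R] r) ^ k₂ * t₁ + ((1 : C) ⊗ₜ[R] r) ^ k₁ * t₂, ?_⟩
    rw [map_add, map_mul, map_mul, ht₁, ht₂, map_pow, map_pow, lam_tmul, mul_add,
      ← mul_assoc, ← mul_assoc, ← pow_add, ← pow_add, add_comm k₂ k₁]

theorem exists_pow_mul_eq_zero (t : C ⊗[R] S) (ht : lam r t = 0) :
    ∃ k : ℕ, ((1 : C) ⊗ₜ[R] r) ^ k * t = 0 := by
  let x : C ⊗[R] S := (1 : C) ⊗ₜ[R] r
  let Tl := Localization.Away x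
  let f₁ : C →ₐ[R] Tl := (IsScalarTower.toAlgHom R (C ⊗[R] S) Tl).comp
    Algebra.TensorProduct.includeLeft
  let f₂ : S →ₐ[R] Tl := (IsScalarTower.toAlgHom R (C ⊗[R] S) Tl).comp
    Algebra.TensorProduct.includeRight
  have hf₂ : ∀ y : Submonoid.powers r, IsUnit (f₂ y) := by
    rintro ⟨_, n, rfl⟩
    show IsUnit (f₂ (r ^ n))
    rw [map_pow]
    apply IsUnit.pow
    exact IsLocalization.map_units Tl (⟨x, Submonoid.mem_powers x⟩ : Submonoid.powers x)
  let g₂ : Localization.Away r →ₐ[R] Tl := IsLocalization.liftAlgHom (M := Submonoid.powers r) hf₂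
  let θ : C ⊗[R] Localization.Away r →ₐ[R] Tl :=
    Algebra.TensorProduct.lift f₁ g₂ (fun _ _ => Commute.all _ _)
  have hθ : θ.comp (lam r) = IsScalarTower.toAlgHom R (C ⊗[R] S) Tl := by
    apply Algebra.TensorProduct.ext'
    intro c s
    show θ (lam r (c ⊗ₜ s)) = algebraMap _ Tl (c ⊗ₜ s)
    rw [lam_tmul]
    show Algebra.TensorProduct.lift f₁ g₂ _ (c ⊗ₜ _) = _
    rw [Algebra.TensorProduct.lift_tmul]
    have : g₂ (algebraMap S (Localization.Away r) s) = f₂ s := by
      show IsLocalization.liftAlgHom hf₂ (algebraMap S (Localization.Away r) s) = _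
      rw [IsLocalization.liftAlgHom_apply, IsLocalization.lift_eq]
      rfl
    rw [this]
    show algebraMap (C ⊗[R] S) Tl (c ⊗ₜ[R] (1 : S)) * algebraMap (C ⊗[R] S) Tl ((1 : C) ⊗ₜ[R] s) = _
    rw [← map_mul, Algebra.TensorProduct.tmul_mul_tmul, one_mul, mul_one]
  have h0 : algebraMap (C ⊗[R] S) Tl t = 0 := by
    have := AlgHom.congr_fun hθ t
    rw [AlgHom.comp_apply, ht, map_zero] at this
    exact this.symm
  obtain ⟨⟨_, k, rfl⟩, hk⟩ := (IsLocalization.map_eq_zero_iff (Submonoid.powers x) Tl t).1 h0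
  exact ⟨k, hk⟩

end Graph

end Groth.Agent.Lib.Helper19.GraphIdem
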