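import Mathlib
import Groth.Agent.Lib.helper19.GraphIdem

set_option autoImplicit false
set_option linter.style.haveILetI false
universe u

namespace Groth.Agent.Lib.Helper19.GraphIdem

open TensorProduct

variable {R : Type u} [CommRing R] {S : Type u} [CommRing S] [Algebra R S]
  {C : Type u} [CommRing C] [Algebra R C] (r : S) (φ : C →ₐ[R] Localization.Away r)

theorem mul_elem [Algebra.FormallyUnramified R C] [Algebra.EssFiniteType R C] (y : C ⊗[R] C) :
    y * Algebra.FormallyUnramified.elem R C =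
      (Algebra.TensorProduct.lmul' R y ⊗ₜ[R] (1 : C)) * Algebra.FormallyUnramified.elem R C := by
  induction y using TensorProduct.induction_on with
  | zero => simp
  | tmul a b =>
    have h1 : a ⊗ₜ[R] b = (a ⊗ₜ[R] (1 : C)) * ((1 : C) ⊗ₜ[R] b) := by
      rw [Algebra.TensorProduct.tmul_mul_tmul, mul_one, one_mul]
    rw [h1, mul_assoc, Algebra.FormallyUnramified.one_tmul_mul_elem, ← mul_assoc,
      Algebra.TensorProduct.tmul_mul_tmul, mul_one, map_mul]
    simp
  | add y₁ y₂ h₁ h₂ =>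
    rw [add_mul, h₁, h₂, map_add, TensorProduct.add_tmul, add_mul]

theorem iota_surjective (hφ : Function.Surjective φ) : Function.Surjective (iota r φ) := by
  intro z
  induction z using TensorProduct.induction_on with
  | zero => exact ⟨0, map_zero _⟩
  | tmul c l =>
    obtain ⟨d, rfl⟩ := hφ l
    exact ⟨c ⊗ₜ d, rfl⟩
  | add z₁ z₂ h₁ h₂ =>
    obtain ⟨y₁, rfl⟩ := h₁
    obtain ⟨y₂, rfl⟩ := h₂
    exact ⟨y₁ + y₂, map_add _ _ _⟩

theorem mu_iota (y : C ⊗[R] C) : mu r φ (iota r φ y) = φ (Algebra.TensorProduct.lmul' R y) := by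
  have : (mu r φ).comp (iota r φ) = φ.comp (Algebra.TensorProduct.lmul' R) := by
    apply Algebra.TensorProduct.ext'
    intro a b
    simp
  exact AlgHom.congr_fun this y

theorem exists_idem [Algebra.FormallyUnramified R C] [Algebra.EssFiniteType R C]
    (hφ : Function.Surjective φ) :
    ∃ e₂ : C ⊗[R] S, IsIdempotentElem e₂ ∧ ∀ y, nu r φ y = 0 ↔ y ∈ Ideal.span {1 - e₂} := by
  classical
  let tΔ := Algebra.FormallyUnramified.elem R C
  let e := iota r φ tΔ
  have E1 : mu r φ e = 1 := by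
    rw [mu_iota, Algebra.FormallyUnramified.lmul_elem, map_one]
  have E2 : ∀ z, mu r φ z = 0 → z * e = 0 := by
    intro z hz
    obtain ⟨y, rfl⟩ := iota_surjective r φ hφ z
    rw [mu_iota] at hz
    show iota r φ y * iota r φ tΔ = 0
    rw [← map_mul, mul_elem, ← Algebra.FormallyUnramified.one_tmul_mul_elem, map_mul, iota_tmul,
      hz, TensorProduct.tmul_zero, zero_mul]
  have Eidem : e * e = e := by
    have h := E2 (1 - e) (by rw [map_sub, map_one, E1, sub_self])
    rw [sub_mul, one_mul, sub_eq_zero] at h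
    exact h.symm
  -- the element `w`
  let u : Localization.Away r := algebraMap S _ r
  have hu : IsUnit u := IsLocalization.Away.algebraMap_isUnit r
  obtain ⟨c₀, hc₀⟩ := hφ (↑hu.unit⁻¹)
  have hc₀u : φ c₀ * u = 1 := by
    rw [hc₀]
    exact hu.val_inv_mul
  let x : C ⊗[R] S := (1 : C) ⊗ₜ[R] r
  let cc : C ⊗[R] S := c₀ ⊗ₜ[R] (1 : S)
  let w : C ⊗[R] S := cc * x
  have hlamx : lam r x = (1 : C) ⊗ₜ[R] u := rfl
  have hlamw : mu r φ (lam r w) = 1 := by
    show mu r φ (lam r (cc * x)) = 1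
    rw [map_mul, map_mul]
    show mu r φ (c₀ ⊗ₜ[R] algebraMap S _ 1) * mu r φ ((1 : C) ⊗ₜ[R] u) = 1
    rw [mu_tmul, mu_tmul, map_one, mul_one, map_one, one_mul, hc₀u]
  have E3 : lam r w * e = e := by
    have h := E2 (lam r w - 1) (by rw [map_sub, map_one, hlamw, sub_self])
    rw [sub_mul, one_mul, sub_eq_zero] at h
    exact h
  have E3' : ∀ k : ℕ, (lam r w) ^ k * e = e := by
    intro k
    induction k with
    | zero => rw [pow_zero, one_mul]
    | succ k ih => rw [pow_succ, mul_assoc, E3, ih]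
  obtain ⟨k, ε, hε⟩ := exists_lam_eq (C := C) r e
  let e₁ : C ⊗[R] S := cc ^ k * ε
  have he₁ : lam r e₁ = e := by
    show lam r (cc ^ k * ε) = e
    rw [map_mul, hε, ← mul_assoc, map_pow, ← hlamx, ← mul_pow, ← map_mul]
    exact E3' k
  have h1 : lam r (e₁ * e₁ - e₁) = 0 := by
    rw [map_sub, map_mul, he₁, Eidem, sub_self]
  have h2 : lam r ((w - 1) * e₁) = 0 := by
    rw [map_mul, map_sub, map_one, he₁, sub_mul, one_mul, E3, sub_self]
  obtain ⟨k₁, hk₁⟩ := exists_pow_mul_eq_zero r _ h1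
  obtain ⟨k₂, hk₂⟩ := exists_pow_mul_eq_zero r _ h2
  let M := k₁ + k₂
  have hwM : ∀ (j : ℕ) (t : C ⊗[R] S), x ^ j * t = 0 → ∀ i, j ≤ i → w ^ i * t = 0 := by
    intro j t ht i hji
    obtain ⟨d, rfl⟩ := Nat.exists_eq_add_of_le hji
    show (cc * x) ^ (j + d) * t = 0
    have : (cc * x) ^ (j + d) * t = cc ^ (j + d) * x ^ d * (x ^ j * t) := by ring
    rw [this, ht, mul_zero]
  have hM1 : w ^ M * (e₁ * e₁ - e₁) = 0 := hwM k₁ _ hk₁ M (Nat.le_add_right _ _)
  have hM2 : w ^ M * ((w - 1) * e₁) = 0 := hwM k₂ _ hk₂ M (Nat.le_add_left _ _)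
  let e₂ : C ⊗[R] S := w ^ M * e₁
  have hwe₂ : w * e₂ = e₂ := by
    have : w * e₂ - e₂ = w ^ M * ((w - 1) * e₁) := by
      show w * (w ^ M * e₁) - w ^ M * e₁ = _
      ring
    rw [← sub_eq_zero, this, hM2]
  have hwe₂' : ∀ j : ℕ, w ^ j * e₂ = e₂ := by
    intro j
    induction j with
    | zero => rw [pow_zero, one_mul]
    | succ j ih => rw [pow_succ, mul_assoc, hwe₂, ih]
  have hM1' : w ^ M * (e₁ * e₁) = w ^ M * e₁ := by
    rw [mul_sub, sub_eq_zero] at hM1
    exact hM1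
  have he₂ : e₂ * e₂ = e₂ := by
    have : e₂ * e₂ = w ^ M * (w ^ M * (e₁ * e₁)) := by
      show w ^ M * e₁ * (w ^ M * e₁) = _
      ring
    rw [this, hM1']
    exact hwe₂' M
  have hlame₂ : lam r e₂ = e := by
    show lam r (w ^ M * e₁) = e
    rw [map_mul, map_pow, he₁]
    exact E3' M
  have hK : ∀ y, nu r φ y = 0 → y * e₂ = 0 := by
    intro y hy
    have h3 : lam r (y * e₂) = 0 := by
      rw [map_mul, hlame₂]
      exact E2 _ hy
    obtain ⟨j, hj⟩ := exists_pow_mul_eq_zero r _ h3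
    have h4 := hwM j _ hj j le_rfl
    calc y * e₂ = y * (w ^ j * e₂) := by rw [hwe₂']
      _ = w ^ j * (y * e₂) := by ring
      _ = 0 := h4
  have hnu1 : nu r φ (1 - e₂) = 0 := by
    show mu r φ (lam r (1 - e₂)) = 0
    rw [map_sub, map_one, hlame₂, map_sub, map_one, E1, sub_self]
  refine ⟨e₂, he₂, fun y => ⟨fun hy => ?_, fun hy => ?_⟩⟩
  · rw [Ideal.mem_span_singleton']
    refine ⟨y, ?_⟩
    rw [mul_sub, mul_one, hK y hy, sub_zero]
  · obtain ⟨a, rfl⟩ := Ideal.mem_span_singleton'.1 hy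
    rw [map_mul, hnu1, mul_zero]

end Groth.Agent.Lib.Helper19.GraphIdem
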