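import Mathlib
import Groth.Agent.Lib.helper19.GraphIdem2

set_option autoImplicit false
set_option linter.style.haveILetI false
universe u

namespace Groth.Agent.Lib.Helper19.GraphIdem

open TensorProduct

theorem main_at (R : Type u) [CommRing R]
    (S : Type u) [CommRing S] [Algebra R S] [Algebra.FiniteType R S] (q : Ideal S) [q.IsPrime]
    [Algebra.IsUnramifiedAt R q] :
    ∃ (R' : Type u) (_ : CommRing R') (_ : Algebra R R') (_ : Algebra.Etale R R') (p' : Ideal R')
      (_ : p'.IsPrime) (_ : p'.LiesOver (q.under R)) (A : Type u) (_ : CommRing A) (_ : Algebra R' A)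
      (B : Type u) (_ : CommRing B) (_ : Algebra R' B) (e : (R' ⊗[R] S) ≃ₐ[R'] (A × B)),
      Function.Surjective (algebraMap R' A) ∧ (p'.map (algebraMap R' A)).IsPrime ∧
        (p'.map (algebraMap R' A)).comap (algebraMap R' A) = p' ∧
        (p'.map (algebraMap R' A)).comap (((RingHom.fst A B).comp e.toRingHom).comp
          (Algebra.TensorProduct.includeRight : S →ₐ[R] R' ⊗[R] S).toRingHom) = q := by
  classical
  obtain ⟨r, hrq, P, φ, hφ⟩ :=
    Algebra.IsUnramifiedAt.exists_hasStandardEtaleSurjectionOn (R := R) q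
  let C := P.Ring
  let L := Localization.Away r
  obtain ⟨e₂, he₂, hker⟩ := exists_idem r φ hφ
  let T := C ⊗[R] S
  let A := T ⧸ Ideal.span {1 - e₂}
  let B := T ⧸ Ideal.span {e₂}
  let eqv : T ≃ₐ[C] A × B := prodEquiv (C := C) e₂ he₂
  have hdisj : Disjoint (Submonoid.powers r : Set S) (q : Set S) := by
    rw [Set.disjoint_left]
    rintro _ ⟨n, rfl⟩ hn
    exact hrq (Ideal.IsPrime.mem_of_pow_mem ‹_› n hn)
  let Q : Ideal L := q.map (algebraMap S L)
  haveI hQ : Q.IsPrime := IsLocalization.isPrime_of_isPrime_disjoint (Submonoid.powers r) L q ‹_› hdisj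
  have hQcomap : Q.comap (algebraMap S L) = q :=
    IsLocalization.comap_map_of_isPrime_disjoint (Submonoid.powers r) L ‹_› hdisj
  let p' : Ideal C := Q.comap (φ : C →+* L)
  haveI hp' : p'.IsPrime := Ideal.comap_isPrime _ _
  have hp'over : p'.LiesOver (q.under R) := by
    constructor
    ext x
    rw [Ideal.under, Ideal.mem_comap, Ideal.under, Ideal.mem_comap]
    show _ ↔ φ (algebraMap R C x) ∈ Q
    rw [φ.commutes, IsScalarTower.algebraMap_apply R S L]
    have : algebraMap S L (algebraMap R S x) ∈ Q ↔ algebraMap R S x ∈ Q.comap (algebraMap S L) :=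
      Iff.rfl
    rw [this, hQcomap]
  have hmk : ∀ c : C, algebraMap C A c = Ideal.Quotient.mk _ (c ⊗ₜ[R] (1 : S)) := fun c => rfl
  have hmkeq : ∀ t t' : T, Ideal.Quotient.mk (Ideal.span {1 - e₂}) t = Ideal.Quotient.mk _ t' ↔
      nu r φ t = nu r φ t' := by
    intro t t'
    rw [Ideal.Quotient.eq, ← hker, map_sub, sub_eq_zero]
  have hsurj : Function.Surjective (algebraMap C A) := by
    intro a
    obtain ⟨t, rfl⟩ := Ideal.Quotient.mk_surjective a
    obtain ⟨c, hc⟩ := hφ (nu r φ t)
    refine ⟨c, ?_⟩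
    rw [hmk, hmkeq, nu_tmul, map_one, mul_one, hc]
  have hkerle : RingHom.ker (algebraMap C A) ≤ p' := by
    intro c hc
    rw [RingHom.mem_ker, hmk] at hc
    have h0 : Ideal.Quotient.mk (Ideal.span {1 - e₂}) (c ⊗ₜ[R] (1 : S)) = Ideal.Quotient.mk _ 0 := by
      rw [hc, map_zero]
    rw [hmkeq, nu_tmul, map_one, mul_one, map_zero] at h0
    show φ c ∈ Q
    rw [h0]
    exact zero_mem _
  refine ⟨C, inferInstance, inferInstance, inferInstance, p', hp', hp'over, A, inferInstance,
    inferInstance, B, inferInstance, inferInstance, eqv, hsurj,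
    Ideal.map_isPrime_of_surjective hsurj hkerle, ?_, ?_⟩
  · rw [Ideal.comap_map_of_surjective _ hsurj, sup_eq_left]
    exact hkerle
  · ext s
    rw [Ideal.mem_comap]
    show (eqv ((1 : C) ⊗ₜ[R] s)).1 ∈ _ ↔ _
    rw [prodEquiv_fst, Ideal.mem_map_iff_of_surjective _ hsurj]
    constructor
    · rintro ⟨c, hc, hcs⟩
      rw [hmk, hmkeq, nu_tmul, nu_tmul, map_one, mul_one, map_one, one_mul] at hcs
      rw [← hQcomap, Ideal.mem_comap, ← hcs]
      exact hc
    · intro hs
      have hsQ : algebraMap S L s ∈ Q := by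
        rw [← hQcomap] at hs
        exact hs
      obtain ⟨c, hc⟩ := hφ (algebraMap S L s)
      refine ⟨c, ?_, ?_⟩
      · show φ c ∈ Q
        rw [hc]
        exact hsQ
      · rw [hmk, hmkeq, nu_tmul, nu_tmul, map_one, mul_one, map_one, one_mul, hc]

end Groth.Agent.Lib.Helper19.GraphIdem
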