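import Mathlib

set_option autoImplicit false
set_option linter.style.haveILetI false
universe u

namespace Groth.Agent.Lib.Helper19.UnramProd

open TensorProduct

section Fdim

variable (R : Type u) [CommRing R] (S : Type u) [CommRing S] [Algebra R S]
  (R₁ : Type u) [CommRing R₁] [Algebra R R₁]
  (p : Ideal R) [p.IsPrime] (p₁ : Ideal R₁) [p₁.IsPrime] [p₁.LiesOver p]

theorem finrank_fiber_baseChange :
    Module.finrank p₁.ResidueField (p₁.ResidueField ⊗[R₁] (R₁ ⊗[R] S)) =
      Module.finrank p.ResidueField (p.ResidueField ⊗[R] S) := by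
  letI : Algebra p.ResidueField p₁.ResidueField :=
    (Ideal.ResidueField.map p p₁ (algebraMap R R₁) (p₁.over_def p)).toAlgebra
  haveI : IsScalarTower R p.ResidueField p₁.ResidueField := .of_algebraMap_eq fun r => by
    rw [RingHom.algebraMap_toAlgebra, Ideal.ResidueField.map_algebraMap,
      ← IsScalarTower.algebraMap_apply]
  let e1 : p₁.ResidueField ⊗[R₁] (R₁ ⊗[R] S) ≃ₗ[p₁.ResidueField] p₁.ResidueField ⊗[R] S :=
    TensorProduct.AlgebraTensorModule.cancelBaseChange R R₁ p₁.ResidueField p₁.ResidueField S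
  let e2 : p₁.ResidueField ⊗[p.ResidueField] (p.ResidueField ⊗[R] S) ≃ₗ[p₁.ResidueField]
      p₁.ResidueField ⊗[R] S :=
    TensorProduct.AlgebraTensorModule.cancelBaseChange R p.ResidueField p₁.ResidueField
      p₁.ResidueField S
  rw [e1.finrank_eq, ← e2.finrank_eq, Module.finrank_baseChange]

end Fdim

section Split

variable (R : Type u) [CommRing R] (p : Ideal R) [p.IsPrime] (I : Ideal R) (hI : I ≤ p)
  (B T : Type u) [CommRing B] [Algebra R B] [CommRing T] [Algebra R T]
  [Module.Finite p.ResidueField (p.ResidueField ⊗[R] B)]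

include hI in
theorem nontrivial_fiber_quot : Nontrivial (p.ResidueField ⊗[R] (R ⧸ I)) := by
  rw [PrimeSpectrum.nontrivial_iff_mem_rangeComap ⟨p, inferInstance⟩]
  have hker : RingHom.ker (Ideal.Quotient.mk I) ≤ p := by rwa [Ideal.mk_ker]
  haveI : (p.map (Ideal.Quotient.mk I)).IsPrime :=
    Ideal.map_isPrime_of_surjective Ideal.Quotient.mk_surjective hker
  refine ⟨⟨p.map (Ideal.Quotient.mk I), inferInstance⟩, ?_⟩
  ext1
  show (p.map (Ideal.Quotient.mk I)).comap (algebraMap R (R ⧸ I)) = p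
  rw [Ideal.Quotient.algebraMap_eq, Ideal.comap_map_of_surjective _ Ideal.Quotient.mk_surjective,
    ← RingHom.ker_eq_comap_bot, Ideal.mk_ker, sup_eq_left]
  exact hI

include hI in
theorem finrank_lt (e : T ≃ₐ[R] (R ⧸ I) × B) :
    Module.finrank p.ResidueField (p.ResidueField ⊗[R] B) <
      Module.finrank p.ResidueField (p.ResidueField ⊗[R] T) := by
  let e1 : p.ResidueField ⊗[R] T ≃ₗ[p.ResidueField] p.ResidueField ⊗[R] ((R ⧸ I) × B) :=
    TensorProduct.AlgebraTensorModule.congr (LinearEquiv.refl _ _) e.toLinearEquiv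
  let e2 : p.ResidueField ⊗[R] ((R ⧸ I) × B) ≃ₗ[p.ResidueField]
      (p.ResidueField ⊗[R] (R ⧸ I)) × (p.ResidueField ⊗[R] B) :=
    TensorProduct.prodRight R p.ResidueField p.ResidueField (R ⧸ I) B
  haveI := nontrivial_fiber_quot R p I hI
  rw [e1.finrank_eq, e2.finrank_eq, Module.finrank_prod]
  have : 0 < Module.finrank p.ResidueField (p.ResidueField ⊗[R] (R ⧸ I)) := Module.finrank_pos
  omega

end Split

end Groth.Agent.Lib.Helper19.UnramProd
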