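import Mathlib
import Groth.Agent.Lib.helper19.UnramProd1
import Groth.Agent.Lib.helper19.GraphIdem3

set_option autoImplicit false
set_option linter.style.haveILetI false
universe u

namespace Groth.Agent.Lib.Helper19.UnramProd

open TensorProduct

section AlgEquivs

/-- Associativity of binary products of algebras. -/
def prodAssocAlgEquiv (R X Y Z : Type*) [CommSemiring R] [Semiring X] [Semiring Y] [Semiring Z]
    [Algebra R X] [Algebra R Y] [Algebra R Z] : (X × (Y × Z)) ≃ₐ[R] ((X × Y) × Z) where
  toFun x := ((x.1, x.2.1), x.2.2)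
  invFun x := (x.1.1, (x.1.2, x.2))
  left_inv _ := rfl
  right_inv _ := rfl
  map_mul' _ _ := rfl
  map_add' _ _ := rfl
  commutes' _ := rfl

/-- Splitting off the first factor of a product over `Fin (n+1)`. -/
def piFinSuccAlgEquiv (R : Type*) [CommSemiring R] {n : ℕ} (α : Fin (n + 1) → Type*)
    [∀ i, Semiring (α i)] [∀ i, Algebra R (α i)] :
    (∀ i, α i) ≃ₐ[R] (α 0 × ∀ i : Fin n, α i.succ) where
  toFun f := (f 0, fun i => f i.succ)
  invFun x := Fin.cons x.1 x.2
  left_inv f := by
    funext i
    refine Fin.cases ?_ (fun j => ?_) i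
    · rfl
    · rfl
  right_inv x := rfl
  map_mul' _ _ := rfl
  map_add' _ _ := rfl
  commutes' _ := rfl

end AlgEquivs

/-- Inductive conclusion. -/
def Q (R : Type u) [CommRing R] (S : Type u) [CommRing S] [Algebra R S] (p : Ideal R) : Prop :=
  ∃ (R' : Type u) (_ : CommRing R') (_ : Algebra R R') (_ : Algebra.Etale R R') (p' : Ideal R')
    (_ : p'.IsPrime) (_ : p'.LiesOver p) (n : ℕ) (I : Fin n → Ideal R') (B : Type u)
    (_ : CommRing B) (_ : Algebra R' B),
    Nonempty ((R' ⊗[R] S) ≃ₐ[R'] ((∀ i, R' ⧸ I i) × B)) ∧ (∀ i, I i ≤ p') ∧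
      ∀ (q : Ideal B) [q.IsPrime], q.comap (algebraMap R' B) ≠ p'

theorem Q_base (R : Type u) [CommRing R] (S : Type u) [CommRing S] [Algebra R S] (p : Ideal R)
    [p.IsPrime] (h : ¬ ∃ q : Ideal S, q.IsPrime ∧ q.comap (algebraMap R S) = p) : Q R S p := by
  refine ⟨R, inferInstance, inferInstance, inferInstance, p, inferInstance, ⟨rfl⟩, 0,
    Fin.elim0, S, inferInstance, inferInstance, ⟨?_⟩, fun i => i.elim0, fun q hq hqp =>
      h ⟨q, hq, hqp⟩⟩
  refine (Algebra.TensorProduct.lid R S).trans ?_
  exact
    { toFun := fun s => (fun i => i.elim0, s)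
      invFun := fun x => x.2
      left_inv := fun _ => rfl
      right_inv := fun x => by
        ext i
        · exact i.elim0
        · rfl
      map_mul' := fun _ _ => by
        ext i
        · exact i.elim0
        · rfl
      map_add' := fun _ _ => by
        ext i
        · exact i.elim0
        · rfl
      commutes' := fun _ => by
        ext i
        · exact i.elim0
        · rfl }

end Groth.Agent.Lib.Helper19.UnramProd
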