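import Mathlib
import Groth.Agent.Lib.helper19.UnramProd2

set_option autoImplicit false
set_option linter.style.haveILetI false
universe u

namespace Groth.Agent.Lib.Helper19.UnramProd

open TensorProduct

theorem Q_step (R : Type u) [CommRing R] (S : Type u) [CommRing S] [Algebra R S] (p : Ideal R)
    [p.IsPrime] (R₁ : Type u) [CommRing R₁] [Algebra R R₁] [Algebra.Etale R R₁] (p₁ : Ideal R₁)
    [p₁.IsPrime] [p₁.LiesOver p] (I₀ : Ideal R₁) (hI₀ : I₀ ≤ p₁) (B₁ : Type u) [CommRing B₁]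
    [Algebra R₁ B₁] (e₁ : R₁ ⊗[R] S ≃ₐ[R₁] (R₁ ⧸ I₀) × B₁) (h : Q R₁ B₁ p₁) : Q R S p := by
  obtain ⟨R₂, _, _, _, p₂, _, _, n, I, B, _, _, ⟨e₂⟩, hI, hB⟩ := h
  letI : Algebra R R₂ := ((algebraMap R₁ R₂).comp (algebraMap R R₁)).toAlgebra
  haveI : IsScalarTower R R₁ R₂ := .of_algebraMap_eq (fun _ => rfl)
  haveI : Algebra.Etale R R₂ := Algebra.Etale.comp R R₁ R₂
  haveI : p₂.LiesOver p := Ideal.LiesOver.trans p₂ p₁ p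
  let I' : Fin (n + 1) → Ideal R₂ := Fin.cons (I₀.map (algebraMap R₁ R₂)) I
  refine ⟨R₂, inferInstance, inferInstance, inferInstance, p₂, inferInstance, inferInstance,
    n + 1, I', B, inferInstance, inferInstance, ⟨?_⟩, ?_, hB⟩
  · let f1 : R₂ ⊗[R] S ≃ₐ[R₂] R₂ ⊗[R₁] (R₁ ⊗[R] S) :=
      (Algebra.TensorProduct.cancelBaseChange R R₁ R₂ R₂ S).symm
    let f2 : R₂ ⊗[R₁] (R₁ ⊗[R] S) ≃ₐ[R₂] R₂ ⊗[R₁] ((R₁ ⧸ I₀) × B₁) :=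
      Algebra.TensorProduct.congr AlgEquiv.refl e₁
    let f3 : R₂ ⊗[R₁] ((R₁ ⧸ I₀) × B₁) ≃ₐ[R₂] ((R₂ ⊗[R₁] (R₁ ⧸ I₀)) × (R₂ ⊗[R₁] B₁)) :=
      Algebra.TensorProduct.prodRight R₁ R₂ R₂ _ _
    let f4 : ((R₂ ⊗[R₁] (R₁ ⧸ I₀)) × (R₂ ⊗[R₁] B₁)) ≃ₐ[R₂]
        ((R₂ ⧸ I₀.map (algebraMap R₁ R₂)) × ((∀ i, R₂ ⧸ I i) × B)) :=
      AlgEquiv.prodCongr (Algebra.TensorProduct.quotIdealMapEquivTensorQuot R₂ I₀).symm e₂
    let f5 := prodAssocAlgEquiv R₂ (R₂ ⧸ I₀.map (algebraMap R₁ R₂)) (∀ i, R₂ ⧸ I i) B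
    let f6 : (((R₂ ⧸ I₀.map (algebraMap R₁ R₂)) × (∀ i, R₂ ⧸ I i)) × B) ≃ₐ[R₂]
        ((∀ i, R₂ ⧸ I' i) × B) :=
      AlgEquiv.prodCongr (piFinSuccAlgEquiv R₂ (fun i => R₂ ⧸ I' i)).symm AlgEquiv.refl
    exact f1.trans (f2.trans (f3.trans (f4.trans (f5.trans f6))))
  · intro i
    refine Fin.cases ?_ (fun j => ?_) i
    · show I₀.map (algebraMap R₁ R₂) ≤ p₂
      rw [Ideal.map_le_iff_le_comap, ← Ideal.under_def, ← Ideal.over_def p₂ p₁]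
      exact hI₀
    · exact hI j

end Groth.Agent.Lib.Helper19.UnramProd
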