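import Mathlib
import Groth.Agent.Lib.helper19.UnramProd3

set_option autoImplicit false
set_option linter.style.haveILetI false
universe u

namespace Groth.Agent.Lib.Helper19.UnramProd

open TensorProduct

theorem Q_of_unramified : ∀ (d : ℕ) (R : Type u) [CommRing R] (S : Type u) [CommRing S]
    [Algebra R S] [Algebra.Unramified R S] (p : Ideal R) [p.IsPrime],
    Module.finrank p.ResidueField (p.ResidueField ⊗[R] S) = d → Q R S p := by
  intro d
  induction d using Nat.strong_induction_on with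
  | _ d ih =>
    intro R _ S _ _ _ p _ hd
    by_cases hq : ∃ q : Ideal S, q.IsPrime ∧ q.comap (algebraMap R S) = p
    · obtain ⟨q, hqp, hqc⟩ := hq
      haveI : Algebra.IsUnramifiedAt R q := inferInstance
      obtain ⟨R₁, _, _, _, p₁, _, hlo, A, _, _, B₁, _, _, e, hsurj, hprime, hcomap, -⟩ :=
        GraphIdem.main_at R S q
      haveI : p₁.LiesOver p := by
        rw [← hqc]; exact hlo
      let f : R₁ →ₐ[R₁] A := Algebra.ofId R₁ A
      have hf : Function.Surjective f := hsurj
      let I₀ : Ideal R₁ := RingHom.ker f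
      have hI₀ : I₀ ≤ p₁ := by
        intro x hx
        rw [← hcomap, Ideal.mem_comap]
        have : algebraMap R₁ A x = 0 := hx
        rw [this]
        exact Ideal.zero_mem _
      let eA : (R₁ ⧸ I₀) ≃ₐ[R₁] A := Ideal.quotientKerAlgEquivOfSurjective hf
      let e₁ : R₁ ⊗[R] S ≃ₐ[R₁] ((R₁ ⧸ I₀) × B₁) :=
        e.trans (AlgEquiv.prodCongr eA.symm AlgEquiv.refl)
      -- `B₁` is unramified over `R₁`
      let g : R₁ ⊗[R] S →ₐ[R₁] B₁ := (AlgHom.snd R₁ (R₁ ⧸ I₀) B₁).comp e₁.toAlgHom
      have hg : Function.Surjective g := by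
        intro b
        refine ⟨e₁.symm (0, b), ?_⟩
        show ((e₁ (e₁.symm (0, b))) : (R₁ ⧸ I₀) × B₁).2 = b
        rw [AlgEquiv.apply_symm_apply]
      haveI : Algebra.FormallyUnramified R₁ B₁ := Algebra.FormallyUnramified.of_surjective g hg
      haveI : Algebra.FiniteType R₁ B₁ := Algebra.FiniteType.of_surjective g hg
      haveI : Algebra.Unramified R₁ B₁ := {}
      have hlt : Module.finrank p₁.ResidueField (p₁.ResidueField ⊗[R₁] B₁) < d := by
        rw [← hd, ← finrank_fiber_baseChange R S R₁ p p₁]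
        exact finrank_lt R₁ p₁ I₀ hI₀ B₁ (R₁ ⊗[R] S) e₁
      exact Q_step R S p R₁ p₁ I₀ hI₀ B₁ e₁ (ih _ hlt R₁ B₁ p₁ rfl)
    · exact Q_base R S p hq

theorem main (R : Type u) [CommRing R]
    (S : Type u) [CommRing S] [Algebra R S] [Algebra.Unramified R S] (p : Ideal R) [p.IsPrime] :
    ∃ (R' : Type u) (_ : CommRing R') (_ : Algebra R R') (_ : Algebra.Etale R R') (p' : Ideal R')
      (_ : p'.IsPrime) (_ : p'.LiesOver p) (n : ℕ) (A : Fin n → Type u) (_ : ∀ i, CommRing (A i))
      (_ : ∀ i, Algebra R' (A i)) (B : Type u) (_ : CommRing B) (_ : Algebra R' B),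
      Nonempty ((R' ⊗[R] S) ≃ₐ[R'] ((∀ i, A i) × B)) ∧
        (∀ i, Function.Surjective (algebraMap R' (A i)) ∧
          (p'.map (algebraMap R' (A i))).IsPrime ∧
          (p'.map (algebraMap R' (A i))).comap (algebraMap R' (A i)) = p') ∧
        ∀ (q : Ideal B) [q.IsPrime], q.comap (algebraMap R' B) ≠ p' := by
  obtain ⟨R', _, _, _, p', _, _, n, I, B, _, _, he, hI, hB⟩ := Q_of_unramified _ R S p rfl
  refine ⟨R', inferInstance, inferInstance, inferInstance, p', inferInstance, inferInstance, n,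
    fun i => R' ⧸ I i, fun i => inferInstance, fun i => inferInstance, B, inferInstance,
    inferInstance, he, fun i => ?_, hB⟩
  have hker : RingHom.ker (Ideal.Quotient.mk (I i)) ≤ p' := by rw [Ideal.mk_ker]; exact hI i
  refine ⟨Ideal.Quotient.mk_surjective, ?_, ?_⟩
  · rw [Ideal.Quotient.algebraMap_eq]
    exact Ideal.map_isPrime_of_surjective Ideal.Quotient.mk_surjective hker
  · rw [Ideal.Quotient.algebraMap_eq,
      Ideal.comap_map_of_surjective _ Ideal.Quotient.mk_surjective,
      ← RingHom.ker_eq_comap_bot, Ideal.mk_ker, sup_eq_left]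
    exact hI i

end Groth.Agent.Lib.Helper19.UnramProd
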