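import Mathlib
import Groth.Agent.Lib.helper19.UnramProd4

set_option autoImplicit false
set_option linter.style.haveILetI false
universe u

namespace Groth.Agent.Lib.Helper19.FinEtTriv

open TensorProduct

section Aux

variable {R : Type*} [CommRing R]

/-- A projective cyclic quotient `R ⧸ I` gives an element `g` with `1 - g ∈ I` killing `I`. -/
theorem exists_kill_of_projective (I : Ideal R) [Module.Projective R (R ⧸ I)] :
    ∃ g : R, 1 - g ∈ I ∧ ∀ x ∈ I, g * x = 0 := by
  obtain ⟨s, hs⟩ := Module.projective_lifting_property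
    (Submodule.mkQ I : R →ₗ[R] R ⧸ I) LinearMap.id (Submodule.mkQ_surjective I)
  have hs' : ∀ y, Submodule.mkQ I (s y) = y := fun y => congr($hs y)
  refine ⟨s 1, ?_, ?_⟩
  · have h1 : Submodule.mkQ I (1 - s 1) = 0 := by
      rw [map_sub, hs']
      exact sub_self _
    rw [Submodule.mkQ_apply, Submodule.Quotient.mk_eq_zero] at h1
    exact h1
  · intro x hx
    have h1 : (Submodule.Quotient.mk x : R ⧸ I) = 0 := (Submodule.Quotient.mk_eq_zero I).mpr hx
    have h2 : x • (1 : R ⧸ I) = 0 := by
      rw [← h1, Algebra.smul_def, mul_one]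
      rfl
    have h3 : s (x • (1 : R ⧸ I)) = x • s 1 := map_smul s x 1
    rw [h2, map_zero, smul_eq_mul] at h3
    rw [mul_comm, ← h3]

end Aux

end Groth.Agent.Lib.Helper19.FinEtTriv
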