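import Mathlib
import Groth.Agent.Lib.helper19.FinEtTriv1

set_option autoImplicit false
set_option linter.style.haveILetI false
universe u

namespace Groth.Agent.Lib.Helper19.FinEtTriv

open TensorProduct

section Pieces

variable {R' : Type u} [CommRing R'] {n : ℕ} (I : Fin n → Ideal R') (B : Type u) [CommRing B]
  [Algebra R' B] (T : Type u) [CommRing T] [Algebra R' T]
  (e : T ≃ₐ[R'] ((∀ i, R' ⧸ I i) × B))

include e in
theorem projective_quotient [Module.Projective R' T] (i : Fin n) :
    Module.Projective R' (R' ⧸ I i) := by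
  classical
  let π : T →ₗ[R'] R' ⧸ I i :=
    (LinearMap.proj i).comp ((LinearMap.fst R' (∀ i, R' ⧸ I i) B).comp e.toLinearMap)
  let ι : R' ⧸ I i →ₗ[R'] T :=
    e.symm.toLinearMap.comp ((LinearMap.inl R' (∀ i, R' ⧸ I i) B).comp
      (LinearMap.single R' (fun i => R' ⧸ I i) i))
  refine Module.Projective.of_split ι π ?_
  ext x
  simp [π, ι]

include e in
theorem finite_B [Module.Finite R' T] : Module.Finite R' B :=
  Module.Finite.of_surjective
    ((LinearMap.snd R' (∀ i, R' ⧸ I i) B).comp e.toLinearMap)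
    (Prod.snd_surjective.comp e.surjective)

end Pieces

theorem exists_kill_B {R' : Type u} [CommRing R'] (B : Type u) [CommRing B] [Algebra R' B]
    [Module.Finite R' B] (p' : Ideal R') [p'.IsPrime]
    (hB : ∀ (q : Ideal B) [q.IsPrime], q.comap (algebraMap R' B) ≠ p') :
    ∃ g : R', g ∉ p' ∧ algebraMap R' B g = 0 := by
  by_contra hcon
  push_neg at hcon
  have hker : RingHom.ker (algebraMap R' B) ≤ p' := by
    intro g hg
    by_contra hgp
    exact hcon g hgp hg
  haveI : Algebra.IsIntegral R' B := Algebra.IsIntegral.of_finite R' B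
  obtain ⟨Q, -, hQ, hQc⟩ := Ideal.exists_ideal_over_prime_of_isIntegral p' (⊥ : Ideal B)
    (by rwa [← RingHom.ker_eq_comap_bot])
  exact hB Q hQc

end Groth.Agent.Lib.Helper19.FinEtTriv
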