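import Mathlib
import Groth.Agent.Lib.helper19.FinEtTriv2

set_option autoImplicit false
set_option linter.style.haveILetI false
universe u

namespace Groth.Agent.Lib.Helper19.FinEtTriv

open TensorProduct

section Local

variable {R' : Type u} [CommRing R'] (g : R')

/-- If `g` kills `I`, then `R'_g ⊗ R'/I ≃ R'_g`. -/
noncomputable def tensorQuotEquiv (I : Ideal R') (x : R') (hx : ∀ y ∈ I, x * y = 0)
    (hxg : x ∣ g) :
    (Localization.Away g) ⊗[R'] (R' ⧸ I) ≃ₐ[Localization.Away g] Localization.Away g := by
  have hbot : I.map (algebraMap R' (Localization.Away g)) = ⊥ := by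
    rw [Ideal.map_eq_bot_iff_le_ker]
    intro y hy
    rw [RingHom.mem_ker, IsLocalization.map_eq_zero_iff (Submonoid.powers g)]
    obtain ⟨c, rfl⟩ := hxg
    refine ⟨⟨x * c, Submonoid.mem_powers _⟩, ?_⟩
    show x * c * y = 0
    rw [mul_right_comm, hx y hy, zero_mul]
  have hbij : Function.Bijective (Ideal.Quotient.mkₐ (Localization.Away g)
      (I.map (algebraMap R' (Localization.Away g)))) := by
    refine ⟨?_, Ideal.Quotient.mk_surjective⟩
    rw [← AlgHom.coe_toRingHom, RingHom.injective_iff_ker_eq_bot]
    show RingHom.ker (Ideal.Quotient.mk _) = ⊥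
    rw [Ideal.mk_ker, hbot]
  exact ((AlgEquiv.ofBijective _ hbij).trans
    (Algebra.TensorProduct.quotIdealMapEquivTensorQuot (Localization.Away g) I)).symm

theorem subsingleton_tensor (B : Type u) [CommRing B] [Algebra R' B] (x : R')
    (hx : algebraMap R' B x = 0) (hxg : x ∣ g) :
    Subsingleton ((Localization.Away g) ⊗[R'] B) := by
  have hg0 : algebraMap R' B g = 0 := by
    obtain ⟨c, rfl⟩ := hxg
    rw [map_mul, hx, zero_mul]
  have hu : IsUnit (algebraMap R' (Localization.Away g) g) :=
    IsLocalization.Away.algebraMap_isUnit g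
  refine subsingleton_of_zero_eq_one ?_
  have h1 : (algebraMap R' (Localization.Away g) g) • (1 : (Localization.Away g) ⊗[R'] B) = 0 := by
    rw [Algebra.TensorProduct.one_def, TensorProduct.smul_tmul', smul_eq_mul, mul_one,
      ← mul_one (algebraMap R' (Localization.Away g) g), ← Algebra.smul_def,
      TensorProduct.smul_tmul, Algebra.smul_def, mul_one, hg0, TensorProduct.tmul_zero]
  have h2 := congrArg (fun z => (hu.unit⁻¹ : (Localization.Away g)ˣ) • z) h1
  simp only [smul_zero] at h2
  rw [← h2, Units.smul_def, smul_smul]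
  simp

end Local

/-- A product with a subsingleton factor. -/
noncomputable def prodSubsingletonEquiv (R X Y : Type*) [CommSemiring R] [Semiring X] [Semiring Y]
    [Algebra R X] [Algebra R Y] [Subsingleton Y] : (X × Y) ≃ₐ[R] X :=
  AlgEquiv.ofBijective (AlgHom.fst R X Y)
    ⟨fun a b h => Prod.ext h (Subsingleton.elim _ _), fun x => ⟨(x, 0), rfl⟩⟩

end Groth.Agent.Lib.Helper19.FinEtTriv
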