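import Mathlib
import Groth.Agent.Lib.helper19.FinEtTriv3

set_option autoImplicit false
set_option linter.style.haveILetI false
universe u

namespace Groth.Agent.Lib.Helper19.FinEtTriv

open TensorProduct

/-- A finite étale algebra is étale-locally (near any prime) a finite product of copies of the
base. -/
theorem exists_trivialization (R : Type u) [CommRing R] (S : Type u) [CommRing S] [Algebra R S]
    [Module.Finite R S] [Algebra.Etale R S] (p : Ideal R) [p.IsPrime] :
    ∃ (R'' : Type u) (_ : CommRing R'') (_ : Algebra R R'') (_ : Algebra.Etale R R'')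
      (p'' : Ideal R'') (_ : p''.IsPrime) (_ : p''.LiesOver p) (n : ℕ),
      Nonempty (R'' ⊗[R] S ≃ₐ[R''] (Fin n → R'')) := by
  classical
  obtain ⟨R', _, _, _, p', _, _, n, I, B, _, _, ⟨e⟩, hI, hB⟩ :=
    Groth.Agent.Lib.Helper19.UnramProd.Q_of_unramified _ R S p rfl
  haveI : Module.FinitePresentation R' (R' ⊗[R] S) :=
    Module.FinitePresentation.of_finite_of_finitePresentation R' (R' ⊗[R] S)
  haveI : Module.Projective R' (R' ⊗[R] S) := Module.Flat.projective_of_finitePresentation
  haveI : Module.Finite R' B := finite_B I B (R' ⊗[R] S) e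
  -- killing elements
  have hA : ∀ i, ∃ g : R', g ∉ p' ∧ ∀ x ∈ I i, g * x = 0 := by
    intro i
    haveI := projective_quotient I B (R' ⊗[R] S) e i
    obtain ⟨g, hg1, hg2⟩ := exists_kill_of_projective (I i)
    refine ⟨g, fun hgp => ?_, hg2⟩
    have h1 : (1 : R') ∈ p' := by
      have := p'.add_mem (hI i hg1) hgp
      rwa [sub_add_cancel] at this
    exact (Ideal.IsPrime.ne_top ‹_›) ((Ideal.eq_top_iff_one _).mpr h1)
  choose gi hgi1 hgi2 using hA
  obtain ⟨g₀, hg₀p, hg₀⟩ := exists_kill_B B p' hB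
  let g : R' := g₀ * ∏ i, gi i
  have hgp : g ∉ p' := by
    intro h
    rcases Ideal.IsPrime.mem_or_mem ‹_› h with h | h
    · exact hg₀p h
    · obtain ⟨i, -, hi⟩ := Ideal.IsPrime.prod_mem_iff.mp h
      exact hgi1 i hi
  have hdvd₀ : g₀ ∣ g := Dvd.intro _ rfl
  have hdvd : ∀ i, gi i ∣ g :=
    fun i => Dvd.dvd.mul_left (Finset.dvd_prod_of_mem gi (Finset.mem_univ i)) g₀
  have hdisj : Disjoint (Submonoid.powers g : Set R') (p' : Set R') := by
    rwa [Ideal.disjoint_powers_iff_notMem_of_isPrime]
  haveI : Algebra.Etale R (Localization.Away g) := Algebra.Etale.comp R R' (Localization.Away g)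
  let p'' : Ideal (Localization.Away g) := p'.map (algebraMap R' (Localization.Away g))
  haveI : p''.IsPrime :=
    IsLocalization.isPrime_of_isPrime_disjoint (Submonoid.powers g) _ p' inferInstance hdisj
  haveI : p''.LiesOver p' :=
    IsLocalization.liesOver_map_of_isPrime_disjoint (Submonoid.powers g) _ hdisj
  haveI : p''.LiesOver p := Ideal.LiesOver.trans p'' p' p
  haveI : Subsingleton ((Localization.Away g) ⊗[R'] B) := subsingleton_tensor g B g₀ hg₀ hdvd₀
  refine ⟨Localization.Away g, inferInstance, inferInstance, inferInstance, p'', inferInstance,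
    inferInstance, n, ⟨?_⟩⟩
  let f1 : (Localization.Away g) ⊗[R] S ≃ₐ[Localization.Away g]
      (Localization.Away g) ⊗[R'] (R' ⊗[R] S) :=
    (Algebra.TensorProduct.cancelBaseChange R R' (Localization.Away g) (Localization.Away g) S).symm
  let f2 : (Localization.Away g) ⊗[R'] (R' ⊗[R] S) ≃ₐ[Localization.Away g]
      (Localization.Away g) ⊗[R'] ((∀ i, R' ⧸ I i) × B) :=
    Algebra.TensorProduct.congr AlgEquiv.refl e
  let f3 : (Localization.Away g) ⊗[R'] ((∀ i, R' ⧸ I i) × B) ≃ₐ[Localization.Away g]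
      (((Localization.Away g) ⊗[R'] (∀ i, R' ⧸ I i)) × ((Localization.Away g) ⊗[R'] B)) :=
    Algebra.TensorProduct.prodRight R' (Localization.Away g) (Localization.Away g) _ _
  let f4 := prodSubsingletonEquiv (Localization.Away g)
    ((Localization.Away g) ⊗[R'] (∀ i, R' ⧸ I i)) ((Localization.Away g) ⊗[R'] B)
  let f5 : (Localization.Away g) ⊗[R'] (∀ i, R' ⧸ I i) ≃ₐ[Localization.Away g]
      (∀ i, (Localization.Away g) ⊗[R'] (R' ⧸ I i)) :=
    Algebra.TensorProduct.piRight R' (Localization.Away g) (Localization.Away g)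
      (fun i => R' ⧸ I i)
  let f6 : (∀ i : Fin n, (Localization.Away g) ⊗[R'] (R' ⧸ I i)) ≃ₐ[Localization.Away g]
      (Fin n → Localization.Away g) :=
    AlgEquiv.piCongrRight (fun i => tensorQuotEquiv g (I i) (gi i) (hgi2 i) (hdvd i))
  exact f1.trans (f2.trans (f3.trans (f4.trans (f5.trans f6))))

end Groth.Agent.Lib.Helper19.FinEtTriv
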