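import Mathlib
import Groth.Agent.Lib.helper19.UnramProd4

set_option autoImplicit false
set_option linter.style.haveILetI false
universe u

open TensorProduct

namespace Groth.Agent.Lib.Helper19.UnramLocal

/-- Decomposition data of an `R'`-algebra `T` near a prime `p'` of `R'`: `T` is a product of
finitely many quotients `R' ⧸ I j` with `I j ≤ p'` (each satisfying `P`), and an algebra `B` with no
prime over `p'`. -/
def DP {R' : Type u} [CommRing R'] (P : Ideal R' → Prop) (p' : Ideal R') (T : Type u) [CommRing T]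
    [Algebra R' T] : Prop :=
  ∃ (n : ℕ) (I : Fin n → Ideal R') (B : Type u) (_ : CommRing B) (_ : Algebra R' B),
    Nonempty (T ≃ₐ[R'] ((∀ i, R' ⧸ I i) × B)) ∧ (∀ i, P (I i)) ∧ (∀ i, I i ≤ p') ∧
      ∀ (q : Ideal B) [q.IsPrime], q.comap (algebraMap R' B) ≠ p'

theorem DP.of_algEquiv {R' : Type u} [CommRing R'] {P : Ideal R' → Prop} {p' : Ideal R'}
    {T T' : Type u} [CommRing T] [Algebra R' T] [CommRing T'] [Algebra R' T']
    (e : T ≃ₐ[R'] T') (h : DP P p' T) : DP P p' T' := by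
  obtain ⟨n, I, B, _, _, ⟨e'⟩, h1, h2, h3⟩ := h
  exact ⟨n, I, B, inferInstance, inferInstance, ⟨e.symm.trans e'⟩, h1, h2, h3⟩

theorem DP.mono {R' : Type u} [CommRing R'] {P P' : Ideal R' → Prop} {p' : Ideal R'}
    {T : Type u} [CommRing T] [Algebra R' T] (hP : ∀ I, P I → P' I)
    (h : DP P p' T) : DP P' p' T := by
  obtain ⟨n, I, B, _, _, ⟨e'⟩, h1, h2, h3⟩ := h
  exact ⟨n, I, B, inferInstance, inferInstance, ⟨e'⟩, fun i => hP _ (h1 i), h2, h3⟩

theorem DP.baseChange {R' : Type u} [CommRing R'] {P : Ideal R' → Prop} {p' : Ideal R'}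
    {T : Type u} [CommRing T] [Algebra R' T] (h : DP P p' T)
    (R'' : Type u) [CommRing R''] [Algebra R' R''] (P' : Ideal R'' → Prop)
    (hP : ∀ I, P I → P' (I.map (algebraMap R' R'')))
    (p'' : Ideal R'') [p''.IsPrime] [p''.LiesOver p'] : DP P' p'' (R'' ⊗[R'] T) := by
  classical
  obtain ⟨n, I, B, _, _, ⟨e⟩, h1, h2, h3⟩ := h
  refine ⟨n, fun i => (I i).map (algebraMap R' R''), R'' ⊗[R'] B, inferInstance, inferInstance,
    ⟨?_⟩, fun i => hP _ (h1 i), fun i => ?_, ?_⟩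
  · let f2 : R'' ⊗[R'] T ≃ₐ[R''] R'' ⊗[R'] ((∀ i, R' ⧸ I i) × B) :=
      Algebra.TensorProduct.congr AlgEquiv.refl e
    let f3 : R'' ⊗[R'] ((∀ i, R' ⧸ I i) × B) ≃ₐ[R'']
        ((R'' ⊗[R'] (∀ i, R' ⧸ I i)) × (R'' ⊗[R'] B)) :=
      Algebra.TensorProduct.prodRight R' R'' R'' _ _
    let f5 : R'' ⊗[R'] (∀ i, R' ⧸ I i) ≃ₐ[R''] (∀ i, R'' ⊗[R'] (R' ⧸ I i)) :=
      Algebra.TensorProduct.piRight R' R'' R'' (fun i => R' ⧸ I i)
    let f6 : (∀ i : Fin n, R'' ⊗[R'] (R' ⧸ I i)) ≃ₐ[R'']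
        (∀ i : Fin n, R'' ⧸ (I i).map (algebraMap R' R'')) :=
      AlgEquiv.piCongrRight
        (fun i => (Algebra.TensorProduct.quotIdealMapEquivTensorQuot R'' (I i)).symm)
    exact f2.trans (f3.trans (AlgEquiv.prodCongr (f5.trans f6) AlgEquiv.refl))
  · rw [Ideal.map_le_iff_le_comap, ← Ideal.under_def, ← Ideal.over_def p'' p']
    exact h2 i
  · intro q hq hqp
    let q' : Ideal B := q.comap (Algebra.TensorProduct.includeRight : B →ₐ[R'] R'' ⊗[R'] B)
    haveI : q'.IsPrime := Ideal.comap_isPrime _ _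
    apply h3 q'
    rw [Ideal.over_def p'' p', ← hqp]
    ext r
    simp only [Ideal.mem_comap, q', Ideal.under_def]
    have : (Algebra.TensorProduct.includeRight : B →ₐ[R'] R'' ⊗[R'] B) (algebraMap R' B r) =
        algebraMap R'' (R'' ⊗[R'] B) (algebraMap R' R'' r) := by
      rw [AlgHom.commutes, IsScalarTower.algebraMap_apply R' R'' (R'' ⊗[R'] B)]
    rw [this]

end Groth.Agent.Lib.Helper19.UnramLocal
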