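import Mathlib
import Groth.Agent.Lib.helper19.UnramLocal1

set_option autoImplicit false
set_option linter.style.haveILetI false
universe u

open TensorProduct

namespace Groth.Agent.Lib.Helper19.UnramLocal

theorem exists_family_finset {ι : Type} (R : Type u) [CommRing R] (A : ι → Type u)
    [∀ i, CommRing (A i)] [∀ i, Algebra R (A i)] [∀ i, Algebra.Unramified R (A i)]
    (p : Ideal R) [p.IsPrime] (s : Finset ι) :
    ∃ (R' : Type u) (_ : CommRing R') (_ : Algebra R R') (_ : Algebra.Etale R R')
      (p' : Ideal R') (_ : p'.IsPrime) (_ : p'.LiesOver p),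
      ∀ i ∈ s, DP (fun _ => True) p' (R' ⊗[R] A i) := by
  classical
  induction s using Finset.induction_on with
  | empty =>
    exact ⟨R, inferInstance, inferInstance, inferInstance, p, inferInstance, ⟨rfl⟩,
      fun i hi => absurd hi (Finset.notMem_empty i)⟩
  | insert a s ha ih =>
    obtain ⟨R', _, _, _, p', _, _, h⟩ := ih
    obtain ⟨R'', _, _, _, p'', _, _, n, I, B, _, _, ⟨e⟩, hI, hB⟩ :=
      Groth.Agent.Lib.Helper19.UnramProd.Q_of_unramified _ R' (R' ⊗[R] A a) p' rfl
    letI : Algebra R R'' := ((algebraMap R' R'').comp (algebraMap R R')).toAlgebra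
    haveI : IsScalarTower R R' R'' := IsScalarTower.of_algebraMap_eq' rfl
    haveI : Algebra.Etale R R'' := Algebra.Etale.comp R R' R''
    haveI : p''.LiesOver p := Ideal.LiesOver.trans p'' p' p
    refine ⟨R'', inferInstance, inferInstance, inferInstance, p'', inferInstance, inferInstance,
      fun i hi => ?_⟩
    have key : ∀ j, DP (fun _ => True) p'' (R'' ⊗[R'] (R' ⊗[R] A j)) →
        DP (fun _ => True) p'' (R'' ⊗[R] A j) := fun j hj =>
      hj.of_algEquiv (Algebra.TensorProduct.cancelBaseChange R R' R'' R'' (A j))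
    rcases Finset.mem_insert.mp hi with rfl | hi
    · exact key _ ⟨n, I, B, inferInstance, inferInstance, ⟨e⟩, fun _ => trivial, hI, hB⟩
    · exact key _ ((h i hi).baseChange R'' _ (fun _ _ => trivial) p'')

theorem exists_family {ι : Type} [Finite ι] (R : Type u) [CommRing R] (A : ι → Type u)
    [∀ i, CommRing (A i)] [∀ i, Algebra R (A i)] [∀ i, Algebra.Unramified R (A i)]
    (p : Ideal R) [p.IsPrime] :
    ∃ (R' : Type u) (_ : CommRing R') (_ : Algebra R R') (_ : Algebra.Etale R R')
      (p' : Ideal R') (_ : p'.IsPrime) (_ : p'.LiesOver p),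
      ∀ i, DP (fun _ => True) p' (R' ⊗[R] A i) := by
  classical
  haveI := Fintype.ofFinite ι
  obtain ⟨R', h1, h2, h3, p', h4, h5, h⟩ := exists_family_finset R A p Finset.univ
  exact ⟨R', h1, h2, h3, p', h4, h5, fun i => h i (Finset.mem_univ i)⟩

end Groth.Agent.Lib.Helper19.UnramLocal
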