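import Mathlib
import Groth.Agent.Lib.helper19.UnramLocal2
import Groth.Agent.Lib.helper19.FinEtTriv4

set_option autoImplicit false
set_option linter.style.haveILetI false
universe u

open TensorProduct

namespace Groth.Agent.Lib.Helper19.UnramLocal

section Kill

variable {R' : Type u} [CommRing R'] {n : ℕ} (I : Fin n → Ideal R') (B : Type u) [CommRing B]
  [Algebra R' B] (T : Type u) [CommRing T] [Algebra R' T]
  (e : T ≃ₐ[R'] ((∀ i, R' ⧸ I i) × B))

include e in
theorem exists_kill_of_etale [Algebra.Etale R' T] (j : Fin n) :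
    ∃ g : R', 1 - g ∈ I j ∧ ∀ x ∈ I j, g * x = 0 := by
  classical
  let π : T →ₐ[R'] R' ⧸ I j :=
    (Pi.evalAlgHom R' (fun i => R' ⧸ I i) j).comp ((AlgHom.fst R' (∀ i, R' ⧸ I i) B).comp
      e.toAlgHom)
  have hπ : Function.Surjective π := by
    intro y
    refine ⟨e.symm (Pi.single j y, 0), ?_⟩
    simp [π]
  let c : T := e.symm (1 - Pi.single j 1, 1)
  have hc : π c = 0 := by simp [π, c]
  have hmul : ∀ a, π a = 0 → a = a * c := by
    intro a ha
    apply e.injective
    rw [map_mul]
    have hec : e c = (1 - Pi.single j 1, 1) := e.apply_symm_apply _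
    rw [hec]
    have ha' : (e a).1 j = 0 := ha
    refine Prod.ext ?_ (by simp)
    funext i
    by_cases hij : i = j
    · subst hij
      simp [ha']
    · simp [Pi.single_eq_of_ne hij]
  have hker : RingHom.ker π.toRingHom = Ideal.span {c} := by
    apply le_antisymm
    · intro a ha
      rw [hmul a ha]
      exact Ideal.mul_mem_left _ _ (Ideal.subset_span rfl)
    · rw [Ideal.span_singleton_le_iff_mem]
      exact hc
  haveI : Algebra.FinitePresentation R' (R' ⧸ I j) :=
    Algebra.FinitePresentation.of_surjective hπ (hker ▸ ⟨{c}, by simp⟩)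
  have hfg : (I j).FG := by
    have := Algebra.FinitePresentation.ker_fG_of_surjective (Algebra.ofId R' (R' ⧸ I j))
      Ideal.Quotient.mk_surjective
    have h2 : RingHom.ker (Algebra.ofId R' (R' ⧸ I j)).toRingHom = I j := Ideal.mk_ker
    rwa [h2] at this
  -- flatness
  let πl : T →ₗ[R'] R' ⧸ I j :=
    (LinearMap.proj j).comp ((LinearMap.fst R' (∀ i, R' ⧸ I i) B).comp e.toLinearMap)
  let ιl : R' ⧸ I j →ₗ[R'] T :=
    e.symm.toLinearMap.comp ((LinearMap.inl R' (∀ i, R' ⧸ I i) B).comp
      (LinearMap.single R' (fun i => R' ⧸ I i) j))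
  haveI : (I j).Pure := by
    refine Module.Flat.of_retract ιl πl ?_
    ext x
    simp [πl, ιl]
  have hid : IsIdempotentElem (I j) := Ideal.isIdempotentElem_of_pure (I j)
  obtain ⟨e₀, he₀, hI⟩ := (Ideal.isIdempotentElem_iff_of_fg _ hfg).mp hid
  refine ⟨1 - e₀, ?_, ?_⟩
  · rw [sub_sub_cancel, hI]
    exact Ideal.subset_span rfl
  · intro x hx
    rw [hI] at hx
    obtain ⟨r, rfl⟩ := Ideal.mem_span_singleton'.mp hx
    have : e₀ * e₀ = e₀ := he₀
    linear_combination (-r) * this

end Kill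

end Groth.Agent.Lib.Helper19.UnramLocal

namespace Groth.Agent.Lib.Helper19.UnramLocal

theorem exists_localize {R' : Type u} [CommRing R'] (p' : Ideal R') [p'.IsPrime] (T : Type u)
    [CommRing T] [Algebra R' T] [Algebra.Etale R' T] (h : DP (fun _ => True) p' T) :
    ∃ g₀ : R', g₀ ∉ p' ∧ ∀ g : R', g₀ ∣ g → g ∉ p' →
      DP (fun I => I = ⊥) (p'.map (algebraMap R' (Localization.Away g)))
        (Localization.Away g ⊗[R'] T) := by
  classical
  obtain ⟨n, I, B, _, _, ⟨e⟩, -, h2, h3⟩ := h
  have hA : ∀ j, ∃ g : R', 1 - g ∈ I j ∧ ∀ x ∈ I j, g * x = 0 :=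
    fun j => exists_kill_of_etale I B T e j
  choose gi hgi1 hgi2 using hA
  have hgi : ∀ j, gi j ∉ p' := by
    intro j hgp
    have h1 : (1 : R') ∈ p' := by
      have := p'.add_mem (h2 j (hgi1 j)) hgp
      rwa [sub_add_cancel] at this
    exact (Ideal.IsPrime.ne_top ‹_›) ((Ideal.eq_top_iff_one _).mpr h1)
  refine ⟨∏ j, gi j, ?_, ?_⟩
  · intro hmem
    obtain ⟨j, -, hj⟩ := Ideal.IsPrime.prod_mem_iff.mp hmem
    exact hgi j hj
  · intro g hdvd hgp
    have hdisj : Disjoint (Submonoid.powers g : Set R') (p' : Set R') := by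
      rwa [Ideal.disjoint_powers_iff_notMem_of_isPrime]
    haveI : (p'.map (algebraMap R' (Localization.Away g))).IsPrime :=
      IsLocalization.isPrime_of_isPrime_disjoint (Submonoid.powers g) _ p' inferInstance hdisj
    haveI : (p'.map (algebraMap R' (Localization.Away g))).LiesOver p' :=
      IsLocalization.liesOver_map_of_isPrime_disjoint (Submonoid.powers g) _ hdisj
    have h' : DP (fun J : Ideal R' => ∃ x, x ∣ g ∧ ∀ y ∈ J, x * y = 0) p' T :=
      ⟨n, I, B, inferInstance, inferInstance, ⟨e⟩,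
        fun j => ⟨gi j, (Finset.dvd_prod_of_mem gi (Finset.mem_univ j)).trans hdvd, hgi2 j⟩,
        h2, h3⟩
    refine h'.baseChange (Localization.Away g) _ ?_ _
    rintro J ⟨x, ⟨c, rfl⟩, hx⟩
    rw [Ideal.map_eq_bot_iff_le_ker]
    intro y hy
    rw [RingHom.mem_ker, IsLocalization.map_eq_zero_iff (Submonoid.powers (x * c))]
    refine ⟨⟨x * c, Submonoid.mem_powers _⟩, ?_⟩
    show x * c * y = 0
    rw [mul_right_comm, hx y hy, zero_mul]

theorem exists_family_etale {ι : Type} [Finite ι] (R : Type u) [CommRing R] (A : ι → Type u)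
    [∀ i, CommRing (A i)] [∀ i, Algebra R (A i)] [∀ i, Algebra.Etale R (A i)]
    (p : Ideal R) [p.IsPrime] :
    ∃ (R' : Type u) (_ : CommRing R') (_ : Algebra R R') (_ : Algebra.Etale R R')
      (p' : Ideal R') (_ : p'.IsPrime) (_ : p'.LiesOver p),
      ∀ i, DP (fun I => I = ⊥) p' (R' ⊗[R] A i) := by
  classical
  haveI := Fintype.ofFinite ι
  obtain ⟨R', _, _, _, p', _, _, h⟩ := exists_family R A p
  have hA : ∀ i, ∃ g₀ : R', g₀ ∉ p' ∧ ∀ g : R', g₀ ∣ g → g ∉ p' →
      DP (fun I => I = ⊥) (p'.map (algebraMap R' (Localization.Away g)))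
        (Localization.Away g ⊗[R'] (R' ⊗[R] A i)) :=
    fun i => exists_localize p' (R' ⊗[R] A i) (h i)
  choose g₀ hg₀ hg₀' using hA
  let g : R' := ∏ i, g₀ i
  have hgp : g ∉ p' := by
    intro hmem
    obtain ⟨j, -, hj⟩ := Ideal.IsPrime.prod_mem_iff.mp hmem
    exact hg₀ j hj
  have hdisj : Disjoint (Submonoid.powers g : Set R') (p' : Set R') := by
    rwa [Ideal.disjoint_powers_iff_notMem_of_isPrime]
  haveI : Algebra.Etale R (Localization.Away g) := Algebra.Etale.comp R R' (Localization.Away g)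
  let p'' : Ideal (Localization.Away g) := p'.map (algebraMap R' (Localization.Away g))
  haveI : p''.IsPrime :=
    IsLocalization.isPrime_of_isPrime_disjoint (Submonoid.powers g) _ p' inferInstance hdisj
  haveI : p''.LiesOver p' :=
    IsLocalization.liesOver_map_of_isPrime_disjoint (Submonoid.powers g) _ hdisj
  haveI : p''.LiesOver p := Ideal.LiesOver.trans p'' p' p
  refine ⟨Localization.Away g, inferInstance, inferInstance, inferInstance, p'', inferInstance,
    inferInstance, fun i => ?_⟩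
  exact (hg₀' i g (Finset.dvd_prod_of_mem g₀ (Finset.mem_univ i)) hgp).of_algEquiv
    (Algebra.TensorProduct.cancelBaseChange R R' (Localization.Away g) (Localization.Away g) (A i))

end Groth.Agent.Lib.Helper19.UnramLocal
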