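import Mathlib
import Groth.Agent.Lib.helper19.UnramLocal3

set_option autoImplicit false
set_option linter.style.haveILetI false
universe u

open TensorProduct AlgebraicGeometry CategoryTheory

namespace Groth.Agent.Lib.Helper19.UnramLocal

/-- Flattened local decomposition of an `R'`-algebra `T` near `p'`. -/
def F {R' : Type u} [CommRing R'] (P : Ideal R' → Prop) (p' : Ideal R') (T : Type u) [CommRing T]
    [Algebra R' T] : Prop :=
  ∃ (n : ℕ) (I : Fin n → Ideal R') (π : ∀ j, T →ₐ[R'] R' ⧸ I j),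
    (∀ j, P (I j)) ∧ (∀ j, I j ≤ p') ∧
    (∀ j, IsOpenImmersion (Spec.map (CommRingCat.ofHom (π j).toRingHom))) ∧
    (∀ j j' (y : PrimeSpectrum (R' ⧸ I j)) (y' : PrimeSpectrum (R' ⧸ I j')),
      PrimeSpectrum.comap (π j).toRingHom y = PrimeSpectrum.comap (π j').toRingHom y' → j = j') ∧
    (∀ q : PrimeSpectrum T, q.asIdeal.comap (algebraMap R' T) = p' →
      ∃ j y, PrimeSpectrum.comap (π j).toRingHom y = q)

theorem DP.toF {R' : Type u} [CommRing R'] {P : Ideal R' → Prop} {p' : Ideal R'} {T : Type u}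
    [CommRing T] [Algebra R' T] (h : DP P p' T) : F P p' T := by
  classical
  obtain ⟨n, I, B, _, _, ⟨e⟩, h1, h2, h3⟩ := h
  let π : ∀ j, T →ₐ[R'] R' ⧸ I j := fun j =>
    (Pi.evalAlgHom R' (fun i => R' ⧸ I i) j).comp ((AlgHom.fst R' (∀ i, R' ⧸ I i) B).comp
      e.toAlgHom)
  have hπ : ∀ j, Function.Surjective (π j) := by
    intro j y
    refine ⟨e.symm (Pi.single j y, 0), ?_⟩
    simp [π]
  let c : Fin n → T := fun j => e.symm (Pi.single j 1, 0)
  have hec : ∀ j, e (c j) = (Pi.single j 1, 0) := fun j => e.apply_symm_apply _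
  have hcj : ∀ j, π j (c j) = 1 := by
    intro j
    show (e (c j)).1 j = 1
    rw [hec]; simp
  have hcj' : ∀ j j', j ≠ j' → π j' (c j) = 0 := by
    intro j j' hjj'
    show (e (c j)).1 j' = 0
    rw [hec]; simp [Pi.single_eq_of_ne hjj'.symm]
  have hidem : ∀ j, IsIdempotentElem (c j) := by
    intro j
    apply e.injective
    rw [map_mul, hec]
    refine Prod.ext ?_ (by simp)
    funext i
    by_cases hij : i = j
    · subst hij; simp
    · simp [Pi.single_eq_of_ne hij]
  have hmul : ∀ j a, π j a = 0 → a = a * (1 - c j) := by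
    intro j a ha
    apply e.injective
    rw [map_mul, map_sub, map_one, hec]
    have ha' : (e a).1 j = 0 := ha
    refine Prod.ext ?_ (by simp)
    funext i
    by_cases hij : i = j
    · subst hij
      simp [ha']
    · simp [Pi.single_eq_of_ne hij]
  have hker : ∀ j, RingHom.ker (π j).toRingHom = Ideal.span {1 - c j} := by
    intro j
    apply le_antisymm
    · intro a ha
      rw [hmul j a ha]
      exact Ideal.mul_mem_left _ _ (Ideal.subset_span rfl)
    · rw [Ideal.span_singleton_le_iff_mem]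
      show π j (1 - c j) = 0
      rw [map_sub, map_one, hcj, sub_self]
  refine ⟨n, I, π, h1, h2, fun j => ?_, ?_, ?_⟩
  · letI : Algebra T (R' ⧸ I j) := (π j).toRingHom.toAlgebra
    haveI : IsLocalization.Away (c j) (R' ⧸ I j) :=
      IsLocalization.away_of_isIdempotentElem (hidem j) (hker j) (hπ j)
    exact IsOpenImmersion.of_isLocalization (c j)
  · intro j j' y y' hyy'
    by_contra hne
    have h1 : c j ∉ (PrimeSpectrum.comap (π j).toRingHom y).asIdeal := by
      intro hmem
      have : π j (c j) ∈ y.asIdeal := hmem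
      rw [hcj] at this
      exact y.2.ne_top ((Ideal.eq_top_iff_one _).mpr this)
    have h2 : c j ∈ (PrimeSpectrum.comap (π j').toRingHom y').asIdeal := by
      show π j' (c j) ∈ y'.asIdeal
      rw [hcj' j j' hne]
      exact Ideal.zero_mem _
    rw [hyy'] at h1
    exact h1 h2
  · intro q hq
    let q₁ : PrimeSpectrum ((∀ i, R' ⧸ I i) × B) := PrimeSpectrum.comap e.symm.toRingEquiv.toRingHom q
    have hq₁ : PrimeSpectrum.comap e.toRingEquiv.toRingHom q₁ = q := by
      apply PrimeSpectrum.ext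
      ext t
      show e.symm (e t) ∈ q.asIdeal ↔ _
      rw [e.symm_apply_apply]
    rcases hz : PrimeSpectrum.primeSpectrumProd _ _ q₁ with z | z'
    · have hq₁z : q₁ = PrimeSpectrum.comap (RingHom.fst _ _) z := by
        rw [← PrimeSpectrum.primeSpectrumProd_symm_inl, ← hz, Equiv.symm_apply_apply]
      obtain ⟨⟨j, y⟩, hy⟩ := (PrimeSpectrum.sigmaToPi_bijective (fun i => R' ⧸ I i)).2 z
      rw [PrimeSpectrum.sigmaToPi_apply] at hy
      refine ⟨j, y, ?_⟩
      rw [← hq₁, hq₁z, ← hy]
      rfl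
    · exfalso
      have hq₁z : q₁ = PrimeSpectrum.comap (RingHom.snd _ _) z' := by
        rw [← PrimeSpectrum.primeSpectrumProd_symm_inr, ← hz, Equiv.symm_apply_apply]
      apply h3 z'.asIdeal
      rw [← hq]
      ext r
      simp only [Ideal.mem_comap]
      have : algebraMap R' T r ∈ q.asIdeal ↔
          (algebraMap R' ((∀ i, R' ⧸ I i) × B) r) ∈ q₁.asIdeal := by
        show _ ↔ e.symm (algebraMap R' _ r) ∈ q.asIdeal
        rw [e.symm.commutes]
      rw [this, hq₁z]
      rfl

end Groth.Agent.Lib.Helper19.UnramLocal
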