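import Mathlib
import Groth.Agent.Lib.helper19.UnramLocal4

set_option autoImplicit false
set_option linter.style.haveILetI false
universe u

open TensorProduct AlgebraicGeometry CategoryTheory CategoryTheory.Limits

namespace Groth.Agent.Lib.Helper19.UnramLocal

theorem isPullback_comp_mono {C : Type*} [Category C] {P X Y Z S : C} {fst : P ⟶ X}
    {snd : P ⟶ Y} {f : X ⟶ Z} {g : Y ⟶ Z} (h : IsPullback fst snd f g) (m : Z ⟶ S) [Mono m] :
    IsPullback fst snd (f ≫ m) (g ≫ m) := by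
  have t : IsPullback g (𝟙 Y) m (g ≫ m) := IsPullback.of_vert_isIso_mono ⟨by simp⟩
  have := h.paste_vert t
  rwa [Category.comp_id] at this

/-- Scheme-level construction. -/
theorem scheme_main {X S : Scheme.{u}} (f : X ⟶ S) (s : S) {ι : Type} [Finite ι] (x : ι → X)
    (hinj : Function.Injective x)
    (S₀ : S.Opens) (hS₀ : IsAffineOpen S₀) (hsS₀ : s ∈ S₀)
    (T : ι → X.Opens) (hT : ∀ i, IsAffineOpen (T i)) (hxT : ∀ i, x i ∈ T i)
    (hle : ∀ i, T i ≤ f ⁻¹ᵁ S₀)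
    [∀ i, Algebra Γ(S, S₀) Γ(X, T i)]
    (halg : ∀ i, algebraMap Γ(S, S₀) Γ(X, T i) = (f.appLE S₀ (T i) (hle i)).hom)
    (R' : Type u) [CommRing R'] [Algebra Γ(S, S₀) R'] [Algebra.Etale Γ(S, S₀) R'] (p' : Ideal R')
    [p'.IsPrime] [p'.LiesOver (hS₀.primeIdealOf ⟨s, hsS₀⟩).asIdeal]
    (P : Ideal R' → Prop)
    (hF : ∀ i, F P p' (R' ⊗[Γ(S, S₀)] Γ(X, T i))) :
    ∃ (g : Spec (CommRingCat.of R') ⟶ S) (u : Spec (CommRingCat.of R')), Etale g ∧ g u = s ∧
      ∃ (K : Type) (_ : Finite K) (lab : K → ι) (V : K → (pullback f g).Opens),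
        (∀ k, ∃ I : Ideal R', P I ∧ ∃ iso : (V k : Scheme.{u}) ≅ Spec (CommRingCat.of (R' ⧸ I)),
          (V k).ι ≫ pullback.snd f g =
            iso.hom ≫ Spec.map (CommRingCat.ofHom (Ideal.Quotient.mk I))) ∧
        (∀ k, ∃ w : ↑(pullback f g), w ∈ V k ∧ pullback.snd f g w = u) ∧
        (∀ (k k' : K) (w : ↑(pullback f g)), w ∈ V k → w ∈ V k' →
          pullback.snd f g w = u → k = k') ∧
        (∀ (w : ↑(pullback f g)) (i : ι), pullback.snd f g w = u → pullback.fst f g w = x i →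
          ∃ k, lab k = i ∧ w ∈ V k) := by
  classical
  unfold F at hF
  choose n I π hP hIp hoi hdisj hcov using hF
  let ψ : Γ(S, S₀) ⟶ CommRingCat.of R' := CommRingCat.ofHom (algebraMap Γ(S, S₀) R')
  let g : Spec (CommRingCat.of R') ⟶ S := Spec.map ψ ≫ hS₀.fromSpec
  haveI : Etale (Spec.map ψ) :=
    HasRingHomProperty.Spec_iff.mpr (RingHom.etale_algebraMap.mpr ‹_›)
  haveI : Etale g := inferInstance
  let u : Spec (CommRingCat.of R') := ⟨p', inferInstance⟩
  have hu : g u = s := by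
    have h1 : (Spec.map ψ) u = hS₀.primeIdealOf ⟨s, hsS₀⟩ :=
      PrimeSpectrum.ext (Ideal.over_def p' (hS₀.primeIdealOf ⟨s, hsS₀⟩).asIdeal).symm
    show hS₀.fromSpec ((Spec.map ψ) u) = s
    rw [h1]
    exact hS₀.fromSpec_primeIdealOf ⟨s, hsS₀⟩
  -- the pullback squares
  let φ : ∀ i, Γ(S, S₀) ⟶ Γ(X, T i) := fun i => f.appLE S₀ (T i) (hle i)
  have hφ : ∀ i, CommRingCat.ofHom (algebraMap Γ(S, S₀) Γ(X, T i)) = φ i := fun i =>
    CommRingCat.hom_ext (halg i)
  let inl : ∀ i, CommRingCat.of R' ⟶ CommRingCat.of (R' ⊗[Γ(S, S₀)] Γ(X, T i)) := fun i =>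
    CommRingCat.ofHom Algebra.TensorProduct.includeLeftRingHom
  let inr : ∀ i, Γ(X, T i) ⟶ CommRingCat.of (R' ⊗[Γ(S, S₀)] Γ(X, T i)) := fun i =>
    CommRingCat.ofHom Algebra.TensorProduct.includeRight.toRingHom
  have sq2 : ∀ i, IsPullback (Spec.map (inl i)) (Spec.map (inr i)) (Spec.map ψ)
      (Spec.map (φ i)) := by
    intro i
    rw [← hφ i]
    exact isPullback_SpecMap_of_isPushout _ _ _ _
      (CommRingCat.isPushout_tensorProduct Γ(S, S₀) R' Γ(X, T i))
  have sq3 : ∀ i, IsPullback (Spec.map (inl i)) (Spec.map (inr i)) g ((hT i).fromSpec ≫ f) := by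
    intro i
    have := isPullback_comp_mono (sq2 i) hS₀.fromSpec
    rwa [hS₀.SpecMap_appLE_fromSpec f (hT i) (hle i)] at this
  have tpb : IsPullback (pullback.snd f g) (pullback.fst f g) g f :=
    (IsPullback.of_hasPullback f g).flip
  let a : ∀ i, Spec (CommRingCat.of (R' ⊗[Γ(S, S₀)] Γ(X, T i))) ⟶ pullback f g := fun i =>
    tpb.lift (Spec.map (inl i)) (Spec.map (inr i) ≫ (hT i).fromSpec)
      (by rw [(sq3 i).w, Category.assoc])
  have ha_snd : ∀ i, a i ≫ pullback.snd f g = Spec.map (inl i) := fun i => tpb.lift_fst _ _ _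
  have ha_fst : ∀ i, a i ≫ pullback.fst f g = Spec.map (inr i) ≫ (hT i).fromSpec :=
    fun i => tpb.lift_snd _ _ _
  have sq4 : ∀ i, IsPullback (a i) (Spec.map (inr i)) (pullback.fst f g) (hT i).fromSpec :=
    fun i => IsPullback.of_right' (sq3 i) tpb
  haveI : ∀ i, IsOpenImmersion (a i) := fun i =>
    MorphismProperty.of_isPullback (P := @IsOpenImmersion) (sq4 i).flip inferInstance
  -- the pieces
  let qm : ∀ k : (Σ i, Fin (n i)), CommRingCat.of R' ⟶ CommRingCat.of (R' ⧸ I k.1 k.2) :=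
    fun k => CommRingCat.ofHom (Ideal.Quotient.mk (I k.1 k.2))
  let c : ∀ k : (Σ i, Fin (n i)), Spec (CommRingCat.of (R' ⧸ I k.1 k.2)) ⟶
      Spec (CommRingCat.of (R' ⊗[Γ(S, S₀)] Γ(X, T k.1))) := fun k =>
    Spec.map (CommRingCat.ofHom (π k.1 k.2).toRingHom)
  haveI : ∀ k, IsOpenImmersion (c k) := fun k => hoi k.1 k.2
  let t : ∀ k : (Σ i, Fin (n i)), Spec (CommRingCat.of (R' ⧸ I k.1 k.2)) ⟶ pullback f g :=
    fun k => c k ≫ a k.1
  haveI : ∀ k, IsOpenImmersion (t k) := fun k => inferInstance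
  have ht_snd : ∀ k, t k ≫ pullback.snd f g = Spec.map (qm k) := by
    intro k
    show (c k ≫ a k.1) ≫ pullback.snd f g = _
    rw [Category.assoc, ha_snd, ← Spec.map_comp]
    congr 1
    ext r
    show π k.1 k.2 (r ⊗ₜ 1) = _
    have : (r ⊗ₜ[Γ(S, S₀)] (1 : Γ(X, T k.1))) =
        algebraMap R' (R' ⊗[Γ(S, S₀)] Γ(X, T k.1)) r := rfl
    rw [this, (π k.1 k.2).commutes]
    rfl
  have hqm_inj : ∀ k, Function.Injective (Spec.map (qm k)) := fun k =>
    PrimeSpectrum.comap_injective_of_surjective _ Ideal.Quotient.mk_surjective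
  have hpt : ∀ k : (Σ i, Fin (n i)), ∃ y : Spec (CommRingCat.of (R' ⧸ I k.1 k.2)),
      Spec.map (qm k) y = u := by
    intro k
    have hker : RingHom.ker (Ideal.Quotient.mk (I k.1 k.2)) ≤ p' := by
      rw [Ideal.mk_ker]; exact hIp k.1 k.2
    haveI : (p'.map (Ideal.Quotient.mk (I k.1 k.2))).IsPrime :=
      Ideal.map_isPrime_of_surjective Ideal.Quotient.mk_surjective hker
    refine ⟨⟨p'.map (Ideal.Quotient.mk (I k.1 k.2)), inferInstance⟩, ?_⟩
    apply PrimeSpectrum.ext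
    show (p'.map (Ideal.Quotient.mk (I k.1 k.2))).comap (Ideal.Quotient.mk (I k.1 k.2)) = p'
    rw [Ideal.comap_map_of_surjective _ Ideal.Quotient.mk_surjective,
      ← RingHom.ker_eq_comap_bot, Ideal.mk_ker, sup_eq_left]
    exact hIp k.1 k.2
  choose pt hpt using hpt
  -- uniqueness of the point over `u`
  have huniq : ∀ (k : Σ i, Fin (n i)) (y : Spec (CommRingCat.of (R' ⧸ I k.1 k.2))),
      pullback.snd f g (t k y) = u → y = pt k := by
    intro k y hy
    apply hqm_inj k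
    rw [hpt k, ← ht_snd k]
    exact hy
  let K : Type := {k : Σ i, Fin (n i) // pullback.fst f g (t k (pt k)) = x k.1}
  refine ⟨g, u, inferInstance, hu, K, inferInstance, fun k => k.1.1,
    fun k => (t k.1).opensRange, ?_, ?_, ?_, ?_⟩
  · rintro ⟨k, hk⟩
    refine ⟨I k.1 k.2, hP k.1 k.2, (t k).isoOpensRange.symm, ?_⟩
    show (t k).opensRange.ι ≫ pullback.snd f g = (t k).isoOpensRange.inv ≫ Spec.map (qm k)
    rw [← ht_snd k, ← Category.assoc, Scheme.Hom.isoOpensRange_inv_comp]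
  · rintro ⟨k, hk⟩
    refine ⟨t k (pt k), ⟨pt k, rfl⟩, ?_⟩
    rw [← hpt k, ← ht_snd k]
    rfl
  · rintro ⟨k, hk⟩ ⟨k', hk'⟩ w ⟨y, rfl⟩ ⟨y', hy'⟩ hw
    have hy : y = pt k := huniq k y hw
    have hy'2 : y' = pt k' := huniq k' y' (by rw [hy']; exact hw)
    have hx : x k.1 = x k'.1 := by
      rw [← hk, ← hk', ← hy, ← hy'2, hy']
    have hi := hinj hx
    obtain ⟨i, j⟩ := k
    obtain ⟨i', j'⟩ := k'
    simp only at hi
    subst hi
    have h3 : c ⟨i, j⟩ y = c ⟨i, j'⟩ y' := by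
      apply (a i).isOpenEmbedding.injective
      exact hy'.symm
    have hj : j = j' := hdisj i j j' y y' h3
    subst hj
    rfl
  · intro w i hw hwx
    obtain ⟨z, hz⟩ : ∃ z, (hT i).fromSpec z = x i := by
      have : x i ∈ Set.range (hT i).fromSpec := by
        rw [(hT i).range_fromSpec]; exact hxT i
      exact this
    obtain ⟨q, hq1, hq2⟩ := Scheme.exists_preimage_of_isPullback (sq4 i) w z (by rw [hz]; exact hwx)
    have hq3 : q.asIdeal.comap (algebraMap R' (R' ⊗[Γ(S, S₀)] Γ(X, T i))) = p' := by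
      have h1 : Spec.map (inl i) q = u := by
        rw [← ha_snd i]
        show pullback.snd f g (a i q) = u
        rw [hq1]; exact hw
      exact congrArg PrimeSpectrum.asIdeal h1
    obtain ⟨j, y, hy⟩ := hcov i q hq3
    have hty : t ⟨i, j⟩ y = w := by
      show a i (c ⟨i, j⟩ y) = w
      rw [← hq1]
      congr 1
    have hypt : y = pt ⟨i, j⟩ := huniq ⟨i, j⟩ y (by rw [hty]; exact hw)
    refine ⟨⟨⟨i, j⟩, ?_⟩, rfl, ⟨y, hty⟩⟩
    rw [← hypt, hty]
    exact hwx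

end Groth.Agent.Lib.Helper19.UnramLocal
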