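import Mathlib
import Groth.Agent.Lib.helper19.QFL2
import Groth.Agent.Lib.helper19.QFL3
import Groth.Agent.Lib.helper19.UnramLocal5

set_option autoImplicit false
set_option linter.style.haveILetI false
universe u

open TensorProduct AlgebraicGeometry CategoryTheory CategoryTheory.Limits

namespace Groth.Agent.Lib.Helper19.QFL

open Groth.Agent.Lib.Helper19.UnramLocal in
/-- Scheme-level construction for the quasi-finite case. -/
theorem scheme_main_qf {X S : Scheme.{u}} (f : X ⟶ S) (s : S) {ι : Type} (x : ι → X)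
    (S₀ : S.Opens) (hS₀ : IsAffineOpen S₀) (hsS₀ : s ∈ S₀)
    (T : ι → X.Opens) (hT : ∀ i, IsAffineOpen (T i)) (hxT : ∀ i, x i ∈ T i)
    (hle : ∀ i, T i ≤ f ⁻¹ᵁ S₀)
    [∀ i, Algebra Γ(S, S₀) Γ(X, T i)]
    (halg : ∀ i, algebraMap Γ(S, S₀) Γ(X, T i) = (f.appLE S₀ (T i) (hle i)).hom)
    (R' : Type u) [CommRing R'] [Algebra Γ(S, S₀) R'] [Algebra.Etale Γ(S, S₀) R'] (p' : Ideal R')
    [p'.IsPrime] [p'.LiesOver (hS₀.primeIdealOf ⟨s, hsS₀⟩).asIdeal]
    (hb : Function.Bijective (Ideal.ResidueField.mapₐ (hS₀.primeIdealOf ⟨s, hsS₀⟩).asIdeal p'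
      (Algebra.ofId _ _) (p'.over_def _)))
    (hD : ∀ i, ∃ (Q : Ideal (R' ⊗[Γ(S, S₀)] Γ(X, T i))) (_ : Q.IsPrime) (_ : Q.LiesOver p'),
        Q.comap Algebra.TensorProduct.includeRight.toRingHom =
          ((hT i).primeIdealOf ⟨x i, hxT i⟩).asIdeal ∧ DQ p' (R' ⊗[Γ(S, S₀)] Γ(X, T i)) Q) :
    ∃ (g : Spec (CommRingCat.of R') ⟶ S) (u : Spec (CommRingCat.of R')), Etale g ∧ g u = s ∧
      IsIso (g.residueFieldMap u) ∧
      ∃ (V : ι → (pullback f g).Opens) (v : ι → ↑(pullback f g)), ∀ i, v i ∈ V i ∧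
        IsFinite ((V i).ι ≫ pullback.snd f g) ∧ pullback.snd f g (v i) = u ∧
        (∀ w : ↑(pullback f g), w ∈ V i → pullback.snd f g w = u → w = v i) ∧
        pullback.fst f g (v i) = x i := by
  classical
  choose Q hQprime hQover hQq hDQ using hD
  choose e he heQ hfin huniq using hDQ
  let ψ : Γ(S, S₀) ⟶ CommRingCat.of R' := CommRingCat.ofHom (algebraMap Γ(S, S₀) R')
  let g : Spec (CommRingCat.of R') ⟶ S := Spec.map ψ ≫ hS₀.fromSpec
  haveI : Etale (Spec.map ψ) :=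
    HasRingHomProperty.Spec_iff.mpr (RingHom.etale_algebraMap.mpr ‹_›)
  haveI : Etale g := inferInstance
  let u : Spec (CommRingCat.of R') := ⟨p', inferInstance⟩
  have hu : g u = s := by
    have h1 : (Spec.map ψ) u = hS₀.primeIdealOf ⟨s, hsS₀⟩ :=
      PrimeSpectrum.ext (Ideal.over_def p' (hS₀.primeIdealOf ⟨s, hsS₀⟩).asIdeal).symm
    show hS₀.fromSpec ((Spec.map ψ) u) = s
    rw [h1]
    exact hS₀.fromSpec_primeIdealOf ⟨s, hsS₀⟩
  have hres : IsIso (g.residueFieldMap u) := by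
    haveI : IsIso ((Spec.map ψ).residueFieldMap u) :=
      isIso_residueFieldMap_of_bijective _ p' hb
    exact isIso_residueFieldMap_comp_fromSpec hS₀ (Spec.map ψ) u this
  -- the pullback squares
  let φ : ∀ i, Γ(S, S₀) ⟶ Γ(X, T i) := fun i => f.appLE S₀ (T i) (hle i)
  have hφ : ∀ i, CommRingCat.ofHom (algebraMap Γ(S, S₀) Γ(X, T i)) = φ i := fun i =>
    CommRingCat.hom_ext (halg i)
  let inl : ∀ i, CommRingCat.of R' ⟶ CommRingCat.of (R' ⊗[Γ(S, S₀)] Γ(X, T i)) := fun i =>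
    CommRingCat.ofHom Algebra.TensorProduct.includeLeftRingHom
  let inr : ∀ i, Γ(X, T i) ⟶ CommRingCat.of (R' ⊗[Γ(S, S₀)] Γ(X, T i)) := fun i =>
    CommRingCat.ofHom Algebra.TensorProduct.includeRight.toRingHom
  have sq2 : ∀ i, IsPullback (Spec.map (inl i)) (Spec.map (inr i)) (Spec.map ψ)
      (Spec.map (φ i)) := by
    intro i
    rw [← hφ i]
    exact isPullback_SpecMap_of_isPushout _ _ _ _
      (CommRingCat.isPushout_tensorProduct Γ(S, S₀) R' Γ(X, T i))
  have sq3 : ∀ i, IsPullback (Spec.map (inl i)) (Spec.map (inr i)) g ((hT i).fromSpec ≫ f) := by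
    intro i
    have := isPullback_comp_mono (sq2 i) hS₀.fromSpec
    rwa [hS₀.SpecMap_appLE_fromSpec f (hT i) (hle i)] at this
  have tpb : IsPullback (pullback.snd f g) (pullback.fst f g) g f :=
    (IsPullback.of_hasPullback f g).flip
  let a : ∀ i, Spec (CommRingCat.of (R' ⊗[Γ(S, S₀)] Γ(X, T i))) ⟶ pullback f g := fun i =>
    tpb.lift (Spec.map (inl i)) (Spec.map (inr i) ≫ (hT i).fromSpec)
      (by rw [(sq3 i).w, Category.assoc])
  have ha_snd : ∀ i, a i ≫ pullback.snd f g = Spec.map (inl i) := fun i => tpb.lift_fst _ _ _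
  have ha_fst : ∀ i, a i ≫ pullback.fst f g = Spec.map (inr i) ≫ (hT i).fromSpec :=
    fun i => tpb.lift_snd _ _ _
  have sq4 : ∀ i, IsPullback (a i) (Spec.map (inr i)) (pullback.fst f g) (hT i).fromSpec :=
    fun i => IsPullback.of_right' (sq3 i) tpb
  haveI : ∀ i, IsOpenImmersion (a i) := fun i =>
    MorphismProperty.of_isPullback (P := @IsOpenImmersion) (sq4 i).flip inferInstance
  -- the pieces
  let B : ι → Type u := fun i => (R' ⊗[Γ(S, S₀)] Γ(X, T i)) ⧸ Ideal.span {1 - e i}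
  let qm : ∀ i, CommRingCat.of (R' ⊗[Γ(S, S₀)] Γ(X, T i)) ⟶ CommRingCat.of (B i) := fun i =>
    CommRingCat.ofHom (algebraMap (R' ⊗[Γ(S, S₀)] Γ(X, T i)) (B i))
  haveI : ∀ i, IsLocalization.Away (e i) (B i) := fun i =>
    IsLocalization.away_of_isIdempotentElem (he i) Ideal.mk_ker Ideal.Quotient.mk_surjective
  haveI : ∀ i, IsOpenImmersion (Spec.map (qm i)) := fun i =>
    IsOpenImmersion.of_isLocalization (e i)
  let t : ∀ i, Spec (CommRingCat.of (B i)) ⟶ pullback f g := fun i => Spec.map (qm i) ≫ a i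
  haveI : ∀ i, IsOpenImmersion (t i) := fun i => inferInstance
  have ht_snd : ∀ i, t i ≫ pullback.snd f g =
      Spec.map (CommRingCat.ofHom (algebraMap R' (B i))) := by
    intro i
    show (Spec.map (qm i) ≫ a i) ≫ pullback.snd f g = _
    rw [Category.assoc, ha_snd, ← Spec.map_comp]
    rfl
  -- membership in the range of `Spec.map (qm i)`
  have hrange : ∀ i (P : Spec (CommRingCat.of (R' ⊗[Γ(S, S₀)] Γ(X, T i)))),
      P ∈ Set.range (Spec.map (qm i)) ↔ e i ∉ P.asIdeal := by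
    intro i P
    have h1 : Set.range (Spec.map (qm i)) =
        (PrimeSpectrum.basicOpen (e i) : Set (PrimeSpectrum (R' ⊗[Γ(S, S₀)] Γ(X, T i)))) :=
      PrimeSpectrum.localization_away_comap_range (B i) (e i)
    rw [h1]
    rfl
  have hQmem : ∀ i, (⟨Q i, hQprime i⟩ : Spec (CommRingCat.of (R' ⊗[Γ(S, S₀)] Γ(X, T i)))) ∈
      Set.range (Spec.map (qm i)) := fun i => (hrange i _).mpr (heQ i)
  choose y hy using hQmem
  refine ⟨g, u, inferInstance, hu, hres, fun i => (t i).opensRange,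
    fun i => a i ⟨Q i, hQprime i⟩, fun i => ⟨?_, ?_, ?_, ?_, ?_⟩⟩
  · exact ⟨y i, by show a i (Spec.map (qm i) (y i)) = _; rw [hy i]⟩
  · have h1 : (t i).opensRange.ι ≫ pullback.snd f g = (t i).isoOpensRange.inv ≫
        Spec.map (CommRingCat.ofHom (algebraMap R' (B i))) := by
      rw [← ht_snd i, ← Category.assoc, Scheme.Hom.isoOpensRange_inv_comp]
    rw [h1]
    haveI : IsFinite (Spec.map (CommRingCat.ofHom (algebraMap R' (B i)))) := by
      rw [IsFinite.SpecMap_iff]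
      exact RingHom.finite_algebraMap.mpr (hfin i)
    infer_instance
  · have h1 : (Spec.map (inl i)) ⟨Q i, hQprime i⟩ = u := by
      apply PrimeSpectrum.ext
      exact ((hQover i).over).symm
    rw [← h1, ← ha_snd i]
    rfl
  · rintro w ⟨z, rfl⟩ hw
    show a i (Spec.map (qm i) z) = a i ⟨Q i, hQprime i⟩
    congr 1
    have h1 : e i ∉ (Spec.map (qm i) z).asIdeal := (hrange i _).mp ⟨z, rfl⟩
    have h2 : (Spec.map (inl i)) (Spec.map (qm i) z) = u := by
      rw [← ha_snd i]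
      exact hw
    have h3 : (Spec.map (qm i) z).asIdeal.LiesOver p' := by
      constructor
      exact (congrArg PrimeSpectrum.asIdeal h2).symm
    exact PrimeSpectrum.ext (huniq i _ (Spec.map (qm i) z).2 h3 h1)
  · have h1 : (Spec.map (inr i)) ⟨Q i, hQprime i⟩ = (hT i).primeIdealOf ⟨x i, hxT i⟩ :=
      PrimeSpectrum.ext (hQq i)
    have h2 : pullback.fst f g (a i ⟨Q i, hQprime i⟩) =
        (hT i).fromSpec ((Spec.map (inr i)) ⟨Q i, hQprime i⟩) := by
      rw [← Scheme.Hom.comp_apply, ← Scheme.Hom.comp_apply, ha_fst]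
    rw [h2, h1]
    exact (hT i).fromSpec_primeIdealOf ⟨x i, hxT i⟩

end Groth.Agent.Lib.Helper19.QFL
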