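import Mathlib
import Groth.Agent.Lib.helper19.QFL4
import Groth.Prelude.Def_Hens2

set_option autoImplicit false
set_option linter.style.haveILetI false
universe u

open TensorProduct AlgebraicGeometry CategoryTheory CategoryTheory.Limits

namespace Groth.Agent.Lib.Helper19.QFL

theorem liesOver_primeIdealOf {X S : Scheme.{u}} (f : X ⟶ S) {S₀ : S.Opens} (hS₀ : IsAffineOpen S₀)
    {T : X.Opens} (hT : IsAffineOpen T) (hle : T ≤ f ⁻¹ᵁ S₀) (x : X) (hxT : x ∈ T) (s : S)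
    (hs : f x = s) (hsS₀ : s ∈ S₀) :
    (hS₀.primeIdealOf ⟨s, hsS₀⟩).asIdeal =
      (hT.primeIdealOf ⟨x, hxT⟩).asIdeal.comap (f.appLE S₀ T hle).hom := by
  subst hs
  suffices hS₀.primeIdealOf ⟨f x, hsS₀⟩ = Spec.map (f.appLE S₀ T hle) (hT.primeIdealOf ⟨x, hxT⟩) from
    congrArg PrimeSpectrum.asIdeal this
  haveI : IsOpenImmersion hS₀.fromSpec := hS₀.isOpenImmersion_fromSpec
  apply hS₀.fromSpec.isOpenEmbedding.injective
  rw [hS₀.fromSpec_primeIdealOf ⟨f x, hsS₀⟩, ← Scheme.Hom.comp_apply,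
    hS₀.SpecMap_appLE_fromSpec f hT hle, Scheme.Hom.comp_apply, hT.fromSpec_primeIdealOf ⟨x, hxT⟩]

/-- Core statement: étale localization of finitely many quasi-finite points. -/
theorem main_core {X S : Scheme.{u}} (f : X ⟶ S) [LocallyOfFiniteType f] (s : S) {ι : Type}
    [Finite ι] (x : ι → ↑X) (hs : ∀ i, f (x i) = s) (hx : ∀ i, f.QuasiFiniteAt (x i)) :
    ∃ (U : Scheme.{u}) (g : U ⟶ S) (u : U), Etale g ∧ g u = s ∧ IsIso (g.residueFieldMap u) ∧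
      ∃ (V : ι → (pullback f g).Opens) (v : ι → ↑(pullback f g)), ∀ i, v i ∈ V i ∧
        IsFinite ((V i).ι ≫ pullback.snd f g) ∧ pullback.snd f g (v i) = u ∧
        (∀ w : ↑(pullback f g), w ∈ V i → pullback.snd f g w = u → w = v i) ∧
        pullback.fst f g (v i) = x i := by
  obtain ⟨_, ⟨S₀, hS₀, rfl⟩, hsS₀, -⟩ := S.isBasis_affineOpens.exists_subset_of_mem_open
    (Set.mem_univ s) isOpen_univ
  have hT : ∀ i, ∃ T : X.Opens, IsAffineOpen T ∧ x i ∈ T ∧ T ≤ f ⁻¹ᵁ S₀ := by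
    intro i
    have hmem : x i ∈ ((f ⁻¹ᵁ S₀ : X.Opens) : Set X) := by
      show f (x i) ∈ S₀
      rw [hs i]; exact hsS₀
    obtain ⟨_, ⟨T, hT, rfl⟩, hxT, hTle⟩ := X.isBasis_affineOpens.exists_subset_of_mem_open
      hmem (f ⁻¹ᵁ S₀).2
    exact ⟨T, hT, hxT, hTle⟩
  choose T hT hxT hle using hT
  letI : ∀ i, Algebra Γ(S, S₀) Γ(X, T i) := fun i => (f.appLE S₀ (T i) (hle i)).hom.toAlgebra
  haveI : ∀ i, Algebra.FiniteType Γ(S, S₀) Γ(X, T i) := fun i =>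
    f.finiteType_appLE hS₀ (hT i) (hle i)
  let q : ∀ i, Ideal Γ(X, T i) := fun i => ((hT i).primeIdealOf ⟨x i, hxT i⟩).asIdeal
  haveI : ∀ i, (q i).IsPrime := fun i => ((hT i).primeIdealOf ⟨x i, hxT i⟩).2
  haveI : ∀ i, (q i).LiesOver (hS₀.primeIdealOf ⟨s, hsS₀⟩).asIdeal := fun i =>
    ⟨liesOver_primeIdealOf f hS₀ (hT i) (hle i) (x i) (hxT i) s (hs i) hsS₀⟩
  haveI : ∀ i, Algebra.QuasiFiniteAt Γ(S, S₀) (q i) := fun i =>
    (hx i).quasiFiniteAt (hT i) hS₀ (hle i) (hxT i)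
  obtain ⟨R', _, _, _, p', _, _, hb, hD⟩ := exists_family Γ(S, S₀) (fun i => Γ(X, T i))
    (hS₀.primeIdealOf ⟨s, hsS₀⟩).asIdeal q
  obtain ⟨g, u, hg, hu, hres, V, v, h⟩ := scheme_main_qf f s x S₀ hS₀ hsS₀ T hT hxT hle
    (fun i => rfl) R' p' hb hD
  exact ⟨_, g, u, hg, hu, hres, V, v, h⟩

/-- S1354. -/
theorem main_family {X S : Scheme.{u}} (f : X ⟶ S) [LocallyOfFiniteType f] (s : S) {ι : Type}
    [Finite ι] (x : ι → ↑X) (hs : ∀ i, f (x i) = s) (hx : ∀ i, f.QuasiFiniteAt (x i)) :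
    ∃ (U : Scheme.{u}) (g : U ⟶ S) (u : U), Hens2.IsEtaleNbhd g u s ∧
      ∃ (V : ι → (pullback f g).Opens) (v : ι → ↑(pullback f g)), ∀ i, v i ∈ V i ∧
        IsFinite ((V i).ι ≫ pullback.snd f g) ∧
        pullback.snd f g (v i) = u ∧
        (∀ w : ↑(pullback f g), w ∈ V i → pullback.snd f g w = u → w = v i) ∧
        pullback.fst f g (v i) = x i ∧
        Function.Bijective ((pullback.fst f g).residueFieldMap (v i)) := by
  obtain ⟨U, g, u, hg, hu, hres, V, v, h⟩ := main_core f s x hs hx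
  refine ⟨U, g, u, ⟨hg, hu, (ConcreteCategory.isIso_iff_bijective _).mp hres⟩, V, v, fun i => ?_⟩
  obtain ⟨h1, h2, h3, h4, h5⟩ := h i
  refine ⟨h1, h2, h3, h4, h5, ?_⟩
  exact bijective_residueFieldMap_fst f g (v i) (isIso_residueFieldMap_of_eq g h3.symm hres)

/-- S1353. -/
theorem main_single {X S : Scheme.{u}} (f : X ⟶ S) [LocallyOfFiniteType f] (x : X)
    (hx : f.QuasiFiniteAt x) :
    ∃ (U : Scheme.{u}) (g : U ⟶ S) (u : U), Hens2.IsEtaleNbhd g u (f x) ∧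
      ∃ (V : (pullback f g).Opens) (v : ↑(pullback f g)), v ∈ V ∧
        IsFinite (V.ι ≫ pullback.snd f g) ∧
        pullback.snd f g v = u ∧
        (∀ w : ↑(pullback f g), w ∈ V → pullback.snd f g w = u → w = v) ∧
        pullback.fst f g v = x ∧ Function.Bijective ((pullback.fst f g).residueFieldMap v) := by
  obtain ⟨U, g, u, hg, V, v, h⟩ := main_family f (f x) (ι := Unit) (fun _ => x) (fun _ => rfl)
    (fun _ => hx)
  exact ⟨U, g, u, hg, V (), v (), h ()⟩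

end Groth.Agent.Lib.Helper19.QFL
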