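import Mathlib
import Groth.Agent.Lib.helper19.QFL5

set_option autoImplicit false
set_option linter.style.haveILetI false
universe u

open TensorProduct AlgebraicGeometry CategoryTheory CategoryTheory.Limits

namespace Groth.Agent.Lib.Helper19.QFL6

open Groth.Agent.Lib.Helper19.QFL

theorem isClosed_of_finite {P Y : Scheme.{u}} (h : P ⟶ Y) [IsSeparated h] (V : P.Opens)
    (hV : IsFinite (V.ι ≫ h)) : IsClosed (V : Set P) := by
  haveI : IsFinite V.ι := IsFinite.of_comp V.ι h
  simpa using V.ι.isClosedMap.isClosed_range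

theorem finite_sup {P Y : Scheme.{u}} (h : P ⟶ Y) (V V' : P.Opens) (hVc : IsClosed (V : Set P))
    (hV : IsFinite (V.ι ≫ h)) (hV' : IsFinite (V'.ι ≫ h)) : IsFinite ((V ⊔ V').ι ≫ h) := by
  let C : P.Opens := ⟨(V : Set P)ᶜ, hVc.isOpen_compl⟩
  let B : P.Opens := V' ⊓ C
  have hBV' : B ≤ V' := inf_le_left
  have hA : V ≤ V ⊔ V' := le_sup_left
  have hB : B ≤ V ⊔ V' := hBV'.trans le_sup_right
  let jA := P.homOfLE hA
  let jB := P.homOfLE hB
  have hcompl : IsCompl jA.opensRange jB.opensRange := by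
    rw [Scheme.opensRange_homOfLE, Scheme.opensRange_homOfLE]
    constructor
    · rw [disjoint_iff]
      ext z
      simp only [TopologicalSpace.Opens.coe_inf, Set.mem_inter_iff, SetLike.mem_coe,
        TopologicalSpace.Opens.coe_bot, Set.mem_empty_iff_false, iff_false, not_and]
      intro h1 h2
      exact h2.2 h1
    · rw [codisjoint_iff]
      ext z
      simp only [TopologicalSpace.Opens.coe_sup, Set.mem_union, SetLike.mem_coe,
        TopologicalSpace.Opens.coe_top, Set.mem_univ, iff_true]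
      by_cases hz : (V ⊔ V').ι z ∈ V
      · exact Or.inl hz
      · right
        refine ⟨?_, hz⟩
        rcases z.2 with hz' | hz'
        · exact absurd hz' hz
        · exact hz'
  obtain ⟨H⟩ := nonempty_isColimit_binaryCofanMk_of_isCompl jA jB hcompl
  let e : (V : Scheme.{u}) ⨿ (B : Scheme.{u}) ≅ ((V ⊔ V' : P.Opens) : Scheme.{u}) :=
    (colimit.isColimit _).coconePointUniqueUpToIso H
  have he1 : coprod.inl ≫ e.hom = jA :=
    (colimit.isColimit _).comp_coconePointUniqueUpToIso_hom H ⟨.left⟩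
  have he2 : coprod.inr ≫ e.hom = jB :=
    (colimit.isColimit _).comp_coconePointUniqueUpToIso_hom H ⟨.right⟩
  haveI : IsFinite (B.ι ≫ h) := by
    have h1 : B.ι ≫ h = P.homOfLE hBV' ≫ V'.ι ≫ h := by
      rw [← Category.assoc, Scheme.homOfLE_ι]
    rw [h1]
    haveI : IsClosedImmersion (P.homOfLE hBV') := by
      apply IsClosedImmersion.of_isPreimmersion
      have hr : Set.range (P.homOfLE hBV') = ((V'.ι ⁻¹ᵁ B : V'.toScheme.Opens) : Set V') := by
        rw [← Scheme.opensRange_homOfLE hBV']; rfl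
      rw [hr]
      have : ((V'.ι ⁻¹ᵁ B : V'.toScheme.Opens) : Set V') = V'.ι ⁻¹' ((V : Set P)ᶜ) := by
        ext z
        simp only [B, C, TopologicalSpace.Opens.map_coe, Set.mem_preimage,
          TopologicalSpace.Opens.coe_inf, Set.mem_inter_iff, SetLike.mem_coe,
          TopologicalSpace.Opens.coe_mk, Set.mem_compl_iff]
        constructor
        · exact fun hz => hz.2
        · exact fun hz => ⟨z.2, hz⟩
      rw [this]
      exact V.2.isClosed_compl.preimage V'.ι.continuous
    infer_instance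
  have hdesc : e.hom ≫ (V ⊔ V').ι ≫ h = coprod.desc (V.ι ≫ h) (B.ι ≫ h) := by
    apply coprod.hom_ext
    · rw [← Category.assoc, he1, coprod.inl_desc, ← Category.assoc, Scheme.homOfLE_ι]
    · rw [← Category.assoc, he2, coprod.inr_desc, ← Category.assoc, Scheme.homOfLE_ι]
  have : IsFinite (e.hom ≫ (V ⊔ V').ι ≫ h) := by
    rw [hdesc]; infer_instance
  exact (MorphismProperty.cancel_left_of_respectsIso @IsFinite e.hom _).mp this

theorem finite_finsetSup {P Y : Scheme.{u}} (h : P ⟶ Y) {ι : Type} (V : ι → P.Opens)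
    (hVc : ∀ i, IsClosed (V i : Set P)) (hV : ∀ i, IsFinite ((V i).ι ≫ h)) (s : Finset ι) :
    IsClosed ((s.sup V : P.Opens) : Set P) ∧ IsFinite ((s.sup V).ι ≫ h) := by
  classical
  induction s using Finset.induction_on with
  | empty =>
    rw [Finset.sup_empty]
    refine ⟨by simp, ?_⟩
    haveI : IsEmpty ((⊥ : P.Opens) : Scheme.{u}) := ⟨fun z => z.2⟩
    infer_instance
  | insert a s ha ih =>
    rw [Finset.sup_insert]
    refine ⟨?_, finite_sup h (V a) (s.sup V) (hVc a) (hV a) ih.2⟩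
    rw [TopologicalSpace.Opens.coe_sup]
    exact (hVc a).union ih.1

/-- Separated version of `main_core`: the pieces are moreover closed. -/
theorem main_core_sep {X S : Scheme.{u}} (f : X ⟶ S) [LocallyOfFiniteType f] [IsSeparated f]
    (s : S) {ι : Type} [Finite ι] (x : ι → ↑X) (hs : ∀ i, f (x i) = s)
    (hx : ∀ i, f.QuasiFiniteAt (x i)) :
    ∃ (U : Scheme.{u}) (g : U ⟶ S) (u : U), Etale g ∧ g u = s ∧ IsIso (g.residueFieldMap u) ∧
      ∃ (V : ι → (pullback f g).Opens) (v : ι → ↑(pullback f g)), ∀ i, v i ∈ V i ∧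
        IsClosed (V i : Set ↑(pullback f g)) ∧
        IsFinite ((V i).ι ≫ pullback.snd f g) ∧ pullback.snd f g (v i) = u ∧
        (∀ w : ↑(pullback f g), w ∈ V i → pullback.snd f g w = u → w = v i) ∧
        pullback.fst f g (v i) = x i := by
  obtain ⟨U, g, u, hg, hu, hres, V, v, h⟩ := main_core f s x hs hx
  refine ⟨U, g, u, hg, hu, hres, V, v, fun i => ?_⟩
  obtain ⟨h1, h2, h3, h4, h5⟩ := h i
  exact ⟨h1, isClosed_of_finite (pullback.snd f g) (V i) h2, h2, h3, h4, h5⟩

/-- S0408. -/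
theorem main_sep_single {X S : Scheme.{u}} (f : X ⟶ S) [LocallyOfFiniteType f] [IsSeparated f]
    (x : X) (hx : f.QuasiFiniteAt x) :
    ∃ (U : Scheme.{u}) (g : U ⟶ S) (u : U), Etale g ∧ g u = f x ∧
      Function.Surjective (g.residueFieldMap u) ∧
      ∃ (V : (pullback f g).Opens) (v : ↑(pullback f g)), IsClopen (V : Set ↑(pullback f g)) ∧
        IsFinite (V.ι ≫ pullback.snd f g) ∧ v ∈ V ∧ pullback.fst f g v = x ∧
        pullback.snd f g v = u ∧
        Function.Surjective ((pullback.fst f g).residueFieldMap v) ∧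
        (∀ w : ↑(pullback f g), pullback.snd f g w = u → (w ∈ V ∨ pullback.fst f g w = x) →
          w = v) := by
  obtain ⟨U, g, u, hg, hu, hres, V, v, h⟩ := main_core_sep f (f x) (ι := Unit) (fun _ => x)
    (fun _ => rfl) (fun _ => hx)
  obtain ⟨h1, h2, h3, h4, h5, h6⟩ := h ()
  have hres' : IsIso (g.residueFieldMap (pullback.snd f g (v ()))) :=
    isIso_residueFieldMap_of_eq g h4.symm hres
  refine ⟨U, g, u, hg, hu, ((ConcreteCategory.isIso_iff_bijective _).mp hres).2, V (), v (),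
    ⟨h2, (V ()).2⟩, h3, h1, h6, h4,
    (bijective_residueFieldMap_fst f g (v ()) hres').2, ?_⟩
  rintro w hw (hwV | hwx)
  · exact h5 w hwV hw
  · exact eq_of_fst_eq_of_snd_eq f g w (v ()) hres' (hwx.trans h6.symm) (hw.trans h4.symm)

theorem quasiFiniteAt_of_finite_fibre {X Y : Scheme.{u}} (f : X ⟶ Y) [LocallyOfFiniteType f]
    (x : X) (hfin : (f ⁻¹' {f x}).Finite) : f.QuasiFiniteAt x := by
  haveI : Finite ↥(f ⁻¹' {f x}) := hfin.to_subtype
  haveI : Finite ↑(f.fiber (f x)) := Finite.of_equiv _ (f.fiberHomeo (f x)).symm.toEquiv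
  haveI : LocallyOfFiniteType (f.fiberToSpecResidueField (f x)) :=
    MorphismProperty.pullback_snd _ _ inferInstance
  haveI : LocallyQuasiFinite (f.fiberToSpecResidueField (f x)) :=
    LocallyQuasiFinite.of_finite_preimage_singleton _ (fun _ => Set.toFinite _)
  haveI : IsLocallyArtinian (f.fiber (f x)) :=
    .of_locallyQuasiFinite (f.fiberToSpecResidueField (f x))
  rw [Scheme.Hom.quasiFiniteAt_iff_isOpen_singleton_asFiber]
  exact isOpen_discrete _

/-- S5985. -/
theorem main_finite_fibre {X Y : Scheme.{u}} (f : X ⟶ Y)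
    [LocallyOfFiniteType f] [IsSeparated f] (y : Y) (hfin : (f ⁻¹' {y}).Finite) :
    ∃ (Y' : Scheme.{u}) (g : Y' ⟶ Y) (y' : Y'), Etale g ∧ g y' = y ∧
      IsIso (g.residueFieldMap y') ∧
      ∃ (V W : (Limits.pullback f g).Opens), IsCompl V W ∧
        IsFinite (V.ι ≫ Limits.pullback.snd f g) ∧
        ∀ x : ↥(Limits.pullback f g), Limits.pullback.snd f g x = y' → x ∈ V := by
  classical
  haveI : Finite ↥(f ⁻¹' {y}) := hfin.to_subtype
  obtain ⟨n, ⟨eqv⟩⟩ := Finite.exists_equiv_fin ↥(f ⁻¹' {y})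
  let x : Fin n → X := fun i => (eqv.symm i).1
  have hs : ∀ i, f (x i) = y := fun i => (eqv.symm i).2
  have hx : ∀ i, f.QuasiFiniteAt (x i) := fun i =>
    quasiFiniteAt_of_finite_fibre f (x i) (by rw [hs i]; exact hfin)
  obtain ⟨U, g, u, hg, hu, hres, V, v, h⟩ := main_core_sep f y x hs hx
  obtain ⟨hc, hf⟩ := finite_finsetSup (pullback.snd f g) V (fun i => (h i).2.1)
    (fun i => (h i).2.2.1) Finset.univ
  let VV : (pullback f g).Opens := Finset.univ.sup V
  let WW : (pullback f g).Opens := ⟨(VV : Set ↑(pullback f g))ᶜ, hc.isOpen_compl⟩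
  refine ⟨U, g, u, hg, hu, hres, VV, WW, ?_, hf, ?_⟩
  · simp [isCompl_iff, disjoint_iff, codisjoint_iff, WW, SetLike.ext'_iff]
  · intro w hw
    have hfw : f (pullback.fst f g w) = y := by
      rw [← Scheme.Hom.comp_apply, pullback.condition, Scheme.Hom.comp_apply, hw, hu]
    let i : Fin n := eqv ⟨pullback.fst f g w, hfw⟩
    have hxi : x i = pullback.fst f g w := by
      show (eqv.symm (eqv ⟨pullback.fst f g w, hfw⟩)).1 = _
      rw [Equiv.symm_apply_apply]
    obtain ⟨h1, h2, h3, h4, h5, h6⟩ := h i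
    have hres' : IsIso (g.residueFieldMap (pullback.snd f g (v i))) :=
      isIso_residueFieldMap_of_eq g h4.symm hres
    have hwv : w = v i :=
      eq_of_fst_eq_of_snd_eq f g w (v i) hres' (hxi.symm.trans h6.symm) (hw.trans h4.symm)
    have : V i ≤ VV := Finset.le_sup (f := V) (Finset.mem_univ i)
    exact this (hwv ▸ h1)

end Groth.Agent.Lib.Helper19.QFL6
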