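import Mathlib
import Groth.Prelude.Def_CAlg
import Groth.Prelude.Def_MoreMor
import Groth.Agent.Lib.Helper7.FibreStalkIso
import Groth.Agent.Lib.Helper5.CMFlatLocal
import Groth.Agent.Lib.Helper5.GorFlatH
import Groth.Agent.Lib.Helper5.GorIso
import Groth.Agent.S10834
import Groth.Agent.S0342

set_option autoImplicit false
set_option linter.style.haveILetI false
universe u

namespace Groth.Agent.Lib.Helper19.AlgSpCM1

open CategoryTheory CategoryTheory.Limits AlgebraicGeometry IsLocalRing TopologicalSpace

/-- the local ring of the spectrum of a field is a field. -/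
theorem isField_stalk_spec_field (k : Type u) [Field k] (s : Spec (CommRingCat.of k)) :
    IsField ((Spec (CommRingCat.of k)).presheaf.stalk s) := by
  letI : Algebra k ((Spec (CommRingCat.of k)).presheaf.stalk s) :=
    StructureSheaf.stalkAlgebra (R := k) s
  haveI : IsLocalization.AtPrime ((Spec (CommRingCat.of k)).presheaf.stalk s) s.asIdeal :=
    StructureSheaf.IsLocalization.to_stalk (R := k) s
  have hle : s.asIdeal.primeCompl ≤ IsUnit.submonoid k := by
    intro a ha
    have : a ≠ 0 := by
      rintro rfl
      exact ha (Ideal.zero_mem _)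
    exact isUnit_iff_ne_zero.mpr this
  let e : k ≃ₐ[k] ((Spec (CommRingCat.of k)).presheaf.stalk s) :=
    IsLocalization.atUnits k s.asIdeal.primeCompl hle
  exact e.symm.toMulEquiv.isField (Field.toIsField k)

/-- a local ring that is étale-locally over a field is a field. -/
theorem isField_of_formallyUnramified_field (A B : Type u) [CommRing A] [CommRing B]
    [IsLocalRing A] [IsLocalRing B] [Algebra A B] [IsLocalHom (algebraMap A B)]
    [Algebra.FormallyUnramified A B] [Algebra.EssFiniteType A B] (hA : IsField A) :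
    IsField B := by
  have h1 : (maximalIdeal A).map (algebraMap A B) = maximalIdeal B :=
    Algebra.FormallyUnramified.map_maximalIdeal
  have h2 : maximalIdeal A = ⊥ := (IsLocalRing.isField_iff_maximalIdeal_eq).mp hA
  rw [h2, Ideal.map_bot] at h1
  exact (IsLocalRing.isField_iff_maximalIdeal_eq).mpr h1.symm

theorem isField_stalk_of_etale {V S : Scheme.{u}} (b : V ⟶ S) [Etale b] (v : V)
    (hS : IsField (S.presheaf.stalk (b v))) : IsField (V.presheaf.stalk v) := by
  letI := (b.stalkMap v).hom.toAlgebra
  haveI : IsLocalHom (algebraMap (S.presheaf.stalk (b v)) (V.presheaf.stalk v)) :=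
    inferInstanceAs (IsLocalHom (b.stalkMap v).hom)
  haveI : Algebra.FormallyUnramified (S.presheaf.stalk (b v)) (V.presheaf.stalk v) :=
    FormallyUnramified.stalkMap b v
  haveI : Algebra.EssFiniteType (S.presheaf.stalk (b v)) (V.presheaf.stalk v) :=
    LocallyOfFiniteType.stalkMap b v
  exact isField_of_formallyUnramified_field _ _ hS

/-- over a point whose local ring is a field, the local ring of the fibre is the local ring. -/
theorem fiberStalk_equiv_of_isField {X S : Scheme.{u}} (g : X ⟶ S) (x : X)
    (h : IsField (S.presheaf.stalk (g x))) :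
    Nonempty ((g.fiber (g x)).presheaf.stalk (g.asFiber x) ≃+* X.presheaf.stalk x) := by
  obtain ⟨e⟩ := Groth.Agent.Lib.Helper7.FibreStalkIso.nonempty_ringEquiv g x
  have h2 : maximalIdeal (S.presheaf.stalk (g x)) = ⊥ :=
    (IsLocalRing.isField_iff_maximalIdeal_eq).mp h
  have h3 : (maximalIdeal (S.presheaf.stalk (g x))).map (g.stalkMap x).hom = ⊥ := by
    rw [h2, Ideal.map_bot]
  exact ⟨e.symm.trans ((Ideal.quotEquivOfEq h3).trans (RingEquiv.quotientBot _))⟩

theorem flat_of_isField {X S : Scheme.{u}} (g : X ⟶ S) (x : X)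
    (h : IsField (S.presheaf.stalk (g x))) : (g.stalkMap x).hom.Flat := by
  letI := h.toField
  letI := (g.stalkMap x).hom.toAlgebra
  change Module.Flat (S.presheaf.stalk (g x)) (X.presheaf.stalk x)
  infer_instance

end Groth.Agent.Lib.Helper19.AlgSpCM1

namespace Groth.Agent.Lib.Helper19.AlgSpCM1

open CategoryTheory CategoryTheory.Limits AlgebraicGeometry IsLocalRing TopologicalSpace

theorem isCM_of_isField (F : Type u) [CommRing F] (h : IsField F) :
    LocCoh.IsCohenMacaulayLocalRing F := by
  letI := h.toField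
  haveI : IsRegularLocalRing F := inferInstance
  exact ⟨Groth.Agent.S10834.isCM_of_isRegularLocalRing F⟩

theorem isGor_of_isField (F : Type u) [CommRing F] (h : IsField F) :
    LocCoh.IsGorensteinLocalRing F := by
  letI := h.toField
  haveI : IsRegularLocalRing F := inferInstance
  exact Groth.Agent.S0342.result F

section Ring

variable (A B : Type u) [CommRing A] [CommRing B] [IsNoetherianRing A] [IsNoetherianRing B]
  [IsLocalRing A] [IsLocalRing B] [Algebra A B] [IsLocalHom (algebraMap A B)] [Module.Flat A B]
  [Algebra.FormallyUnramified A B] [Algebra.EssFiniteType A B]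

theorem isCM_iff_of_unramified :
    LocCoh.IsCohenMacaulayLocalRing B ↔ LocCoh.IsCohenMacaulayLocalRing A := by
  rw [Groth.Agent.Lib.Helper5.CMFlatLocal.isCohenMacaulayLocalRing_flat_iff A B]
  have hF : IsField (B ⧸ (maximalIdeal A).map (algebraMap A B)) :=
    Algebra.FormallyUnramified.isField_quotient_map_maximalIdeal
  exact ⟨fun h => h.1, fun h => ⟨h, isCM_of_isField _ hF⟩⟩

theorem isGor_of_unramified (hA : LocCoh.IsGorensteinLocalRing A) :
    LocCoh.IsGorensteinLocalRing B := by
  obtain ⟨n, hn⟩ := Groth.Agent.Lib.Helper21.DepthKit.exists_nat_supportDim (A := A) (M := A)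
  rw [Module.supportDim_self_eq_ringKrullDim] at hn
  rw [Groth.Agent.Lib.Helper5.GorFlat.gorenstein_iff_fibre n A B hA hn]
  have hF : IsField (B ⧸ (maximalIdeal A).map (algebraMap A B)) :=
    Algebra.FormallyUnramified.isField_quotient_map_maximalIdeal
  exact isGor_of_isField _ hF

theorem isGor_iff_of_unramified :
    LocCoh.IsGorensteinLocalRing B ↔ LocCoh.IsGorensteinLocalRing A :=
  ⟨fun h => Groth.Agent.Lib.Helper5.GorFlat.isGorensteinLocalRing_of_flat A B h,
    isGor_of_unramified A B⟩

end Ring

theorem stalk_iff_of_etale {U X : Scheme.{u}} (a : U ⟶ X) [Etale a] [IsLocallyNoetherian X]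
    (u : U) :
    (LocCoh.IsCohenMacaulayLocalRing (U.presheaf.stalk u) ↔
      LocCoh.IsCohenMacaulayLocalRing (X.presheaf.stalk (a u))) ∧
    (LocCoh.IsGorensteinLocalRing (U.presheaf.stalk u) ↔
      LocCoh.IsGorensteinLocalRing (X.presheaf.stalk (a u))) := by
  haveI : IsLocallyNoetherian U := LocallyOfFiniteType.isLocallyNoetherian a
  letI := (a.stalkMap u).hom.toAlgebra
  haveI : IsLocalHom (algebraMap (X.presheaf.stalk (a u)) (U.presheaf.stalk u)) :=
    inferInstanceAs (IsLocalHom (a.stalkMap u).hom)
  haveI : Algebra.FormallyUnramified (X.presheaf.stalk (a u)) (U.presheaf.stalk u) :=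
    FormallyUnramified.stalkMap a u
  haveI : Algebra.EssFiniteType (X.presheaf.stalk (a u)) (U.presheaf.stalk u) :=
    LocallyOfFiniteType.stalkMap a u
  haveI : Module.Flat (X.presheaf.stalk (a u)) (U.presheaf.stalk u) := Flat.stalkMap a u
  exact ⟨isCM_iff_of_unramified _ _, isGor_iff_of_unramified _ _⟩

end Groth.Agent.Lib.Helper19.AlgSpCM1
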