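import Mathlib
import Groth.Prelude.Def_CInt
import Groth.Agent.S2155
import Groth.Agent.S2793
import Groth.Agent.Lib.Helper25.FibCritPt
import Groth.Agent.Lib.Helper7.FibreDepthDimScheme
import Groth.Agent.Lib.helper11.RegularDim
import Groth.Agent.Lib.Helper5.RegSmoothScheme2

set_option autoImplicit false
set_option linter.style.haveILetI false
universe u

namespace Groth.Agent.Lib.Helper19.SmCodepth

open CategoryTheory CategoryTheory.Limits AlgebraicGeometry IsLocalRing TopologicalSpace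

theorem regular_stalk_of_mem_smoothLocus (K : Type u) [Field K] (Z : Scheme.{u})
    (g : Z ⟶ Spec (CommRingCat.of K)) [LocallyOfFinitePresentation g] (z : Z)
    (hz : z ∈ g.smoothLocus) : IsRegularLocalRing (Z.presheaf.stalk z) := by
  obtain ⟨U, hzU, hU⟩ := (Groth.Agent.S2793.nhd_smooth_iff g z).mpr hz
  have h1 := Groth.Agent.Lib.Helper5.RegSmooth.regular_stalk_of_smooth K U (U.ι ≫ g) ⟨z, hzU⟩
  exact IsRegularLocalRing.of_ringEquiv
    (asIso (U.ι.stalkMap ⟨z, hzU⟩)).commRingCatIsoToRingEquiv.symm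

theorem flat_and_fibre_regular {X Y : Scheme.{u}} (f : X ⟶ Y) [LocallyOfFinitePresentation f]
    (x : X) (hx : ∃ U : X.Opens, x ∈ U ∧ Smooth (U.ι ≫ f)) :
    (f.stalkMap x).hom.Flat ∧ IsRegularLocalRing (CInt.fiberStalk f x) := by
  constructor
  · obtain ⟨U, hxU, hU⟩ := hx
    have h1 : ((U.ι ≫ f).stalkMap ⟨x, hxU⟩).hom.Flat := Flat.stalkMap _ _
    exact (Groth.Agent.Lib.Helper25.FibCritPt.flat_stalkMap_ι_comp_iff f U ⟨x, hxU⟩).mp h1
  · have hxs : x ∈ f.smoothLocus := (Groth.Agent.S2793.nhd_smooth_iff f x).mp hx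
    haveI : LocallyOfFinitePresentation (f.fiberToSpecResidueField (f x)) :=
      MorphismProperty.pullback_snd _ _ inferInstance
    have h2 : f.asFiber x ∈ (f.fiberToSpecResidueField (f x)).smoothLocus :=
      Groth.Agent.S2155.mem_smoothLocus_of_isPullback f (Y.fromSpecResidueField (f x))
        (f.fiberToSpecResidueField (f x)) (f.fiberι (f x)) (IsPullback.of_hasPullback _ _)
        (f.asFiber x) (by rw [f.fiberι_asFiber]; exact hxs)
    exact regular_stalk_of_mem_smoothLocus (Y.residueField (f x)) (f.fiber (f x))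
      (f.fiberToSpecResidueField (f x)) (f.asFiber x) h2

theorem main {X Y : Scheme.{u}} (f : X ⟶ Y)
    [IsLocallyNoetherian Y] [LocallyOfFiniteType f] (x : ↥X)
    (hx : ∃ U : X.Opens, x ∈ U ∧ Smooth (U.ι ≫ f)) :
    ringKrullDim ↑(X.presheaf.stalk x) +
        ((LocCoh.depth ↑(Y.presheaf.stalk (f.base x)) ↑(Y.presheaf.stalk (f.base x)) : ℕ∞) : WithBot ℕ∞) =
      ringKrullDim ↑(Y.presheaf.stalk (f.base x)) +
        ((LocCoh.depth ↑(X.presheaf.stalk x) ↑(X.presheaf.stalk x) : ℕ∞) : WithBot ℕ∞) := by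
  haveI : LocallyOfFinitePresentation f :=
    LocallyOfFinitePresentation.iff_locallyOfFiniteType.mpr inferInstance
  haveI : IsLocallyNoetherian X := LocallyOfFiniteType.isLocallyNoetherian f
  obtain ⟨hfl, hreg⟩ := flat_and_fibre_regular f x hx
  have h1 := Groth.Agent.Lib.Helper7.FibreDepthDimScheme.dim_eq_add f x hfl
  have h2 := Groth.Agent.Lib.Helper7.FibreDepthDimScheme.depth_eq_add f x hfl
  have h3 := Groth.Agent.Lib.helper11.RegularDim.depth_self (R := CInt.fiberStalk f x)
  rw [h1, h2, ← h3]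
  push_cast
  abel

end Groth.Agent.Lib.Helper19.SmCodepth
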