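import Mathlib
import Groth.Agent.Lib.Helper15.AlgSpFormal
import Groth.Agent.S2807

set_option autoImplicit false
set_option linter.style.haveILetI false
universe u
open CategoryTheory CategoryTheory.Limits AlgebraicGeometry IsLocalRing TensorProduct

namespace Groth.Agent.Lib.Helper19.LocLift1

/-- Uniqueness of lifts along `Spec` of a square-zero surjection for formally unramified
morphisms. -/
theorem hom_ext_of_sqZero {X Y : Scheme.{u}} (f : X ⟶ Y) [FormallyUnramified f]
    {B B' : Type u} [CommRing B] [CommRing B'] (φ : B' →+* B) (hφ : Function.Surjective φ)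
    (hker : RingHom.ker φ ^ 2 = ⊥) (g₁ g₂ : Spec (CommRingCat.of B') ⟶ X)
    (h1 : Spec.map (CommRingCat.ofHom φ) ≫ g₁ = Spec.map (CommRingCat.ofHom φ) ≫ g₂)
    (h2 : g₁ ≫ f = g₂ ≫ f) : g₁ = g₂ := by
  let I : Ideal B' := RingHom.ker φ
  let e : (B' ⧸ I) ≃+* B := RingHom.quotientKerEquivOfSurjective hφ
  have hmk : CommRingCat.ofHom (Ideal.Quotient.mk I) =
      CommRingCat.ofHom φ ≫ CommRingCat.ofHom e.symm.toRingHom := by
    ext x
    change Ideal.Quotient.mk I x = e.symm (φ x)
    rw [RingEquiv.eq_symm_apply]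
    rfl
  have hg' : Spec.map (CommRingCat.ofHom (Ideal.Quotient.mk I)) ≫ g₁ =
      Spec.map (CommRingCat.ofHom (Ideal.Quotient.mk I)) ≫ g₂ := by
    rw [hmk, Spec.map_comp, Category.assoc, Category.assoc, h1]
  have hci : IsClosedImmersion (Spec.map (CommRingCat.ofHom (Ideal.Quotient.mk I))) :=
    IsClosedImmersion.spec_of_surjective _ Ideal.Quotient.mk_surjective
  refine FormallyUnramified.hom_ext (Spec.map (CommRingCat.ofHom (Ideal.Quotient.mk I)))
    ⟨2, ?_⟩ f hg' h2
  rw [pow_two]
  exact Groth.Agent.Lib.Helper15.AlgSpFormal.ker_SpecMap_mk_sq I hker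

/-- A morphism from the spectrum of a local ring factors through any open containing the image
of the closed point. -/
theorem range_subset_of_closedPoint_mem {X : Scheme.{u}} {B : Type u} [CommRing B]
    [IsLocalRing B] (γ : Spec (CommRingCat.of B) ⟶ X) (U : X.Opens)
    (h : γ (closedPoint B) ∈ U) : Set.range γ ⊆ (U : Set X) := by
  rintro _ ⟨p, rfl⟩
  exact ((IsLocalRing.specializes_closedPoint p).map γ.continuous).mem_open U.2 h

/-- A surjective ring hom with square-zero kernel is a local hom. -/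
theorem isLocalHom_of_sqZero {B B' : Type u} [CommRing B] [CommRing B'] (φ : B' →+* B)
    (hφ : Function.Surjective φ) (hker : RingHom.ker φ ^ 2 = ⊥) : IsLocalHom φ := by
  refine ⟨fun b hb => ?_⟩
  obtain ⟨c', hc'⟩ := hb.exists_right_inv
  obtain ⟨c, rfl⟩ := hφ c'
  have h1 : b * c - 1 ∈ RingHom.ker φ := by
    rw [RingHom.mem_ker, map_sub, map_mul, hc', map_one, sub_self]
  have h2 : IsNilpotent (b * c - 1) := by
    refine ⟨2, ?_⟩
    have : (b * c - 1) ^ 2 ∈ RingHom.ker φ ^ 2 := Ideal.pow_mem_pow h1 2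
    rwa [hker, Ideal.mem_bot] at this
  have h3 : IsUnit (b * c) := by
    have := h2.isUnit_add_one
    rwa [sub_add_cancel] at this
  exact isUnit_of_mul_isUnit_left h3

end Groth.Agent.Lib.Helper19.LocLift1
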