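import Mathlib
import Groth.Agent.Lib.helper19.LocLift1

set_option autoImplicit false
set_option linter.style.haveILetI false
universe u
open CategoryTheory CategoryTheory.Limits AlgebraicGeometry IsLocalRing TensorProduct

namespace Groth.Agent.Lib.Helper19.LocLift2

section TestRing

variable (R A : Type u) [CommRing R] [CommRing A] [Algebra R A]

/-- The first-order neighbourhood of the diagonal. -/
abbrev P1 : Type u := (A ⊗[R] A) ⧸ (KaehlerDifferential.ideal R A) ^ 2

/-- The augmentation `P1 → A`. -/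
noncomputable def aug : P1 R A →+* A :=
  Ideal.Quotient.lift ((KaehlerDifferential.ideal R A) ^ 2)
    (Algebra.TensorProduct.lmul' R : A ⊗[R] A →ₐ[R] A).toRingHom (fun t ht => by
      have h1 : t ∈ KaehlerDifferential.ideal R A := Ideal.pow_le_self two_ne_zero ht
      exact h1)

noncomputable def ψ₁ : A →+* P1 R A :=
  (Ideal.Quotient.mk _).comp (Algebra.TensorProduct.includeLeftRingHom)

noncomputable def ψ₂ : A →+* P1 R A :=
  (Ideal.Quotient.mk _).comp (Algebra.TensorProduct.includeRight : A →ₐ[R] A ⊗[R] A).toRingHom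

theorem aug_ψ₁ : (aug R A).comp (ψ₁ R A) = RingHom.id A := by
  ext a
  simp [aug, ψ₁]

theorem aug_ψ₂ : (aug R A).comp (ψ₂ R A) = RingHom.id A := by
  ext a
  simp [aug, ψ₂]

theorem aug_surjective : Function.Surjective (aug R A) := fun a =>
  ⟨ψ₁ R A a, congrArg (fun F => F a) (aug_ψ₁ R A)⟩

theorem ker_aug_sq : RingHom.ker (aug R A) ^ 2 = ⊥ := by
  have h1 : RingHom.ker (aug R A) =
      (KaehlerDifferential.ideal R A).map (Ideal.Quotient.mk ((KaehlerDifferential.ideal R A) ^ 2)) :=
    Ideal.ker_quotient_lift _ _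
  rw [h1, ← Ideal.map_pow, Ideal.map_quotient_self]

theorem ψ_algebraMap : (ψ₁ R A).comp (algebraMap R A) = (ψ₂ R A).comp (algebraMap R A) := by
  ext r
  simp only [ψ₁, ψ₂, RingHom.comp_apply, Algebra.TensorProduct.includeLeftRingHom_apply,
    AlgHom.toRingHom_eq_coe, RingHom.coe_coe, Algebra.TensorProduct.includeRight_apply]
  congr 1
  rw [Algebra.algebraMap_eq_smul_one, TensorProduct.smul_tmul]

theorem formallyUnramified_of_ψ_eq (h : ψ₁ R A = ψ₂ R A) : Algebra.FormallyUnramified R A := by
  rw [Algebra.formallyUnramified_iff, KaehlerDifferential, Ideal.cotangent_subsingleton_iff]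
  have hle : KaehlerDifferential.ideal R A ≤ (KaehlerDifferential.ideal R A) ^ 2 := by
    rw [← KaehlerDifferential.span_range_eq_ideal, Ideal.span_le]
    rintro _ ⟨a, rfl⟩
    have h1 := congrArg (fun F => F a) h
    simp only [ψ₁, ψ₂, RingHom.comp_apply, Algebra.TensorProduct.includeLeftRingHom_apply,
      AlgHom.toRingHom_eq_coe, RingHom.coe_coe, Algebra.TensorProduct.includeRight_apply] at h1
    rw [Ideal.Quotient.eq] at h1
    have h2 := Ideal.neg_mem_iff _ |>.mpr h1
    rw [neg_sub] at h2
    rw [KaehlerDifferential.span_range_eq_ideal]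
    exact h2
  show _ * _ = _
  rw [← pow_two]
  exact le_antisymm (Ideal.pow_le_self two_ne_zero) hle

instance [IsLocalRing A] : IsLocalRing (P1 R A) :=
  haveI := LocLift1.isLocalHom_of_sqZero (aug R A) (aug_surjective R A) (ker_aug_sq R A)
  (aug R A).domain_isLocalRing

end TestRing

end Groth.Agent.Lib.Helper19.LocLift2
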