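import Mathlib
import Groth.Agent.Lib.helper19.LocLift2

set_option autoImplicit false
set_option linter.style.haveILetI false
universe u
open CategoryTheory CategoryTheory.Limits AlgebraicGeometry IsLocalRing TensorProduct

namespace Groth.Agent.Lib.Helper19.LocLift3

open LocLift1 LocLift2

theorem closedPoint_of_comp {X : Scheme.{u}} {B B' : Type u} [CommRing B] [CommRing B']
    [IsLocalRing B] [IsLocalRing B'] (φ : B' →+* B) [IsLocalHom φ]
    (α : Spec (CommRingCat.of B) ⟶ X) (γ : Spec (CommRingCat.of B') ⟶ X)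
    (hγ : Spec.map (CommRingCat.ofHom φ) ≫ γ = α) :
    γ (closedPoint B') = α (closedPoint B) := by
  rw [← hγ, Scheme.Hom.comp_apply]
  congr 1
  exact (IsLocalRing.comap_closedPoint φ).symm

theorem unram_main {X Y : Scheme.{u}} (f : X ⟶ Y) [LocallyOfFinitePresentation f] (x : ↥X) :
    (∃ U : X.Opens, x ∈ U ∧ FormallyUnramified (U.ι ≫ f)) ↔
      ∀ (B B' : Type u) [CommRing B] [CommRing B'] [IsLocalRing B] [IsLocalRing B'] (φ : B' →+* B),
      Function.Surjective φ → RingHom.ker φ ^ 2 = ⊥ →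
      ∀ (α : Spec (CommRingCat.of B) ⟶ X) (β : Spec (CommRingCat.of B') ⟶ Y),
        α.base (IsLocalRing.closedPoint B) = x → Spec.map (CommRingCat.ofHom φ) ≫ β = α ≫ f →
        ∀ γ₁ γ₂ : Spec (CommRingCat.of B') ⟶ X,
          Spec.map (CommRingCat.ofHom φ) ≫ γ₁ = α → γ₁ ≫ f = β →
          Spec.map (CommRingCat.ofHom φ) ≫ γ₂ = α → γ₂ ≫ f = β → γ₁ = γ₂ := by
  constructor
  · rintro ⟨U, hxU, hU⟩ B B' _ _ _ _ φ hφ hker α β hα hcomm γ₁ γ₂ h1 h1' h2 h2'
    haveI := isLocalHom_of_sqZero φ hφ hker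
    have hc₁ : γ₁ (closedPoint B') ∈ U := by
      rw [closedPoint_of_comp φ α γ₁ h1, hα]; exact hxU
    have hc₂ : γ₂ (closedPoint B') ∈ U := by
      rw [closedPoint_of_comp φ α γ₂ h2, hα]; exact hxU
    have hr₁ : Set.range γ₁ ⊆ Set.range U.ι := by
      rw [Scheme.Opens.range_ι]; exact range_subset_of_closedPoint_mem γ₁ U hc₁
    have hr₂ : Set.range γ₂ ⊆ Set.range U.ι := by
      rw [Scheme.Opens.range_ι]; exact range_subset_of_closedPoint_mem γ₂ U hc₂
    let g₁ := IsOpenImmersion.lift U.ι γ₁ hr₁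
    let g₂ := IsOpenImmersion.lift U.ι γ₂ hr₂
    have hg₁ : g₁ ≫ U.ι = γ₁ := IsOpenImmersion.lift_fac _ _ _
    have hg₂ : g₂ ≫ U.ι = γ₂ := IsOpenImmersion.lift_fac _ _ _
    have : g₁ = g₂ := by
      refine hom_ext_of_sqZero (U.ι ≫ f) φ hφ hker g₁ g₂ ?_ ?_
      · rw [← cancel_mono U.ι, Category.assoc, Category.assoc, hg₁, hg₂, h1, h2]
      · rw [← Category.assoc, ← Category.assoc, hg₁, hg₂, h1', h2']
    rw [← hg₁, ← hg₂, this]
  · intro H
    haveI : LocallyOfFiniteType f := inferInstance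
    apply Groth.Agent.S2807.exists_formallyUnramified_nhd f x
    letI : Algebra (Y.presheaf.stalk (f x)) (X.presheaf.stalk x) := (f.stalkMap x).hom.toAlgebra
    rw [← RingHom.algebraMap_toAlgebra (f.stalkMap x).hom, RingHom.formallyUnramified_algebraMap]
    apply formallyUnramified_of_ψ_eq
    let R := Y.presheaf.stalk (f x)
    let A := X.presheaf.stalk x
    let α : Spec (CommRingCat.of A) ⟶ X := X.fromSpecStalk x
    have hαf : α ≫ f = Spec.map (f.stalkMap x) ≫ Y.fromSpecStalk (f x) :=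
      (Scheme.SpecMap_stalkMap_fromSpecStalk f).symm
    have hψ : f.stalkMap x ≫ CommRingCat.ofHom (ψ₁ R A) =
        f.stalkMap x ≫ CommRingCat.ofHom (ψ₂ R A) := by
      ext r
      exact congrArg (fun F => F r) (ψ_algebraMap R A)
    have key := H A (P1 R A) (aug R A) (aug_surjective R A) (ker_aug_sq R A) α
      (Spec.map (CommRingCat.ofHom (ψ₁ R A)) ≫ α ≫ f) Scheme.fromSpecStalk_closedPoint ?_
      (Spec.map (CommRingCat.ofHom (ψ₁ R A)) ≫ α) (Spec.map (CommRingCat.ofHom (ψ₂ R A)) ≫ α)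
      ?_ (Category.assoc _ _ _) ?_ ?_
    · have hmono : Mono α := inferInstanceAs (Mono (X.fromSpecStalk x))
      rw [cancel_mono] at key
      have := Spec.map_injective key
      exact congrArg CommRingCat.Hom.hom this
    · have h0 : Spec.map (CommRingCat.ofHom (RingHom.id ↑A)) = 𝟙 _ := Spec.map_id _
      rw [← Category.assoc, ← Spec.map_comp, ← CommRingCat.ofHom_comp, aug_ψ₁, h0,
        Category.id_comp]
    · have h0 : Spec.map (CommRingCat.ofHom (RingHom.id ↑A)) = 𝟙 _ := Spec.map_id _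
      rw [← Category.assoc, ← Spec.map_comp, ← CommRingCat.ofHom_comp, aug_ψ₁, h0,
        Category.id_comp]
    · have h0 : Spec.map (CommRingCat.ofHom (RingHom.id ↑A)) = 𝟙 _ := Spec.map_id _
      rw [← Category.assoc, ← Spec.map_comp, ← CommRingCat.ofHom_comp, aug_ψ₂, h0,
        Category.id_comp]
    · have e1 : Spec.map (CommRingCat.ofHom (ψ₂ R A)) ≫ Spec.map (f.stalkMap x) =
          Spec.map (CommRingCat.ofHom (ψ₁ R A)) ≫ Spec.map (f.stalkMap x) := by
        rw [← Spec.map_comp, ← Spec.map_comp]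
        exact congrArg Spec.map hψ.symm
      rw [Category.assoc, hαf, ← Category.assoc, e1, Category.assoc]

end Groth.Agent.Lib.Helper19.LocLift3
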