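import Mathlib
import Groth.Agent.Lib.helper19.LocLift3

set_option autoImplicit false
set_option linter.style.haveILetI false
universe u
open CategoryTheory CategoryTheory.Limits AlgebraicGeometry IsLocalRing TensorProduct

namespace Groth.Agent.Lib.Helper19.LocLift4

open LocLift1

/-- A morphism from the spectrum of a local ring sending the closed point to `x` factors through
`Spec 𝒪_{X,x}`. -/
theorem exists_stalk_hom {X : Scheme.{u}} {B : Type u} [CommRing B] [IsLocalRing B]
    (γ : Spec (CommRingCat.of B) ⟶ X) (x : X) (h : γ (closedPoint B) = x) :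
    ∃ c : X.presheaf.stalk x ⟶ CommRingCat.of B, Spec.map c ≫ X.fromSpecStalk x = γ := by
  subst h
  exact ⟨Scheme.stalkClosedPointTo γ, Scheme.Spec_stalkClosedPointTo_fromSpecStalk γ⟩

section TestRing

variable (R A : Type u) [CommRing R] [CommRing A] [Algebra R A] [IsLocalRing A]

/-- The tautological presentation. -/
noncomputable def π₀ : MvPolynomial A R →ₐ[R] A := MvPolynomial.aeval id

theorem π₀_surjective : Function.Surjective (π₀ R A) := fun a => ⟨MvPolynomial.X a, by simp [π₀]⟩

/-- The prime over the maximal ideal. -/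
noncomputable def q' : Ideal (MvPolynomial A R) := (maximalIdeal A).comap (π₀ R A)

instance : (q' R A).IsPrime := Ideal.comap_isPrime _ _

/-- The local formally smooth algebra. -/
abbrev P : Type u := Localization.AtPrime (q' R A)

theorem isUnit_π₀ (y : (q' R A).primeCompl) : IsUnit (π₀ R A y) := by
  have : (y : MvPolynomial A R) ∉ q' R A := y.2
  by_contra hu
  exact this (show π₀ R A y ∈ maximalIdeal A from hu)

noncomputable def π : P R A →ₐ[R] A :=
  IsLocalization.liftAlgHom (M := (q' R A).primeCompl) (f := π₀ R A) (isUnit_π₀ R A)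

theorem π_surjective : Function.Surjective (π R A) := by
  intro a
  obtain ⟨p, rfl⟩ := π₀_surjective R A a
  refine ⟨algebraMap _ _ p, ?_⟩
  simp [π]

instance : Algebra.FormallySmooth R (P R A) :=
  haveI : Algebra.FormallySmooth (MvPolynomial A R) (P R A) :=
    Algebra.FormallySmooth.of_isLocalization (q' R A).primeCompl
  Algebra.FormallySmooth.comp R (MvPolynomial A R) (P R A)

theorem ker_sq (S : Type u) [CommRing S] [Algebra R S] (f : S →ₐ[R] A) :
    RingHom.ker (f.kerSquareLift).toRingHom ^ 2 = ⊥ := by
  rw [AlgHom.ker_kerSquareLift f, Ideal.cotangentIdeal_square]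

theorem kerSquareLift_surjective (S : Type u) [CommRing S] [Algebra R S] (f : S →ₐ[R] A)
    (hf : Function.Surjective f) : Function.Surjective f.kerSquareLift := by
  intro a
  obtain ⟨p, rfl⟩ := hf a
  exact ⟨Ideal.Quotient.mk _ p, rfl⟩

theorem isLocalRing_kerSquare (S : Type u) [CommRing S] [Algebra R S] (f : S →ₐ[R] A)
    (hf : Function.Surjective f) : IsLocalRing (S ⧸ RingHom.ker f.toRingHom ^ 2) :=
  haveI := isLocalHom_of_sqZero (f.kerSquareLift).toRingHom
    (kerSquareLift_surjective R A S f hf) (ker_sq R A S f)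
  (f.kerSquareLift).toRingHom.domain_isLocalRing

theorem formallySmooth_of_section
    (g : A →ₐ[R] P R A ⧸ RingHom.ker (π R A).toRingHom ^ 2)
    (hg : (π R A).kerSquareLift.comp g = AlgHom.id R A) :
    Algebra.FormallySmooth R A :=
  (Algebra.FormallySmooth.iff_split_surjection (π R A) (π_surjective R A)).mpr ⟨g, hg⟩

end TestRing

end Groth.Agent.Lib.Helper19.LocLift4
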