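import Mathlib
import Groth.Agent.Lib.helper19.LocLift4

set_option autoImplicit false
set_option linter.style.haveILetI false
universe u
open CategoryTheory CategoryTheory.Limits AlgebraicGeometry IsLocalRing TensorProduct

namespace Groth.Agent.Lib.Helper19.LocLift5

open LocLift1 LocLift3 LocLift4

theorem lift_of_mem_smoothLocus {X Y : Scheme.{u}} (f : X ⟶ Y) [LocallyOfFinitePresentation f]
    (x : ↥X) (hx : x ∈ f.smoothLocus)
    (B B' : Type u) [CommRing B] [CommRing B'] [IsLocalRing B] [IsLocalRing B'] (φ : B' →+* B)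
    (hφ : Function.Surjective φ) (hker : RingHom.ker φ ^ 2 = ⊥)
    (α : Spec (CommRingCat.of B) ⟶ X) (β : Spec (CommRingCat.of B') ⟶ Y)
    (hα : α.base (IsLocalRing.closedPoint B) = x)
    (hcomm : Spec.map (CommRingCat.ofHom φ) ≫ β = α ≫ f) :
    ∃ γ : Spec (CommRingCat.of B') ⟶ X,
      Spec.map (CommRingCat.ofHom φ) ≫ γ = α ∧ γ ≫ f = β := by
  rw [Scheme.Hom.mem_smoothLocus] at hx
  haveI := isLocalHom_of_sqZero φ hφ hker
  obtain ⟨a, ha⟩ := exists_stalk_hom α x hα
  have hβ : β (closedPoint B') = f x := by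
    rw [closedPoint_of_comp φ (α ≫ f) β hcomm, Scheme.Hom.comp_apply]
    exact congrArg f hα
  obtain ⟨b, hb⟩ := exists_stalk_hom β (f x) hβ
  have hcompat : b ≫ CommRingCat.ofHom φ = f.stalkMap x ≫ a := by
    apply Spec.map_injective
    rw [← cancel_mono (Y.fromSpecStalk (f x)), Spec.map_comp, Category.assoc, hb, Spec.map_comp,
      Category.assoc, Scheme.SpecMap_stalkMap_fromSpecStalk, ← Category.assoc, ha, hcomm]
  letI : Algebra (Y.presheaf.stalk (f x)) (X.presheaf.stalk x) := (f.stalkMap x).hom.toAlgebra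
  letI : Algebra (Y.presheaf.stalk (f x)) B' := b.hom.toAlgebra
  letI : Algebra (Y.presheaf.stalk (f x)) B := (φ.comp b.hom).toAlgebra
  haveI : Algebra.FormallySmooth (Y.presheaf.stalk (f x)) (X.presheaf.stalk x) := hx
  let aA : X.presheaf.stalk x →ₐ[Y.presheaf.stalk (f x)] B :=
    { a.hom with
      commutes' := fun r => (congrArg (fun F => F.hom r) hcompat).symm }
  let φA : B' →ₐ[Y.presheaf.stalk (f x)] B := { φ with commutes' := fun r => rfl }
  let c := Algebra.FormallySmooth.liftOfSurjective aA φA hφ ⟨2, hker⟩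
  have hc : φA.comp c = aA := Algebra.FormallySmooth.comp_liftOfSurjective aA φA hφ ⟨2, hker⟩
  refine ⟨Spec.map (CommRingCat.ofHom c.toRingHom) ≫ X.fromSpecStalk x, ?_, ?_⟩
  · rw [← Category.assoc, ← Spec.map_comp, ← ha]
    congr 2
    ext r
    exact congrArg (fun F => F r) hc
  · rw [Category.assoc, ← Scheme.SpecMap_stalkMap_fromSpecStalk, ← Category.assoc,
      ← Spec.map_comp, ← hb]
    congr 2
    ext r
    exact c.commutes r

theorem exists_section_of_lift {X Y : Scheme.{u}} (f : X ⟶ Y) (x : ↥X)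
    (H : ∀ (B B' : Type u) [CommRing B] [CommRing B'] [IsLocalRing B] [IsLocalRing B']
      (φ : B' →+* B), Function.Surjective φ → RingHom.ker φ ^ 2 = ⊥ →
      ∀ (α : Spec (CommRingCat.of B) ⟶ X) (β : Spec (CommRingCat.of B') ⟶ Y),
        α.base (IsLocalRing.closedPoint B) = x → Spec.map (CommRingCat.ofHom φ) ≫ β = α ≫ f →
        ∃ γ : Spec (CommRingCat.of B') ⟶ X,
          Spec.map (CommRingCat.ofHom φ) ≫ γ = α ∧ γ ≫ f = β)
    (B' : Type u) [CommRing B'] [IsLocalRing B']
    [Algebra (Y.presheaf.stalk (f x)) (X.presheaf.stalk x)]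
    (halg : algebraMap (Y.presheaf.stalk (f x)) (X.presheaf.stalk x) = (f.stalkMap x).hom)
    [Algebra (Y.presheaf.stalk (f x)) B']
    (φ : B' →ₐ[Y.presheaf.stalk (f x)] X.presheaf.stalk x) (hφ : Function.Surjective φ)
    (hker : RingHom.ker φ.toRingHom ^ 2 = ⊥) :
    ∃ g : X.presheaf.stalk x →ₐ[Y.presheaf.stalk (f x)] B',
      φ.comp g = AlgHom.id _ _ := by
  let α : Spec (CommRingCat.of (X.presheaf.stalk x)) ⟶ X := X.fromSpecStalk x
  let β : Spec (CommRingCat.of B') ⟶ Y :=
    Spec.map (CommRingCat.ofHom (algebraMap (Y.presheaf.stalk (f x)) B')) ≫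
      Y.fromSpecStalk (f x)
  have hcomm : Spec.map (CommRingCat.ofHom φ.toRingHom) ≫ β = α ≫ f := by
    show Spec.map (CommRingCat.ofHom φ.toRingHom) ≫ Spec.map _ ≫ Y.fromSpecStalk (f x) = _
    rw [← Category.assoc, ← Spec.map_comp]
    have h0 : CommRingCat.ofHom (algebraMap (Y.presheaf.stalk (f x)) B') ≫
        CommRingCat.ofHom φ.toRingHom = f.stalkMap x := by
      ext r
      show φ (algebraMap _ _ r) = _
      rw [φ.commutes r, halg]
    rw [h0]
    exact Scheme.SpecMap_stalkMap_fromSpecStalk f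
  obtain ⟨γ, hγ1, hγ2⟩ := H (X.presheaf.stalk x) B' φ.toRingHom hφ hker α β
    Scheme.fromSpecStalk_closedPoint hcomm
  haveI := isLocalHom_of_sqZero φ.toRingHom hφ hker
  have hγx : γ (closedPoint B') = x := by
    rw [closedPoint_of_comp φ.toRingHom α γ hγ1]
    exact Scheme.fromSpecStalk_closedPoint
  obtain ⟨c, hc⟩ := exists_stalk_hom γ x hγx
  have h1 : c ≫ CommRingCat.ofHom φ.toRingHom = 𝟙 _ := by
    apply Spec.map_injective
    rw [← cancel_mono (X.fromSpecStalk x), Spec.map_comp, Category.assoc, hc, hγ1, Spec.map_id]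
    exact (Category.id_comp _).symm
  have h2 : f.stalkMap x ≫ c =
      CommRingCat.ofHom (algebraMap (Y.presheaf.stalk (f x)) B') := by
    apply Spec.map_injective
    rw [← cancel_mono (Y.fromSpecStalk (f x)), Spec.map_comp, Category.assoc,
      Scheme.SpecMap_stalkMap_fromSpecStalk, ← Category.assoc, hc, hγ2]
  refine ⟨{ c.hom with commutes' := fun r => ?_ }, ?_⟩
  · have := congrArg (fun F => F.hom r) h2
    simp only [CommRingCat.hom_comp, RingHom.comp_apply, CommRingCat.hom_ofHom] at this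
    rw [halg]
    exact this
  · ext a
    exact congrArg (fun F => F.hom a) h1

theorem mem_smoothLocus_of_lift {X Y : Scheme.{u}} (f : X ⟶ Y) [LocallyOfFinitePresentation f]
    (x : ↥X)
    (H : ∀ (B B' : Type u) [CommRing B] [CommRing B'] [IsLocalRing B] [IsLocalRing B']
      (φ : B' →+* B), Function.Surjective φ → RingHom.ker φ ^ 2 = ⊥ →
      ∀ (α : Spec (CommRingCat.of B) ⟶ X) (β : Spec (CommRingCat.of B') ⟶ Y),
        α.base (IsLocalRing.closedPoint B) = x → Spec.map (CommRingCat.ofHom φ) ≫ β = α ≫ f →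
        ∃ γ : Spec (CommRingCat.of B') ⟶ X,
          Spec.map (CommRingCat.ofHom φ) ≫ γ = α ∧ γ ≫ f = β) :
    x ∈ f.smoothLocus := by
  rw [Scheme.Hom.mem_smoothLocus]
  letI : Algebra (Y.presheaf.stalk (f x)) (X.presheaf.stalk x) := (f.stalkMap x).hom.toAlgebra
  show Algebra.FormallySmooth (Y.presheaf.stalk (f x)) (X.presheaf.stalk x)
  haveI hloc := isLocalRing_kerSquare (Y.presheaf.stalk (f x)) (X.presheaf.stalk x) _
    (π (Y.presheaf.stalk (f x)) (X.presheaf.stalk x))
    (π_surjective (Y.presheaf.stalk (f x)) (X.presheaf.stalk x))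
  obtain ⟨g, hg⟩ := exists_section_of_lift f x H _ rfl
    (π (Y.presheaf.stalk (f x)) (X.presheaf.stalk x)).kerSquareLift
    (kerSquareLift_surjective _ _ _ _ (π_surjective (Y.presheaf.stalk (f x)) (X.presheaf.stalk x)))
    (ker_sq _ _ _ _)
  exact formallySmooth_of_section _ _ g hg

theorem smooth_main {X Y : Scheme.{u}} (f : X ⟶ Y) [LocallyOfFinitePresentation f] (x : ↥X) :
    x ∈ f.smoothLocus ↔ ∀ (B B' : Type u) [CommRing B] [CommRing B'] [IsLocalRing B]
      [IsLocalRing B'] (φ : B' →+* B),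
      Function.Surjective φ → RingHom.ker φ ^ 2 = ⊥ →
      ∀ (α : Spec (CommRingCat.of B) ⟶ X) (β : Spec (CommRingCat.of B') ⟶ Y),
        α.base (IsLocalRing.closedPoint B) = x → Spec.map (CommRingCat.ofHom φ) ≫ β = α ≫ f →
        ∃ γ : Spec (CommRingCat.of B') ⟶ X,
          Spec.map (CommRingCat.ofHom φ) ≫ γ = α ∧ γ ≫ f = β :=
  ⟨fun hx B B' _ _ _ _ φ hφ hker α β hα hcomm =>
    lift_of_mem_smoothLocus f x hx B B' φ hφ hker α β hα hcomm,
   mem_smoothLocus_of_lift f x⟩

end Groth.Agent.Lib.Helper19.LocLift5
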