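import Mathlib

/-!
# Closed surjective maps do not lower the Krull dimension (helper19)
-/

set_option autoImplicit false

namespace Groth.Agent.Lib.helper19.NoethNorm1

open TopologicalSpace

variable {X Y : Type*} [TopologicalSpace X] [TopologicalSpace Y]

/-- the irreducible closed subset `closure {x}` -/
def cl (x : X) : IrreducibleCloseds X :=
  ⟨closure {x}, isIrreducible_singleton.closure, isClosed_closure⟩

theorem image_closure_singleton (f : X → Y) (hf : Continuous f) (hc : IsClosedMap f) (x : X) :
    f '' closure {x} = closure {f x} := by
  rw [← hc.closure_image_eq_of_continuous hf, Set.image_singleton]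

theorem exists_chain (f : X → Y) (hf : Continuous f) (hc : IsClosedMap f) [QuasiSober Y] :
    ∀ (r : ℕ) (p : LTSeries (IrreducibleCloseds Y)) (_ : p.length = r) (x : X)
      (_ : closure {f x} = (p.last : Set Y)),
      ∃ q : LTSeries (IrreducibleCloseds X), q.length = r ∧ q.last = cl x := by
  intro r
  induction r with
  | zero =>
    intro p _ x _
    exact ⟨RelSeries.singleton _ (cl x), rfl, rfl⟩
  | succ r ih =>
    intro p hp x hx
    have hlen : p.length ≠ 0 := by omega
    have hlt : p.eraseLast.last < p.last := RelSeries.eraseLast_last_rel_last p hlen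
    have hη : closure {(p.eraseLast.last).isIrreducible.genericPoint} =
        (p.eraseLast.last : Set Y) :=
      (p.eraseLast.last).isIrreducible.closure_genericPoint (p.eraseLast.last).isClosed
    set η := (p.eraseLast.last).isIrreducible.genericPoint with hηdef
    have hmem : η ∈ f '' closure {x} := by
      rw [image_closure_singleton f hf hc, hx]
      refine hlt.le ?_
      have : η ∈ closure ({η} : Set Y) := subset_closure rfl
      rw [hη] at this
      exact this
    obtain ⟨x', hx', hfx'⟩ := hmem
    have hlen' : p.eraseLast.length = r := by
      rw [RelSeries.eraseLast_length]; omega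
    obtain ⟨q', hq', hlast⟩ := ih p.eraseLast hlen' x' (by rw [hfx', hη])
    have hle : cl x' ≤ cl x := by
      show closure {x'} ⊆ closure {x}
      exact (isClosed_closure.closure_subset_iff).mpr (Set.singleton_subset_iff.mpr hx')
    have hne : cl x' ≠ cl x := by
      intro h
      have h1 : (closure {x'} : Set X) = closure {x} := congrArg (fun s : IrreducibleCloseds X => (s : Set X)) h
      have h2 : (p.eraseLast.last : Set Y) = p.last := by
        rw [← hη, ← hx, ← hfx', ← image_closure_singleton f hf hc, ← image_closure_singleton f hf hc, h1]
      exact hlt.ne (IrreducibleCloseds.ext h2)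
    refine ⟨q'.snoc (cl x) (by rw [hlast]; exact lt_of_le_of_ne hle hne), ?_, ?_⟩
    · rw [RelSeries.snoc_length, hq']
    · exact RelSeries.last_snoc _ _ _

theorem topologicalKrullDim_le_of_isClosedMap_of_surjective (f : X → Y) (hf : Continuous f)
    (hc : IsClosedMap f) (hs : Function.Surjective f) [QuasiSober Y] :
    topologicalKrullDim Y ≤ topologicalKrullDim X := by
  unfold topologicalKrullDim Order.krullDim
  refine iSup_le fun p => ?_
  obtain ⟨x, hx⟩ := hs (p.last).isIrreducible.genericPoint
  obtain ⟨q, hq, -⟩ := exists_chain f hf hc p.length p rfl x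
    (by rw [hx]; exact (p.last).isIrreducible.closure_genericPoint (p.last).isClosed)
  exact le_iSup_of_le q (by rw [hq])

end Groth.Agent.Lib.helper19.NoethNorm1
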