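import Mathlib
import Groth.Agent.S2082
import Groth.Agent.S9829

set_option autoImplicit false
universe u

namespace Groth.Agent.Lib.Helper19.FiniteCMFlat

open IsLocalRing

/-- If `q` is the only prime between `I` and `q`, the localization `S_q / I S_q` has dimension `≤ 0`. -/
theorem dim_quot_map_le_zero {S : Type u} [CommRing S] (q : Ideal S) [q.IsPrime] (I : Ideal S)
    (h : ∀ q' : Ideal S, q'.IsPrime → I ≤ q' → q' ≤ q → q' = q) :
    ringKrullDim (Localization.AtPrime q ⧸ I.map (algebraMap S (Localization.AtPrime q))) ≤ 0 := by
  rw [ringKrullDim_quotient]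
  have : Subsingleton (PrimeSpectrum.zeroLocus
      ((I.map (algebraMap S (Localization.AtPrime q)) : Ideal _) : Set (Localization.AtPrime q))) := by
    have key : ∀ P : PrimeSpectrum (Localization.AtPrime q),
        P ∈ PrimeSpectrum.zeroLocus ((I.map (algebraMap S (Localization.AtPrime q)) : Ideal _) :
          Set (Localization.AtPrime q)) → P.asIdeal = maximalIdeal (Localization.AtPrime q) := by
      intro P hP
      have hP' : I.map (algebraMap S (Localization.AtPrime q)) ≤ P.asIdeal := hP
      have h1 : I ≤ P.asIdeal.comap (algebraMap S (Localization.AtPrime q)) := by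
        rw [← Ideal.map_le_iff_le_comap]
        exact hP'
      have h2 : P.asIdeal.comap (algebraMap S (Localization.AtPrime q)) ≤ q := by
        have hle : P.asIdeal ≤ maximalIdeal (Localization.AtPrime q) :=
          le_maximalIdeal P.2.ne_top
        calc P.asIdeal.comap (algebraMap S (Localization.AtPrime q))
            ≤ (maximalIdeal (Localization.AtPrime q)).comap
                (algebraMap S (Localization.AtPrime q)) := Ideal.comap_mono hle
          _ = q := Localization.AtPrime.comap_maximalIdeal
      have h4 : P.asIdeal.comap (algebraMap S (Localization.AtPrime q)) = q :=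
        h _ (Ideal.comap_isPrime _ _) h1 h2
      rw [← Localization.AtPrime.map_eq_maximalIdeal]
      have h5 := congrArg (Ideal.map (algebraMap S (Localization.AtPrime q))) h4
      rw [IsLocalization.map_comap q.primeCompl] at h5
      exact h5
    constructor
    rintro ⟨P, hP⟩ ⟨Q, hQ⟩
    apply Subtype.ext
    apply PrimeSpectrum.ext
    rw [key P hP, key Q hQ]
  exact Order.krullDim_nonpos_of_subsingleton

/-- A domain finite over a regular local subring with Cohen–Macaulay localizations is flat. -/
theorem main (R S : Type u) [CommRing R] [CommRing S]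
    [IsRegularLocalRing R] [IsDomain S] [Algebra R S] [Module.Finite R S]
    (hinj : Function.Injective (algebraMap R S))
    (hCM : ∀ (q : Ideal S) [q.IsMaximal], LocCoh.IsCohenMacaulayLocalRing (Localization.AtPrime q)) :
    Module.Flat R S := by
  haveI : IsIntegrallyClosed R := Groth.Agent.S9829.result R
  haveI : IsDomain R := hinj.isDomain
  haveI : FaithfulSMul R S := (faithfulSMul_iff_algebraMap_injective R S).mpr hinj
  haveI : Algebra.IsIntegral R S := inferInstance
  haveI : IsNoetherianRing S := IsNoetherianRing.of_finite R S
  haveI : Algebra.HasGoingDown R S := inferInstance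
  refine Module.flat_of_isLocalized_maximal S S (fun P _ => Localization.AtPrime P)
    (fun P _ => Algebra.linearMap S (Localization.AtPrime P)) ?_
  intro q hq
  haveI := hCM q
  have hunder : q.under R = maximalIdeal R := by
    haveI : (q.under R).IsMaximal := Ideal.isMaximal_comap_of_isIntegral_of_isMaximal (R := R) q
    exact IsLocalRing.eq_maximalIdeal inferInstance
  haveI : q.LiesOver (maximalIdeal R) := ⟨hunder.symm⟩
  -- only prime between `m S` and `q` is `q`
  have honly : ∀ q' : Ideal S, q'.IsPrime → (maximalIdeal R).map (algebraMap R S) ≤ q' → q' ≤ q →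
      q' = q := by
    intro q' hq' h1 h2
    have hc : q'.comap (algebraMap R S) = maximalIdeal R := by
      have hle : maximalIdeal R ≤ q'.comap (algebraMap R S) := Ideal.map_le_iff_le_comap.mp h1
      exact ((maximalIdeal.isMaximal R).eq_of_le (Ideal.comap_ne_top _ hq'.ne_top) hle).symm
    haveI : q'.IsMaximal := Ideal.isMaximal_of_isIntegral_of_isMaximal_comap (R := R) q'
      (by rw [hc]; infer_instance)
    exact Ideal.IsMaximal.eq_of_le inferInstance hq.ne_top h2
  have hfib := dim_quot_map_le_zero q ((maximalIdeal R).map (algebraMap R S)) honly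
  -- height of `q`
  have hht := Ideal.height_eq_height_add_of_liesOver_of_hasGoingDown (maximalIdeal R) q
  have hht0 : (q.map (Ideal.Quotient.mk ((maximalIdeal R).map (algebraMap R S)))).height = 0 := by
    have hle : (maximalIdeal R).map (algebraMap R S) ≤ q := by
      rw [Ideal.map_le_iff_le_comap]; exact hunder.ge
    haveI hprime : (q.map (Ideal.Quotient.mk ((maximalIdeal R).map (algebraMap R S)))).IsPrime :=
      Ideal.map_isPrime_of_surjective Ideal.Quotient.mk_surjective
        (by rw [Ideal.mk_ker]; exact hle)
    rw [Ideal.height_eq_zero_iff]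
    refine ⟨⟨hprime, bot_le⟩, ?_⟩
    rintro P ⟨hP, -⟩ hPq
    have h3 := honly (P.comap (Ideal.Quotient.mk _)) (Ideal.comap_isPrime _ _)
      (by
        intro x hx
        rw [Ideal.mem_comap, Ideal.Quotient.eq_zero_iff_mem.mpr hx]
        exact zero_mem _)
      (by
        have := Ideal.comap_mono (f := Ideal.Quotient.mk ((maximalIdeal R).map (algebraMap R S))) hPq
        rwa [Ideal.comap_map_of_surjective _ Ideal.Quotient.mk_surjective,
          ← RingHom.ker_eq_comap_bot, Ideal.mk_ker, sup_eq_left.mpr hle] at this)
    rw [← h3, Ideal.map_comap_of_surjective _ Ideal.Quotient.mk_surjective]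
  rw [hht0, add_zero] at hht
  -- the local homomorphism `R → S_q`
  haveI hloc : IsLocalHom (algebraMap R (Localization.AtPrime q)) := by
    constructor
    intro a ha
    by_contra hna
    have hmem : a ∈ maximalIdeal R := (mem_maximalIdeal a).mpr hna
    have : algebraMap S (Localization.AtPrime q) (algebraMap R S a) ∈
        maximalIdeal (Localization.AtPrime q) := by
      rw [← Localization.AtPrime.map_eq_maximalIdeal]
      apply Ideal.mem_map_of_mem
      have : a ∈ q.under R := by rw [hunder]; exact hmem
      exact this
    rw [← IsScalarTower.algebraMap_apply] at this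
    exact ((mem_maximalIdeal _).mp this) ha
  apply Groth.Agent.S2082.result
  have hmap : (maximalIdeal R).map (algebraMap R (Localization.AtPrime q)) =
      ((maximalIdeal R).map (algebraMap R S)).map (algebraMap S (Localization.AtPrime q)) := by
    rw [Ideal.map_map, ← IsScalarTower.algebraMap_eq]
  rw [hmap]
  have hne : ((maximalIdeal R).map (algebraMap R S)).map (algebraMap S (Localization.AtPrime q)) ≠ ⊤ := by
    intro htop
    have h1 : ((maximalIdeal R).map (algebraMap R S)).map (algebraMap S (Localization.AtPrime q)) ≤
        maximalIdeal (Localization.AtPrime q) := by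
      rw [← Localization.AtPrime.map_eq_maximalIdeal]
      apply Ideal.map_mono
      rw [Ideal.map_le_iff_le_comap]; exact hunder.ge
    rw [htop] at h1
    exact (maximalIdeal.isMaximal _).ne_top (top_le_iff.mp h1)
  haveI : Nontrivial (Localization.AtPrime q ⧸
      ((maximalIdeal R).map (algebraMap R S)).map (algebraMap S (Localization.AtPrime q))) :=
    Ideal.Quotient.nontrivial_iff.mpr hne
  have h0 : ringKrullDim (Localization.AtPrime q ⧸
      ((maximalIdeal R).map (algebraMap R S)).map (algebraMap S (Localization.AtPrime q))) = 0 :=
    le_antisymm hfib ringKrullDim_nonneg_of_nontrivial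
  rw [h0, add_zero, IsLocalization.AtPrime.ringKrullDim_eq_height q (Localization.AtPrime q), hht,
    IsLocalRing.maximalIdeal_height_eq_ringKrullDim]

end Groth.Agent.Lib.Helper19.FiniteCMFlat
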