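import Groth.Agent.Lib.helper19.BertiniAff
import Groth.Agent.Lib.Helper29.ZeroSch
import Groth.Agent.Lib.Helper28.QCohGlobal
import Groth.Prelude.Def_FlatMod2
import Groth.Prelude.Def_Formal

set_option autoImplicit false
set_option linter.unusedVariables false
set_option linter.style.haveILetI false
universe u

namespace Groth.Agent.Lib.Helper19.BertiniGlue

open CategoryTheory CategoryTheory.Limits AlgebraicGeometry TopologicalSpace Opposite
open Groth.Agent.Lib.Helper28.QCohLoc Groth.Agent.Lib.Helper29.MeroGen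
  Groth.Agent.Lib.Helper29.MeroDenom Groth.Agent.Lib.Helper29.ZeroSch

variable {X : Scheme.{u}}

theorem isInvertible_of_rank_one {L : X.Modules} (hL : FlatMod.IsFinLocFreeOfRank 1 L) :
    PicF.IsInvertible L := by
  intro x
  obtain ⟨U, hxU, ⟨i⟩⟩ := hL x
  exact ⟨U, hxU, ⟨i ≪≫ Limits.coproductUniqueIso (fun _ : Fin 1 => Coh.structureModule (↑U))⟩⟩

theorem σ_add (L : X.Modules) (s t : Coh.structureModule X ⟶ L) (U : X.Opens) :
    σ L (s + t) U = σ L s U + σ L t U := rfl

theorem σ_zero (L : X.Modules) (U : X.Opens) :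
    σ L (0 : Coh.structureModule X ⟶ L) U = 0 := rfl

theorem σ_sum {ι : Type*} (L : X.Modules) (t : Finset ι) (s : ι → (Coh.structureModule X ⟶ L))
    (U : X.Opens) : σ L (∑ i ∈ t, s i) U = ∑ i ∈ t, σ L (s i) U := by
  classical
  induction t using Finset.induction_on with
  | empty => simp only [Finset.sum_empty]; exact σ_zero L U
  | insert a t ha ih => rw [Finset.sum_insert ha, Finset.sum_insert ha, σ_add, ih]

variable {k : Type u} [Field k] [X.Over (Spec (CommRingCat.of k))]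

/-- the structure map `k → Γ(X, U)` -/
noncomputable def ρ (U : X.Opens) : k →+* Γ(X, U) :=
  (Coh.resTop X (op U)).comp (Coh.toGlobal (X ↘ Spec (CommRingCat.of k)))

theorem σ_smulMod (L : X.Modules) (s : Coh.structureModule X ⟶ L) (c : k) (U : X.Opens) :
    σ L (Formal.smulMod k (Coh.structureModule X) c ≫ s) U = (ρ U c : Γ(X, U)) • σ L s U := by
  have h1 : (Formal.smulMod k (Coh.structureModule X) c).app U
      (show Γ(Coh.structureModule X, U) from (1 : Γ(X, U))) =
      ((ρ U c : Γ(X, U)) • (show Γ(Coh.structureModule X, U) from (1 : Γ(X, U))) :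
        Γ(Coh.structureModule X, U)) := rfl
  change s.app U ((Formal.smulMod k (Coh.structureModule X) c).app U
      (show Γ(Coh.structureModule X, U) from (1 : Γ(X, U)))) = _
  rw [h1, Scheme.Modules.Hom.app_smul]
  rfl

theorem ρ_eq (W : X.Opens) :
    ρ (k := k) W = ((X ↘ Spec (CommRingCat.of k)).appLE ⊤ W le_top).hom.comp
      (Scheme.ΓSpecIso (CommRingCat.of k)).inv.hom := rfl

theorem ρ_smooth [Smooth (X ↘ Spec (CommRingCat.of k))] {W : X.Opens} (hW : IsAffineOpen W) :
    (ρ (k := k) W).Smooth := by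
  have h1 : ((X ↘ Spec (CommRingCat.of k)).appLE ⊤ W le_top).hom.Smooth :=
    (X ↘ Spec (CommRingCat.of k)).smooth_appLE (isAffineOpen_top _) hW le_top
  have h2 : (Scheme.ΓSpecIso (CommRingCat.of k)).inv.hom.Smooth :=
    RingHom.Smooth.of_bijective (ConcreteCategory.bijective_of_isIso _)
  rw [ρ_eq]
  exact h2.comp h1

theorem fromSpec_comp_over {W : X.Opens} (hW : IsAffineOpen W) :
    hW.fromSpec ≫ (X ↘ Spec (CommRingCat.of k)) = Spec.map (CommRingCat.ofHom (ρ (k := k) W)) := by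
  rw [← IsAffineOpen.SpecMap_appLE_fromSpec (X ↘ Spec (CommRingCat.of k)) (isAffineOpen_top _) hW
    le_top, IsAffineOpen.fromSpec_top, Scheme.isoSpec_Spec_inv, ← Spec.map_comp]
  rfl

theorem local_step [CharZero k] [Smooth (X ↘ Spec (CommRingCat.of k))]
    (L : X.Modules) (hL : PicF.IsInvertible L) {m : ℕ}
    (s : Fin (m + 1) → (Coh.structureModule X ⟶ L))
    (hgen : ⨆ i, PicF2.zeroScheme L (s i) = ⊤)
    (W : X.affineOpens) (e : Γ(L, W.1)) (he : IsGen L W.1 e) :
    ∃ p : MvPolynomial (Fin (m + 1)) k, p ≠ 0 ∧ ∀ c : Fin (m + 1) → k,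
      MvPolynomial.eval c p ≠ 0 →
      ((Ideal.Quotient.mk ((PicF2.zeroScheme L
        (∑ i, Formal.smulMod k (Coh.structureModule X) (c i) ≫ s i)).ideal W)).comp
          (ρ (k := k) W.1)).Smooth := by
  classical
  have hcoef : ∀ i, ∃ a : Γ(X, W.1), σ L (s i) W.1 = a • e := by
    intro i
    obtain ⟨a, ha⟩ := IsGen.exists_coeff he (le_refl W.1) (σ L (s i) W.1)
    exact ⟨a, by rw [ha, Groth.Agent.Lib.Helper28.QCohLoc.res_self]⟩
  choose f hf using hcoef
  have hI : ∀ i, (PicF2.zeroScheme L (s i)).ideal W = Ideal.span {f i} :=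
    fun i => zeroScheme_ideal_eq_span hL W he (hf i)
  have hspan : Ideal.span (Set.range f) = ⊤ := by
    have h1 := congrArg (fun I : X.IdealSheafData => I.ideal W) hgen
    simp only [Scheme.IdealSheafData.ideal_iSup, iSup_apply, Scheme.IdealSheafData.ideal_top,
      Pi.top_apply, hI] at h1
    rw [← h1]
    exact Submodule.span_range_eq_iSup
  letI : Algebra k Γ(X, W.1) := (ρ (k := k) W.1).toAlgebra
  haveI : Algebra.Smooth k Γ(X, W.1) := (ρ_smooth (k := k) W.2).toAlgebra
  obtain ⟨p, hp0, hp⟩ := Groth.Agent.Lib.Helper19.BertiniAff.exists_poly k f hspan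
  refine ⟨p, hp0, fun c hc => ?_⟩
  have hσ : σ L (∑ i, Formal.smulMod k (Coh.structureModule X) (c i) ≫ s i) W.1 =
      (∑ i, c i • f i : Γ(X, W.1)) • e := by
    rw [σ_sum, Finset.sum_smul]
    refine Finset.sum_congr rfl fun i _ => ?_
    rw [σ_smulMod, hf i, Algebra.smul_def, mul_smul]
    rfl
  have hJ := zeroScheme_ideal_eq_span hL W he hσ
  have key : ∀ J : Ideal Γ(X, W.1), J = Ideal.span {∑ i, c i • f i} →
      ((Ideal.Quotient.mk J).comp (ρ (k := k) W.1)).Smooth := by
    rintro _ rfl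
    exact RingHom.smooth_algebraMap.2 (hp c hc)
  exact key _ hJ

theorem main [CharZero k] [Smooth (X ↘ Spec (CommRingCat.of k))]
    [QuasiCompact (X ↘ Spec (CommRingCat.of k))]
    (L : X.Modules) (hL : FlatMod.IsFinLocFreeOfRank 1 L) (m : ℕ)
    (s : Fin (m + 1) → (Coh.structureModule X ⟶ L))
    (hgen : ⨆ i : Fin (m + 1), PicF2.zeroScheme L (s i) = ⊤) :
    ∃ p : MvPolynomial (Fin (m + 1)) k, p ≠ 0 ∧ ∀ c : Fin (m + 1) → k,
      MvPolynomial.eval c p ≠ 0 →
      Smooth ((PicF2.zeroScheme L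
        (∑ i : Fin (m + 1), Formal.smulMod k (Coh.structureModule X) (c i) ≫ s i)).subschemeι ≫
        (X ↘ Spec (CommRingCat.of k))) := by
  classical
  have hL' := isInvertible_of_rank_one hL
  have hloc : ∀ x : X, ∃ W : X.affineOpens, x ∈ W.1 ∧ ∃ e : Γ(L, W.1), IsGen L W.1 e := by
    intro x
    obtain ⟨U, hxU, e, he⟩ := exists_isGen hL' x
    obtain ⟨W, hWaff, hxW, hWU⟩ := exists_isAffineOpen_mem_and_subset (x := x) (U := U) hxU
    exact ⟨⟨W, hWaff⟩, hxW, res L hWU e, he.mono hWU⟩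
  choose W hxW e he using hloc
  choose p hp0 hp using fun x => local_step (k := k) L hL' s hgen (W x) (e x) (he x)
  haveI : CompactSpace X :=
    QuasiCompact.compactSpace_of_compactSpace (X ↘ Spec (CommRingCat.of k))
  obtain ⟨t, ht⟩ := CompactSpace.elim_nhds_subcover (fun x => ((W x).1 : Set X))
    (fun x => (W x).1.2.mem_nhds (hxW x))
  refine ⟨∏ x ∈ t, p x, Finset.prod_ne_zero_iff.2 (fun x _ => hp0 x), fun c hc => ?_⟩
  have hcx : ∀ x ∈ t, MvPolynomial.eval c (p x) ≠ 0 := by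
    rw [map_prod] at hc
    exact Finset.prod_ne_zero_iff.1 hc
  set Z := PicF2.zeroScheme L
    (∑ i : Fin (m + 1), Formal.smulMod k (Coh.structureModule X) (c i) ≫ s i) with hZ
  apply IsZariskiLocalAtSource.of_iSup_eq_top (P := @Smooth)
    (fun x : t => Z.subschemeι ⁻¹ᵁ (W x.1).1)
  · rw [eq_top_iff]
    rintro z -
    have hz : Z.subschemeι z ∈ ⋃ x ∈ t, ((W x).1 : Set X) := by rw [ht]; trivial
    simp only [Set.mem_iUnion] at hz
    obtain ⟨x, hxt, hzx⟩ := hz
    exact Opens.mem_iSup.2 ⟨⟨x, hxt⟩, hzx⟩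
  · rintro ⟨x, hx⟩
    have hrange : Set.range (Z.subschemeCover.f (W x)) =
        Set.range (Z.subschemeι ⁻¹ᵁ (W x).1).ι := by
      rw [Scheme.Opens.range_ι, ← Z.opensRange_subschemeCover_map (W x)]
      rfl
    have hcomp : Z.subschemeCover.f (W x) ≫ Z.subschemeι ≫ (X ↘ Spec (CommRingCat.of k)) =
        Spec.map (CommRingCat.ofHom ((Ideal.Quotient.mk (Z.ideal (W x))).comp
          (ρ (k := k) (W x).1))) := by
      rw [CommRingCat.ofHom_comp, Spec.map_comp, ← fromSpec_comp_over (k := k) (W x).2,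
        ← Category.assoc, ← Category.assoc, Z.subschemeCover_map_subschemeι, Z.glueDataObjι_ι]
      rfl
    rw [← IsOpenImmersion.isoOfRangeEq_inv_fac (Z.subschemeCover.f (W x))
      (Scheme.Opens.ι _) hrange, Category.assoc,
      MorphismProperty.cancel_left_of_respectsIso (P := @Smooth), hcomp]
    exact (HasRingHomProperty.Spec_iff (P := @Smooth)).2 (hp x c (hcx x hx))

end Groth.Agent.Lib.Helper19.BertiniGlue
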