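import Groth.Agent.Lib.helper19.RestrUniv3
import Groth.Agent.Lib.lead.SmoothRelDim
import Groth.Agent.Lib.Helper29.FreeIso6

set_option autoImplicit false
universe u
open CategoryTheory CategoryTheory.Limits AlgebraicGeometry Opposite

namespace Groth.Agent.Lib.Helper19.RestrUniv4

open Groth.Agent.Lib.Helper19.RestrUniv Groth.Agent.Lib.Helper29 Groth.Agent.Lib.Helper29.OmegaLoc
open Groth.Agent.Lib.Helper28.QCohLoc Groth.Agent.Lib.Helper29.FreeIso

theorem exists_basis_of_isStandardSmooth (R S : Type u) [CommRing R] [CommRing S] [Algebra R S]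
    [Algebra.IsStandardSmooth R S] :
    ∃ n : ℕ, Algebra.IsStandardSmoothOfRelativeDimension n R S ∧
      Nonempty (Module.Basis (Fin n) S Ω[S⁄R]) := by
  classical
  obtain ⟨ι, σ, _, _, ⟨P⟩⟩ := (inferInstance : Algebra.IsStandardSmooth R S).out
  haveI := Fintype.ofFinite ι
  haveI := Fintype.ofFinite σ
  have hcard : Fintype.card ((Set.range P.map)ᶜ : Set ι) = P.dimension := by
    simp only [Fintype.card_compl_set, Algebra.Presentation.dimension, Nat.card_eq_fintype_card,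
      Set.card_range_of_injective P.map_inj]
  exact ⟨P.dimension, P.isStandardSmoothOfRelativeDimension rfl,
    ⟨P.basisKaehler.reindex (Fintype.equivFinOfCardEq hcard)⟩⟩

variable {X Y : Scheme.{u}} (f : X ⟶ Y)

theorem fibreDimAt_eq_of_isStandardSmoothOfRelativeDimension [LocallyOfFiniteType f]
    {U : X.Opens} (hU : IsAffineOpen U) {V : Y.Opens} (hV : IsAffineOpen V) (e : U ≤ f ⁻¹ᵁ V) (n : ℕ)
    (hφ : (f.appLE V U e).hom.IsStandardSmoothOfRelativeDimension n) (x : X) (hx : x ∈ U) :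
    FlatMor.fibreDimAt f x = (n : WithBot ℕ∞) := by
  have hxr : x ∈ Set.range hU.fromSpec := by rw [hU.range_fromSpec]; exact hx
  obtain ⟨w, rfl⟩ := hxr
  have comm := IsAffineOpen.SpecMap_appLE_fromSpec f hV hU e
  have hft : (f.appLE V U e).hom.FiniteType :=
    HasRingHomProperty.appLE (P := @LocallyOfFiniteType) f inferInstance ⟨V, hV⟩ ⟨U, hU⟩ e
  haveI : LocallyOfFiniteType (Spec.map (f.appLE V U e)) := by
    rw [HasRingHomProperty.Spec_iff (P := @LocallyOfFiniteType)]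
    exact hft
  rw [Groth.Agent.Lib.Helper18.Chev.fibreDimAt_eq_of_openImmersion_square _ hV.fromSpec hU.fromSpec f
    comm w]
  exact Groth.Agent.Lib.lead.SmoothRelDim.fibreDimAt_of_isStandardSmoothOfRelativeDimension
    (f.appLE V U e).hom n hφ w

variable (Ω : X.Modules) (d : OmegaSh.Der f Ω) (hd : OmegaSh.IsUniversal d)

include hd in
theorem exists_free_of_isStandardSmooth
    {U : X.Opens} (hU : IsAffineOpen U) {V : Y.Opens} (hV : IsAffineOpen V) (e : U ≤ f ⁻¹ᵁ V)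
    (hstd : (f.appLE V U e).hom.IsStandardSmooth) :
    ∃ n : ℕ, (f.appLE V U e).hom.IsStandardSmoothOfRelativeDimension n ∧
      Nonempty (Ω.restrict U.ι ≅ FlatMod.freeMod (↑U) n) := by
  letI := alg f e
  haveI : Algebra.IsStandardSmooth Γ(Y, V) Γ(X, U) := hstd
  obtain ⟨n, hn, ⟨b⟩⟩ := exists_basis_of_isStandardSmooth Γ(Y, V) Γ(X, U)
  obtain ⟨Φ, hΦ, -⟩ := exists_sections_equiv f d hd hU hV e
  let L : Γ(Ω, U) ≃ₗ[Γ(X, U)] Ω[Γ(X, U)⁄Γ(Y, V)] := { Φ with map_smul' := hΦ }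
  let b' : Module.Basis (Fin n) Γ(X, U) Γ(Ω, U) := b.map L.symm
  haveI := isQuasicoherent f d hd
  refine ⟨n, hn, ?_⟩
  exact (isBasisOn_of_basis Ω hU (isLocOn_of_isQuasicoherent Ω hU) (fun j => b' j)
    b'.linearIndependent b'.span_eq).nonempty_iso

include hd in
/-- S5019. -/
theorem exists_free_nhd_of_smooth [Smooth f] (x : X) :
    ∃ (U : X.Opens) (n : ℕ), x ∈ U ∧ Nonempty (Ω.restrict U.ι ≅ FlatMod.freeMod (↑U) n) ∧
      FlatMor.fibreDimAt f x = (n : WithBot ℕ∞) := by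
  obtain ⟨V, hV, U, hU, hxU, e, hstd⟩ := Smooth.exists_isStandardSmooth f x
  obtain ⟨n, hn, hfree⟩ := exists_free_of_isStandardSmooth f Ω d hd hU hV e hstd
  exact ⟨U, n, hxU, hfree, fibreDimAt_eq_of_isStandardSmoothOfRelativeDimension f hU hV e n hn x hxU⟩

end Groth.Agent.Lib.Helper19.RestrUniv4
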