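import Groth.Agent.Lib.helper19.RestrUniv3
import Groth.Agent.Lib.Helper29.KaehlerIso
import Groth.Agent.Lib.Helper5.FittSheafE
import Groth.Agent.Lib.Helper5.LCIReg
import Groth.Agent.Lib.Helper7.ResFieldTrdeg
import Groth.Agent.Lib.Helper7.AffinePoints
import Groth.Agent.Lib.lead.VarOpenDim
import Groth.Agent.S10909
import Groth.Agent.Lib.helper19.RegularLocal

set_option autoImplicit false
universe u
open CategoryTheory CategoryTheory.Limits AlgebraicGeometry Opposite TensorProduct

namespace Groth.Agent.Lib.Helper19.VarOmega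

open Groth.Agent.Lib.Helper19.RestrUniv Groth.Agent.Lib.Helper29 Groth.Agent.Lib.Helper29.OmegaLoc
open Groth.Agent.Lib.Helper7

variable (k : Type u) [Field k] (X : Scheme.{u}) [X.Over (Spec (CommRingCat.of k))]

/-- sections of a receptacle of the universal derivation of a `k`-scheme over an affine open are the
Kähler differentials of the coordinate ring over `k`. -/
theorem exists_sections_equiv_field {Ω : X.Modules}
    (d : OmegaSh.Der (X ↘ (Spec (CommRingCat.of k))) Ω) (hd : OmegaSh.IsUniversal d)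
    {U : X.Opens} (hU : IsAffineOpen U) :
    letI := (ResTrdeg.kToΓ k X U).toAlgebra
    Nonempty (Γ(Ω, U) ≃ₗ[Γ(X, U)] Ω[Γ(X, U)⁄k]) := by
  letI algA : Algebra k Γ(X, U) := (ResTrdeg.kToΓ k X U).toAlgebra
  letI := alg (X ↘ (Spec (CommRingCat.of k))) (U := U) (V := ⊤) le_top
  obtain ⟨Φ, hΦ, -⟩ := exists_sections_equiv (X ↘ (Spec (CommRingCat.of k))) d hd hU
    (isAffineOpen_top _) (le_top : U ≤ (X ↘ (Spec (CommRingCat.of k))) ⁻¹ᵁ ⊤)
  let α : Γ(Spec (CommRingCat.of k), ⊤) ≃+* k :=
    (Scheme.ΓSpecIso (CommRingCat.of k)).commRingCatIsoToRingEquiv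
  obtain ⟨K, hK, -⟩ := KaehlerIso.exists_equiv (A := Γ(Spec (CommRingCat.of k), ⊤)) (B := Γ(X, U))
    (A' := k) (B' := Γ(X, U)) α (RingEquiv.refl _) (by
      intro a
      show ((X ↘ (Spec (CommRingCat.of k))).appLE ⊤ U le_top).hom a =
        ((X ↘ (Spec (CommRingCat.of k))).appLE ⊤ U le_top).hom
          ((Scheme.ΓSpecIso (CommRingCat.of k)).inv.hom ((Scheme.ΓSpecIso (CommRingCat.of k)).hom.hom a))
      congr 1
      exact (Iso.hom_inv_id_apply (Scheme.ΓSpecIso (CommRingCat.of k)) a).symm)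
  exact ⟨{ (Φ.trans K) with
    map_smul' := fun b x => by
      show K (Φ (b • x)) = b • K (Φ x)
      rw [hΦ, hK]
      rfl }⟩


/-- the fibre ranks of a free module with a basis of size `m`. -/
theorem finrank_fibre_of_basis {A : Type u} [CommRing A] {M : Type u} [AddCommGroup M] [Module A M]
    {m : ℕ} (b : Module.Basis (Fin m) A M) (P : Ideal A) [P.IsPrime] :
    Module.finrank P.ResidueField (P.ResidueField ⊗[A] M) = m := by
  haveI : Module.Free A M := Module.Free.of_basis b
  haveI : Module.Finite A M := Module.Finite.of_basis b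
  have hnt : Nontrivial A := ⟨⟨0, 1, fun h => (inferInstance : P.IsPrime).ne_top
    ((Ideal.eq_top_iff_one P).2 (h ▸ P.zero_mem))⟩⟩
  rw [Module.finrank_baseChange, Module.finrank_eq_card_basis b, Fintype.card_fin]

variable [IrreducibleSpace ↥X] [LocallyOfFiniteType (X ↘ (Spec (CommRingCat.of k)))]

include k in
/-- the coordinate ring of a nonempty affine open of an irreducible `k`-variety: nilradical prime and the
dimension of `X`. -/
theorem affine_data {n : ℕ} (hn : topologicalKrullDim ↥X = (n : WithBot ℕ∞))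
    {U : X.Opens} (hU : IsAffineOpen U) (hne : (U : Set X).Nonempty) :
    (nilradical Γ(X, U)).IsPrime ∧ ringKrullDim Γ(X, U) = n := by
  constructor
  · rw [← PrimeSpectrum.irreducibleSpace_iff_isPrime_nilradical]
    haveI : IrreducibleSpace ↥U := by
      haveI : Nonempty ↥U := hne.to_subtype
      have hirr : IsIrreducible (U : Set X) :=
        ⟨hne, (IrreducibleSpace.isIrreducible_univ X).isPreirreducible.open_subset U.isOpen
          (Set.subset_univ _)⟩
      exact Subtype.irreducibleSpace hirr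
    exact (Scheme.homeoOfIso hU.isoSpec).irreducibleSpace_iff.1 this
  · rw [← Groth.Agent.Lib.lead.VarOpenDim.dim_affineOpen hU]
    exact (Groth.Agent.Lib.lead.VarOpenDim.main k X U hne).trans hn


variable [IsAlgClosed k]

theorem main (n : ℕ) (hn : topologicalKrullDim ↥X = (n : WithBot ℕ∞))
    (Ω : X.Modules) (d : OmegaSh.Der (X ↘ (Spec (CommRingCat.of k))) Ω) (hd : OmegaSh.IsUniversal d) :
    FlatMod.IsFinLocFreeOfRank n Ω ↔ ∀ x : ↥X, IsRegularLocalRing ↑(X.presheaf.stalk x) := by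
  constructor
  · intro hloc x
    obtain ⟨W, hxW, ⟨e⟩⟩ := hloc x
    obtain ⟨U, hU, hxU, hUW⟩ := exists_isAffineOpen_mem_and_subset (x := x) (U := W) hxW
    obtain ⟨e'⟩ := FreeIso.nonempty_iso_freeMod_of_le Ω hUW n e
    obtain ⟨b⟩ := Groth.Agent.Lib.Helper5.FittSheaf.exists_basis_of_iso Ω n e'
    letI algA : Algebra k Γ(X, U) := (ResTrdeg.kToΓ k X U).toAlgebra
    haveI ftA : Algebra.FiniteType k Γ(X, U) := ResTrdeg.finiteType_kToΓ k X hU
    obtain ⟨L⟩ := exists_sections_equiv_field k X d hd hU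
    obtain ⟨hirr, hdim⟩ := affine_data k X hn hU ⟨x, hxU⟩
    let b' := b.map L
    have hreg : IsReduced Γ(X, U) ∧ IsRegularRing Γ(X, U) :=
      (Groth.Agent.S10909.result k Γ(X, U) hirr n hdim).2
        ⟨Module.Projective.of_basis b', fun P hP => finrank_fibre_of_basis b' P⟩
    haveI := hreg.2
    letI := X.presheaf.algebra_section_stalk ⟨x, hxU⟩
    haveI := hU.isLocalization_stalk ⟨x, hxU⟩
    exact IsRegularLocalRing.of_ringEquiv (IsLocalization.algEquiv
      (hU.primeIdealOf ⟨x, hxU⟩).asIdeal.primeCompl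
      (Localization.AtPrime (hU.primeIdealOf ⟨x, hxU⟩).asIdeal) (X.presheaf.stalk x)).toRingEquiv
  · intro hreg
    haveI : IsLocallyNoetherian X :=
      LocallyOfFiniteType.isLocallyNoetherian (X ↘ Spec (CommRingCat.of k))
    haveI : ∀ x : X, _root_.IsReduced (X.presheaf.stalk x) := fun x => by
      haveI := hreg x
      haveI : IsDomain (X.presheaf.stalk x) := Groth.Agent.Lib.helper19.isDomain_of_isRegularLocalRing _
      infer_instance
    haveI : IsReduced X := isReduced_of_isReduced_stalk X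
    have key : ∀ {U : X.Opens} (hU : IsAffineOpen U) (hne : (U : Set X).Nonempty),
        letI := (ResTrdeg.kToΓ k X U).toAlgebra
        Module.Projective Γ(X, U) (Ω[Γ(X, U)⁄k]) ∧
          ∀ (P : Ideal Γ(X, U)) [P.IsPrime],
            Module.finrank P.ResidueField (P.ResidueField ⊗[Γ(X, U)] Ω[Γ(X, U)⁄k]) = n := by
      intro U hU hne
      letI algA : Algebra k Γ(X, U) := (ResTrdeg.kToΓ k X U).toAlgebra
      haveI ftA : Algebra.FiniteType k Γ(X, U) := ResTrdeg.finiteType_kToΓ k X hU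
      obtain ⟨hirr, hdim⟩ := affine_data k X hn hU hne
      have hR : IsRegularRing Γ(X, U) := Groth.Agent.Lib.Helper5.LCIReg.isRegularRing_of_stalks hreg hU
      exact (Groth.Agent.S10909.result k Γ(X, U) hirr n hdim).1 ⟨inferInstance, hR⟩
    haveI := isQuasicoherent (X ↘ Spec (CommRingCat.of k)) d hd
    have hW : ∀ x : X, ∃ U : X.Opens, IsAffineOpen U ∧ x ∈ U := fun x => by
      obtain ⟨U, hU, hxU, -⟩ := exists_isAffineOpen_mem_and_subset (x := x) (U := ⊤) trivial
      exact ⟨U, hU, hxU⟩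
    choose U hU hxU using hW
    have hfl : FlatMod.IsFinLocFree Ω := by
      refine Groth.Agent.Lib.Helper19.RestrUniv3.isFinLocFree_of_projective_sections Ω U
        (TopologicalSpace.IsOpenCover.mk (eq_top_iff.2 fun x _ =>
          TopologicalSpace.Opens.mem_iSup.2 ⟨x, hxU x⟩)) hU
        (fun x => finite_sections (X ↘ Spec (CommRingCat.of k)) d hd (hU x) (isAffineOpen_top _)
          (le_top : U x ≤ (X ↘ (Spec (CommRingCat.of k))) ⁻¹ᵁ ⊤)) (fun x => ?_)
      letI algA : Algebra k Γ(X, U x) := (ResTrdeg.kToΓ k X (U x)).toAlgebra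
      obtain ⟨L⟩ := exists_sections_equiv_field k X d hd (hU x)
      haveI := (key (hU x) ⟨x, hxU x⟩).1
      exact Module.Projective.of_equiv L.symm
    intro x
    obtain ⟨V, m, hxV, ⟨e⟩⟩ := hfl x
    obtain ⟨U', hU', hxU', hUV⟩ := exists_isAffineOpen_mem_and_subset (x := x) (U := V) hxV
    obtain ⟨e'⟩ := FreeIso.nonempty_iso_freeMod_of_le Ω hUV m e
    obtain ⟨b⟩ := Groth.Agent.Lib.Helper5.FittSheaf.exists_basis_of_iso Ω m e'
    letI algA : Algebra k Γ(X, U') := (ResTrdeg.kToΓ k X U').toAlgebra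
    obtain ⟨L⟩ := exists_sections_equiv_field k X d hd hU'
    have h1 := finrank_fibre_of_basis (b.map L) (hU'.primeIdealOf ⟨x, hxU'⟩).asIdeal
    have h2 := (key hU' ⟨x, hxU'⟩).2 (hU'.primeIdealOf ⟨x, hxU'⟩).asIdeal
    obtain rfl : m = n := h1.symm.trans h2
    exact ⟨V, hxV, ⟨e⟩⟩

end Groth.Agent.Lib.Helper19.VarOmega
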