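import Groth.Agent.Lib.helper19.SmoothRank
import Groth.Agent.Lib.helper19.VarOmega
import Groth.Agent.Lib.helper19.RestrUniv4
import Groth.Agent.Lib.Helper29.OmegaUniv

set_option autoImplicit false
universe u
open CategoryTheory CategoryTheory.Limits AlgebraicGeometry Opposite TensorProduct

namespace Groth.Agent.Lib.Helper19.SmoothOmega

open Groth.Agent.Lib.Helper19.RestrUniv Groth.Agent.Lib.Helper29 Groth.Agent.Lib.Helper29.OmegaLoc
open Groth.Agent.Lib.Helper7 Groth.Agent.Lib.Helper19.VarOmega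

section Dim

variable (k : Type u) [Field k] (X : Scheme.{u}) [X.Over (Spec (CommRingCat.of k))]
  [IrreducibleSpace ↥X] [LocallyOfFiniteType (X ↘ (Spec (CommRingCat.of k)))]

include k in
theorem localDim_eq (x : X) : FlatMor.localDim X x = topologicalKrullDim X := by
  unfold FlatMor.localDim
  haveI : Nonempty {U : TopologicalSpace.Opens X // x ∈ U} := ⟨⟨⊤, trivial⟩⟩
  have : ∀ U : {U : TopologicalSpace.Opens X // x ∈ U},
      topologicalKrullDim (U.1 : Set X) = topologicalKrullDim X := fun U =>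
    Groth.Agent.Lib.lead.VarOpenDim.main k X U.1 ⟨x, U.2⟩
  simp only [this]
  exact ciInf_const

/-- over a field, the differentials of a smooth irreducible scheme are locally free of rank `dim X`. -/
theorem exists_free_nhd [Smooth (X ↘ (Spec (CommRingCat.of k)))] {m : ℕ}
    (hm : topologicalKrullDim ↥X = (m : WithBot ℕ∞))
    (Ω : X.Modules) (d : OmegaSh.Der (X ↘ (Spec (CommRingCat.of k))) Ω) (hd : OmegaSh.IsUniversal d)
    (x : X) : ∃ U : X.Opens, x ∈ U ∧ Nonempty (Ω.restrict U.ι ≅ FlatMod.freeMod (↑U) m) := by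
  obtain ⟨U, n, hxU, hiso, hdim⟩ :=
    Groth.Agent.Lib.Helper19.RestrUniv4.exists_free_nhd_of_smooth (X ↘ (Spec (CommRingCat.of k))) Ω d hd x
  have hK : IsField (CommRingCat.of k) := Field.toIsField k
  rw [Groth.Agent.Lib.lead.SmoothRelDim.fibreDimAt_over_field hK, localDim_eq k X x, hm] at hdim
  have : m = n := by exact_mod_cast hdim
  subst this
  exact ⟨U, hxU, hiso⟩

end Dim


section Main

variable (k : Type u) [Field k] {X Y : Scheme.{u}}

theorem kToΓ_comp [Y.Over (Spec (CommRingCat.of k))] (f : X ⟶ Y)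
    {U : X.Opens} {V : Y.Opens} (e : U ≤ f ⁻¹ᵁ V) (c : k) :
    letI : X.Over (Spec (CommRingCat.of k)) := ⟨f ≫ (Y ↘ Spec (CommRingCat.of k))⟩
    ResTrdeg.kToΓ k X U c = (f.appLE V U e).hom (ResTrdeg.kToΓ k Y V c) := by
  letI : X.Over (Spec (CommRingCat.of k)) := ⟨f ≫ (Y ↘ Spec (CommRingCat.of k))⟩
  show ((f ≫ (Y ↘ Spec (CommRingCat.of k))).appLE ⊤ U le_top).hom _ =
    (f.appLE V U e).hom (((Y ↘ Spec (CommRingCat.of k)).appLE ⊤ V le_top).hom _)
  rw [← Scheme.Hom.appLE_comp_appLE f (Y ↘ Spec (CommRingCat.of k)) ⊤ V U le_top e]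
  rfl

/-- basis of sections on an affine inside a trivialising open. -/
theorem exists_basis_sections {Z : Scheme.{u}} (M : Z.Modules) {W U : Z.Opens} (hUW : U ≤ W) (m : ℕ)
    (e : Nonempty (M.restrict W.ι ≅ FlatMod.freeMod (↑W) m)) :
    Nonempty (Module.Basis (Fin m) Γ(Z, U) Γ(M, U)) := by
  obtain ⟨e⟩ := e
  obtain ⟨e'⟩ := FreeIso.nonempty_iso_freeMod_of_le M hUW m e
  exact Groth.Agent.Lib.Helper5.FittSheaf.exists_basis_of_iso M m e'

theorem smooth_of_locFree (qX : X ⟶ Spec (CommRingCat.of k)) (qY : Y ⟶ Spec (CommRingCat.of k))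
    [IrreducibleSpace ↥X] [LocallyOfFiniteType qX] [Smooth qX] [QuasiSeparated qX]
    [IrreducibleSpace ↥Y] [LocallyOfFiniteType qY] [Smooth qY] [QuasiSeparated qY]
    (f : X ⟶ Y) (hf : f ≫ qY = qX) (n dY : ℕ) (hY : topologicalKrullDim ↥Y = dY)
    (hX : topologicalKrullDim ↥X = ((dY + n : ℕ) : WithBot ℕ∞))
    (Ω : X.Modules) (d : OmegaSh.Der f Ω) (hd : OmegaSh.IsUniversal d)
    (hloc : FlatMod.IsFinLocFreeOfRank n Ω) : Smooth f := by
  subst hf
  letI : Y.Over (Spec (CommRingCat.of k)) := ⟨qY⟩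
  letI : X.Over (Spec (CommRingCat.of k)) := ⟨f ≫ qY⟩
  haveI : LocallyOfFiniteType (Y ↘ Spec (CommRingCat.of k)) := ‹LocallyOfFiniteType qY›
  haveI : Smooth (Y ↘ Spec (CommRingCat.of k)) := ‹Smooth qY›
  haveI : LocallyOfFiniteType (X ↘ Spec (CommRingCat.of k)) := ‹LocallyOfFiniteType (f ≫ qY)›
  haveI : Smooth (X ↘ Spec (CommRingCat.of k)) := ‹Smooth (f ≫ qY)›
  rw [HasRingHomProperty.iff_exists_appLE (P := @Smooth)
    (RingHom.Smooth.stableUnderComposition.stableUnderCompositionWithLocalizationAway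
      RingHom.Smooth.holdsForLocalizationAway).1]
  intro x
  obtain ⟨WY, hyWY, hisoY⟩ := exists_free_nhd k Y hY (Omega.sheaf qY) (OmegaSh.dOmega qY)
    (OmegaUniv.isUniversal_dOmega qY) (f x)
  obtain ⟨WX, hxWX, hisoX⟩ := exists_free_nhd k X hX (Omega.sheaf (f ≫ qY)) (OmegaSh.dOmega (f ≫ qY))
    (OmegaUniv.isUniversal_dOmega (f ≫ qY)) x
  obtain ⟨W, hxW, hiso⟩ := hloc x
  obtain ⟨V, hV, hyV, hVW⟩ := exists_isAffineOpen_mem_and_subset (x := f x) (U := WY) hyWY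
  obtain ⟨U, hU, hxU, hUle⟩ := exists_isAffineOpen_mem_and_subset (x := x)
    (U := f ⁻¹ᵁ V ⊓ WX ⊓ W) ⟨⟨hyV, hxWX⟩, hxW⟩
  have e : U ≤ f ⁻¹ᵁ V := hUle.trans (inf_le_left.trans inf_le_left)
  refine ⟨⟨V, hV⟩, ⟨U, hU⟩, hxU, e, ?_⟩
  obtain ⟨bA0⟩ := exists_basis_sections (Omega.sheaf qY) hVW dY hisoY
  obtain ⟨bB0⟩ := exists_basis_sections (Omega.sheaf (f ≫ qY))
    (hUle.trans (inf_le_left.trans inf_le_right)) (dY + n) hisoX
  obtain ⟨bBA0⟩ := exists_basis_sections Ω (hUle.trans inf_le_right) n hiso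
  letI algA : Algebra k Γ(Y, V) := (ResTrdeg.kToΓ k Y V).toAlgebra
  letI algB : Algebra k Γ(X, U) := (ResTrdeg.kToΓ k X U).toAlgebra
  letI algAB : Algebra Γ(Y, V) Γ(X, U) := alg f e
  haveI : IsScalarTower k Γ(Y, V) Γ(X, U) := IsScalarTower.of_algebraMap_eq (fun c => kToΓ_comp k f e c)
  obtain ⟨LA⟩ := exists_sections_equiv_field k Y (OmegaSh.dOmega qY) (OmegaUniv.isUniversal_dOmega qY) hV
  obtain ⟨LB⟩ := exists_sections_equiv_field k X (OmegaSh.dOmega (f ≫ qY))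
    (OmegaUniv.isUniversal_dOmega (f ≫ qY)) hU
  obtain ⟨Φ, hΦ, -⟩ := exists_sections_equiv f d hd hU hV e
  let LBA : Γ(Ω, U) ≃ₗ[Γ(X, U)] Ω[Γ(X, U)⁄Γ(Y, V)] := { Φ with map_smul' := hΦ }
  haveI ftA : Algebra.FiniteType k Γ(Y, V) := ResTrdeg.finiteType_kToΓ k Y hV
  haveI ftB : Algebra.FiniteType k Γ(X, U) := ResTrdeg.finiteType_kToΓ k X hU
  haveI : IsNoetherianRing Γ(Y, V) := Algebra.FiniteType.isNoetherianRing k _
  haveI : Algebra.FiniteType Γ(Y, V) Γ(X, U) := Algebra.FiniteType.of_restrictScalars_finiteType k _ _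
  haveI : Algebra.FinitePresentation Γ(Y, V) Γ(X, U) := Algebra.FinitePresentation.of_finiteType.1 inferInstance
  haveI : Algebra.FormallySmooth k Γ(X, U) := by
    have h1 : ((f ≫ qY).appLE ⊤ U le_top).hom.Smooth :=
      (f ≫ qY).smooth_appLE (isAffineOpen_top _) hU le_top
    have h2 : (Scheme.ΓSpecIso (CommRingCat.of k)).inv.hom.Smooth :=
      RingHom.Smooth.of_bijective (ConcreteCategory.bijective_of_isIso _)
    have h3 : (ResTrdeg.kToΓ k X U).Smooth := h2.comp h1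
    exact (RingHom.Smooth.toAlgebra h3).formallySmooth
  haveI : Algebra.FormallySmooth Γ(Y, V) Γ(X, U) :=
    Groth.Agent.Lib.Helper19.SmoothRank.formallySmooth_of_bases (bA0.map LA) (bB0.map LB) (bBA0.map LBA)
  rw [RingHom.smooth_def]
  exact ⟨inferInstanceAs (Algebra.FormallySmooth Γ(Y, V) Γ(X, U)),
    inferInstanceAs (Algebra.FinitePresentation Γ(Y, V) Γ(X, U))⟩


theorem smoothOfRelativeDimension_of_locFree (f : X ⟶ Y) [Smooth f] (n : ℕ)
    (Ω : X.Modules) (d : OmegaSh.Der f Ω) (hd : OmegaSh.IsUniversal d)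
    (hloc : FlatMod.IsFinLocFreeOfRank n Ω) : SmoothOfRelativeDimension n f := by
  refine ⟨fun x => ?_⟩
  obtain ⟨V, hV, U, hU, hxU, e, hstd⟩ := Smooth.exists_isStandardSmooth f x
  obtain ⟨n', hn', hfree⟩ :=
    Groth.Agent.Lib.Helper19.RestrUniv4.exists_free_of_isStandardSmooth f Ω d hd hU hV e hstd
  obtain ⟨W, hxW, hiso⟩ := hloc x
  obtain ⟨U', hU', hxU', hU'le⟩ := exists_isAffineOpen_mem_and_subset (x := x)
    (U := U ⊓ W) ⟨hxU, hxW⟩
  obtain ⟨b1⟩ := exists_basis_sections Ω (hU'le.trans inf_le_left) n' hfree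
  obtain ⟨b2⟩ := exists_basis_sections Ω (hU'le.trans inf_le_right) n hiso
  haveI : Nontrivial Γ(X, U') := by
    have : Nonempty ↥U' := ⟨⟨x, hxU'⟩⟩
    have h := (hU'.isoSpec.hom.base : ↥U' → Spec Γ(X, U')) ⟨x, hxU'⟩
    exact (h : PrimeSpectrum Γ(X, U')).nontrivial
  have h1 := Module.finrank_eq_card_basis b1
  have h2 := Module.finrank_eq_card_basis b2
  rw [Fintype.card_fin] at h1 h2
  have : n' = n := h1.symm.trans h2
  subst this
  exact ⟨V, hV, U, hU, hxU, e, hn'⟩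

theorem locFree_of_smoothOfRelativeDimension (f : X ⟶ Y) (n : ℕ) [SmoothOfRelativeDimension n f]
    (Ω : X.Modules) (d : OmegaSh.Der f Ω) (hd : OmegaSh.IsUniversal d) :
    FlatMod.IsFinLocFreeOfRank n Ω := by
  intro x
  haveI : Smooth f := SmoothOfRelativeDimension.smooth n f
  obtain ⟨U, n', hxU, hiso, hdim⟩ :=
    Groth.Agent.Lib.Helper19.RestrUniv4.exists_free_nhd_of_smooth f Ω d hd x
  rw [Groth.Agent.Lib.lead.SmoothRelDim.S2768 n f x] at hdim
  have : n = n' := by exact_mod_cast hdim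
  subst this
  exact ⟨U, hxU, hiso⟩

theorem main (qX : X ⟶ Spec (CommRingCat.of k)) (qY : Y ⟶ Spec (CommRingCat.of k))
    [IrreducibleSpace ↥X] [LocallyOfFiniteType qX] [Smooth qX] [QuasiSeparated qX]
    [IrreducibleSpace ↥Y] [LocallyOfFiniteType qY] [Smooth qY] [QuasiSeparated qY]
    (f : X ⟶ Y) (hf : f ≫ qY = qX) (n dY : ℕ) (hY : topologicalKrullDim ↥Y = dY)
    (hX : topologicalKrullDim ↥X = ((dY + n : ℕ) : WithBot ℕ∞))
    (Ω : X.Modules) (d : OmegaSh.Der f Ω) (hd : OmegaSh.IsUniversal d) :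
    SmoothOfRelativeDimension n f ↔ FlatMod.IsFinLocFreeOfRank n Ω := by
  constructor
  · intro h
    exact locFree_of_smoothOfRelativeDimension f n Ω d hd
  · intro hloc
    haveI := smooth_of_locFree k qX qY f hf n dY hY hX Ω d hd hloc
    exact smoothOfRelativeDimension_of_locFree f n Ω d hd hloc

end Main

end Groth.Agent.Lib.Helper19.SmoothOmega
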