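import Mathlib
import Groth.Agent.Lib.Helper12.HenselQuasiFinite

set_option autoImplicit false
set_option linter.style.haveILetI false
universe u

namespace Groth.Agent.Lib.Helper19.QFLocFin

open Polynomial IsLocalRing TensorProduct

/-- A localization is an epimorphism. -/
theorem isEpi_localization {S : Type*} [CommRing S] (M : Submonoid S) (L : Type*) [CommRing L]
    [Algebra S L] [IsLocalization M L] : Algebra.IsEpi S L := by
  rw [Algebra.isEpi_iff_forall_one_tmul_eq]
  intro x
  obtain ⟨⟨s, t⟩, hst⟩ := IsLocalization.surj M x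
  simp only at hst
  obtain ⟨u, hu⟩ := IsLocalization.map_units L t
  have h1 : (t : S) • (↑u⁻¹ : L) = 1 := by
    rw [Algebra.smul_def, ← hu, Units.mul_inv]
  have h2 : (t : S) • x = algebraMap S L s := by
    rw [Algebra.smul_def, mul_comm]
    exact hst
  have h3 : s • (↑u⁻¹ : L) = x := by
    rw [Algebra.smul_def, ← hst, mul_comm x, ← hu, mul_comm (u : L), mul_assoc, Units.mul_inv, mul_one]
  calc (1 : L) ⊗ₜ[S] x = ((t : S) • (↑u⁻¹ : L)) ⊗ₜ[S] x := by rw [h1]
    _ = (↑u⁻¹ : L) ⊗ₜ[S] ((t : S) • x) := by rw [TensorProduct.smul_tmul]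
    _ = (↑u⁻¹ : L) ⊗ₜ[S] (s • (1 : L)) := by rw [h2, Algebra.algebraMap_eq_smul_one]
    _ = (s • (↑u⁻¹ : L)) ⊗ₜ[S] 1 := by rw [TensorProduct.smul_tmul]
    _ = x ⊗ₜ[S] 1 := by rw [h3]

/-- The forward direction. -/
theorem finite_localization (R : Type u) [CommRing R] [HenselianLocalRing R]
    (S : Type u) [CommRing S] [Algebra R S] [Algebra.FiniteType R S] (q : Ideal S) [q.IsPrime]
    [q.LiesOver (maximalIdeal R)] [Algebra.QuasiFiniteAt R q] :
    Module.Finite R (Localization.AtPrime q) := by
  classical
  obtain ⟨e, he, heq, hfin, huniq⟩ :=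
    Groth.Agent.Lib.Helper12.exists_idem_finite_of_quasiFiniteAt R S q
  let K : Ideal S := Ideal.span {1 - e}
  let S' := S ⧸ K
  have h1e : 1 - e ∈ q := by
    have : (1 - e) * e ∈ q := by
      rw [sub_mul, one_mul, he.eq, sub_self]
      exact zero_mem _
    rcases Ideal.IsPrime.mem_or_mem ‹q.IsPrime› this with h | h
    · exact h
    · exact absurd h heq
  have hKq : K ≤ q := (Ideal.span_singleton_le_iff_mem _).2 h1e
  haveI : Algebra.IsIntegral R S' := Algebra.IsIntegral.of_finite R S'
  -- every maximal ideal of `S'` is the image of `q`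
  have hmax : ∀ M : Ideal S', M.IsMaximal → M.comap (Ideal.Quotient.mk K) = q := by
    intro M hM
    haveI := hM
    apply huniq _ (Ideal.comap_isPrime _ _)
    · constructor
      have h2 : (M.comap (algebraMap R S')).IsMaximal :=
        Ideal.isMaximal_comap_of_isIntegral_of_isMaximal M
      have h3 : M.comap (algebraMap R S') = maximalIdeal R := IsLocalRing.eq_maximalIdeal h2
      rw [Ideal.under, Ideal.comap_comap, ← h3]
      rfl
    · intro hmem
      have h2 : (1 - e) ∈ M.comap (Ideal.Quotient.mk K) := by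
        rw [Ideal.mem_comap]
        have : Ideal.Quotient.mk K (1 - e) = 0 :=
          Ideal.Quotient.eq_zero_iff_mem.2 (Ideal.subset_span rfl)
        rw [this]
        exact zero_mem _
      have h3 := add_mem h2 hmem
      rw [sub_add_cancel] at h3
      exact (Ideal.comap_isPrime (Ideal.Quotient.mk K) M).ne_top ((Ideal.eq_top_iff_one _).2 h3)
  haveI : Nontrivial S' := Ideal.Quotient.nontrivial_iff.2 (fun h => by
    exact (‹q.IsPrime›.ne_top) (top_le_iff.1 (h ▸ hKq)))
  haveI : IsLocalRing S' := by
    apply IsLocalRing.of_unique_max_ideal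
    obtain ⟨M, hM⟩ := Ideal.exists_maximal S'
    refine ⟨M, hM, ?_⟩
    intro M' hM'
    have h1 := hmax M hM
    have h2 := hmax M' hM'
    have := congrArg (Ideal.map (Ideal.Quotient.mk K)) (h2.trans h1.symm)
    rwa [Ideal.map_comap_of_surjective _ Ideal.Quotient.mk_surjective,
      Ideal.map_comap_of_surjective _ Ideal.Quotient.mk_surjective] at this
  have hmaxS' : (maximalIdeal S').comap (Ideal.Quotient.mk K) = q :=
    hmax _ (IsLocalRing.maximalIdeal.isMaximal S')
  haveI : IsLocalization.AtPrime S' q := by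
    refine ⟨⟨?_, ?_, ?_⟩⟩
    · rintro ⟨s, hs⟩
      show IsUnit (Ideal.Quotient.mk K s)
      by_contra hnu
      have : Ideal.Quotient.mk K s ∈ maximalIdeal S' := hnu
      have : s ∈ (maximalIdeal S').comap (Ideal.Quotient.mk K) := this
      rw [hmaxS'] at this
      exact hs this
    · intro x
      obtain ⟨s, rfl⟩ := Ideal.Quotient.mk_surjective x
      exact ⟨(s, 1), by simp; rfl⟩
    · intro s s' hss
      have h1 : s - s' ∈ K := Ideal.Quotient.eq.1 hss
      obtain ⟨c, hc⟩ := Ideal.mem_span_singleton'.1 h1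
      refine ⟨⟨e, heq⟩, ?_⟩
      show e * s = e * s'
      have : e * (s - s') = 0 := by
        rw [← hc, mul_comm c, ← mul_assoc, mul_sub, mul_one, he.eq, sub_self, zero_mul]
      rw [mul_sub, sub_eq_zero] at this
      exact this
  let ε : S' ≃ₐ[S] Localization.AtPrime q :=
    IsLocalization.algEquiv q.primeCompl S' (Localization.AtPrime q)
  haveI : Module.Finite R S' := hfin
  exact Module.Finite.equiv (ε.toLinearEquiv.restrictScalars R)

/-- The converse direction. -/
theorem henselian_of_finite_localization (R : Type u) [CommRing R] [IsLocalRing R]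
    (hyp : ∀ (S : Type u) [CommRing S] [Algebra R S] [Algebra.FiniteType R S] (q : Ideal S)
      [q.IsPrime], q.LiesOver (IsLocalRing.maximalIdeal R) → Algebra.QuasiFiniteAt R q →
        Module.Finite R (Localization.AtPrime q)) : HenselianLocalRing R := by
  classical
  refine { is_henselian := fun f hf a₀ h₁ h₂ => ?_ }
  let S := AdjoinRoot f
  haveI : Module.Finite R S := hf.finite_adjoinRoot
  haveI : Module.Free R S := hf.free_adjoinRoot
  have hroot : f.eval₂ (residue R) (residue R a₀) = 0 := by
    rw [Polynomial.eval₂_at_apply, (residue_eq_zero_iff _).2 h₁]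
  let χ : S →+* ResidueField R := AdjoinRoot.lift (residue R) (residue R a₀) hroot
  have hχof : ∀ r, χ (AdjoinRoot.of f r) = residue R r := fun r => AdjoinRoot.lift_of hroot
  have hχroot : χ (AdjoinRoot.root f) = residue R a₀ := AdjoinRoot.lift_root hroot
  have hχmk : ∀ g : R[X], χ (AdjoinRoot.mk f g) = residue R (g.eval a₀) := by
    intro g
    rw [AdjoinRoot.lift_mk, Polynomial.eval₂_at_apply]
  let q : Ideal S := RingHom.ker χ
  haveI : q.IsPrime := RingHom.ker_isPrime χ
  have hq : q.LiesOver (maximalIdeal R) := by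
    constructor
    ext r
    rw [Ideal.under, Ideal.mem_comap, RingHom.mem_ker]
    show _ ↔ χ (AdjoinRoot.of f r) = 0
    rw [hχof, residue_eq_zero_iff]
  haveI := hq
  have hfin : Module.Finite R (Localization.AtPrime q) := hyp S q hq inferInstance
  let L := Localization.AtPrime q
  haveI : Module.Finite S L := Module.Finite.of_restrictScalars_finite R S L
  haveI : Algebra.IsEpi S L := isEpi_localization q.primeCompl L
  have hsurj : Function.Surjective (algebraMap S L) :=
    Algebra.isEpi_iff_surjective_algebraMap_of_finite.1 inferInstance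
  haveI : Module.Flat R L := Module.Flat.trans R S L
  haveI : IsLocalHom (algebraMap R L) := by
    constructor
    intro r hr
    by_contra hnu
    have h1 : r ∈ maximalIdeal R := hnu
    have h2 : algebraMap R S r ∈ q := by
      rw [hq.over] at h1
      exact h1
    have h3 : algebraMap S L (algebraMap R S r) ∈ maximalIdeal L :=
      (IsLocalization.AtPrime.to_map_mem_maximal_iff L q _).2 h2
    rw [← IsScalarTower.algebraMap_apply] at h3
    exact h3 hr
  haveI : Module.FaithfullyFlat R L := Module.FaithfullyFlat.of_flat_of_isLocalHom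
  have hinj : Function.Injective (algebraMap R L) := FaithfulSMul.algebraMap_injective R L
  -- the Taylor expansion
  let g : R[X] := f /ₘ (X - C a₀)
  have hfg : f = (X - C a₀) * g + C (f.eval a₀) := by
    have := Polynomial.modByMonic_add_div f (X - C a₀)
    rw [Polynomial.modByMonic_X_sub_C_eq_C_eval] at this
    calc f = C (f.eval a₀) + (X - C a₀) * (f /ₘ (X - C a₀)) := this.symm
      _ = (X - C a₀) * g + C (f.eval a₀) := add_comm _ _
  have hg : g.eval a₀ = f.derivative.eval a₀ := by
    conv_rhs => rw [hfg]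
    simp
  let u : S := AdjoinRoot.mk f g
  let t : S := AdjoinRoot.root f - AdjoinRoot.of f a₀
  have htu : t * u = - AdjoinRoot.of f (f.eval a₀) := by
    have h1 : AdjoinRoot.mk f f = 0 := AdjoinRoot.mk_self
    have h2 : AdjoinRoot.mk f ((X - C a₀) * g + C (f.eval a₀)) = 0 := by rw [← hfg]; exact h1
    rw [map_add, map_mul, map_sub, AdjoinRoot.mk_X, AdjoinRoot.mk_C, AdjoinRoot.mk_C] at h2
    exact eq_neg_of_add_eq_zero_left h2
  have huq : u ∉ q := by
    show ¬ χ u = 0
    rw [hχmk, hg, residue_eq_zero_iff]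
    exact fun h => h h₂
  have huL : IsUnit (algebraMap S L u) :=
    IsLocalization.map_units L (⟨u, huq⟩ : q.primeCompl)
  -- `t` lands in `𝔪 L`
  have htL : algebraMap S L t ∈ (maximalIdeal R).map (algebraMap R L) := by
    obtain ⟨v, hv⟩ := huL
    have h1 : algebraMap S L t * v = - algebraMap R L (f.eval a₀) := by
      rw [hv, ← map_mul, htu, map_neg]
      rfl
    have h2 : algebraMap S L t = - algebraMap R L (f.eval a₀) * ↑v⁻¹ := by
      rw [← h1, mul_assoc, Units.mul_inv, mul_one]
    rw [h2]
    exact Ideal.mul_mem_right _ _ (neg_mem (Ideal.mem_map_of_mem _ h₁))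
  -- `R → L` is surjective modulo `𝔪 L`
  have hmod : ∀ x : L, ∃ r : R, x - algebraMap R L r ∈ (maximalIdeal R).map (algebraMap R L) := by
    intro x
    obtain ⟨s, rfl⟩ := hsurj x
    obtain ⟨p, rfl⟩ := AdjoinRoot.mk_surjective s
    refine ⟨p.eval a₀, ?_⟩
    have h1 : X - C a₀ ∣ p - C (p.eval a₀) := by
      rw [Polynomial.dvd_iff_isRoot]
      simp
    obtain ⟨c, hc⟩ := h1
    have h2 : AdjoinRoot.mk f p - AdjoinRoot.of f (p.eval a₀) = t * AdjoinRoot.mk f c := by
      have := congrArg (AdjoinRoot.mk f) hc
      rw [map_sub, map_mul, map_sub, AdjoinRoot.mk_X, AdjoinRoot.mk_C, AdjoinRoot.mk_C] at this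
      exact this
    have h3 : algebraMap S L (AdjoinRoot.mk f p) - algebraMap R L (p.eval a₀) =
        algebraMap S L t * algebraMap S L (AdjoinRoot.mk f c) := by
      rw [← map_mul, ← h2, map_sub]
      rfl
    rw [h3]
    exact Ideal.mul_mem_right _ _ htL
  have hsurjR : Function.Surjective (algebraMap R L) := by
    have h1 : (⊤ : Submodule R L) ≤ LinearMap.range (Algebra.linearMap R L) := by
      apply Submodule.le_of_le_smul_of_le_jacobson_bot (I := maximalIdeal R) Module.Finite.fg_top
        (IsLocalRing.maximalIdeal_le_jacobson ⊥)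
      intro x _
      obtain ⟨r, hr⟩ := hmod x
      have h2 : x - algebraMap R L r ∈ maximalIdeal R • (⊤ : Submodule R L) := by
        rw [Ideal.smul_top_eq_map]
        exact hr
      have h3 : x = algebraMap R L r + (x - algebraMap R L r) := by ring
      rw [h3]
      exact Submodule.add_mem_sup ⟨r, rfl⟩ h2
    intro x
    exact h1 (Submodule.mem_top : x ∈ ⊤)
  obtain ⟨a, ha⟩ := hsurjR (algebraMap S L (AdjoinRoot.root f))
  refine ⟨a, ?_, ?_⟩
  · apply hinj
    rw [map_zero, ← Polynomial.eval₂_at_apply, ha]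
    have h1 : Polynomial.eval₂ (algebraMap R L) (algebraMap S L (AdjoinRoot.root f)) f =
        algebraMap S L (Polynomial.eval₂ (algebraMap R S) (AdjoinRoot.root f) f) := by
      rw [IsScalarTower.algebraMap_eq R S L, ← Polynomial.hom_eval₂]
    rw [h1]
    have h2 : Polynomial.eval₂ (algebraMap R S) (AdjoinRoot.root f) f = 0 :=
      AdjoinRoot.eval₂_root f
    rw [h2, map_zero]
  · by_contra hnu
    have h1 : IsUnit (a - a₀) := by
      by_contra h
      exact hnu h
    have h2 : IsUnit (algebraMap R L (a - a₀)) := h1.map _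
    have h3 : algebraMap R L (a - a₀) = algebraMap S L t := by
      rw [map_sub, ha, map_sub]
      rfl
    rw [h3] at h2
    have h4 : algebraMap S L t ∈ maximalIdeal L := by
      rw [IsLocalization.AtPrime.to_map_mem_maximal_iff L q]
      show χ t = 0
      rw [map_sub, hχroot, hχof, sub_self]
    exact h4 h2

end Groth.Agent.Lib.Helper19.QFLocFin
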