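import Mathlib

set_option autoImplicit false
universe u

namespace Groth.Agent.Lib.Helper19.OpenGen

variable {B : Type u} [CommRing B] [IsNoetherianRing B]

/-- If every prime strictly above `p₀` contains `f ∉ p₀`, then every such prime is minimal over
`p₀ + (f)`. -/
theorem mem_minimalPrimes_of_forall_mem (p₀ : Ideal B) [p₀.IsPrime] (f : B) (hf : f ∉ p₀)
    (H : ∀ q : Ideal B, q.IsPrime → p₀ < q → f ∈ q) (q : Ideal B) (hq : q.IsPrime) (hlt : p₀ < q) :
    q ∈ (p₀ ⊔ Ideal.span {f}).minimalPrimes := by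
  classical
  set I := p₀ ⊔ Ideal.span {f} with hI
  have hIle : ∀ P : Ideal B, P.IsPrime → p₀ < P → I ≤ P := fun P hP hlt' =>
    sup_le hlt'.le ((Ideal.span_singleton_le_iff_mem _).mpr (H P hP hlt'))
  have hIq : I ≤ q := hIle q hq hlt
  have hp₀I : p₀ ≤ I := le_sup_left
  have hfI : f ∈ I := Ideal.mem_sup_right (Ideal.mem_span_singleton_self f)
  by_contra hmin
  have hfin : I.minimalPrimes.Finite := Ideal.finite_minimalPrimes_of_isNoetherianRing B I
  have hnot : ∀ Q ∈ I.minimalPrimes, ¬ q ≤ Q := by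
    intro Q hQ hqQ
    have h2 : Q ≤ q := hQ.2 ⟨hq, hIq⟩ hqQ
    have : q = Q := le_antisymm hqQ h2
    exact hmin (this ▸ hQ)
  -- prime avoidance
  obtain ⟨x, hxq, hx⟩ : ∃ x ∈ q, ∀ Q ∈ I.minimalPrimes, x ∉ Q := by
    by_contra hcon
    push_neg at hcon
    have hsub : (q : Set B) ⊆ ⋃ Q ∈ (hfin.toFinset : Set (Ideal B)), ((id Q : Ideal B) : Set B) := by
      intro x hx
      obtain ⟨Q, hQ, hxQ⟩ := hcon x hx
      simp only [Set.mem_iUnion]
      exact ⟨Q, by simpa using hQ, hxQ⟩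
    rw [Ideal.subset_union_prime (R := B) (f := id) ⊤ ⊤ (fun Q hQ _ _ => by
      have : Q ∈ I.minimalPrimes := by simpa using hQ
      exact this.1.1)] at hsub
    obtain ⟨Q, hQ, hqQ⟩ := hsub
    exact hnot Q (by simpa using hQ) hqQ
  obtain ⟨Q₀, hQ₀, -⟩ := Ideal.exists_minimalPrimes_le hIq
  have hxp₀ : x ∉ p₀ := fun h => hx Q₀ hQ₀ (hQ₀.1.2 (hp₀I h))
  set J := p₀ ⊔ Ideal.span {x} with hJ
  have hJq : J ≤ q := sup_le hlt.le ((Ideal.span_singleton_le_iff_mem _).mpr hxq)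
  obtain ⟨P', hP'min, hP'q⟩ := Ideal.exists_minimalPrimes_le hJq
  haveI hP'prime : P'.IsPrime := hP'min.1.1
  have hxP' : x ∈ P' := hP'min.1.2 (Ideal.mem_sup_right (Ideal.mem_span_singleton_self x))
  have hp₀P' : p₀ < P' :=
    lt_of_le_of_ne (le_sup_left.trans hP'min.1.2) (fun h => hxp₀ (h ▸ hxP'))
  have hIP' : I ≤ P' := hIle P' hP'prime hp₀P'
  obtain ⟨Q, hQmin, hQP'⟩ := Ideal.exists_minimalPrimes_le hIP'
  haveI hQprime : Q.IsPrime := hQmin.1.1
  have hQne : Q ≠ P' := fun h => hx Q hQmin (h ▸ hxP')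
  have hQlt : Q < P' := lt_of_le_of_ne hQP' hQne
  have hfQ : f ∈ Q := hQmin.1.2 hfI
  have hp₀Q : p₀ ≤ Q := hp₀I.trans hQmin.1.2
  -- pass to the quotient
  have h1 : (P'.map (Ideal.Quotient.mk p₀)).height ≤ 1 :=
    Ideal.map_height_le_one_of_mem_minimalPrimes hP'min
  have hker : RingHom.ker (Ideal.Quotient.mk p₀) = p₀ := Ideal.mk_ker
  haveI : (Q.map (Ideal.Quotient.mk p₀)).IsPrime :=
    Ideal.map_isPrime_of_surjective Ideal.Quotient.mk_surjective (hker.le.trans hp₀Q)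
  haveI : (P'.map (Ideal.Quotient.mk p₀)).IsPrime :=
    Ideal.map_isPrime_of_surjective Ideal.Quotient.mk_surjective (hker.le.trans hp₀P'.le)
  have hcm : ∀ K : Ideal B, p₀ ≤ K → (K.map (Ideal.Quotient.mk p₀)).comap (Ideal.Quotient.mk p₀) = K := by
    intro K hK
    rw [Ideal.comap_map_of_surjective _ Ideal.Quotient.mk_surjective, ← RingHom.ker_eq_comap_bot,
      hker, sup_eq_left.mpr hK]
  have hlt2 : Q.map (Ideal.Quotient.mk p₀) < P'.map (Ideal.Quotient.mk p₀) := by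
    refine lt_of_le_of_ne (Ideal.map_mono hQP') (fun h => hQne ?_)
    rw [← hcm Q hp₀Q, ← hcm P' hp₀P'.le, h]
  have h2 := Ideal.height_add_one_le_of_lt_of_isPrime hlt2
  have h3 : (Q.map (Ideal.Quotient.mk p₀)).height = 0 := by
    have h4 : (Q.map (Ideal.Quotient.mk p₀)).height + 1 ≤ 1 := h2.trans h1
    have h5 : (Q.map (Ideal.Quotient.mk p₀)).height < 1 :=
      (ENat.add_one_le_iff' (by simp)).mp h4
    exact ENat.lt_one_iff_eq_zero.mp h5
  rw [Ideal.height_eq_zero_iff_eq_bot] at h3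
  apply hf
  have : f ∈ (Q.map (Ideal.Quotient.mk p₀)).comap (Ideal.Quotient.mk p₀) := by
    rw [hcm Q hp₀Q]; exact hfQ
  rw [h3, ← RingHom.ker_eq_comap_bot, hker] at this
  exact this

/-- The set of primes strictly above such a prime is finite. -/
theorem finite_setOf_lt (p₀ : Ideal B) [p₀.IsPrime] (f : B) (hf : f ∉ p₀)
    (H : ∀ q : Ideal B, q.IsPrime → p₀ < q → f ∈ q) :
    {q : Ideal B | q.IsPrime ∧ p₀ < q}.Finite :=
  (Ideal.finite_minimalPrimes_of_isNoetherianRing B (p₀ ⊔ Ideal.span {f})).subset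
    fun q hq => mem_minimalPrimes_of_forall_mem p₀ f hf H q hq.1 hq.2

/-- There is no prime strictly between. -/
theorem not_lt_lt (p₀ : Ideal B) [p₀.IsPrime] (f : B) (hf : f ∉ p₀)
    (H : ∀ q : Ideal B, q.IsPrime → p₀ < q → f ∈ q) (q₁ q₂ : Ideal B) (h₁ : q₁.IsPrime)
    (h₂ : q₂.IsPrime) (h01 : p₀ < q₁) (h12 : q₁ < q₂) : False := by
  have m₁ := mem_minimalPrimes_of_forall_mem p₀ f hf H q₁ h₁ h01
  have m₂ := mem_minimalPrimes_of_forall_mem p₀ f hf H q₂ h₂ (h01.trans h12)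
  exact absurd (m₂.2 m₁.1 h12.le) (not_le_of_gt h12)

end Groth.Agent.Lib.Helper19.OpenGen
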