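import Mathlib

set_option autoImplicit false
set_option linter.style.haveILetI false
universe u
open CategoryTheory CategoryTheory.Limits AlgebraicGeometry Polynomial

namespace Groth.Agent.Lib.Helper19.SmSlice2

/-- The prime ideal of a point in an affine open is the kernel of the evaluation map. -/
theorem mem_primeIdealOf_iff {X : Scheme.{u}} {U : X.Opens} (hU : IsAffineOpen U) (x : X)
    (hx : x ∈ U) (b : Γ(X, U)) :
    b ∈ (hU.primeIdealOf ⟨x, hx⟩).asIdeal ↔ (X.evaluation U x hx).hom b = 0 := by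
  have h0 : (X.evaluation U x hx).hom b = 0 ↔ x ∉ X.basicOpen b :=
    X.evaluation_eq_zero_iff_notMem_basicOpen x hx b
  rw [h0]
  have h1 : x ∈ X.basicOpen b ↔
      hU.primeIdealOf ⟨x, hx⟩ ∈ (hU.fromSpec ⁻¹ᵁ X.basicOpen b : (Spec Γ(X, U)).Opens) := by
    show _ ↔ hU.fromSpec (hU.primeIdealOf ⟨x, hx⟩) ∈ X.basicOpen b
    rw [hU.fromSpec_primeIdealOf ⟨x, hx⟩]
  rw [h1, hU.fromSpec_preimage_basicOpen]
  show _ ↔ ¬ (b ∉ (hU.primeIdealOf ⟨x, hx⟩).asIdeal)
  rw [not_not]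

/-- compatibility of evaluation maps with `appLE`. -/
theorem evaluation_appLE {X S : Scheme.{u}} (f : X ⟶ S) (x : X) (V₀ : S.Opens)
    (hsV₀ : f x ∈ V₀) (U₀ : X.Opens) (hxU₀ : x ∈ U₀) (hle : U₀ ≤ f ⁻¹ᵁ V₀) :
    f.appLE V₀ U₀ hle ≫ X.evaluation U₀ x hxU₀ =
      S.evaluation V₀ (f x) hsV₀ ≫ f.residueFieldMap x := by
  rw [Scheme.evaluation_naturality f x hsV₀, Scheme.Hom.appLE, Category.assoc]
  congr 1
  rw [← Scheme.germ_residue, ← Scheme.germ_residue, ← Category.assoc]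
  congr 1
  exact X.presheaf.germ_res (homOfLE hle) x hxU₀

theorem hyp_H {X S : Scheme.{u}} (f : X ⟶ S) (x : X) {V₀ : S.Opens} (hV₀ : IsAffineOpen V₀)
    (hsV₀ : f x ∈ V₀) {U₀ : X.Opens} (hU₀ : IsAffineOpen U₀) (hxU₀ : x ∈ U₀)
    (hle : U₀ ≤ f ⁻¹ᵁ V₀)
    (hsep : @Algebra.IsSeparable (S.residueField (f x)) (X.residueField x) _ _
      (f.residueFieldMap x).hom.toAlgebra) (r : Γ(X, U₀)) :
    ∃ M : Polynomial Γ(S, V₀),
      Polynomial.eval₂ (f.appLE V₀ U₀ hle).hom r M ∈ (hU₀.primeIdealOf ⟨x, hxU₀⟩).asIdeal ∧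
      Polynomial.eval₂ (f.appLE V₀ U₀ hle).hom r (derivative M) ∉
        (hU₀.primeIdealOf ⟨x, hxU₀⟩).asIdeal := by
  classical
  let K := S.residueField (f x)
  let K' := X.residueField x
  letI : Algebra K K' := (f.residueFieldMap x).hom.toAlgebra
  let evA : Γ(S, V₀) →+* K := (S.evaluation V₀ (f x) hsV₀).hom
  let evB : Γ(X, U₀) →+* K' := (X.evaluation U₀ x hxU₀).hom
  have hcomp : evB.comp (f.appLE V₀ U₀ hle).hom = (algebraMap K K').comp evA := by
    have := evaluation_appLE f x V₀ hsV₀ U₀ hxU₀ hle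
    exact congrArg CommRingCat.Hom.hom this
  let m : K[X] := minpoly K (evB r)
  have hm0 : aeval (evB r) m = 0 := minpoly.aeval K (evB r)
  have hmsep : m.Separable := Algebra.IsSeparable.isSeparable K (evB r)
  have hm1 : aeval (evB r) (derivative m) ≠ 0 := hmsep.aeval_derivative_ne_zero hm0
  -- lift `m` to the stalk and clear denominators
  letI := S.presheaf.algebra_section_stalk ⟨f x, hsV₀⟩
  haveI hloc := hV₀.isLocalization_stalk ⟨f x, hsV₀⟩
  obtain ⟨mt, hmt⟩ := Polynomial.map_surjective (S.residue (f x)).hom (S.residue_surjective (f x)) m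
  obtain ⟨b, hb, hM⟩ := IsLocalization.integerNormalization_spec
    (hV₀.primeIdealOf ⟨f x, hsV₀⟩).asIdeal.primeCompl mt
  set M : Γ(S, V₀)[X] := IsLocalization.integerNormalization
    (hV₀.primeIdealOf ⟨f x, hsV₀⟩).asIdeal.primeCompl mt with hMdef
  have hevA : evA = (S.residue (f x)).hom.comp (algebraMap Γ(S, V₀) (S.presheaf.stalk (f x))) := rfl
  have hMmap : M.map evA = Polynomial.C (evA b) * m := by
    rw [hevA, ← Polynomial.map_map, hM, Algebra.smul_def, Polynomial.map_mul, hmt,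
      Polynomial.algebraMap_apply, Polynomial.map_C]
    rfl
  have hb0 : evA b ≠ 0 := by
    intro h0
    exact hb ((mem_primeIdealOf_iff hV₀ (f x) hsV₀ b).mpr h0)
  refine ⟨M, ?_, ?_⟩
  · rw [mem_primeIdealOf_iff hU₀ x hxU₀]
    show evB (Polynomial.eval₂ (f.appLE V₀ U₀ hle).hom r M) = 0
    rw [Polynomial.hom_eval₂, hcomp, ← Polynomial.eval₂_map, hMmap, Polynomial.eval₂_mul,
      Polynomial.eval₂_C]
    have : Polynomial.eval₂ (algebraMap K K') (evB r) m = 0 := by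
      rw [← Polynomial.aeval_def]; exact hm0
    rw [this, mul_zero]
  · rw [mem_primeIdealOf_iff hU₀ x hxU₀]
    show ¬ evB (Polynomial.eval₂ (f.appLE V₀ U₀ hle).hom r (derivative M)) = 0
    rw [Polynomial.hom_eval₂, hcomp, ← Polynomial.eval₂_map, ← Polynomial.derivative_map, hMmap,
      Polynomial.derivative_C_mul, Polynomial.eval₂_mul, Polynomial.eval₂_C]
    have : Polynomial.eval₂ (algebraMap K K') (evB r) (derivative m) ≠ 0 := by
      rw [← Polynomial.aeval_def]; exact hm1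
    exact mul_ne_zero ((_root_.map_ne_zero _).mpr hb0) this

end Groth.Agent.Lib.Helper19.SmSlice2
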