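import Mathlib
import Groth.Agent.Lib.helper19.OpenGen
import Groth.Agent.Lib.helper19.SmSlice2

set_option autoImplicit false
set_option linter.style.haveILetI false
universe u
open CategoryTheory AlgebraicGeometry Topology

namespace Groth.Agent.Lib.Helper19.OpenGenSch

open Groth.Agent.Lib.Helper19

variable {X : Scheme.{u}}

/-- Specialization inside an affine open in terms of prime ideals. -/
theorem specializes_iff_primeIdealOf_le {U : X.Opens} (hU : IsAffineOpen U) (x y : X)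
    (hx : x ∈ U) (hy : y ∈ U) :
    x ⤳ y ↔ (hU.primeIdealOf ⟨x, hx⟩).asIdeal ≤ (hU.primeIdealOf ⟨y, hy⟩).asIdeal := by
  haveI : IsOpenImmersion hU.fromSpec := hU.isOpenImmersion_fromSpec
  have h1 := hU.fromSpec.isOpenEmbedding.isInducing.specializes_iff
    (x := hU.primeIdealOf ⟨x, hx⟩) (y := hU.primeIdealOf ⟨y, hy⟩)
  rw [hU.fromSpec_primeIdealOf ⟨x, hx⟩, hU.fromSpec_primeIdealOf ⟨y, hy⟩] at h1
  rw [h1]
  exact (PrimeSpectrum.le_iff_specializes (hU.primeIdealOf ⟨x, hx⟩)
    (hU.primeIdealOf ⟨y, hy⟩)).symm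

theorem primeIdealOf_injective {U : X.Opens} (hU : IsAffineOpen U) (x y : X)
    (hx : x ∈ U) (hy : y ∈ U)
    (h : (hU.primeIdealOf ⟨x, hx⟩).asIdeal = (hU.primeIdealOf ⟨y, hy⟩).asIdeal) : x = y := by
  have h2 : hU.primeIdealOf ⟨x, hx⟩ = hU.primeIdealOf ⟨y, hy⟩ := PrimeSpectrum.ext h
  have := congrArg (fun p => hU.fromSpec p) h2
  simpa [hU.fromSpec_primeIdealOf] using this

/-- A prime of the ring of an affine open gives a point. -/
theorem exists_point_of_prime {U : X.Opens} (hU : IsAffineOpen U) (q : Ideal Γ(X, U))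
    [hq : q.IsPrime] : ∃ (y : X) (hy : y ∈ U), (hU.primeIdealOf ⟨y, hy⟩).asIdeal = q := by
  have hmem : hU.fromSpec ⟨q, hq⟩ ∈ U := by
    have := hU.range_fromSpec
    rw [← SetLike.mem_coe, ← this]
    exact ⟨_, rfl⟩
  refine ⟨hU.fromSpec ⟨q, hq⟩, hmem, ?_⟩
  haveI : IsOpenImmersion hU.fromSpec := hU.isOpenImmersion_fromSpec
  have : hU.primeIdealOf ⟨hU.fromSpec ⟨q, hq⟩, hmem⟩ = ⟨q, hq⟩ := by
    apply hU.fromSpec.isOpenEmbedding.injective
    rw [hU.fromSpec_primeIdealOf]
  rw [this]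

/-- If `{x}` is locally closed, then in any affine open containing `x` there is a function
not vanishing at `x` but vanishing at every proper specialization. -/
theorem exists_function_of_isLocallyClosed {U : X.Opens} (hU : IsAffineOpen U) (x : X)
    (hx : x ∈ U) (hlc : IsLocallyClosed ({x} : Set X)) :
    ∃ f : Γ(X, U), f ∉ (hU.primeIdealOf ⟨x, hx⟩).asIdeal ∧
      ∀ q : Ideal Γ(X, U), q.IsPrime → (hU.primeIdealOf ⟨x, hx⟩).asIdeal < q → f ∈ q := by
  have htfae : IsLocallyClosed ({x} : Set X) ↔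
      ∀ x' ∈ ({x} : Set X), ∃ U, x' ∈ U ∧ IsOpen U ∧ U ∩ closure ({x} : Set X) ⊆ {x} :=
    (isLocallyClosed_tfae ({x} : Set X)).out 0 3
  obtain ⟨W, hxW, hWo, hW⟩ := htfae.mp hlc x rfl
  let W' : X.Opens := ⟨W, hWo⟩
  obtain ⟨f, hfW, hxf⟩ := hU.exists_basicOpen_le (V := W') ⟨x, hxW⟩ hx
  refine ⟨f, ?_, ?_⟩
  · rw [SmSlice2.mem_primeIdealOf_iff hU x hx f]
    exact fun h0 => ((X.evaluation_eq_zero_iff_notMem_basicOpen x hx f).mp h0) hxf
  · intro q hq hlt
    obtain ⟨y, hy, hyq⟩ := exists_point_of_prime hU q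
    by_contra hfq
    have hyf : y ∈ X.basicOpen f := by
      by_contra hcon
      apply hfq
      rw [← hyq, SmSlice2.mem_primeIdealOf_iff hU y hy f]
      exact (X.evaluation_eq_zero_iff_notMem_basicOpen y hy f).mpr hcon
    have hxy : x ⤳ y := by
      rw [specializes_iff_primeIdealOf_le hU x y hx hy, hyq]
      exact hlt.le
    have hyW : y ∈ W := hfW hyf
    have hycl : y ∈ closure ({x} : Set X) := specializes_iff_mem_closure.mp hxy
    have : y = x := hW ⟨hyW, hycl⟩
    subst this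
    exact (ne_of_lt hlt) hyq

variable [IsLocallyNoetherian X]

/-- Proper specializations of a locally closed point in a locally Noetherian scheme are closed
points. -/
theorem eq_of_specializes (x : X) (hlc : IsLocallyClosed ({x} : Set X)) (y z : X)
    (hxy : x ⤳ y) (hne : y ≠ x) (hyz : y ⤳ z) : z = y := by
  by_contra hzy
  obtain ⟨_, ⟨U, hU, rfl⟩, hzU, -⟩ := X.isBasis_affineOpens.exists_subset_of_mem_open
    (Set.mem_univ z) isOpen_univ
  haveI : IsNoetherianRing Γ(X, U) := IsLocallyNoetherian.component_noetherian ⟨U, hU⟩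
  have hyU : y ∈ U := hyz.mem_open U.2 hzU
  have hxU : x ∈ U := hxy.mem_open U.2 hyU
  obtain ⟨f, hf, H⟩ := exists_function_of_isLocallyClosed hU x hxU hlc
  have h01 : (hU.primeIdealOf ⟨x, hxU⟩).asIdeal < (hU.primeIdealOf ⟨y, hyU⟩).asIdeal :=
    lt_of_le_of_ne ((specializes_iff_primeIdealOf_le hU x y hxU hyU).mp hxy)
      (fun h => hne (primeIdealOf_injective hU x y hxU hyU h).symm)
  have h12 : (hU.primeIdealOf ⟨y, hyU⟩).asIdeal < (hU.primeIdealOf ⟨z, hzU⟩).asIdeal :=
    lt_of_le_of_ne ((specializes_iff_primeIdealOf_le hU y z hyU hzU).mp hyz)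
      (fun h => hzy (primeIdealOf_injective hU y z hyU hzU h).symm)
  exact OpenGen.not_lt_lt _ f hf H _ _ (hU.primeIdealOf ⟨y, hyU⟩).2
    (hU.primeIdealOf ⟨z, hzU⟩).2 h01 h12

theorem isClosed_singleton_of_specializes (x : X) (hlc : IsLocallyClosed ({x} : Set X)) (y : X)
    (hxy : x ⤳ y) (hne : y ≠ x) : IsClosed ({y} : Set X) := by
  rw [← closure_eq_iff_isClosed]
  apply Set.Subset.antisymm _ subset_closure
  intro z hz
  have hyz : y ⤳ z := specializes_iff_mem_closure.mpr hz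
  exact eq_of_specializes x hlc y z hxy hne hyz

/-- The closure of a locally closed point meets every affine open in a finite set. -/
theorem finite_closure_inter (x : X) (hlc : IsLocallyClosed ({x} : Set X)) {U : X.Opens}
    (hU : IsAffineOpen U) : (closure ({x} : Set X) ∩ U).Finite := by
  classical
  by_cases hxU : x ∈ U
  · haveI : IsNoetherianRing Γ(X, U) := IsLocallyNoetherian.component_noetherian ⟨U, hU⟩
    obtain ⟨f, hf, H⟩ := exists_function_of_isLocallyClosed hU x hxU hlc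
    have hfin := OpenGen.finite_setOf_lt _ f hf H
    have hfin2 : ({q : Ideal Γ(X, U) | q.IsPrime ∧ (hU.primeIdealOf ⟨x, hxU⟩).asIdeal < q} ∪
        {(hU.primeIdealOf ⟨x, hxU⟩).asIdeal}).Finite := hfin.union (Set.finite_singleton _)
    let g : {y : X // y ∈ closure ({x} : Set X) ∩ U} → Ideal Γ(X, U) :=
      fun y => (hU.primeIdealOf ⟨y.1, y.2.2⟩).asIdeal
    have hg : Function.Injective g := by
      intro y₁ y₂ h
      exact Subtype.ext (primeIdealOf_injective hU y₁.1 y₂.1 y₁.2.2 y₂.2.2 h)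
    have hgm : ∀ y, g y ∈ ({q : Ideal Γ(X, U) | q.IsPrime ∧
        (hU.primeIdealOf ⟨x, hxU⟩).asIdeal < q} ∪ {(hU.primeIdealOf ⟨x, hxU⟩).asIdeal}) := by
      intro y
      have hxy : x ⤳ y.1 := specializes_iff_mem_closure.mpr y.2.1
      have hle := (specializes_iff_primeIdealOf_le hU x y.1 hxU y.2.2).mp hxy
      rcases eq_or_lt_of_le hle with h | h
      · right; exact h.symm
      · left; exact ⟨(hU.primeIdealOf ⟨y.1, y.2.2⟩).2, h⟩
    haveI : Finite {y : X // y ∈ closure ({x} : Set X) ∩ U} := by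
      haveI := hfin2.to_subtype
      exact Finite.of_injective (fun y => (⟨g y, hgm y⟩ : ↥({q : Ideal Γ(X, U) | q.IsPrime ∧
        (hU.primeIdealOf ⟨x, hxU⟩).asIdeal < q} ∪ {(hU.primeIdealOf ⟨x, hxU⟩).asIdeal})))
        (fun y₁ y₂ h => hg (congrArg Subtype.val h))
    exact Set.toFinite _
  · convert Set.finite_empty
    rw [Set.eq_empty_iff_forall_notMem]
    rintro y ⟨hy1, hy2⟩
    exact hxU ((specializes_iff_mem_closure.mpr hy1).mem_open U.2 hy2)

end Groth.Agent.Lib.Helper19.OpenGenSch
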