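import Mathlib
import Groth.Agent.Lib.helper19.OpenGenSch

set_option autoImplicit false
set_option linter.style.haveILetI false
universe u
open CategoryTheory AlgebraicGeometry Topology

namespace Groth.Agent.Lib.Helper19.OpenGenApp

open Groth.Agent.Lib.Helper19

variable {X : Scheme.{u}}

/-- A point closed in an open subset is locally closed. -/
theorem top_aux {α : Type*} [TopologicalSpace α] (U : Set α) (hU : IsOpen U) (u : U)
    (hu : IsClosed ({u} : Set U)) :
    IsLocallyClosed ({u.1} : Set α) ∧ closure ({u.1} : Set α) ∩ U = {u.1} := by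
  obtain ⟨C, hC, hCu⟩ := isClosed_induced_iff.mp hu
  have hmem : ∀ y : U, y.1 ∈ C ↔ y = u := fun y => Set.ext_iff.mp hCu y
  have huC : u.1 ∈ C := (hmem u).mpr rfl
  have hUC : U ∩ C = {u.1} := by
    ext y
    constructor
    · rintro ⟨hyU, hyC⟩
      exact congrArg Subtype.val ((hmem ⟨y, hyU⟩).mp hyC)
    · rintro rfl
      exact ⟨u.2, huC⟩
  refine ⟨⟨U, C, hU, hC, hUC.symm⟩, ?_⟩
  apply Set.Subset.antisymm
  · rintro y ⟨hy1, hy2⟩
    have hyC : y ∈ C := (hC.closure_subset_iff.mpr (Set.singleton_subset_iff.mpr huC)) hy1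
    rw [← hUC]
    exact ⟨hy2, hyC⟩
  · rintro y rfl
    exact ⟨subset_closure rfl, u.2⟩

/-- Any nonempty closed subset of an affine open contains a point that is locally closed in `X`
and closed in `U`. -/
theorem exists_locallyClosed_point {U : X.Opens} (hU : IsAffineOpen U) (Z : Set X)
    (hZ : IsClosed Z) (hne : (Z ∩ U).Nonempty) :
    ∃ x ∈ Z ∩ U, IsLocallyClosed ({x} : Set X) ∧ closure ({x} : Set X) ∩ U = {x} := by
  haveI : CompactSpace (U : Set X) := isCompact_iff_compactSpace.mp hU.isCompact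
  obtain ⟨z, hzZ, hzU⟩ := hne
  have hS : IsClosed (Subtype.val ⁻¹' Z : Set (U : Set X)) := hZ.preimage continuous_subtype_val
  obtain ⟨u, huS, hucl⟩ := hS.exists_closed_singleton ⟨⟨z, hzU⟩, hzZ⟩
  obtain ⟨h1, h2⟩ := top_aux (U : Set X) U.2 u hucl
  exact ⟨u.1, ⟨huS, u.2⟩, h1, h2⟩

theorem exists_closedPoint [IsLocallyNoetherian X] (Z : Set X) (hZ : IsClosed Z)
    (hne : Z.Nonempty) : ∃ x ∈ Z, IsClosed ({x} : Set X) := by
  obtain ⟨z, hz⟩ := hne
  obtain ⟨_, ⟨U, hU, rfl⟩, hzU, -⟩ := X.isBasis_affineOpens.exists_subset_of_mem_open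
    (Set.mem_univ z) isOpen_univ
  obtain ⟨x, ⟨hxZ, hxU⟩, hlc, -⟩ := exists_locallyClosed_point hU Z hZ ⟨z, hz, hzU⟩
  by_cases hcl : IsClosed ({x} : Set X)
  · exact ⟨x, hxZ, hcl⟩
  · have : ∃ y ∈ closure ({x} : Set X), y ≠ x := by
      by_contra hcon
      push Not at hcon
      apply hcl
      rw [← closure_eq_iff_isClosed]
      exact Set.Subset.antisymm (fun y hy => hcon y hy) subset_closure
    obtain ⟨y, hy, hne⟩ := this
    refine ⟨y, ?_, OpenGenSch.isClosed_singleton_of_specializes x hlc y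
      (specializes_iff_mem_closure.mpr hy) hne⟩
    exact (hZ.closure_subset_iff.mpr (Set.singleton_subset_iff.mpr hxZ)) hy

end Groth.Agent.Lib.Helper19.OpenGenApp
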