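import Mathlib
import Groth.Prelude.Def_CAlg
import Groth.Agent.Lib.Helper21.GrCMVertex
import Groth.Agent.Lib.Helper21.DepthKit6
import Groth.Agent.Lib.Helper7.FibreCM
import Groth.Agent.Lib.Helper13.StalkSpecLoc
import Groth.Agent.Lib.helper19.OpenGenApp

set_option autoImplicit false
universe u
open AlgebraicGeometry CategoryTheory

namespace Groth.Agent.Lib.Helper19.CMClosed

open Groth.Agent.Lib.Helper21 Groth.Agent.Lib.Helper13.StalkSpecLoc

/-- localization of a CM local ring at a prime is CM. -/
theorem isCM_localization (A : Type u) [CommRing A] [hA : LocCoh.IsCohenMacaulayLocalRing A]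
    (p : Ideal A) [p.IsPrime] : LocCoh.IsCohenMacaulayLocalRing (Localization.AtPrime p) := by
  haveI : IsNoetherianRing A := inferInstance
  haveI : IsLocalRing A := inferInstance
  rw [← GrCMVertex.cmloc_iff]
  have hM : LocCoh.IsCohenMacaulayModule A A := hA.supportDim_eq_depth
  have hp : (⟨p, inferInstance⟩ : PrimeSpectrum A) ∈ Module.support A A := by
    rw [Module.support_eq_zeroLocus, Module.annihilator_eq_bot.mpr inferInstance]
    simp
  exact (DepthKit.isCM_localizedModule_and_dim hM ⟨p, inferInstance⟩ hp).1

theorem main (X : Scheme.{u}) [IsLocallyNoetherian X] :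
    (∀ x : X, LocCoh.IsCohenMacaulayLocalRing (X.presheaf.stalk x)) ↔
      ∀ x : X, IsClosed ({x} : Set X) → LocCoh.IsCohenMacaulayLocalRing (X.presheaf.stalk x) := by
  constructor
  · intro h x _
    exact h x
  · intro h x
    obtain ⟨z, hz, hzc⟩ := Groth.Agent.Lib.Helper19.OpenGenApp.exists_closedPoint
      (closure ({x} : Set X)) isClosed_closure ⟨x, subset_closure rfl⟩
    have hxz : x ⤳ z := specializes_iff_mem_closure.mpr hz
    haveI := h z hzc
    letI := (X.presheaf.stalkSpecializes hxz).hom.toAlgebra
    haveI := isLocalization_stalkSpecializes hxz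
    haveI := isCM_localization (X.presheaf.stalk z) (primeOf hxz)
    let e : Localization.AtPrime (primeOf hxz) ≃ₐ[X.presheaf.stalk z] X.presheaf.stalk x :=
      IsLocalization.algEquiv (primeOf hxz).primeCompl _ _
    exact Groth.Agent.Lib.Helper7.FibreCM.isCM_of_ringEquiv e.toRingEquiv

end Groth.Agent.Lib.Helper19.CMClosed
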