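import Mathlib

set_option autoImplicit false
universe u

namespace Groth.Agent.Lib.Helper19.Node1

open MvPowerSeries

variable (K : Type u) [Field K]

/-- the linear coefficient functional -/
noncomputable def lin (i : Fin 2) (f : MvPowerSeries (Fin 2) K) : K :=
  MvPowerSeries.coeff (Finsupp.single i 1) f

theorem lin_add (i : Fin 2) (f g : MvPowerSeries (Fin 2) K) :
    lin K i (f + g) = lin K i f + lin K i g := by
  simp [lin]

theorem lin_mul (i : Fin 2) (f g : MvPowerSeries (Fin 2) K) :
    lin K i (f * g) = constantCoeff f * lin K i g + lin K i f * constantCoeff g := by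
  classical
  simp only [lin, MvPowerSeries.coeff_mul, Finsupp.antidiagonal_single,
    Finset.sum_map, Function.Embedding.prodMap, Function.Embedding.coeFn_mk, Prod.map]
  rw [show Finset.HasAntidiagonal.antidiagonal (1 : ℕ) = {((0 : ℕ), 1), (1, 0)} from rfl]
  rw [Finset.sum_pair (by decide)]
  simp [MvPowerSeries.coeff_zero_eq_constantCoeff]

theorem lin_C (i : Fin 2) (c : K) : lin K i (C c) = 0 := by
  classical
  simp only [lin]
  rw [MvPowerSeries.coeff_C]
  rw [if_neg]
  intro h
  have := congrArg (fun f => f i) h
  simp at this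

theorem lin_X (i j : Fin 2) : lin K i (X j : MvPowerSeries (Fin 2) K) = if i = j then 1 else 0 := by
  classical
  simp only [lin]
  rw [MvPowerSeries.coeff_X]
  by_cases h : i = j
  · subst h; simp
  · rw [if_neg h, if_neg]
    intro h'
    apply h
    have := congrArg (fun f => f j) h'
    simp [Finsupp.single_apply] at this
    exact this

theorem cc_X (j : Fin 2) : constantCoeff (X j : MvPowerSeries (Fin 2) K) = 0 := by
  simp

theorem lin_XY_mul (i : Fin 2) (f : MvPowerSeries (Fin 2) K) :
    lin K i (X 0 * X 1 * f) = 0 := by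
  rw [lin_mul, lin_mul]
  simp

theorem cc_XY_mul (f : MvPowerSeries (Fin 2) K) :
    constantCoeff (X 0 * X 1 * f : MvPowerSeries (Fin 2) K) = 0 := by
  simp

end Groth.Agent.Lib.Helper19.Node1
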