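import Mathlib
import Groth.Agent.Lib.helper19.Node1

set_option autoImplicit false
universe u

namespace Groth.Agent.Lib.Helper19.Node2

open MvPowerSeries Node1

variable (K : Type u) [Field K]

abbrev Q := MvPowerSeries (Fin 2) K ⧸ Ideal.span {(X 0 * X 1 : MvPowerSeries (Fin 2) K)}

/-- constant coefficient on the quotient -/
noncomputable def cc : Q K →+* K :=
  Ideal.Quotient.lift _ (constantCoeff (σ := Fin 2) (R := K)) (by
    intro a ha
    rw [Ideal.mem_span_singleton] at ha
    obtain ⟨f, rfl⟩ := ha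
    exact cc_XY_mul K f)

theorem cc_mk (f : MvPowerSeries (Fin 2) K) : cc K (Ideal.Quotient.mk _ f) = constantCoeff f := rfl

/-- linear coefficients on the quotient -/
noncomputable def linQ (i : Fin 2) (q : Q K) : K :=
  lin K i (Function.surjInv Ideal.Quotient.mk_surjective q)

theorem linQ_mk (i : Fin 2) (f : MvPowerSeries (Fin 2) K) :
    linQ K i (Ideal.Quotient.mk _ f) = lin K i f := by
  unfold linQ
  set g := Function.surjInv (Ideal.Quotient.mk_surjective (I := Ideal.span {(X 0 * X 1 : MvPowerSeries (Fin 2) K)}))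
    (Ideal.Quotient.mk _ f) with hg
  have h1 : Ideal.Quotient.mk (Ideal.span {(X 0 * X 1 : MvPowerSeries (Fin 2) K)}) g =
      Ideal.Quotient.mk _ f := Function.surjInv_eq _ _
  rw [Ideal.Quotient.eq, Ideal.mem_span_singleton] at h1
  obtain ⟨h, hh⟩ := h1
  have : g = f + X 0 * X 1 * h := by rw [← hh]; ring
  rw [this, lin_add, lin_XY_mul, add_zero]

theorem linQ_add (i : Fin 2) (a b : Q K) : linQ K i (a + b) = linQ K i a + linQ K i b := by
  obtain ⟨f, rfl⟩ := Ideal.Quotient.mk_surjective a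
  obtain ⟨g, rfl⟩ := Ideal.Quotient.mk_surjective b
  rw [← map_add, linQ_mk, linQ_mk, linQ_mk, lin_add]

theorem linQ_mul (i : Fin 2) (a b : Q K) :
    linQ K i (a * b) = cc K a * linQ K i b + linQ K i a * cc K b := by
  obtain ⟨f, rfl⟩ := Ideal.Quotient.mk_surjective a
  obtain ⟨g, rfl⟩ := Ideal.Quotient.mk_surjective b
  rw [← map_mul, linQ_mk, linQ_mk, linQ_mk, lin_mul, cc_mk, cc_mk]

theorem linQ_zero (i : Fin 2) : linQ K i 0 = 0 := by
  have := linQ_add K i 0 0
  rw [add_zero] at this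
  exact left_eq_add.mp this

theorem linQ_eq_zero_of_mem_sq (i : Fin 2) (a : Q K) (ha : a ∈ RingHom.ker (cc K) ^ 2) :
    linQ K i a = 0 := by
  rw [pow_two] at ha
  refine Submodule.mul_induction_on ha ?_ ?_
  · intro m hm n hn
    rw [linQ_mul, (RingHom.mem_ker).mp hm, (RingHom.mem_ker).mp hn]
    simp
  · intro x y hx hy
    rw [linQ_add, hx, hy, add_zero]

theorem isUnit_of_cc_ne_zero (a : Q K) (ha : cc K a ≠ 0) : IsUnit a := by
  obtain ⟨f, rfl⟩ := Ideal.Quotient.mk_surjective a
  rw [cc_mk] at ha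
  have : IsUnit f := MvPowerSeries.isUnit_iff_constantCoeff.mpr (isUnit_iff_ne_zero.mpr ha)
  exact this.map _

end Groth.Agent.Lib.Helper19.Node2
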