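import Mathlib
import Groth.Prelude.Def_CurvBase
import Groth.Agent.Lib.helper19.Node2

set_option autoImplicit false
universe u

namespace Groth.Agent.Lib.Helper19.Node3

open MvPowerSeries Node1 Node2 IsLocalRing

variable (K : Type u) [Field K] (B : Type u) [CommRing B] [Algebra K B] [IsLocalRing B]
  [IsNoetherianRing B]

/-- the kernel of the `n`-th evaluation is generated by the `n`-th power of the ideal. -/
theorem ker_evalₐ_le (n : ℕ) (z : AdicCompletion (maximalIdeal B) B)
    (hz : AdicCompletion.evalₐ (maximalIdeal B) n z = 0) :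
    z ∈ Ideal.map (algebraMap B (AdicCompletion (maximalIdeal B) B)) (maximalIdeal B ^ n) := by
  have h1 : AdicCompletion.eval (maximalIdeal B) B n z = 0 := by
    have h2 : (maximalIdeal B) ^ n ≤ (maximalIdeal B) ^ n • (⊤ : Ideal B) := by
      rw [smul_eq_mul, Ideal.mul_top]
    rw [← AdicCompletion.factor_evalₐ_eq_eval (maximalIdeal B) z h2, hz, map_zero]
  have h3 : z ∈ (AdicCompletion.eval (maximalIdeal B) B n).ker := h1
  rw [← AdicCompletion.pow_smul_top_eq_ker_eval (maximalIdeal B).fg_of_isNoetherianRing,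
    Ideal.smul_top_eq_map] at h3
  exact h3

end Groth.Agent.Lib.Helper19.Node3

namespace Groth.Agent.Lib.Helper19.Node3

open MvPowerSeries Node1 Node2 IsLocalRing

variable (K : Type u) [Field K] (B : Type u) [CommRing B] [Algebra K B] [IsLocalRing B]
  [IsNoetherianRing B]

theorem node_data (h : Curv2.IsOrdDoublePt K B) :
    ∃ (c₀ : B →+* K) (c : Fin 2 → B → K) (u : Fin 2 → B),
      (∀ l : K, c₀ (algebraMap K B l) = l) ∧ (∀ b ∈ maximalIdeal B, c₀ b = 0) ∧
      (∀ i a b, c i (a + b) = c i a + c i b) ∧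
      (∀ i a b, c i (a * b) = c₀ a * c i b + c i a * c₀ b) ∧
      (∀ i (l : K), c i (algebraMap K B l) = 0) ∧
      (∀ i j, c i (u j) = if i = j then 1 else 0) ∧
      u 0 * u 1 ∈ maximalIdeal B ^ 3 ∧ (∀ j, c₀ (u j) = 0) := by
  obtain ⟨e, he⟩ := h
  set ι := algebraMap B (AdicCompletion (maximalIdeal B) B) with hι
  let ψ : B →+* Q K := e.toRingHom.comp ι
  let c₀ : B →+* K := (cc K).comp ψ
  have hψK : ∀ l : K, ψ (algebraMap K B l) = Ideal.Quotient.mk _ (C l) := he
  have hc₀K : ∀ l : K, c₀ (algebraMap K B l) = l := by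
    intro l
    change cc K (ψ (algebraMap K B l)) = l
    rw [hψK, cc_mk]
    simp
  have hc₀m : ∀ b ∈ maximalIdeal B, c₀ b = 0 := by
    intro b hb
    by_contra hne
    have h1 : IsUnit (ψ b) := isUnit_of_cc_ne_zero K _ hne
    have h2 : IsUnit (ι b) := by
      have : IsUnit (e (ι b)) := h1
      exact (MulEquiv.isUnit_map e.toMulEquiv).mp this
    have h3 : IsUnit b := isUnit_of_map_unit ι b h2
    exact (mem_maximalIdeal b).mp hb h3
  have hψm : Ideal.map ψ (maximalIdeal B) ≤ RingHom.ker (cc K) := by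
    rw [Ideal.map_le_iff_le_comap]
    intro b hb
    exact hc₀m b hb
  -- the key vanishing lemma
  have hZ0 : ∀ z : AdicCompletion (maximalIdeal B) B,
      AdicCompletion.evalₐ (maximalIdeal B) 3 z = 0 → e z ∈ RingHom.ker (cc K) ^ 2 := by
    intro z hz
    have h1 := ker_evalₐ_le B 3 z hz
    have h2 : e z ∈ Ideal.map e.toRingHom (Ideal.map ι (maximalIdeal B ^ 3)) :=
      Ideal.mem_map_of_mem e.toRingHom h1
    rw [Ideal.map_map, Ideal.map_pow] at h2
    have h3 : Ideal.map (e.toRingHom.comp ι) (maximalIdeal B) ^ 3 ≤ RingHom.ker (cc K) ^ 2 :=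
      (Ideal.pow_right_mono hψm 3).trans (Ideal.pow_le_pow_right (by norm_num))
    exact h3 h2
  have hZ : ∀ z : AdicCompletion (maximalIdeal B) B,
      AdicCompletion.evalₐ (maximalIdeal B) 3 z = 0 → ∀ i, linQ K i (e z) = 0 :=
    fun z hz i => linQ_eq_zero_of_mem_sq K i _ (hZ0 z hz)
  have hZc : ∀ z : AdicCompletion (maximalIdeal B) B,
      AdicCompletion.evalₐ (maximalIdeal B) 3 z = 0 → cc K (e z) = 0 := by
    intro z hz
    have h1 : RingHom.ker (cc K) ^ 2 ≤ RingHom.ker (cc K) := Ideal.pow_le_self (by norm_num)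
    exact (RingHom.mem_ker).mp (h1 (hZ0 z hz))
  -- the elements
  have hex : ∀ j : Fin 2, ∃ b : B, AdicCompletion.evalₐ (maximalIdeal B) 3
      (ι b - e.symm (Ideal.Quotient.mk _ (X j))) = 0 := by
    intro j
    obtain ⟨b, hb⟩ := Ideal.Quotient.mk_surjective
      (AdicCompletion.evalₐ (maximalIdeal B) 3 (e.symm (Ideal.Quotient.mk _ (X j))))
    refine ⟨b, ?_⟩
    rw [map_sub, ← hb]
    have : ι b = AdicCompletion.of (maximalIdeal B) B b := rfl
    rw [this, AdicCompletion.evalₐ_of, sub_self]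
  choose u hu using hex
  refine ⟨c₀, fun i b => linQ K i (ψ b), u, hc₀K, hc₀m, ?_, ?_, ?_, ?_, ?_, ?_⟩
  · intro i a b
    change linQ K i (ψ (a + b)) = _
    rw [map_add, linQ_add]
  · intro i a b
    change linQ K i (ψ (a * b)) = _
    rw [map_mul, linQ_mul]
    rfl
  · intro i l
    change linQ K i (ψ (algebraMap K B l)) = 0
    rw [hψK, linQ_mk, lin_C]
  · intro i j
    change linQ K i (e (ι (u j))) = _
    have h1 : ι (u j) = e.symm (Ideal.Quotient.mk _ (X j)) +
        (ι (u j) - e.symm (Ideal.Quotient.mk _ (X j))) := by ring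
    rw [h1, map_add, linQ_add, hZ _ (hu j) i, add_zero, RingEquiv.apply_symm_apply, linQ_mk, lin_X]
  · rw [← Ideal.Quotient.eq_zero_iff_mem]
    have h1 : ∀ b : B, Ideal.Quotient.mk (maximalIdeal B ^ 3) b =
        AdicCompletion.evalₐ (maximalIdeal B) 3 (ι b) := by
      intro b
      have : ι b = AdicCompletion.of (maximalIdeal B) B b := rfl
      rw [this, AdicCompletion.evalₐ_of]
    have h2 : ∀ j, AdicCompletion.evalₐ (maximalIdeal B) 3 (ι (u j)) =
        AdicCompletion.evalₐ (maximalIdeal B) 3 (e.symm (Ideal.Quotient.mk _ (X j))) := by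
      intro j
      have := hu j
      rw [map_sub, sub_eq_zero] at this
      exact this
    rw [map_mul, h1, h1, h2, h2, ← map_mul, ← map_mul, ← map_mul]
    have h3 : (Ideal.Quotient.mk (Ideal.span {(X 0 * X 1 : MvPowerSeries (Fin 2) K)}))
        (X 0 * X 1) = 0 := by
      rw [Ideal.Quotient.eq_zero_iff_mem]
      exact Ideal.mem_span_singleton_self _
    rw [h3, map_zero, map_zero]
  · intro j
    change cc K (e (ι (u j))) = 0
    have h1 : ι (u j) = e.symm (Ideal.Quotient.mk _ (X j)) +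
        (ι (u j) - e.symm (Ideal.Quotient.mk _ (X j))) := by ring
    rw [h1, map_add, map_add, hZc _ (hu j), add_zero, RingEquiv.apply_symm_apply, cc_mk]
    simp

end Groth.Agent.Lib.Helper19.Node3
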