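import Mathlib
import Groth.Prelude.Def_CurvBase
import Groth.Agent.Lib.helper19.ComplUnram6
import Groth.Agent.Lib.helper19.ComplMap1
import Groth.Agent.Lib.helper19.Node3

set_option autoImplicit false
set_option linter.style.haveILetI false
universe u

namespace Groth.Agent.Lib.Helper19.NodeEt1

open IsLocalRing Groth.Agent.Lib.Helper19

section T1

variable (A B : Type u) [CommRing A] [CommRing B] [IsLocalRing A] [IsLocalRing B]
  [IsNoetherianRing A] [IsNoetherianRing B] [Algebra A B] [IsLocalHom (algebraMap A B)]

/-- every element of the completion is congruent to an element of the ring modulo the maximal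
ideal. -/
theorem exists_sub_mem (b : AdicCompletion (maximalIdeal B) B) :
    ∃ b₀ : B, b - algebraMap B (AdicCompletion (maximalIdeal B) B) b₀ ∈
      maximalIdeal (AdicCompletion (maximalIdeal B) B) := by
  obtain ⟨b₀, hb₀⟩ := Ideal.Quotient.mk_surjective (AdicCompletion.evalₐ (maximalIdeal B) 1 b)
  refine ⟨b₀, ?_⟩
  have h0 : AdicCompletion.evalₐ (maximalIdeal B) 1
      (b - algebraMap B (AdicCompletion (maximalIdeal B) B) b₀) = 0 := by
    have : algebraMap B (AdicCompletion (maximalIdeal B) B) b₀ =
        AdicCompletion.of (maximalIdeal B) B b₀ := rfl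
    rw [map_sub, this, AdicCompletion.evalₐ_of, ← hb₀, sub_self]
  have h1 := Node3.ker_evalₐ_le B 1 _ h0
  rw [pow_one, ← AdicCompletion.maximalIdeal_eq_map] at h1
  exact h1

theorem complMap_bijective [Module.Flat A B]
    (hm : (maximalIdeal A).map (algebraMap A B) = maximalIdeal B)
    (hres : Function.Surjective (algebraMap (ResidueField A) (ResidueField B))) :
    Function.Bijective (ComplMap.complMap A B) := by
  set ψ := ComplMap.complMap A B with hψdef
  have hψ := ComplMap.complMap_comp A B
  haveI : Module.Finite (ResidueField A) (ResidueField B) :=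
    Module.Finite.of_surjective (Algebra.linearMap (ResidueField A) (ResidueField B)) hres
  haveI : Algebra.IsSeparable (ResidueField A) (ResidueField B) := by
    refine ⟨fun x => ?_⟩
    obtain ⟨a, rfl⟩ := hres x
    exact isSeparable_algebraMap a
  have hmain := ComplUnram.main_etale A B ψ hψ
  have het : ψ.Etale := hmain.1.mp ⟨inferInstance, hm, inferInstance, inferInstance⟩
  obtain ⟨n, hn, ⟨e⟩⟩ := hmain.2 het
  letI : Algebra (AdicCompletion (maximalIdeal A) A) (AdicCompletion (maximalIdeal B) B) :=
    ψ.toAlgebra
  have halg : ∀ a, algebraMap (AdicCompletion (maximalIdeal A) A)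
      (AdicCompletion (maximalIdeal B) B) a = ψ a := fun _ => rfl
  haveI : Module.Finite (AdicCompletion (maximalIdeal A) A) (AdicCompletion (maximalIdeal B) B) :=
    Module.Finite.equiv e
  have hmB : (maximalIdeal (AdicCompletion (maximalIdeal A) A)).map ψ =
      maximalIdeal (AdicCompletion (maximalIdeal B) B) :=
    (ComplUnram.map_eq_iff ψ hψ).mpr hm
  constructor
  · -- injective
    rw [injective_iff_map_eq_zero]
    intro a ha
    have h1 : ∀ b : AdicCompletion (maximalIdeal B) B, a • b = 0 := by
      intro b
      rw [Algebra.smul_def, halg, ha, zero_mul]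
    have h2 : a • (Pi.single (⟨0, hn⟩ : Fin n) (1 : AdicCompletion (maximalIdeal A) A) :
        Fin n → AdicCompletion (maximalIdeal A) A) = 0 := by
      apply e.injective
      rw [map_smul, h1, map_zero]
    have h3 := congrFun h2 ⟨0, hn⟩
    simpa using h3
  · -- surjective
    have hN : (⊤ : Submodule (AdicCompletion (maximalIdeal A) A)
        (AdicCompletion (maximalIdeal B) B)) ≤
        LinearMap.range (Algebra.linearMap (AdicCompletion (maximalIdeal A) A)
          (AdicCompletion (maximalIdeal B) B)) := by
      apply Submodule.le_of_le_smul_of_le_jacobson_bot (I := maximalIdeal _)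
        (Module.Finite.fg_top) (IsLocalRing.maximalIdeal_le_jacobson _)
      intro b _
      obtain ⟨b₀, hb₀⟩ := exists_sub_mem B b
      obtain ⟨a₀, ha₀⟩ := residue_surjective ((hres (residue B b₀)).choose)
      have ha₀' : residue B (algebraMap A B a₀) = residue B b₀ := by
        have := (hres (residue B b₀)).choose_spec
        rw [← ha₀, IsLocalRing.ResidueField.algebraMap_residue] at this
        exact this
      have h1 : b₀ - algebraMap A B a₀ ∈ maximalIdeal B := by
        rw [← Ideal.Quotient.eq_zero_iff_mem]
        have : residue B (b₀ - algebraMap A B a₀) = 0 := by rw [map_sub, ha₀', sub_self]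
        exact this
      have h2 : algebraMap B (AdicCompletion (maximalIdeal B) B) (b₀ - algebraMap A B a₀) ∈
          maximalIdeal (AdicCompletion (maximalIdeal B) B) := by
        rw [AdicCompletion.maximalIdeal_eq_map (R := B)]
        exact Ideal.mem_map_of_mem _ h1
      have h3 : b - ψ (algebraMap A _ a₀) ∈ maximalIdeal (AdicCompletion (maximalIdeal B) B) := by
        have h4 : ψ (algebraMap A _ a₀) = algebraMap B _ (algebraMap A B a₀) :=
          RingHom.congr_fun hψ a₀
        rw [h4]
        have : b - algebraMap B _ (algebraMap A B a₀) =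
            (b - algebraMap B (AdicCompletion (maximalIdeal B) B) b₀) +
              algebraMap B (AdicCompletion (maximalIdeal B) B) (b₀ - algebraMap A B a₀) := by
          rw [map_sub]; ring
        rw [this]
        exact Ideal.add_mem _ hb₀ h2
      rw [← hmB] at h3
      have h5 : b - ψ (algebraMap A _ a₀) ∈ maximalIdeal (AdicCompletion (maximalIdeal A) A) •
          (⊤ : Submodule (AdicCompletion (maximalIdeal A) A)
            (AdicCompletion (maximalIdeal B) B)) := by
        have := (Ideal.smul_top_eq_map (R := AdicCompletion (maximalIdeal A) A)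
          (S := AdicCompletion (maximalIdeal B) B)
          (maximalIdeal (AdicCompletion (maximalIdeal A) A)))
        rw [this]
        exact h3
      have h6 : b = ψ (algebraMap A _ a₀) + (b - ψ (algebraMap A _ a₀)) := by ring
      rw [h6]
      exact Submodule.add_mem_sup ⟨algebraMap A _ a₀, rfl⟩ h5
    intro b
    obtain ⟨a, ha⟩ := hN (Submodule.mem_top (x := b))
    exact ⟨a, ha⟩

end T1

section Transfer

variable (K : Type u) [Field K] (A B : Type u) [CommRing A] [CommRing B] [IsLocalRing A]
  [IsLocalRing B] [IsNoetherianRing A] [IsNoetherianRing B] [Algebra K A] [Algebra K B]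
  [Algebra A B] [IsScalarTower K A B] [IsLocalHom (algebraMap A B)]

theorem isOrdDoublePt_iff (hbij : Function.Bijective (ComplMap.complMap A B)) :
    Curv2.IsOrdDoublePt K A ↔ Curv2.IsOrdDoublePt K B := by
  let ψ : AdicCompletion (maximalIdeal A) A ≃+* AdicCompletion (maximalIdeal B) B :=
    RingEquiv.ofBijective (ComplMap.complMap A B) hbij
  have hψ : ∀ a : A, ψ (algebraMap A _ a) = algebraMap B _ (algebraMap A B a) :=
    fun a => RingHom.congr_fun (ComplMap.complMap_comp A B) a
  constructor
  · rintro ⟨e, he⟩
    refine ⟨ψ.symm.trans e, fun c => ?_⟩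
    rw [RingEquiv.trans_apply, IsScalarTower.algebraMap_apply K A B, ← hψ,
      RingEquiv.symm_apply_apply, he]
  · rintro ⟨e, he⟩
    refine ⟨ψ.trans e, fun c => ?_⟩
    rw [RingEquiv.trans_apply, hψ, ← IsScalarTower.algebraMap_apply K A B, he]

end Transfer

section Residue

variable (K : Type u) [Field K] (A : Type u) [CommRing A] [IsLocalRing A] [IsNoetherianRing A]
  [Algebra K A]

theorem residue_bijective_of_isOrdDoublePt (h : Curv2.IsOrdDoublePt K A) :
    Function.Bijective (algebraMap K (ResidueField A)) := by
  obtain ⟨c₀, -, -, hc₀K, hc₀m, -⟩ := Node3.node_data K A h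
  have hker : ∀ a : A, a ∈ maximalIdeal A → c₀ a = 0 := hc₀m
  let cbar : ResidueField A →+* K := Ideal.Quotient.lift (maximalIdeal A) c₀ hker
  have hcbar : ∀ a : A, cbar (residue A a) = c₀ a := fun a => rfl
  have hinj : Function.Injective cbar := cbar.injective
  refine ⟨(algebraMap K (ResidueField A)).injective, fun z => ⟨cbar z, ?_⟩⟩
  apply hinj
  have h1 : algebraMap K (ResidueField A) (cbar z) = residue A (algebraMap K A (cbar z)) := by
    rw [IsScalarTower.algebraMap_apply K A (ResidueField A)]
    rfl
  rw [h1, hcbar, hc₀K]

end Residue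

section Transfer2

variable (K : Type u) [Field K] [IsAlgClosed K] (A B : Type u) [CommRing A] [CommRing B]
  [IsLocalRing A] [IsLocalRing B] [IsNoetherianRing A] [IsNoetherianRing B] [Algebra K A]
  [Algebra K B] [Algebra A B] [IsScalarTower K A B] [IsLocalHom (algebraMap A B)]

theorem isOrdDoublePt_iff_of_flat [Module.Flat A B]
    (hm : (maximalIdeal A).map (algebraMap A B) = maximalIdeal B)
    [Module.Finite (ResidueField A) (ResidueField B)] :
    Curv2.IsOrdDoublePt K A ↔ Curv2.IsOrdDoublePt K B := by
  have key : Function.Surjective (algebraMap (ResidueField A) (ResidueField B)) →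
      (Curv2.IsOrdDoublePt K A ↔ Curv2.IsOrdDoublePt K B) := fun hres =>
    isOrdDoublePt_iff K A B (complMap_bijective A B hm hres)
  have htower : ∀ c : K, algebraMap (ResidueField A) (ResidueField B)
      (algebraMap K (ResidueField A) c) = algebraMap K (ResidueField B) c := by
    intro c
    rw [IsScalarTower.algebraMap_apply K A (ResidueField A),
      IsScalarTower.algebraMap_apply K B (ResidueField B),
      IsScalarTower.algebraMap_apply K A B]
    exact IsLocalRing.ResidueField.algebraMap_residue _
  constructor
  · intro hA
    have hb := residue_bijective_of_isOrdDoublePt K A hA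
    haveI : IsAlgClosed (ResidueField A) :=
      IsAlgClosed.of_ringEquiv K _ (RingEquiv.ofBijective _ hb)
    have hres : Function.Surjective (algebraMap (ResidueField A) (ResidueField B)) :=
      (IsAlgClosed.algebraMap_bijective_of_isIntegral (k := ResidueField A)).2
    exact (key hres).mp hA
  · intro hB
    have hb := residue_bijective_of_isOrdDoublePt K B hB
    have hres : Function.Surjective (algebraMap (ResidueField A) (ResidueField B)) := by
      intro z
      obtain ⟨c, rfl⟩ := hb.2 z
      exact ⟨algebraMap K (ResidueField A) c, htower c⟩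
    exact (key hres).mpr hB

end Transfer2

end Groth.Agent.Lib.Helper19.NodeEt1
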