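import Mathlib
import Groth.Agent.Lib.Helper5.CoeffField

namespace Groth.Agent.Lib.helper19.ArtSm
universe u v
open IsLocalRing Polynomial

section KL
variable {k : Type v} [Field k] {C : Type u} [CommRing C] [IsLocalRing C] [IsArtinianRing C]
  [Algebra k C]

lemma maximalIdeal_nilpotent : IsNilpotent (maximalIdeal C) := by
  have := IsArtinianRing.isNilpotent_jacobson_bot (R := C)
  rwa [IsLocalRing.jacobson_eq_maximalIdeal ⊥ bot_ne_top] at this

/-- truncated polynomial ring facts -/
lemma trunc_contra (K : Type*) [Field K] (N : ℕ) (f : K[X])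
    (h1 : f - X ∈ Ideal.span {(X : K[X]) ^ 2}) (h2 : f ^ N ∈ Ideal.span {(X : K[X]) ^ (N + 1)}) :
    False := by
  rw [Ideal.mem_span_singleton] at h1 h2
  obtain ⟨q, hq⟩ := h1
  have hf : f = X * (1 + X * q) := by
    have : f = X + X ^ 2 * q := by rw [← hq]; ring
    rw [this]; ring
  rw [hf, mul_pow, pow_succ' X N, mul_comm X (X ^ N)] at h2
  have h3 : (X : K[X]) ∣ (1 + X * q) ^ N := by
    have hX : (X : K[X]) ^ N ≠ 0 := pow_ne_zero _ X_ne_zero
    exact (mul_dvd_mul_iff_left hX).mp h2
  rw [Polynomial.X_dvd_iff, Polynomial.coeff_zero_eq_eval_zero] at h3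
  simp at h3


variable [Algebra.FormallySmooth k C] [Algebra.FormallySmooth k (ResidueField C)]

/-- the residue map as a `k`-algebra map. -/
noncomputable abbrev resₐ : C →ₐ[k] ResidueField C := IsScalarTower.toAlgHom k C (ResidueField C)

omit [IsArtinianRing C] [Algebra.FormallySmooth k C] [Algebra.FormallySmooth k (ResidueField C)] in
lemma ker_resₐ : RingHom.ker (resₐ (k := k) (C := C) : C →+* ResidueField C) = maximalIdeal C :=
  IsLocalRing.ker_residue (R := C)

omit [IsArtinianRing C] [Algebra.FormallySmooth k C] [Algebra.FormallySmooth k (ResidueField C)] in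
lemma ker_resₐ' : RingHom.ker (resₐ (k := k) (C := C)) = maximalIdeal C :=
  IsLocalRing.ker_residue (R := C)

/-- coefficient field. -/
noncomputable def sec : ResidueField C →ₐ[k] C :=
  Algebra.FormallySmooth.liftOfSurjective (AlgHom.id k (ResidueField C)) (resₐ (k := k) (C := C))
    IsLocalRing.residue_surjective (by rw [ker_resₐ]; exact maximalIdeal_nilpotent)

lemma res_sec (x : ResidueField C) : residue C (sec (k := k) x) = x :=
  Algebra.FormallySmooth.liftOfSurjective_apply (AlgHom.id k (ResidueField C))
    (resₐ (k := k) (C := C)) IsLocalRing.residue_surjective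
    (by rw [ker_resₐ']; exact maximalIdeal_nilpotent) x

lemma sub_sec_mem (c : C) : c - sec (k := k) (residue C c) ∈ maximalIdeal C := by
  rw [← IsLocalRing.ker_residue, RingHom.mem_ker, map_sub, res_sec, sub_self]

/-- the "derivation" attached to a functional on the cotangent space. -/
noncomputable def δ (l : CotangentSpace C →ₗ[ResidueField C] ResidueField C) (c : C) :
    ResidueField C :=
  l ((maximalIdeal C).toCotangent ⟨c - sec (k := k) (residue C c), sub_sec_mem c⟩)

lemma δ_add (l : CotangentSpace C →ₗ[ResidueField C] ResidueField C) (c c' : C) :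
    δ (k := k) l (c + c') = δ (k := k) l c + δ (k := k) l c' := by
  unfold δ
  rw [← map_add, ← map_add]
  congr 2
  apply Subtype.ext
  simp only [map_add, Submodule.coe_add]
  ring

lemma δ_mul (l : CotangentSpace C →ₗ[ResidueField C] ResidueField C) (c c' : C) :
    δ (k := k) l (c * c') = residue C c * δ (k := k) l c' + residue C c' * δ (k := k) l c := by
  unfold δ
  set n : maximalIdeal C := ⟨c - sec (k := k) (residue C c), sub_sec_mem c⟩ with hn
  set n' : maximalIdeal C := ⟨c' - sec (k := k) (residue C c'), sub_sec_mem c'⟩ with hn'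
  have key : (⟨c * c' - sec (k := k) (residue C (c * c')), sub_sec_mem (c * c')⟩ : maximalIdeal C)
      = (⟨n.1 * n'.1, Ideal.mul_mem_left _ _ n'.2⟩ : maximalIdeal C)
        + (sec (k := k) (residue C c)) • n' + (sec (k := k) (residue C c')) • n := by
    apply Subtype.ext
    simp only [hn, hn', map_mul, Submodule.coe_add, Submodule.coe_smul, smul_eq_mul]
    ring
  have h0 : (maximalIdeal C).toCotangent (⟨n.1 * n'.1, Ideal.mul_mem_left _ _ n'.2⟩ :
      maximalIdeal C) = 0 := by
    rw [Ideal.toCotangent_eq_zero, pow_two]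
    exact Ideal.mul_mem_mul n.2 n'.2
  have hsm : ∀ (a : C) (m : maximalIdeal C),
      l ((maximalIdeal C).toCotangent (a • m)) = residue C a * l ((maximalIdeal C).toCotangent m) := by
    intro a m
    rw [map_smul]
    have : a • (maximalIdeal C).toCotangent m = (residue C a) • (maximalIdeal C).toCotangent m := rfl
    rw [this, map_smul, smul_eq_mul]
  rw [key, map_add, map_add, map_add, map_add, h0, map_zero, zero_add, hsm, hsm, res_sec, res_sec]

lemma δ_algebraMap (l : CotangentSpace C →ₗ[ResidueField C] ResidueField C) (r : k) :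
    δ (k := k) l (algebraMap k C r) = 0 := by
  unfold δ
  have : (⟨algebraMap k C r - sec (k := k) (residue C (algebraMap k C r)),
      sub_sec_mem (algebraMap k C r)⟩ : maximalIdeal C) = 0 := by
    apply Subtype.ext
    have h1 : residue C (algebraMap k C r) = algebraMap k (ResidueField C) r := rfl
    simp only [h1, AlgHom.commutes, sub_self, Submodule.coe_zero]
  rw [this, map_zero, map_zero]

lemma δ_one (l : CotangentSpace C →ₗ[ResidueField C] ResidueField C) :
    δ (k := k) l 1 = 0 := by
  have := δ_algebraMap (k := k) (C := C) l 1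
  rwa [map_one] at this

lemma δ_zero (l : CotangentSpace C →ₗ[ResidueField C] ResidueField C) :
    δ (k := k) l 0 = 0 := by
  have := δ_algebraMap (k := k) (C := C) l 0
  rwa [map_zero] at this

/-- the map to `K[X]/(X²)`. -/
noncomputable def ψ (l : CotangentSpace C →ₗ[ResidueField C] ResidueField C) :
    C →ₐ[k] (ResidueField C)[X] ⧸ Ideal.span {(X : (ResidueField C)[X]) ^ 2} where
  toFun c := Ideal.Quotient.mk _ (Polynomial.C (residue C c) + Polynomial.C (δ (k := k) l c) * X)
  map_one' := by simp [δ_one]
  map_zero' := by simp [δ_zero]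
  map_add' c c' := by
    rw [← map_add]
    congr 1
    rw [map_add, δ_add, map_add, map_add]
    ring
  map_mul' c c' := by
    rw [← map_mul, Ideal.Quotient.eq, Ideal.mem_span_singleton]
    refine ⟨- Polynomial.C (δ (k := k) l c * δ (k := k) l c'), ?_⟩
    rw [map_mul, δ_mul]
    simp only [map_add, map_mul, map_neg]
    ring
  commutes' r := by
    rw [δ_algebraMap]
    simp only [map_zero, zero_mul, add_zero]
    rfl

theorem isField_of_formallySmooth (k : Type v) [Field k] (C : Type u) [CommRing C] [IsLocalRing C]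
    [IsArtinianRing C] [Algebra k C] [Algebra.FormallySmooth k C]
    [Algebra.FormallySmooth k (ResidueField C)] : IsField C := by
  classical
  rw [IsLocalRing.isField_iff_maximalIdeal_eq]
  by_contra hm
  -- element of m \ m²
  obtain ⟨y, hy, hy2⟩ : ∃ y ∈ maximalIdeal C, y ∉ maximalIdeal C ^ 2 := by
    by_contra hall
    push Not at hall
    apply hm
    obtain ⟨n, hn⟩ := maximalIdeal_nilpotent (C := C)
    have hle : ∀ j : ℕ, maximalIdeal C ≤ maximalIdeal C ^ (j + 1) := by
      intro j
      induction j with
      | zero => simp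
      | succ j ih =>
        intro x hx
        have h2 : x ∈ maximalIdeal C ^ 2 := hall x hx
        rw [pow_two] at h2
        rw [pow_succ]
        exact Ideal.mul_mono ih le_rfl h2
    have := hle n
    rw [pow_succ, hn, Ideal.zero_eq_bot, Ideal.bot_mul] at this
    exact le_bot_iff.mp this
  -- functional l with l [y] = 1
  have hy' : (maximalIdeal C).toCotangent ⟨y, hy⟩ ≠ 0 := by
    rw [Ne, Ideal.toCotangent_eq_zero]; exact hy2
  obtain ⟨l, hl⟩ : ∃ l : CotangentSpace C →ₗ[ResidueField C] ResidueField C,
      l ((maximalIdeal C).toCotangent ⟨y, hy⟩) = 1 := by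
    have hne : ¬ ∀ φ : Module.Dual (ResidueField C) (CotangentSpace C),
        φ ((maximalIdeal C).toCotangent ⟨y, hy⟩) = 0 :=
      fun h => hy' ((Module.forall_dual_apply_eq_zero_iff (ResidueField C) _).1 h)
    push Not at hne
    obtain ⟨φ, hφ⟩ := hne
    exact ⟨(φ ((maximalIdeal C).toCotangent ⟨y, hy⟩))⁻¹ • φ, by simp [hφ]⟩
  have hδy : δ (k := k) l y = 1 := by
    unfold δ
    have : (⟨y - sec (k := k) (residue C y), sub_sec_mem y⟩ : maximalIdeal C) = ⟨y, hy⟩ := by
      apply Subtype.ext
      have : residue C y = 0 := (IsLocalRing.residue_eq_zero_iff y).mpr hy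
      simp [this]
    rw [this, hl]
  obtain ⟨N, hN⟩ := maximalIdeal_nilpotent (C := C)
  have hyN : y ^ (N + 1) = 0 := by
    have : y ^ N ∈ maximalIdeal C ^ N := Ideal.pow_mem_pow hy N
    rw [hN] at this
    rw [pow_succ, (Ideal.mem_bot.mp this), zero_mul]
  -- the lift
  let I : Ideal (ResidueField C)[X] := Ideal.span {X ^ (N + 1 + 1)}
  let J : Ideal (ResidueField C)[X] := Ideal.span {X ^ 2}
  have hIJ : I ≤ J := by
    rw [Ideal.span_singleton_le_span_singleton]
    exact pow_dvd_pow _ (by omega)
  let g : (ResidueField C)[X] ⧸ I →ₐ[k] (ResidueField C)[X] ⧸ J := Ideal.Quotient.factorₐ k hIJ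
  have hg : Function.Surjective g := Ideal.Quotient.factor_surjective hIJ
  have hker : RingHom.ker (g : (ResidueField C)[X] ⧸ I →+* (ResidueField C)[X] ⧸ J) =
      J.map (Ideal.Quotient.mk I) := by
    apply le_antisymm
    · intro x hx
      obtain ⟨a, rfl⟩ := Ideal.Quotient.mk_surjective x
      have h0 : Ideal.Quotient.mk J a = 0 := hx
      rw [Ideal.Quotient.eq_zero_iff_mem] at h0
      exact Ideal.mem_map_of_mem _ h0
    · rw [Ideal.map_le_iff_le_comap]
      intro a ha
      change Ideal.Quotient.mk J a = 0
      exact Ideal.Quotient.eq_zero_iff_mem.mpr ha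
  have hg' : IsNilpotent (RingHom.ker (g : (ResidueField C)[X] ⧸ I →+* (ResidueField C)[X] ⧸ J)) := by
    refine ⟨N + 1 + 1, ?_⟩
    rw [hker, ← Ideal.map_pow, Ideal.zero_eq_bot, Ideal.map_eq_bot_iff_le_ker, Ideal.mk_ker]
    rw [Ideal.span_singleton_pow, ← pow_mul, Ideal.span_singleton_le_span_singleton]
    exact pow_dvd_pow _ (by omega)
  let φ := Algebra.FormallySmooth.liftOfSurjective (ψ (k := k) l) g hg hg'
  have hφ : ∀ c, g (φ c) = ψ (k := k) l c :=
    Algebra.FormallySmooth.liftOfSurjective_apply (ψ (k := k) l) g hg hg'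
  obtain ⟨f, hf⟩ := Ideal.Quotient.mk_surjective (φ y)
  apply trunc_contra (ResidueField C) (N + 1) f
  · have h1 := hφ y
    rw [← hf] at h1
    have h2 : ψ (k := k) l y = Ideal.Quotient.mk J X := by
      change Ideal.Quotient.mk J _ = _
      have : residue C y = 0 := (IsLocalRing.residue_eq_zero_iff y).mpr hy
      rw [hδy, this]
      simp
    rw [h2] at h1
    rw [← Ideal.Quotient.eq]
    exact h1
  · rw [← Ideal.Quotient.eq_zero_iff_mem, map_pow, hf, ← map_pow, hyN, map_zero]

end KL


section General
open Groth.Agent.Lib.Helper5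

theorem formallySmooth_bot (k K : Type*) [Field k] [Field K] [Algebra k K] :
    Algebra.FormallySmooth (⊥ : Subfield k) K := by
  obtain ⟨p, hp⟩ := CharP.exists k
  rcases CharP.char_is_prime_or_zero k p with h | h
  · haveI : Fact p.Prime := ⟨h⟩
    have hpk : (p : (⊥ : Subfield k)) = 0 := by
      apply (algebraMap (⊥ : Subfield k) k).injective
      rw [map_natCast, map_zero]
      exact CharP.cast_eq_zero k p
    have hperf : ∀ c : (⊥ : Subfield k), ∃ a : (⊥ : Subfield k), a ^ p = c := by
      intro c
      have hc : (c : k) ∈ (⊥ : Subfield k).map (frobenius k p) :=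
        (bot_le : (⊥ : Subfield k) ≤ _) c.2
      obtain ⟨a, ha, hac⟩ := hc
      exact ⟨⟨a, ha⟩, Subtype.ext hac⟩
    have := CoeffField.geomReduced_of_perfect (k := (⊥ : Subfield k)) (K := K) p h hpk hperf
    exact SepSmooth.formallySmooth_of_geomReduced_charP p h hpk
  · subst h
    haveI : CharZero k := CharP.charP_to_charZero k
    haveI : CharZero (⊥ : Subfield k) := (algebraMap (⊥ : Subfield k) k).charZero
    exact SepSmooth.formallySmooth_of_charZero

/-- An Artinian local ring formally smooth over a field is a field. -/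
theorem isField_of_formallySmooth' (k : Type v) [Field k] (C : Type u) [CommRing C] [IsLocalRing C]
    [IsArtinianRing C] [Algebra k C] [Algebra.FormallySmooth k C] : IsField C := by
  have : Algebra.FormallySmooth (⊥ : Subfield k) k := CoeffField.formallySmooth_primeField k
  have : Algebra.FormallySmooth (⊥ : Subfield k) C :=
    Algebra.FormallySmooth.comp (⊥ : Subfield k) k C
  have : Algebra.FormallySmooth (⊥ : Subfield k) (ResidueField C) :=
    formallySmooth_bot k (ResidueField C)
  exact isField_of_formallySmooth (⊥ : Subfield k) C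

end General

end Groth.Agent.Lib.helper19.ArtSm
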