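import Mathlib
import Groth.Agent.Lib.helper19.ArtSm

namespace Groth.Agent.Lib.helper19.LenSm
universe u v
open IsLocalRing TensorProduct

theorem length_eq (A : Type u) (B : Type v) [CommRing A] [CommRing B]
    [IsLocalRing A] [IsLocalRing B] [IsArtinianRing A] [IsArtinianRing B] [Algebra A B]
    [Module.Flat A B] [Algebra.FormallySmooth A B] :
    Module.length A A = Module.length B B := by
  -- local hom
  haveI : IsLocalHom (algebraMap A B) := by
    constructor
    intro a ha
    by_contra hna
    have hmem : a ∈ maximalIdeal A := (IsLocalRing.mem_maximalIdeal a).mpr hna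
    obtain ⟨N, hN⟩ := ArtSm.maximalIdeal_nilpotent (C := A)
    have haN : a ^ N = 0 := by
      have : a ^ N ∈ maximalIdeal A ^ N := Ideal.pow_mem_pow hmem N
      rw [hN] at this
      exact Ideal.mem_bot.mp this
    have : IsUnit ((algebraMap A B a) ^ N) := ha.pow N
    rw [← map_pow, haN, map_zero] at this
    exact not_isUnit_zero this
  set mB : Ideal B := (maximalIdeal A).map (algebraMap A B) with hmB
  have hlt : mB < ⊤ := IsLocalRing.map_maximalIdeal_lt_top (algebraMap A B)
  haveI : Nontrivial (B ⧸ mB) := Ideal.Quotient.nontrivial_iff.mpr hlt.ne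
  haveI : IsLocalRing (B ⧸ mB) :=
    IsLocalRing.of_surjective' (Ideal.Quotient.mk mB) Ideal.Quotient.mk_surjective
  letI : Field (A ⧸ maximalIdeal A) := Ideal.Quotient.field _
  let e : (B ⧸ mB) ≃+* (A ⧸ maximalIdeal A) ⊗[A] B :=
    (Algebra.TensorProduct.quotIdealMapEquivTensorQuot B (maximalIdeal A)).toRingEquiv.trans
      (Algebra.TensorProduct.comm A B (A ⧸ maximalIdeal A)).toRingEquiv
  haveI : IsLocalRing ((A ⧸ maximalIdeal A) ⊗[A] B) := e.isLocalRing
  haveI : IsArtinianRing ((A ⧸ maximalIdeal A) ⊗[A] B) := e.isArtinianRing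
  have hF : IsField ((A ⧸ maximalIdeal A) ⊗[A] B) :=
    ArtSm.isField_of_formallySmooth' (A ⧸ maximalIdeal A) _
  have hF' : IsField (B ⧸ mB) := e.toMulEquiv.isField hF
  have hmax : mB.IsMaximal := Ideal.Quotient.maximal_of_isField mB hF'
  haveI : IsSimpleModule B (B ⧸ mB) := by
    rw [isSimpleModule_iff_isCoatom]
    exact Ideal.isMaximal_def.mp hmax
  have h1 := IsLocalRing.length_baseChange A B A
  rw [Module.length_eq_one (R := B) (M := B ⧸ mB), mul_one] at h1
  rw [← h1]
  exact (TensorProduct.AlgebraTensorModule.rid A B B).length_eq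

end Groth.Agent.Lib.helper19.LenSm
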