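import Mathlib

set_option autoImplicit false
set_option linter.style.haveILetI false
universe u
open TensorProduct

namespace Groth.Agent.Lib.helper19.StdRetract

section NakIso
variable {S : Type*} [CommRing S] (J : Ideal S) {M : Type*} [AddCommGroup M] [Module S M]
  [Module.Finite S M] [Module.Projective S M] {n : ℕ} (v : Fin n → M)

open Pointwise in
theorem nakIso (h1 : (⊤ : Submodule S M) ≤ Submodule.span S (Set.range v) ⊔ J • ⊤)
    (h2 : ∀ c : Fin n → S, ∑ i, c i • v i = 0 → ∀ i, c i ∈ J) :
    ∃ g : S, g - 1 ∈ J ∧ (∀ m : M, g • m ∈ Submodule.span S (Set.range v)) ∧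
      ∀ c : Fin n → S, ∑ i, c i • v i = 0 → ∀ i, g * c i = 0 := by
  classical
  obtain ⟨g, hgJ, hg⟩ := Submodule.exists_sub_one_mem_and_smul_le_of_fg_of_le_sup
    (N := Submodule.span S (Set.range v)) (N' := ⊤) (P := ⊤) (I := J)
    (Module.Finite.fg_top) le_rfl h1
  have hg' : ∀ m : M, g • m ∈ Submodule.span S (Set.range v) := fun m =>
    hg (Submodule.smul_mem_pointwise_smul m g ⊤ trivial)
  let Φ : (Fin n → S) →ₗ[S] M := Fintype.linearCombination S v
  have hΦ : ∀ c, Φ c = ∑ i, c i • v i := fun c => Fintype.linearCombination_apply S v c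
  have hrange : LinearMap.range Φ = Submodule.span S (Set.range v) :=
    Fintype.range_linearCombination S v
  -- lift g • id through Φ
  let γ : M →ₗ[S] LinearMap.range Φ :=
    (g • LinearMap.id : M →ₗ[S] M).codRestrict (LinearMap.range Φ) (fun m => by
      rw [hrange]; exact hg' m)
  obtain ⟨τ, hτ⟩ := Module.projective_lifting_property Φ.rangeRestrict γ
    (LinearMap.surjective_rangeRestrict Φ)
  have hτ' : ∀ m, Φ (τ m) = g • m := fun m => by
    have := congr(($hτ m : M))
    simpa [γ] using this
  let πL : (Fin n → S) →ₗ[S] (Fin n → S) := g • LinearMap.id - τ ∘ₗ Φ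
  have hπL_ker : ∀ x, Φ (πL x) = 0 := fun x => by
    simp [πL, hτ']
  have hπL_of_ker : ∀ x, Φ x = 0 → πL x = g • x := fun x hx => by
    simp [πL, hx]
  let L₁ : Submodule S (Fin n → S) := LinearMap.range πL
  have hL₁fg : L₁.FG := by
    show (LinearMap.range πL).FG
    rw [LinearMap.range_eq_map]
    exact (Module.Finite.fg_top).map _
  have hL₁ : L₁ ≤ J • L₁ := by
    rintro _ ⟨x, rfl⟩
    set y := πL x with hy
    have hyker : Φ y = 0 := hπL_ker x
    have hyJ : ∀ i, y i ∈ J := h2 y (by rw [← hΦ]; exact hyker)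
    have h3 : πL y ∈ J • L₁ := by
      have : y = ∑ i, y i • (Pi.single i (1 : S) : Fin n → S) := by
        ext j; simp [Finset.sum_apply, Pi.single_apply]
      rw [this, map_sum]
      refine Submodule.sum_mem _ fun i _ => ?_
      rw [map_smul]
      exact Submodule.smul_mem_smul (hyJ i) ⟨_, rfl⟩
    have h4 : (g - 1) • y ∈ J • L₁ := Submodule.smul_mem_smul hgJ ⟨x, rfl⟩
    have : y = πL y - (g - 1) • y := by
      rw [hπL_of_ker y hyker, sub_smul, one_smul]; abel
    rw [this]
    exact Submodule.sub_mem _ h3 h4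
  obtain ⟨h, hhJ, hh⟩ := Submodule.exists_sub_one_mem_and_smul_eq_zero_of_fg_of_le_smul J L₁ hL₁fg hL₁
  refine ⟨h * g, ?_, fun m => ?_, fun c hc i => ?_⟩
  · have : h * g - 1 = h * (g - 1) + (h - 1) := by ring
    rw [this]
    exact J.add_mem (J.mul_mem_left _ hgJ) hhJ
  · rw [mul_smul]
    exact Submodule.smul_mem _ _ (hg' m)
  · have hc' : Φ c = 0 := by rw [hΦ]; exact hc
    have h5 : h • (g • c) = 0 := by
      rw [← hπL_of_ker c hc']
      exact hh _ ⟨c, rfl⟩
    have := congr_fun h5 i
    simpa [mul_assoc] using this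

end NakIso



section Retract

theorem finitePresentation_of_retract {A P B : Type*} [CommRing A] [CommRing P] [CommRing B]
    [Algebra A P] [Algebra A B] [Algebra.FinitePresentation A P] (r : P →ₐ[A] B) (j : B →ₐ[A] P)
    (h : r.comp j = AlgHom.id A B) : Algebra.FinitePresentation A B := by
  classical
  have hr : Function.Surjective r := fun b => ⟨j b, congr($h b)⟩
  obtain ⟨s, hs⟩ := (Algebra.FiniteType.out : (⊤ : Subalgebra A P).FG)
  refine Algebra.FinitePresentation.of_surjective hr ?_
  let 𝔟 : Ideal P := Ideal.span ((fun x => x - j (r x)) '' (s : Set P))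
  have hrj : ∀ b, r (j b) = b := fun b => congr($h b)
  have h1 : 𝔟 ≤ RingHom.ker r.toRingHom := by
    rw [Ideal.span_le]
    rintro _ ⟨x, -, rfl⟩
    show r (x - j (r x)) = 0
    rw [map_sub, hrj, sub_self]
  have h2 : ∀ p : P, p - j (r p) ∈ 𝔟 := by
    intro p
    have hp : p ∈ Algebra.adjoin A (s : Set P) := by rw [hs]; trivial
    induction hp using Algebra.adjoin_induction with
    | mem x hx => exact Ideal.subset_span ⟨x, hx, rfl⟩
    | algebraMap a => simp
    | add x y _ _ hx hy =>
      have : x + y - j (r (x + y)) = (x - j (r x)) + (y - j (r y)) := by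
        simp only [map_add]; ring
      rw [this]; exact 𝔟.add_mem hx hy
    | mul x y _ _ hx hy =>
      have : x * y - j (r (x * y)) = (x - j (r x)) * y + j (r x) * (y - j (r y)) := by
        simp only [map_mul]; ring
      rw [this]; exact 𝔟.add_mem (𝔟.mul_mem_right _ hx) (𝔟.mul_mem_left _ hy)
  have h3 : RingHom.ker r.toRingHom = 𝔟 := by
    refine le_antisymm (fun p hp => ?_) h1
    have hp' : r p = 0 := hp
    have := h2 p
    rwa [hp', map_zero, sub_zero] at this
  rw [h3]
  exact ⟨s.image (fun x => x - j (r x)), by simp [𝔟]⟩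

end Retract

section SymSmooth
variable (A : Type u) [CommRing A] (K : Type u) [AddCommGroup K] [Module A K]

theorem formallySmooth_sym [Module.Projective A K] :
    Algebra.FormallySmooth A (SymmetricAlgebra A K) := by
  apply Algebra.FormallySmooth.of_comp_surjective
  intro B _ _ I hI f
  obtain ⟨ℓ, hℓ⟩ := Module.projective_lifting_property (Ideal.Quotient.mkₐ A I).toLinearMap
    (f.toLinearMap ∘ₗ SymmetricAlgebra.ι A K) Ideal.Quotient.mk_surjective
  refine ⟨SymmetricAlgebra.lift ℓ, ?_⟩
  apply SymmetricAlgebra.algHom_ext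
  ext k
  have := congr($hℓ k)
  simpa using this

theorem finitePresentation_sym [Module.Finite A K] [Module.Projective A K] :
    Algebra.FinitePresentation A (SymmetricAlgebra A K) := by
  obtain ⟨n, p, hp⟩ := Module.Finite.exists_fin' A K
  obtain ⟨i, hi⟩ := Module.projective_lifting_property p LinearMap.id hp
  let j : SymmetricAlgebra A K →ₐ[A] SymmetricAlgebra A (Fin n → A) :=
    SymmetricAlgebra.lift (SymmetricAlgebra.ι A (Fin n → A) ∘ₗ i)
  let r : SymmetricAlgebra A (Fin n → A) →ₐ[A] SymmetricAlgebra A K :=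
    SymmetricAlgebra.lift (SymmetricAlgebra.ι A K ∘ₗ p)
  have hrj : r.comp j = AlgHom.id A _ := by
    apply SymmetricAlgebra.algHom_ext
    ext k
    have := congr($hi k)
    simp only [LinearMap.coe_comp, Function.comp_apply, LinearMap.id_coe, id_eq] at this
    simp [r, j, this]
  let e : SymmetricAlgebra A (Fin n → A) ≃ₐ[A] MvPolynomial (Fin n) A :=
    SymmetricAlgebra.equivMvPolynomial (Pi.basisFun A (Fin n))
  refine finitePresentation_of_retract (P := MvPolynomial (Fin n) A)
    (r.comp e.symm.toAlgHom) (e.toAlgHom.comp j) ?_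
  refine AlgHom.ext fun x => ?_
  have := congr($hrj x)
  simpa using this

theorem smooth_sym [Module.Finite A K] [Module.Projective A K] :
    Algebra.Smooth A (SymmetricAlgebra A K) :=
  ⟨formallySmooth_sym A K, finitePresentation_sym A K⟩

end SymSmooth



section SymDer
variable {A : Type u} [CommRing A] {K : Type u} [AddCommGroup K] [Module A K]
  [Algebra (SymmetricAlgebra A K) A] [IsScalarTower A (SymmetricAlgebra A K) A]
  (hε : ∀ k, algebraMap (SymmetricAlgebra A K) A (SymmetricAlgebra.ι A K k) = 0)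
  {n : ℕ} (f : K →ₗ[A] (Fin n → A))

include hε in
theorem exists_derivation_sym :
    ∃ D : Derivation A (SymmetricAlgebra A K) (Fin n → A), ∀ k, D (SymmetricAlgebra.ι A K k) = f k := by
  let N := Fin n → A
  let φ : SymmetricAlgebra A K →ₐ[A] TrivSqZeroExt A N :=
    SymmetricAlgebra.lift ((TrivSqZeroExt.inrHom A N) ∘ₗ f)
  have hφι : ∀ k, φ (SymmetricAlgebra.ι A K k) = TrivSqZeroExt.inr (f k) := fun k => by
    simp [φ]
  have hfst : (TrivSqZeroExt.fstHom A A N).comp φ = IsScalarTower.toAlgHom A (SymmetricAlgebra A K) A := by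
    apply SymmetricAlgebra.algHom_ext
    ext k
    simp [hφι, hε]
  have hfst' : ∀ b, (φ b).fst = algebraMap (SymmetricAlgebra A K) A b := fun b => congr($hfst b)
  refine ⟨{ toLinearMap := (TrivSqZeroExt.sndHom A N) ∘ₗ φ.toLinearMap
            map_one_eq_zero' := by simp
            leibniz' := fun a b => ?_ }, fun k => by simp [hφι]⟩
  simp only [LinearMap.coe_comp, Function.comp_apply, AlgHom.toLinearMap_apply, map_mul,
    TrivSqZeroExt.sndHom_apply, TrivSqZeroExt.snd_mul, hfst']
  rw [← algebraMap_smul A a, ← algebraMap_smul A b]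
  simp [add_comm]

end SymDer



section Main
open KaehlerDifferential

variable (R : Type u) {A B₀ : Type u} [CommRing R] [CommRing A] [CommRing B₀] [Algebra R A]

/-- the presentation map of `Ω` attached to elements `a i`. -/
noncomputable abbrev piMap {n : ℕ} (a : Fin n → A) : (Fin n → A) →ₗ[A] Ω[A⁄R] :=
  Fintype.linearCombination A (fun i => D R A (a i))

variable [Algebra R B₀] [Algebra A B₀] [IsScalarTower R A B₀] [Algebra B₀ A] [IsScalarTower A B₀ A]
  [Algebra.Smooth R A] [Algebra.Smooth A B₀]
  {n : ℕ} (a : Fin n → A)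
  (s : Ω[A⁄R] →ₗ[A] (Fin n → A)) (hs : ∀ ω, piMap R a (s ω) = ω)
  (ι : LinearMap.ker (piMap R a) →ₗ[A] B₀) (hει : ∀ k, algebraMap B₀ A (ι k) = 0)
  (hgen : Algebra.adjoin A (Set.range ι) = ⊤)
  (D₁ : Derivation A B₀ (Fin n → A)) (hD₁ : ∀ k, D₁ (ι k) = (k : Fin n → A))

local notation "π" => piMap R a

include hs hει hgen hD₁ in
theorem main_abstract : ∃ (B : Type u) (_ : CommRing B) (_ : Algebra R B) (_ : Algebra A B)
    (_ : IsScalarTower R A B),
      Algebra.Smooth A B ∧ Nonempty (B →ₐ[A] A) ∧ Algebra.IsStandardSmooth R B := by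
  classical
  have hε_alg : ∀ x : A, algebraMap B₀ A (algebraMap A B₀ x) = x := fun x => by
    rw [← IsScalarTower.algebraMap_apply A B₀ A]; rfl
  haveI : IsScalarTower R B₀ A := IsScalarTower.of_algebraMap_eq fun r => by
    rw [IsScalarTower.algebraMap_apply R A B₀, hε_alg]
  let K := LinearMap.ker π
  let q : (Fin n → A) →ₗ[A] K := (LinearMap.id - s ∘ₗ π).codRestrict K (fun c => by
    simp [K, LinearMap.mem_ker, hs])
  have hq : ∀ c, ((q c : K) : Fin n → A) = c - s (π c) := fun c => rfl
  let e : Fin n → (Fin n → A) := fun i => Pi.single i 1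
  let k : Fin n → K := fun i => q (e i)
  let σ : Fin n → B₀ := fun i => algebraMap A B₀ (a i) + ι (k i)
  let v : Fin n → Ω[B₀⁄R] := fun i => D R B₀ (σ i)
  let J : Ideal B₀ := RingHom.ker (algebraMap B₀ A)
  have hιJ : ∀ k, ι k ∈ J := hει
  have hsum_c : ∀ c : Fin n → A, c = ∑ i, c i • e i := fun c => by
    ext j; simp [e, Finset.sum_apply, Pi.single_apply]
  have hqsum : ∀ c : Fin n → A, q c = ∑ i, c i • k i := fun c => by
    conv_lhs => rw [hsum_c c]
    simp [k, map_sum]
  have hπe : ∀ i, π (e i) = D R A (a i) := fun i => by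
    simp [piMap, Fintype.linearCombination_apply, e, Pi.single_apply]
  have key : ∀ c : Fin n → A, ∑ i, (algebraMap A B₀ (c i)) • v i =
      KaehlerDifferential.map R R A B₀ (π c) + D R B₀ (ι (q c))
        - ∑ i, ι (k i) • D R B₀ (algebraMap A B₀ (c i)) := by
    intro c
    have h1 : KaehlerDifferential.map R R A B₀ (π c) =
        ∑ i, algebraMap A B₀ (c i) • D R B₀ (algebraMap A B₀ (a i)) := by
      simp only [piMap, Fintype.linearCombination_apply, map_sum, map_smul,
        KaehlerDifferential.map_D, algebraMap_smul]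
    have h2 : D R B₀ (ι (q c)) = ∑ i, (algebraMap A B₀ (c i) • D R B₀ (ι (k i))
        + ι (k i) • D R B₀ (algebraMap A B₀ (c i))) := by
      rw [hqsum, map_sum, map_sum]
      refine Finset.sum_congr rfl fun i _ => ?_
      rw [map_smul, Algebra.smul_def, Derivation.leibniz]
    rw [h1, h2]
    simp only [v, σ, map_add, smul_add, Finset.sum_add_distrib]
    abel
  -- the derivation `Dε : B₀ → A^n`
  let δ : Derivation R A (Fin n → A) := s.compDer (D R A)
  let Dε : Derivation R B₀ (Fin n → A) := D₁.restrictScalars R + δ.compAlgebraMap B₀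
  have hDεσ : ∀ i, Dε (σ i) = e i := by
    intro i
    have h1 : D₁ (algebraMap A B₀ (a i)) = 0 := D₁.map_algebraMap _
    have h2 : δ (algebraMap B₀ A (ι (k i))) = 0 := by rw [hει]; exact map_zero _
    have h3 : δ (a i) = s (π (e i)) := by rw [hπe]; rfl
    show D₁ (σ i) + δ (algebraMap B₀ A (σ i)) = e i
    simp only [σ, map_add, h1, hD₁, hε_alg, h2, h3, add_zero, zero_add]
    rw [hq]; abel
  let Ψ : Ω[B₀⁄R] →ₗ[B₀] (Fin n → A) := Dε.liftKaehlerDifferential
  have hΨ : ∀ b, Ψ (D R B₀ b) = Dε b := fun b => Derivation.liftKaehlerDifferential_comp_D Dε b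
  have H2 : ∀ c : Fin n → B₀, ∑ i, c i • v i = 0 → ∀ i, c i ∈ J := by
    intro c hc i
    have h0 := congr(Ψ $hc)
    simp only [map_sum, map_smul, v, hΨ, hDεσ, map_zero] at h0
    have h1 := congr_fun h0 i
    simpa [e, Finset.sum_apply, Pi.single_apply, Algebra.smul_def, J] using h1
  have H1 : (⊤ : Submodule B₀ Ω[B₀⁄R]) ≤ Submodule.span B₀ (Set.range v) ⊔ J • ⊤ := by
    set W := Submodule.span B₀ (Set.range v) ⊔ J • (⊤ : Submodule B₀ Ω[B₀⁄R]) with hW
    suffices hWW : Submodule.span B₀ (Set.range (D R B₀)) ≤ W by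
      rwa [KaehlerDifferential.span_range_derivation] at hWW
    rw [Submodule.span_le]
    rintro _ ⟨b, rfl⟩
    have hkey : ∀ c : Fin n → A,
        KaehlerDifferential.map R R A B₀ (π c) + D R B₀ (ι (q c)) ∈ W := by
      intro c
      have := key c
      rw [eq_sub_iff_add_eq] at this
      rw [← this]
      refine W.add_mem (Submodule.mem_sup_left (Submodule.sum_mem _ fun i _ =>
        Submodule.smul_mem _ _ (Submodule.subset_span ⟨i, rfl⟩)))
        (Submodule.mem_sup_right (Submodule.sum_mem _ fun i _ =>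
          Submodule.smul_mem_smul (hιJ _) trivial))
    have hb : b ∈ Algebra.adjoin A (Set.range ι) := by rw [hgen]; trivial
    show D R B₀ b ∈ W
    induction hb using Algebra.adjoin_induction with
    | mem x hx =>
      obtain ⟨k', rfl⟩ := hx
      have := hkey (k' : Fin n → A)
      have h1 : π (k' : Fin n → A) = 0 := k'.2
      have h2 : q (k' : Fin n → A) = k' := Subtype.ext (by rw [hq, h1, map_zero, sub_zero])
      rwa [h1, map_zero, zero_add, h2] at this
    | algebraMap x =>
      have := hkey (s (D R A x))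
      have h1 : π (s (D R A x)) = D R A x := hs _
      have h2 : q (s (D R A x)) = 0 := Subtype.ext (by rw [hq, h1, sub_self]; rfl)
      rwa [h1, h2, map_zero, map_zero, add_zero, KaehlerDifferential.map_D] at this
    | add x y _ _ hx hy => rw [map_add]; exact W.add_mem hx hy
    | mul x y _ _ hx hy =>
      rw [Derivation.leibniz]; exact W.add_mem (W.smul_mem _ hy) (W.smul_mem _ hx)
  haveI : Algebra.Smooth R B₀ := Algebra.Smooth.comp R A B₀
  obtain ⟨g, hgJ, hg1, hg2⟩ := nakIso J v H1 H2
  have hεg : algebraMap B₀ A g = 1 := by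
    have : algebraMap B₀ A (g - 1) = 0 := hgJ
    rwa [map_sub, map_one, sub_eq_zero] at this
  let B := Localization.Away g
  haveI : Algebra.Smooth B₀ B := Algebra.Smooth.of_isLocalization_Away g
  refine ⟨B, inferInstance, inferInstance, inferInstance, inferInstance, ?_, ?_, ?_⟩
  · exact Algebra.Smooth.comp A B₀ B
  · refine ⟨IsLocalization.liftAlgHom (M := Submonoid.powers g)
      (f := IsScalarTower.toAlgHom A B₀ A) ?_⟩
    rintro ⟨_, m, rfl⟩
    simp [hεg]
  · haveI : Algebra.Smooth R B := Algebra.Smooth.comp R B₀ B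
    let w : Fin n → Ω[B⁄R] := fun i => D R B (algebraMap B₀ B (σ i))
    let mp : Ω[B₀⁄R] →ₗ[B₀] Ω[B⁄R] := KaehlerDifferential.map R R B₀ B
    have hmpv : ∀ i, mp (v i) = w i := fun i => KaehlerDifferential.map_D R R B₀ B (σ i)
    have hgu : IsUnit (algebraMap B₀ B g) := IsLocalization.Away.algebraMap_isUnit g
    have hpu : ∀ t : Submonoid.powers g, IsUnit (algebraMap B₀ B t) := fun t =>
      IsLocalization.map_units B t
    have hmp_span : ∀ y ∈ Submodule.span B₀ (Set.range v), mp y ∈ Submodule.span B (Set.range w) := by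
      intro y hy
      induction hy using Submodule.span_induction with
      | mem x hx => obtain ⟨i, rfl⟩ := hx; rw [hmpv]; exact Submodule.subset_span ⟨i, rfl⟩
      | zero => simp
      | add x y _ _ hx hy => rw [map_add]; exact Submodule.add_mem _ hx hy
      | smul c x _ hx =>
        rw [map_smul, ← algebraMap_smul B c]; exact Submodule.smul_mem _ _ hx
    have hli : LinearIndependent B w := by
      rw [Fintype.linearIndependent_iff]
      intro c hc i
      obtain ⟨b, hb⟩ := IsLocalization.exist_integer_multiples (Submonoid.powers g) Finset.univ c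
      choose b' hb' using fun i => hb i (Finset.mem_univ i)
      have h1 : mp (∑ i, b' i • v i) = 0 := by
        simp only [map_sum, map_smul, hmpv]
        have : ∀ i, b' i • w i = (algebraMap B₀ B b) • (c i • w i) := fun i => by
          rw [← algebraMap_smul B (b' i), hb', Algebra.smul_def, mul_smul]
        simp only [this, ← Finset.smul_sum, hc, smul_zero]
      obtain ⟨t, ht⟩ := (IsLocalizedModule.eq_zero_iff (Submonoid.powers g) mp).mp h1
      have h2 : ∑ i, (t.1 * b' i) • v i = 0 := by
        simp only [mul_smul, ← Finset.smul_sum]; exact ht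
      have h3 := hg2 _ h2 i
      have h4 : algebraMap B₀ B (b' i) = 0 := by
        have := congr(algebraMap B₀ B $h3)
        rw [map_mul, map_mul, map_zero] at this
        exact (hpu t).mul_right_eq_zero.mp ((hgu.mul_right_eq_zero).mp this)
      rw [hb', Algebra.smul_def] at h4
      exact (hpu b).mul_right_eq_zero.mp h4
    have hsp : ⊤ ≤ Submodule.span B (Set.range w) := by
      intro x _
      obtain ⟨⟨m, t⟩, hmt⟩ := IsLocalizedModule.surj (Submonoid.powers g) mp x
      have h1 : mp (g • m) ∈ Submodule.span B (Set.range w) := hmp_span _ (hg1 m)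
      have hmt' : (t : B₀) • x = mp m := hmt
      rw [map_smul, ← hmt', ← algebraMap_smul B g, ← algebraMap_smul B (t : B₀)] at h1
      have h2 := Submodule.smul_mem _ ((((hpu t).unit)⁻¹ : Bˣ).1 * ((hgu.unit)⁻¹ : Bˣ).1) h1
      have h3 : ((((hpu t).unit)⁻¹ : Bˣ).1 * ((hgu.unit)⁻¹ : Bˣ).1) *
          (algebraMap B₀ B g * algebraMap B₀ B t) = 1 := by
        have e1 : ((hgu.unit)⁻¹ : Bˣ).1 * algebraMap B₀ B g = 1 := hgu.val_inv_mul
        have e2 : (((hpu t).unit)⁻¹ : Bˣ).1 * algebraMap B₀ B t = 1 := (hpu t).val_inv_mul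
        calc _ = ((((hpu t).unit)⁻¹ : Bˣ).1 * algebraMap B₀ B t) *
            (((hgu.unit)⁻¹ : Bˣ).1 * algebraMap B₀ B g) := by ring
          _ = 1 := by rw [e1, e2, one_mul]
      rw [smul_smul, smul_smul] at h2
      have h4 : (((hpu t).unit)⁻¹ : Bˣ).1 * ((hgu.unit)⁻¹ : Bˣ).1 * (algebraMap B₀ B) g *
          (algebraMap B₀ B) ↑t = 1 := by rw [← h3]; ring
      rwa [h4, one_smul] at h2
    refine Algebra.IsStandardSmooth.of_basis_kaehlerDifferential (Module.Basis.mk hli hsp) ?_
    rintro _ ⟨i, rfl⟩
    exact ⟨_, (Module.Basis.mk_apply hli hsp i).symm⟩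

end Main

section Final
open KaehlerDifferential

theorem adjoin_range_ι (A K : Type*) [CommRing A] [AddCommGroup K] [Module A K] :
    Algebra.adjoin A (Set.range (SymmetricAlgebra.ι A K)) = ⊤ := by
  rw [eq_top_iff]
  rintro x -
  induction x using SymmetricAlgebra.induction with
  | algebraMap r => exact Subalgebra.algebraMap_mem _ r
  | ι x => exact Algebra.subset_adjoin ⟨x, rfl⟩
  | mul a b ha hb => exact Subalgebra.mul_mem _ ha hb
  | add a b ha hb => exact Subalgebra.add_mem _ ha hb

theorem exists_retract {R A : Type u} [CommRing R] [CommRing A] [Algebra R A] [Algebra.Smooth R A] :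
    ∃ (B : Type u) (_ : CommRing B) (_ : Algebra R B) (_ : Algebra A B) (_ : IsScalarTower R A B),
      Algebra.Smooth A B ∧ Nonempty (B →ₐ[A] A) ∧ Algebra.IsStandardSmooth R B := by
  classical
  obtain ⟨n, f, hf⟩ := Algebra.FiniteType.iff_quotient_mvPolynomial''.mp
    (inferInstance : Algebra.FiniteType R A)
  let a : Fin n → A := fun i => f (MvPolynomial.X i)
  have hspan : Submodule.span A (Set.range fun i => D R A (a i)) = ⊤ := by
    rw [eq_top_iff, ← KaehlerDifferential.span_range_derivation, Submodule.span_le]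
    rintro _ ⟨x, rfl⟩
    obtain ⟨p, rfl⟩ := hf x
    induction p using MvPolynomial.induction_on with
    | C r => simp [← MvPolynomial.algebraMap_eq]
    | add p q hp hq => rw [map_add, map_add]; exact Submodule.add_mem _ hp hq
    | mul_X p i hp =>
      rw [map_mul, Derivation.leibniz]
      exact Submodule.add_mem _ (Submodule.smul_mem _ _ (Submodule.subset_span ⟨i, rfl⟩))
        (Submodule.smul_mem _ _ hp)
  have hπ : Function.Surjective (piMap R a) := by
    rw [← LinearMap.range_eq_top, piMap, Fintype.range_linearCombination, hspan]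
  obtain ⟨s, hs⟩ := Module.projective_lifting_property (piMap R a) LinearMap.id hπ
  have hs' : ∀ ω, piMap R a (s ω) = ω := fun ω => congr($hs ω)
  let K := LinearMap.ker (piMap R a)
  let q : (Fin n → A) →ₗ[A] K := (LinearMap.id - s ∘ₗ piMap R a).codRestrict K (fun c => by
    simp [K, LinearMap.mem_ker, hs'])
  have hqi : q ∘ₗ K.subtype = LinearMap.id := by
    ext k : 1
    apply Subtype.ext
    have : piMap R a (k : Fin n → A) = 0 := k.2
    simp [q, this]
  haveI : Module.Projective A K := Module.Projective.of_split K.subtype q hqi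
  haveI : Module.Finite A K := Module.Finite.of_surjective q (fun k => ⟨k, congr($hqi k)⟩)
  letI : Algebra (SymmetricAlgebra A K) A :=
    (SymmetricAlgebra.algebraMapInv (R := A) (M := K)).toRingHom.toAlgebra
  haveI : IsScalarTower A (SymmetricAlgebra A K) A := IsScalarTower.of_algebraMap_eq fun x =>
    ((SymmetricAlgebra.algebraMapInv (R := A) (M := K)).commutes x).symm
  haveI : Algebra.Smooth A (SymmetricAlgebra A K) := smooth_sym A K
  have hε : ∀ k, algebraMap (SymmetricAlgebra A K) A (SymmetricAlgebra.ι A K k) = 0 :=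
    fun k => SymmetricAlgebra.algebraMapInv_ι k
  obtain ⟨D₁, hD₁⟩ := exists_derivation_sym hε K.subtype
  exact main_abstract R a s hs' (SymmetricAlgebra.ι A K) hε (adjoin_range_ι A K) D₁ hD₁

end Final

end Groth.Agent.Lib.helper19.StdRetract
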