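import Groth.Agent.Lib.Helper5.CoeffField
import Groth.Agent.Lib.Helper5.SepSmooth
import Mathlib

namespace Helper19.RegBasis
universe u
open IsLocalRing TensorProduct KaehlerDifferential

/-- For a local ring of characteristic `p`, `m/m² → κ ⊗ Ω_{A/ℤ}` is injective. -/
theorem kerCotangentToTensor_int_injective (p : ℕ) [Fact p.Prime]
    (A : Type u) [CommRing A] [IsLocalRing A] [CharP A p] :
    Function.Injective (kerCotangentToTensor ℤ A (ResidueField A)) := by
  letI : Algebra (ZMod p) A := ZMod.algebra A p
  have hpk : ((p : ℕ) : ZMod p) = 0 := ZMod.natCast_self p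
  haveI : Algebra.IsGeometricallyReduced (ZMod p) (ResidueField A) :=
    Groth.Agent.Lib.Helper5.CoeffField.geomReduced_of_perfect p (Fact.out : p.Prime) hpk (by
      intro c
      exact ⟨c, ZMod.pow_card c⟩)
  haveI : Algebra.FormallySmooth (ZMod p) (ResidueField A) :=
    Groth.Agent.Lib.Helper5.SepSmooth.formallySmooth_of_geomReduced
  have hf : Function.Surjective (algebraMap A (ResidueField A)) := residue_surjective
  have key : ∀ {P : Type u} [CommRing P] [Algebra (ZMod p) P]
      (π : P →ₐ[ZMod p] ResidueField A),
      Function.Surjective π → RingHom.ker π.toRingHom ^ 2 = ⊥ →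
      ∃ g : ResidueField A →ₐ[ZMod p] P, π.comp g = AlgHom.id (ZMod p) _ := by
    intro P _ _ π hsurj hker
    exact ⟨Algebra.FormallySmooth.liftOfSurjective (AlgHom.id (ZMod p) _) π hsurj ⟨2, hker⟩,
      Algebra.FormallySmooth.comp_liftOfSurjective _ _ hsurj ⟨2, hker⟩⟩
  obtain ⟨g, hg⟩ := key (IsScalarTower.toAlgHom (ZMod p) A (ResidueField A)).kerSquareLift
    (by
      intro c
      obtain ⟨a, rfl⟩ := hf c
      exact ⟨Ideal.Quotient.mk _ a, rfl⟩)
    (by
      rw [AlgHom.ker_kerSquareLift (IsScalarTower.toAlgHom (ZMod p) A (ResidueField A))]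
      exact Ideal.cotangentIdeal_square _)
  obtain ⟨l, hl⟩ :=
    (retractionKerCotangentToTensorEquivSection (R := ℤ) hf).symm
      ⟨g.toRingHom.toIntAlgHom, by
        ext x
        exact congrArg (fun f => f x) hg⟩
  exact Function.LeftInverse.injective (g := l) (fun x => LinearMap.congr_fun hl x)

theorem linearIndependent_tmul_D (p : ℕ) [Fact p.Prime]
    (A : Type u) [CommRing A] [IsRegularLocalRing A] [CharP A p]
    {N : ℕ} (x : Fin N → A) (hx : Ideal.span (Set.range x) = maximalIdeal A)
    (hN : ringKrullDim A = (N : WithBot ℕ∞)) :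
    LinearIndependent (ResidueField A)
      (fun i => (1 : ResidueField A) ⊗ₜ[A] D ℤ A (x i)) := by
  classical
  have hxm : ∀ i, x i ∈ maximalIdeal A := fun i => by
    rw [← hx]; exact Ideal.subset_span ⟨i, rfl⟩
  let xb : Fin N → CotangentSpace A := fun i => (maximalIdeal A).toCotangent ⟨x i, hxm i⟩
  have hspanA : Submodule.span A (Set.range fun i => (⟨x i, hxm i⟩ : maximalIdeal A)) = ⊤ := by
    apply Submodule.map_injective_of_injective (maximalIdeal A).injective_subtype
    rw [Submodule.map_span, Submodule.map_top, Submodule.range_subtype, ← Set.range_comp]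
    exact hx
  have hspan : Submodule.span (ResidueField A) (Set.range xb) = ⊤ := by
    have := (CotangentSpace.span_image_eq_top_iff (R := A)
      (s := Set.range fun i => (⟨x i, hxm i⟩ : maximalIdeal A))).mpr hspanA
    rwa [← Set.range_comp] at this
  have hfin : Module.finrank (ResidueField A) (CotangentSpace A) = N := by
    have h1 := (IsRegularLocalRing.iff_finrank_cotangentSpace (R := A)).mp inferInstance
    rw [hN] at h1
    exact_mod_cast h1
  have hli : LinearIndependent (ResidueField A) xb :=
    linearIndependent_of_top_le_span_of_card_eq_finrank hspan.ge (by simp [hfin])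
  rw [Fintype.linearIndependent_iff]
  intro g hg
  choose a ha using fun i => residue_surjective (g i)
  have hker : RingHom.ker (algebraMap A (ResidueField A)) = maximalIdeal A := ker_residue
  have hy : ∑ i, a i * x i ∈ maximalIdeal A :=
    Ideal.sum_mem _ fun i _ => Ideal.mul_mem_left _ _ (hxm i)
  have hy' : ∑ i, a i * x i ∈ RingHom.ker (algebraMap A (ResidueField A)) := hker ▸ hy
  have h1 : kerCotangentToTensor ℤ A (ResidueField A) (Ideal.toCotangent _ ⟨_, hy'⟩) = 0 := by
    rw [kerCotangentToTensor_toCotangent]
    change (1 : ResidueField A) ⊗ₜ[A] D ℤ A (∑ i, a i * x i) = 0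
    rw [map_sum, tmul_sum, ← hg]
    refine Finset.sum_congr rfl fun i _ => ?_
    rw [Derivation.leibniz, tmul_add, tmul_smul, tmul_smul, smul_tmul', smul_tmul',
      Algebra.smul_def, Algebra.smul_def, mul_one, mul_one]
    have hx0 : algebraMap A (ResidueField A) (x i) = 0 := by
      rw [← RingHom.mem_ker, hker]; exact hxm i
    rw [hx0, zero_tmul, add_zero]
    change residue A (a i) ⊗ₜ[A] _ = _
    rw [ha i, smul_tmul', smul_eq_mul, mul_one]
  have h2 := (kerCotangentToTensor_int_injective p A) (h1.trans (map_zero _).symm)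
  rw [Ideal.toCotangent_eq_zero] at h2
  have h2' : ∑ i, a i * x i ∈ maximalIdeal A ^ 2 := by
    have : (∑ i, a i * x i) ∈ RingHom.ker (algebraMap A (ResidueField A)) ^ 2 := h2
    rwa [hker] at this
  have h3 : (maximalIdeal A).toCotangent ⟨_, hy⟩ = 0 := (Ideal.toCotangent_eq_zero _ _).mpr h2' 
  have h4 : ∑ i, g i • xb i = 0 := by
    rw [← h3]
    have : (⟨∑ i, a i * x i, hy⟩ : maximalIdeal A) = ∑ i, a i • (⟨x i, hxm i⟩ : maximalIdeal A) := by
      apply Subtype.ext
      simp [Submodule.coe_sum]
    rw [this, map_sum]
    refine Finset.sum_congr rfl fun i _ => ?_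
    rw [map_smul, ← ha i]
    rfl
  exact Fintype.linearIndependent_iff.mp hli g h4

/-- Over a local ring, a family in a finite free module whose reduction is linearly independent
extends to a basis. -/
theorem exists_basis_extending {A : Type u} [CommRing A] [IsLocalRing A]
    (M : Type u) [AddCommGroup M] [Module A M] [Module.Free A M] [Module.Finite A M]
    {N : ℕ} (w : Fin N → M)
    (hw : LinearIndependent (ResidueField A) (fun i => (1 : ResidueField A) ⊗ₜ[A] w i)) :
    ∃ (ι : Type u) (b : Module.Basis ι A M) (e : Fin N ↪ ι), ∀ i, b (e i) = w i := by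
  classical
  let V := ResidueField A ⊗[A] M
  let v : Fin N → V := fun i => (1 : ResidueField A) ⊗ₜ[A] w i
  have hmk : Function.Surjective (TensorProduct.mk A (ResidueField A) M 1) :=
    TensorProduct.mk_surjective A M (ResidueField A) residue_surjective
  have hs : LinearIndepOn (ResidueField A) id (Set.range v) := hw.linearIndepOn_id
  let B : Set V := hs.extend (Set.subset_univ _)
  have hsB : Set.range v ⊆ B := hs.subset_extend _
  have hBli : LinearIndepOn (ResidueField A) id B := hs.linearIndepOn_extend _
  have hBsp : Submodule.span (ResidueField A) B = ⊤ := by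
    have := hs.span_extend_eq_span (Set.subset_univ _)
    rw [Submodule.span_univ] at this
    exact this
  let w' : B → M := fun β =>
    if h : β.1 ∈ Set.range v then w h.choose else (hmk β.1).choose
  have hw' : ∀ β : B, TensorProduct.mk A (ResidueField A) M 1 (w' β) = β.1 := by
    intro β
    by_cases h : β.1 ∈ Set.range v
    · simp only [w', dif_pos h]
      exact h.choose_spec
    · simp only [w', dif_neg h]
      exact (hmk β.1).choose_spec
  have hcomp : (TensorProduct.mk A (ResidueField A) M 1 ∘ w') = (fun β : B => (β.1 : V)) :=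
    funext hw'
  have hli : LinearIndependent (ResidueField A) (TensorProduct.mk A (ResidueField A) M 1 ∘ w') := by
    rw [hcomp]
    exact hBli
  have hsp : Submodule.span (ResidueField A)
      (Set.range (TensorProduct.mk A (ResidueField A) M 1 ∘ w')) = ⊤ := by
    rw [hcomp, Subtype.range_coe_subtype]
    exact hBsp
  haveI : Module.FinitePresentation A M := Module.finitePresentation_of_projective A M
  obtain ⟨b, hb⟩ := Module.exists_basis_of_basis_baseChange w' hli hsp
    (Module.Flat.rTensor_preserves_injective_linearMap _ (Submodule.injective_subtype _))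
  have hvinj : Function.Injective v := hw.injective
  refine ⟨B, b, ⟨fun i => ⟨v i, hsB ⟨i, rfl⟩⟩, fun i j hij => hvinj (congrArg Subtype.val hij)⟩,
    fun i => ?_⟩
  rw [hb]
  have h : v i ∈ Set.range v := ⟨i, rfl⟩
  change w' ⟨v i, _⟩ = w i
  simp only [w', dif_pos h]
  exact congrArg w (hvinj h.choose_spec)

end Helper19.RegBasis
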