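import Mathlib
import Groth.Agent.Lib.Helper12.IdemLiftAdjoinRoot

set_option autoImplicit false
set_option linter.style.haveILetI false
universe u

namespace Groth.Agent.Lib.Helper19.MonoHens

open Polynomial IsLocalRing

/-- Idempotents modulo an ideal of a finite product of local rings lift. -/
theorem lift_idem_pi {ι : Type*} [Fintype ι] [DecidableEq ι] (A : ι → Type*)
    [∀ i, CommRing (A i)] [∀ i, IsLocalRing (A i)] (J : Ideal (∀ i, A i)) (x : ∀ i, A i)
    (hx : x * x - x ∈ J) : ∃ e : ∀ i, A i, IsIdempotentElem e ∧ e - x ∈ J := by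
  classical
  have hsingle : ∀ i, (Pi.single i ((x i) * (x i - 1)) : ∀ i, A i) ∈ J := by
    intro i
    have : (Pi.single i ((x i) * (x i - 1)) : ∀ i, A i) = (x * x - x) * Pi.single i 1 := by
      ext j
      by_cases hj : j = i
      · subst hj
        simp [mul_sub]
      · simp [Pi.single_eq_of_ne hj]
    rw [this]
    exact Ideal.mul_mem_right _ _ hx
  let e : ∀ i, A i := fun i => if IsUnit (x i) then 1 else 0
  refine ⟨e, ?_, ?_⟩
  · ext i
    show e i * e i = e i
    by_cases h : IsUnit (x i) <;> simp [e, h]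
  · have hsum : e - x = ∑ i, Pi.single i ((e - x) i) := (Finset.univ_sum_single (e - x)).symm
    rw [hsum]
    refine Ideal.sum_mem _ fun i _ => ?_
    by_cases h : IsUnit (x i)
    · obtain ⟨u, hu⟩ := h
      have h1 : (Pi.single i ((e - x) i) : ∀ i, A i) =
          Pi.single i ((x i) * (x i - 1)) * Pi.single i (-(↑u⁻¹ : A i)) := by
        rw [← Pi.single_mul]
        congr 1
        have he : e i = 1 := by simp [e, ← hu]
        rw [Pi.sub_apply, he, ← hu]
        have : (u : A i) * ((u : A i) - 1) * -(↑u⁻¹ : A i) = -((u : A i) * ↑u⁻¹ * ((u : A i) - 1)) := by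
          ring
        rw [this, Units.mul_inv, one_mul]
        ring
      rw [h1]
      exact Ideal.mul_mem_right _ _ (hsingle i)
    · have hu : IsUnit (1 - x i) := by
        rcases IsLocalRing.isUnit_or_isUnit_one_sub_self (x i) with h' | h'
        · exact absurd h' h
        · exact h'
      obtain ⟨u, hu⟩ := hu
      have h1 : (Pi.single i ((e - x) i) : ∀ i, A i) =
          Pi.single i ((x i) * (x i - 1)) * Pi.single i ((↑u⁻¹ : A i)) := by
        rw [← Pi.single_mul]
        congr 1
        have he : e i = 0 := by simp [e, h]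
        rw [Pi.sub_apply, he, zero_sub]
        have : x i - 1 = -(u : A i) := by rw [hu]; ring
        rw [this, mul_neg, neg_mul, mul_assoc, Units.mul_inv, mul_one]
      rw [h1]
      exact Ideal.mul_mem_right _ _ (hsingle i)

theorem main (R : Type u) [CommRing R] [IsLocalRing R]
    (h : ∀ F : Polynomial R, F.Monic →
      ∃ (ι : Type u) (_ : Fintype ι) (A : ι → Type u) (_ : ∀ i, CommRing (A i)),
        (∀ i, IsLocalRing (A i)) ∧ Nonempty (AdjoinRoot F ≃+* (∀ i, A i))) :
    HenselianLocalRing R := by
  classical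
  have hR : HenselianRing R (maximalIdeal R) := by
    apply Groth.Agent.Lib.Helper12.henselianRing_of_idempotents_lift_adjoinRoot R _
      (IsLocalRing.maximalIdeal_le_jacobson ⊥)
    intro m p hp _
    obtain ⟨ι, _, A, _, hloc, ⟨e⟩⟩ := h p hp
    haveI := hloc
    intro ē hē
    obtain ⟨x, rfl⟩ := Ideal.Quotient.mk_surjective ē
    set J : Ideal (AdjoinRoot p) := Ideal.map (algebraMap R (AdjoinRoot p)) (maximalIdeal R) with hJ
    have hx : x * x - x ∈ J := by
      rw [← Ideal.Quotient.eq, map_mul]
      exact hē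
    let J' : Ideal (∀ i, A i) := J.comap (e.symm : (∀ i, A i) →+* AdjoinRoot p)
    have hx' : e x * e x - e x ∈ J' := by
      show e.symm (e x * e x - e x) ∈ J
      rw [map_sub, map_mul, e.symm_apply_apply]
      exact hx
    obtain ⟨ε, hε, hεx⟩ := lift_idem_pi A J' (e x) hx'
    refine ⟨e.symm ε, ?_, ?_⟩
    · show e.symm ε * e.symm ε = e.symm ε
      rw [← map_mul, hε.eq]
    · rw [Ideal.Quotient.eq]
      have : e.symm (ε - e x) ∈ J := hεx
      rwa [map_sub, e.symm_apply_apply] at this
  exact
    { is_henselian := fun f hf a₀ h₁ h₂ =>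
        hR.is_henselian f hf a₀ h₁ (h₂.map (Ideal.Quotient.mk _)) }

end Groth.Agent.Lib.Helper19.MonoHens
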