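import Mathlib

set_option autoImplicit false
set_option linter.style.haveILetI false
universe u
open TensorProduct KaehlerDifferential

namespace Groth.Agent.Lib.Helper19.SmChart1

section D
variable (k : Type u) [CommRing k] (R : Type u) [CommRing R] [Algebra k R] (m : Ideal R)
  [m.IsPrime]

theorem span_tmul_D_eq_top :
    Submodule.span m.ResidueField
      (Set.range fun r : R => (1 : m.ResidueField) ⊗ₜ[R] D k R r) = ⊤ := by
  rw [eq_top_iff]
  rintro z -
  induction z using TensorProduct.induction_on with
  | zero => exact Submodule.zero_mem _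
  | add a b ha hb => exact Submodule.add_mem _ ha hb
  | tmul c w =>
    have hw : w ∈ Submodule.span R (Set.range (D k R)) := by
      rw [KaehlerDifferential.span_range_derivation]; trivial
    have hcw : c ⊗ₜ[R] w = c • ((1 : m.ResidueField) ⊗ₜ[R] w) := by
      rw [TensorProduct.smul_tmul', smul_eq_mul, mul_one]
    rw [hcw]
    refine Submodule.smul_mem _ _ ?_
    clear hcw
    induction hw using Submodule.span_induction with
    | mem w hw =>
      obtain ⟨r, rfl⟩ := hw
      exact Submodule.subset_span ⟨r, rfl⟩
    | zero => simp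
    | add a b _ _ ha hb =>
      rw [TensorProduct.tmul_add]
      exact Submodule.add_mem _ ha hb
    | smul a w _ hw =>
      rw [TensorProduct.tmul_smul, ← algebraMap_smul m.ResidueField a]
      exact Submodule.smul_mem _ _ hw

theorem exists_coords [Module.Finite m.ResidueField (m.ResidueField ⊗[R] Ω[R⁄k])] :
    ∃ (d : ℕ) (x : Fin d → R),
      LinearIndependent m.ResidueField (fun i => (1 : m.ResidueField) ⊗ₜ[R] D k R (x i)) ∧
      Submodule.span m.ResidueField
        (Set.range fun i => (1 : m.ResidueField) ⊗ₜ[R] D k R (x i)) = ⊤ := by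
  classical
  set s : Set (m.ResidueField ⊗[R] Ω[R⁄k]) :=
    Set.range fun r : R => (1 : m.ResidueField) ⊗ₜ[R] D k R r with hs
  have hspan : Submodule.span m.ResidueField s = ⊤ := span_tmul_D_eq_top k R m
  obtain ⟨f, hfs, hfspan, hfli⟩ := Submodule.exists_fun_fin_finrank_span_eq m.ResidueField s
  have hfs' : ∀ i, ∃ r : R, (1 : m.ResidueField) ⊗ₜ[R] D k R r = f i := fun i => hfs i
  choose y hy using hfs'
  refine ⟨_, y, ?_, ?_⟩
  · have : (fun i => (1 : m.ResidueField) ⊗ₜ[R] D k R (y i)) = f := funext hy
    rw [this]; exact hfli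
  · have : (fun i => (1 : m.ResidueField) ⊗ₜ[R] D k R (y i)) = f := funext hy
    rw [this, hfspan, hspan]

/-- comparison of fibres of the Kähler modules of `R` and of `R_m`. -/
noncomputable def Ψ : m.ResidueField ⊗[R] Ω[R⁄k] ≃ₗ[m.ResidueField]
    m.ResidueField ⊗[Localization.AtPrime m] Ω[Localization.AtPrime m⁄k] :=
  haveI : Algebra.FormallyEtale R (Localization.AtPrime m) :=
    Algebra.FormallyEtale.of_isLocalization m.primeCompl
  (TensorProduct.AlgebraTensorModule.cancelBaseChange R (Localization.AtPrime m)
      m.ResidueField m.ResidueField Ω[R⁄k]).symm ≪≫ₗ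
    (TensorProduct.AlgebraTensorModule.congr (LinearEquiv.refl m.ResidueField m.ResidueField)
      (KaehlerDifferential.tensorKaehlerEquivOfFormallyEtale k R (Localization.AtPrime m)))

lemma Ψ_tmul_D (r : R) :
    Ψ k R m ((1 : m.ResidueField) ⊗ₜ[R] D k R r) =
      (1 : m.ResidueField) ⊗ₜ[Localization.AtPrime m]
        D k (Localization.AtPrime m) (algebraMap R (Localization.AtPrime m) r) := by
  simp [Ψ]

/-- the differentials `d x_i` form a basis of `Ω[R_m/k]`. -/
theorem exists_basis_localization [Algebra.EssFiniteType k R] [Algebra.IsSmoothAt k m]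
    {d : ℕ} (x : Fin d → R)
    (hli : LinearIndependent m.ResidueField
      (fun i => (1 : m.ResidueField) ⊗ₜ[R] D k R (x i)))
    (hsp : Submodule.span m.ResidueField
      (Set.range fun i => (1 : m.ResidueField) ⊗ₜ[R] D k R (x i)) = ⊤) :
    ∃ b : Module.Basis (Fin d) (Localization.AtPrime m) Ω[Localization.AtPrime m⁄k],
      ∀ i, b i = D k (Localization.AtPrime m) (algebraMap R (Localization.AtPrime m) (x i)) := by
  haveI : Algebra.FormallySmooth k (Localization.AtPrime m) := ‹Algebra.IsSmoothAt k m›
  let v : Fin d → Ω[Localization.AtPrime m⁄k] :=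
    fun i => D k (Localization.AtPrime m) (algebraMap R (Localization.AtPrime m) (x i))
  have hv : (TensorProduct.mk (Localization.AtPrime m) m.ResidueField
      Ω[Localization.AtPrime m⁄k] 1 ∘ v) =
      (Ψ k R m) ∘ (fun i => (1 : m.ResidueField) ⊗ₜ[R] D k R (x i)) := by
    funext i
    simp only [Function.comp_apply, Ψ_tmul_D, TensorProduct.mk_apply, v]
  refine Module.exists_basis_of_basis_baseChange v ?_ ?_
    (Module.Flat.rTensor_preserves_injective_linearMap _ Subtype.val_injective)
  · rw [hv]
    exact hli.map' (Ψ k R m).toLinearMap (LinearMap.ker_eq_bot.mpr (Ψ k R m).injective)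
  · rw [hv, Set.range_comp, ← LinearEquiv.coe_toLinearMap, ← Submodule.map_span, hsp,
      Submodule.map_top, LinearMap.range_eq_top]
    exact (Ψ k R m).surjective

/-- If `d x_i` form a basis of `Ω[R_m/k]`, `k[X] → R_m` is formally étale. -/
theorem formallyEtale_localization {d : ℕ} [Algebra (MvPolynomial (Fin d) k) R]
    [IsScalarTower k (MvPolynomial (Fin d) k) R] [Algebra.IsSmoothAt k m]
    (b : Module.Basis (Fin d) (Localization.AtPrime m) Ω[Localization.AtPrime m⁄k])
    (hb : ∀ i, b i = D k (Localization.AtPrime m)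
      (algebraMap R (Localization.AtPrime m)
        (algebraMap (MvPolynomial (Fin d) k) R (MvPolynomial.X i)))) :
    Algebra.FormallyEtale (MvPolynomial (Fin d) k) (Localization.AtPrime m) := by
  haveI : Algebra.FormallySmooth k (Localization.AtPrime m) := ‹Algebra.IsSmoothAt k m›
  let c : Module.Basis (Fin d) (Localization.AtPrime m)
      (Localization.AtPrime m ⊗[MvPolynomial (Fin d) k] Ω[MvPolynomial (Fin d) k⁄k]) :=
    (KaehlerDifferential.mvPolynomialBasis k (Fin d)).baseChange (Localization.AtPrime m)
  have hmap : KaehlerDifferential.mapBaseChange k (MvPolynomial (Fin d) k) (Localization.AtPrime m) =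
      (c.equiv b (Equiv.refl _)).toLinearMap := by
    apply c.ext
    intro i
    rw [LinearEquiv.coe_toLinearMap, Module.Basis.equiv_apply, Equiv.refl_apply, hb]
    simp only [c, Module.Basis.baseChange_apply, KaehlerDifferential.mvPolynomialBasis_apply,
      KaehlerDifferential.mapBaseChange_tmul, one_smul, KaehlerDifferential.map_D]
    rw [← IsScalarTower.algebraMap_apply]
  have hbij : Function.Bijective
      (KaehlerDifferential.mapBaseChange k (MvPolynomial (Fin d) k) (Localization.AtPrime m)) := by
    rw [hmap]; exact (c.equiv b (Equiv.refl _)).bijective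
  have hΩ : Subsingleton Ω[Localization.AtPrime m⁄MvPolynomial (Fin d) k] := by
    refine ⟨fun a b => ?_⟩
    have h0 : ∀ ω : Ω[Localization.AtPrime m⁄MvPolynomial (Fin d) k], ω = 0 := by
      intro ω
      obtain ⟨ω', rfl⟩ := KaehlerDifferential.map_surjective k (MvPolynomial (Fin d) k)
        (Localization.AtPrime m) ω
      obtain ⟨z, rfl⟩ := hbij.2 ω'
      exact (KaehlerDifferential.exact_mapBaseChange_map k (MvPolynomial (Fin d) k)
        (Localization.AtPrime m) _).mpr ⟨z, rfl⟩
    rw [h0 a, h0 b]
  have hH1 : Subsingleton (Algebra.H1Cotangent (MvPolynomial (Fin d) k) (Localization.AtPrime m)) := by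
    refine ⟨fun a b => ?_⟩
    have h0 : ∀ y : Algebra.H1Cotangent (MvPolynomial (Fin d) k) (Localization.AtPrime m),
        y = 0 := by
      intro y
      have h1 : Algebra.H1Cotangent.δ k (MvPolynomial (Fin d) k) (Localization.AtPrime m) y = 0 := by
        apply hbij.1
        rw [map_zero]
        exact (Algebra.H1Cotangent.exact_δ_mapBaseChange k (MvPolynomial (Fin d) k)
          (Localization.AtPrime m) _).mpr ⟨y, rfl⟩
      obtain ⟨z, rfl⟩ := (Algebra.H1Cotangent.exact_map_δ k (MvPolynomial (Fin d) k)
        (Localization.AtPrime m) y).mp h1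
      rw [Subsingleton.elim z 0, map_zero]
    rw [h0 a, h0 b]
  haveI : Algebra.FormallyUnramified (MvPolynomial (Fin d) k) (Localization.AtPrime m) :=
    (Algebra.formallyUnramified_iff _ _).mpr hΩ
  haveI : Algebra.FormallySmooth (MvPolynomial (Fin d) k) (Localization.AtPrime m) :=
    ⟨inferInstance, hH1⟩
  exact Algebra.FormallyEtale.of_formallyUnramified_and_formallySmooth

end D

section E
open MvPolynomial

/-- Étale chart of a smooth algebra around a prime, for given coordinates whose differentials
form a basis of the fibre of the Kähler differentials at the prime. -/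
theorem chart_of_coords (k : Type u) [CommRing k]
    (R : Type u) [CommRing R] [Algebra k R] [Algebra.FinitePresentation k R]
    (m : Ideal R) [m.IsPrime] [Algebra.IsSmoothAt k m] {d : ℕ} (x : Fin d → R)
    (hli : LinearIndependent m.ResidueField
      (fun i => (1 : m.ResidueField) ⊗ₜ[R] D k R (x i)))
    (hsp : Submodule.span m.ResidueField
      (Set.range fun i => (1 : m.ResidueField) ⊗ₜ[R] D k R (x i)) = ⊤) :
    ∃ g : R, g ∉ m ∧
      (((algebraMap R (Localization.Away g)).comp
        (MvPolynomial.aeval x : MvPolynomial (Fin d) k →ₐ[k] R).toRingHom)).Etale := by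
  classical
  let φ₀ : MvPolynomial (Fin d) k →ₐ[k] R := MvPolynomial.aeval x
  letI : Algebra (MvPolynomial (Fin d) k) R := φ₀.toRingHom.toAlgebra
  haveI : IsScalarTower k (MvPolynomial (Fin d) k) R :=
    IsScalarTower.of_algebraMap_eq' φ₀.comp_algebraMap.symm
  have hX : ∀ i, algebraMap (MvPolynomial (Fin d) k) R (X i) = x i := fun i => aeval_X x i
  obtain ⟨b, hb⟩ := exists_basis_localization k R m x hli hsp
  haveI : Algebra.FormallyEtale (MvPolynomial (Fin d) k) (Localization.AtPrime m) :=
    formallyEtale_localization k R m b (fun i => by rw [hb, hX])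
  haveI : Algebra.FinitePresentation (MvPolynomial (Fin d) k) R :=
    Algebra.FinitePresentation.of_restrict_scalars_finitePresentation k _ R
  haveI : Algebra.IsEtaleAt (MvPolynomial (Fin d) k) m := ‹_›
  obtain ⟨g, hg, hEt⟩ := Algebra.exists_etale_of_isEtaleAt (R := MvPolynomial (Fin d) k) m
  refine ⟨g, hg, ?_⟩
  have := RingHom.etale_algebraMap.mpr hEt
  rwa [IsScalarTower.algebraMap_eq (MvPolynomial (Fin d) k) R (Localization.Away g)] at this

end E

end Groth.Agent.Lib.Helper19.SmChart1
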