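import Mathlib

set_option autoImplicit false
set_option linter.style.haveILetI false
universe u

namespace Groth.Agent.Lib.Helper19.SmChart2

/-- A nonzero polynomial in several variables over a field has a non-vanishing point with
coordinates in a finite separable extension. -/
theorem exists_sep_point (k : Type u) [Field k] {d : ℕ} (h : MvPolynomial (Fin d) k) (hh : h ≠ 0) :
    ∃ (L : Type u) (_ : Field L) (_ : Algebra k L) (_ : FiniteDimensional k L)
      (_ : Algebra.IsSeparable k L) (a : Fin d → L), MvPolynomial.aeval a h ≠ 0 := by
  classical
  rcases finite_or_infinite k with hfin | hinf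
  · let K := AlgebraicClosure k
    have hh' : MvPolynomial.map (algebraMap k K) h ≠ 0 := by
      intro h0
      apply hh
      apply MvPolynomial.map_injective (algebraMap k K) (algebraMap k K).injective
      rw [h0, map_zero]
    have hex : ∃ x : Fin d → K, MvPolynomial.eval x (MvPolynomial.map (algebraMap k K) h) ≠ 0 := by
      by_contra H
      push_neg at H
      exact hh' (MvPolynomial.funext (fun x => by rw [H x, map_zero]))
    obtain ⟨x, hx⟩ := hex
    let L : IntermediateField k K := IntermediateField.adjoin k (Set.range x)
    haveI : FiniteDimensional k L :=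
      IntermediateField.finiteDimensional_adjoin (fun y _ => Algebra.IsIntegral.isIntegral y)
    haveI : Algebra.IsSeparable k L := Algebra.IsAlgebraic.isSeparable_of_perfectField
    let a : Fin d → L := fun i => ⟨x i, IntermediateField.subset_adjoin k _ ⟨i, rfl⟩⟩
    refine ⟨L, inferInstance, inferInstance, inferInstance, inferInstance, a, ?_⟩
    intro h0
    apply hx
    have h1 : (algebraMap L K) (MvPolynomial.aeval a h) = MvPolynomial.aeval x h := by
      have : (fun i => algebraMap L K (a i)) = x := rfl
      rw [← this]
      exact (MvPolynomial.aeval_algebraMap_apply (A := L) (B := K) a h).symm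
    rw [MvPolynomial.eval_map, ← MvPolynomial.aeval_def, ← h1, h0, map_zero]
  · have hex : ∃ x : Fin d → k, MvPolynomial.eval x h ≠ 0 := by
      by_contra H
      push_neg at H
      exact hh (MvPolynomial.funext (fun x => by rw [H x, map_zero]))
    obtain ⟨x, hx⟩ := hex
    refine ⟨k, inferInstance, inferInstance, inferInstance, inferInstance, x, ?_⟩
    rwa [MvPolynomial.aeval_eq_eval] at *

end Groth.Agent.Lib.Helper19.SmChart2
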