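import Mathlib

set_option autoImplicit false
set_option linter.style.haveILetI false
universe u

open IntermediateField Polynomial

namespace Groth.Agent.Lib.Helper19.PI

/-- A primitive element whose minimal polynomial has coefficients in the image of `R`. -/
theorem exists_primitive_lift (R : Type u) [CommRing R] (p : Ideal R) [p.IsPrime]
    (L : Type u) [Field L] [Algebra p.ResidueField L] [FiniteDimensional p.ResidueField L]
    [Algebra.IsSeparable p.ResidueField L] :
    ∃ (θ : L) (F : R[X]), F.Monic ∧ p.ResidueField⟮θ⟯ = ⊤ ∧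
      F.map (algebraMap R p.ResidueField) = minpoly p.ResidueField θ := by
  classical
  let k := p.ResidueField
  let D := R ⧸ p
  obtain ⟨θ, hθ⟩ := Field.exists_primitive_element k L
  let P := minpoly k θ
  have hint : IsIntegral k θ := Algebra.IsIntegral.isIntegral θ
  have hPm : P.Monic := minpoly.monic hint
  obtain ⟨b, hb⟩ := IsLocalization.exist_integer_multiples_of_finset (nonZeroDivisors D)
    (P.support.image P.coeff)
  let β : k := algebraMap D k b
  have hβ : β ≠ 0 := by
    intro h
    have : (b : D) = 0 := (injective_iff_map_eq_zero (algebraMap D k)).mp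
      (IsFractionRing.injective D k) _ h
    exact nonZeroDivisors.ne_zero b.2 this
  let θ' : L := algebraMap k L β * θ
  let F₀ : k[X] := scaleRoots P β
  have hF₀m : F₀.Monic := (monic_scaleRoots_iff β).mpr hPm
  have hroot : aeval θ' F₀ = 0 := scaleRoots_aeval_eq_zero (minpoly.aeval k θ)
  -- θ' is primitive
  have hθ' : k⟮θ'⟯ = ⊤ := by
    rw [eq_top_iff, ← hθ, adjoin_simple_le_iff]
    have h1 : θ' ∈ k⟮θ'⟯ := mem_adjoin_simple_self k θ'
    have h2 : algebraMap k L β⁻¹ ∈ k⟮θ'⟯ := IntermediateField.algebraMap_mem _ _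
    have h3 : θ = algebraMap k L β⁻¹ * θ' := by
      show θ = algebraMap k L β⁻¹ * (algebraMap k L β * θ)
      rw [← mul_assoc, ← map_mul, inv_mul_cancel₀ hβ, map_one, one_mul]
    rw [h3]
    exact mul_mem h2 h1
  have hint' : IsIntegral k θ' := Algebra.IsIntegral.isIntegral θ'
  have hF₀ : F₀ = minpoly k θ' := by
    refine Polynomial.eq_of_monic_of_dvd_of_natDegree_le (minpoly.monic hint') hF₀m
      (minpoly.dvd k θ' hroot) ?_
    rw [natDegree_scaleRoots, (Field.primitive_element_iff_minpoly_natDegree_eq k θ).mp hθ,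
      (Field.primitive_element_iff_minpoly_natDegree_eq k θ').mp hθ']
  -- coefficients
  have hrange : ∀ d : D, algebraMap D k d ∈ (algebraMap R k).range := by
    intro d
    obtain ⟨r, rfl⟩ := Ideal.Quotient.mk_surjective d
    exact ⟨r, rfl⟩
  have hlift : F₀ ∈ Polynomial.lifts (algebraMap R k) := by
    rw [Polynomial.lifts_iff_coeff_lifts]
    intro i
    show F₀.coeff i ∈ (algebraMap R k).range
    rw [coeff_scaleRoots]
    rcases lt_trichotomy i P.natDegree with hi | hi | hi
    · by_cases hc : P.coeff i = 0
      · rw [hc, zero_mul]; exact zero_mem _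
      · have h1 : P.coeff i ∈ P.support.image P.coeff :=
          Finset.mem_image.mpr ⟨i, Polynomial.mem_support_iff.mpr hc, rfl⟩
        obtain ⟨d, hd⟩ := hb _ h1
        have h2 : P.coeff i * β = algebraMap D k d := by
          rw [hd, Algebra.smul_def, mul_comm]
        have h3 : P.natDegree - i = (P.natDegree - i - 1) + 1 := by omega
        rw [h3, pow_succ', ← mul_assoc, h2]
        exact mul_mem (hrange d) (pow_mem (hrange b) _)
    · rw [hi, Nat.sub_self, pow_zero, mul_one, hPm.coeff_natDegree]
      exact one_mem _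
    · rw [Polynomial.coeff_eq_zero_of_natDegree_lt hi, zero_mul]
      exact zero_mem _
  obtain ⟨F, hFmap, -, hFm⟩ := Polynomial.lifts_and_natDegree_eq_and_monic hlift hF₀m
  exact ⟨θ', F, hFm, hθ', hFmap.trans hF₀⟩

end Groth.Agent.Lib.Helper19.PI
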