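import Mathlib
import Groth.Agent.Lib.helper19.PI3

set_option autoImplicit false
set_option linter.style.haveILetI false
universe u

open IntermediateField Polynomial

namespace Groth.Agent.Lib.Helper19.PI

/-- Étale neighbourhood with prescribed finite separable residue field extension. -/
theorem exists_etale_residueField (R : Type u) [CommRing R] (p : Ideal R) [p.IsPrime]
    (L : Type u) [Field L] [Algebra p.ResidueField L] [FiniteDimensional p.ResidueField L]
    [Algebra.IsSeparable p.ResidueField L] :
    ∃ (R₀ : Type u) (_ : CommRing R₀) (_ : Algebra R R₀) (_ : Algebra.Etale R R₀)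
      (p₀ : Ideal R₀) (_ : p₀.IsPrime) (_ : p₀.LiesOver p) (ψ : p₀.ResidueField →+* L),
      Function.Bijective ψ ∧
      ψ.comp (Ideal.ResidueField.map p p₀ (algebraMap R R₀) (p₀.over_def p)) =
        algebraMap p.ResidueField L := by
  classical
  let k := p.ResidueField
  obtain ⟨θ, F, hFm, hθ, hFmap⟩ := exists_primitive_lift R p L
  have hint : IsIntegral k θ := Algebra.IsIntegral.isIntegral θ
  letI : Algebra R L := ((algebraMap k L).comp (algebraMap R k)).toAlgebra
  haveI : IsScalarTower R k L := IsScalarTower.of_algebraMap_eq' rfl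
  let SP : StandardEtalePair R := ⟨F, hFm, derivative F, ⟨1, 0, 1, by simp⟩⟩
  have hroot : aeval θ F = 0 := by
    rw [← aeval_map_algebraMap k, hFmap, minpoly.aeval]
  have hder : aeval θ (derivative F) ≠ 0 := by
    rw [← aeval_map_algebraMap k, ← derivative_map, hFmap]
    exact (Algebra.IsSeparable.isSeparable k θ).aeval_derivative_ne_zero (minpoly.aeval k θ)
  have hmap : SP.HasMap θ := ⟨hroot, isUnit_iff_ne_zero.mpr hder⟩
  let φ : SP.Ring →ₐ[R] L := SP.lift θ hmap
  have hφX : φ SP.X = θ := SP.lift_X θ hmap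
  let p₀ : Ideal SP.Ring := RingHom.ker φ.toRingHom
  haveI : p₀.IsPrime := RingHom.ker_isPrime _
  have hover : p₀.LiesOver p := by
    constructor
    ext r
    simp only [Ideal.under_def, Ideal.mem_comap, p₀, RingHom.mem_ker]
    show _ ↔ φ (algebraMap R SP.Ring r) = 0
    rw [φ.commutes, IsScalarTower.algebraMap_apply R k L, map_eq_zero,
      Ideal.algebraMap_residueField_eq_zero]
  let ψ : p₀.ResidueField →+* L := Ideal.ResidueField.lift p₀ φ.toRingHom le_rfl (by
    intro x hx
    show IsUnit (φ x)
    rw [isUnit_iff_ne_zero]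
    exact hx)
  have hψ : ∀ x : SP.Ring, ψ (algebraMap SP.Ring p₀.ResidueField x) = φ x := fun x =>
    Ideal.ResidueField.lift_algebraMap _ _ _ _ x
  have hcompat : ψ.comp (Ideal.ResidueField.map p p₀ (algebraMap R SP.Ring) (hover.over)) =
      algebraMap k L := by
    apply Ideal.ResidueField.ringHom_ext
    ext r
    simp only [RingHom.comp_apply]
    rw [Ideal.ResidueField.map_algebraMap, hψ, φ.commutes]
    rfl
  refine ⟨SP.Ring, inferInstance, inferInstance, inferInstance, p₀, inferInstance, hover, ψ,
    ⟨ψ.injective, ?_⟩, hcompat⟩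
  intro y
  have hy : y ∈ (k⟮θ⟯).toSubalgebra := by rw [hθ]; trivial
  rw [IntermediateField.adjoin_simple_toSubalgebra_of_isAlgebraic
    (Algebra.IsAlgebraic.isAlgebraic θ), Algebra.adjoin_singleton_eq_range_aeval] at hy
  obtain ⟨q, rfl⟩ := hy
  let μ := Ideal.ResidueField.map p p₀ (algebraMap R SP.Ring) (hover.over)
  refine ⟨eval₂ μ (algebraMap SP.Ring p₀.ResidueField SP.X) q, ?_⟩
  rw [Polynomial.hom_eval₂, hcompat, hψ, hφX]
  rfl

end Groth.Agent.Lib.Helper19.PI
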