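import Mathlib
import Groth.Agent.Lib.helper19.PI4

set_option autoImplicit false
set_option linter.style.haveILetI false
universe u

namespace Groth.Agent.Lib.Helper19.SmChart3

/-- Étale algebra over `A` with a map to a prescribed finite separable extension `L` of `κ(p)`
hitting prescribed elements of `L`. -/
theorem exists_etale_lift (A : Type u) [CommRing A] (p : Ideal A) [p.IsPrime] (L : Type u) [Field L]
    [Algebra p.ResidueField L] [FiniteDimensional p.ResidueField L]
    [Algebra.IsSeparable p.ResidueField L] {d : ℕ} (a : Fin d → L) :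
    ∃ (A₁ : Type u) (_ : CommRing A₁) (_ : Algebra A A₁) (_ : Algebra.Etale A A₁) (χ : A₁ →+* L)
      (a' : Fin d → A₁),
      χ.comp (algebraMap A A₁) = (algebraMap p.ResidueField L).comp (algebraMap A p.ResidueField) ∧
      ∀ i, χ (a' i) = a i := by
  classical
  obtain ⟨R₀, _, _, _, p₀, _, _, ψ, hψbij, hψ⟩ :=
    Groth.Agent.Lib.Helper19.PI.exists_etale_residueField A p L
  let Rloc := Localization.AtPrime p₀
  have hc : ∀ i, ∃ w : Rloc, ψ (algebraMap Rloc p₀.ResidueField w) = a i := by
    intro i
    obtain ⟨c, hc⟩ := hψbij.2 (a i)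
    obtain ⟨w, hw⟩ := IsLocalRing.residue_surjective (R := Rloc) c
    exact ⟨w, by rw [← hc, ← hw]; rfl⟩
  choose w hw using hc
  obtain ⟨v, hv⟩ := IsLocalization.exist_integer_multiples_of_finset p₀.primeCompl
    (Finset.univ.image w)
  have hu : ∀ i, ∃ u : R₀, algebraMap R₀ Rloc u = (v : R₀) • w i := by
    intro i
    exact hv (w i) (Finset.mem_image_of_mem _ (Finset.mem_univ i))
  choose u hu using hu
  let A₁ := Localization.Away (v : R₀)
  have hvu : IsUnit (algebraMap R₀ Rloc (v : R₀)) :=
    IsLocalization.map_units Rloc v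
  let ι : A₁ →+* Rloc := IsLocalization.Away.lift (v : R₀) hvu
  have hι : ∀ r, ι (algebraMap R₀ A₁ r) = algebraMap R₀ Rloc r := fun r =>
    IsLocalization.Away.lift_eq (v : R₀) hvu r
  let χ : A₁ →+* L := ψ.comp ((algebraMap Rloc p₀.ResidueField).comp ι)
  let a' : Fin d → A₁ := fun i =>
    IsLocalization.mk' A₁ (u i) (⟨(v : R₀), Submonoid.mem_powers _⟩ : Submonoid.powers (v : R₀))
  refine ⟨A₁, inferInstance, inferInstance, ?_, χ, a', ?_, ?_⟩
  · exact Algebra.Etale.comp A R₀ A₁
  · ext r
    simp only [RingHom.comp_apply, χ]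
    rw [IsScalarTower.algebraMap_apply A R₀ A₁, hι,
      ← IsScalarTower.algebraMap_apply R₀ Rloc p₀.ResidueField]
    have := congrArg (fun F => F (algebraMap A p.ResidueField r)) hψ
    simp only [RingHom.comp_apply] at this
    rw [← this, Ideal.ResidueField.map_algebraMap]
  · intro i
    simp only [RingHom.comp_apply, χ]
    have h1 : ι (a' i) = w i := by
      have h2 : algebraMap R₀ Rloc (v : R₀) * ι (a' i) = algebraMap R₀ Rloc (v : R₀) * w i := by
        calc algebraMap R₀ Rloc (v : R₀) * ι (a' i)
            = ι (algebraMap R₀ A₁ (v : R₀)) * ι (a' i) := by rw [hι]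
          _ = ι (algebraMap R₀ A₁ (v : R₀) * a' i) := (map_mul _ _ _).symm
          _ = ι (algebraMap R₀ A₁ (u i)) := by
              simp only [a']
              rw [IsLocalization.mk'_spec'_mk]
          _ = algebraMap R₀ Rloc (u i) := hι _
          _ = algebraMap R₀ Rloc (v : R₀) * w i := by rw [hu i, Algebra.smul_def]
      exact hvu.mul_left_cancel h2
    rw [h1, hw]

end Groth.Agent.Lib.Helper19.SmChart3
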