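import Mathlib
import Groth.Agent.Lib.helper19.SmChart1
import Groth.Agent.Lib.helper19.SmChart2
import Groth.Agent.Lib.helper19.SmChart3

set_option autoImplicit false
set_option linter.style.haveILetI false
universe u
open TensorProduct

namespace Groth.Agent.Lib.Helper19.SmChart4

theorem ring_main (A B : Type u) [CommRing A] [CommRing B] [Algebra A B] [Algebra.Smooth A B]
    (q : Ideal B) [q.IsPrime] :
    ∃ (d : ℕ) (g : B) (φ : MvPolynomial (Fin d) A →+* Localization.Away g)
      (A₁ : Type u) (_ : CommRing A₁) (_ : Algebra A A₁) (_ : Algebra.Etale A A₁)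
      (ψ : MvPolynomial (Fin d) A →+* A₁) (Q : PrimeSpectrum (Localization.Away g))
      (p₁ : PrimeSpectrum A₁),
      φ.Etale ∧
      φ.comp MvPolynomial.C = (algebraMap B (Localization.Away g)).comp (algebraMap A B) ∧
      ψ.comp MvPolynomial.C = algebraMap A A₁ ∧
      PrimeSpectrum.comap φ Q = PrimeSpectrum.comap ψ p₁ ∧
      p₁.asIdeal.comap (algebraMap A A₁) = q.comap (algebraMap A B) := by
  classical
  let p : Ideal A := q.comap (algebraMap A B)
  haveI : p.IsPrime := Ideal.comap_isPrime _ _
  haveI : Algebra.FinitePresentation A B := Algebra.Smooth.finitePresentation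
  haveI : Algebra.IsSmoothAt A q := inferInstance
  haveI : Module.Finite q.ResidueField (q.ResidueField ⊗[B] Ω[B⁄A]) := inferInstance
  obtain ⟨d, x, hli, hsp⟩ := SmChart1.exists_coords A B q
  obtain ⟨g, hg, hφ⟩ := SmChart1.chart_of_coords A B q x hli hsp
  let Bg := Localization.Away g
  let φ : MvPolynomial (Fin d) A →+* Bg :=
    (algebraMap B Bg).comp (MvPolynomial.aeval x : MvPolynomial (Fin d) A →ₐ[A] B).toRingHom
  have hφC : φ.comp MvPolynomial.C = (algebraMap B Bg).comp (algebraMap A B) := by
    ext a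
    simp [φ]
  -- openness of the image
  have hopen : IsOpen (Set.range (PrimeSpectrum.comap φ)) := by
    letI : Algebra (MvPolynomial (Fin d) A) Bg := φ.toAlgebra
    haveI : Algebra.Etale (MvPolynomial (Fin d) A) Bg := RingHom.etale_algebraMap.mp hφ
    haveI : Algebra.FinitePresentation (MvPolynomial (Fin d) A) Bg :=
      Algebra.Etale.finitePresentation
    have := PrimeSpectrum.isOpenMap_comap_of_hasGoingDown_of_finitePresentation
      (R := MvPolynomial (Fin d) A) (S := Bg)
    exact this.isOpen_range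
  -- the point of `Bg` above `q`
  have hdisj : Disjoint (Submonoid.powers g : Set B) (q : Set B) := by
    rw [Set.disjoint_left]
    rintro _ ⟨n, rfl⟩ hn
    exact hg (Ideal.IsPrime.mem_of_pow_mem inferInstance n hn)
  have hqg_prime : (q.map (algebraMap B Bg)).IsPrime :=
    IsLocalization.isPrime_of_isPrime_disjoint (Submonoid.powers g) Bg q inferInstance hdisj
  have hqg_comap : (q.map (algebraMap B Bg)).comap (algebraMap B Bg) = q :=
    IsLocalization.comap_map_of_isPrime_disjoint (Submonoid.powers g) Bg inferInstance hdisj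
  let qg : PrimeSpectrum Bg := ⟨q.map (algebraMap B Bg), hqg_prime⟩
  let qP : PrimeSpectrum (MvPolynomial (Fin d) A) := PrimeSpectrum.comap φ qg
  have hqP : qP ∈ Set.range (PrimeSpectrum.comap φ) := ⟨qg, rfl⟩
  obtain ⟨_, ⟨_, ⟨h, rfl⟩, rfl⟩, hqPh, hsub⟩ :=
    PrimeSpectrum.isBasis_basic_opens.exists_subset_of_mem_open hqP hopen
  -- `p`-coefficients lie in `qP`
  have hpq : Ideal.map (MvPolynomial.C : A →+* MvPolynomial (Fin d) A) p ≤ qP.asIdeal := by
    rw [Ideal.map_le_iff_le_comap]
    intro a ha
    show φ (MvPolynomial.C a) ∈ q.map (algebraMap B Bg)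
    have : φ (MvPolynomial.C a) = algebraMap B Bg (algebraMap A B a) := by
      simpa using congrArg (fun F => F a) hφC
    rw [this]
    exact Ideal.mem_map_of_mem _ ha
  let hbar : MvPolynomial (Fin d) p.ResidueField :=
    MvPolynomial.map (algebraMap A p.ResidueField) h
  have hbar_ne : hbar ≠ 0 := by
    intro h0
    apply hqPh
    show h ∈ qP.asIdeal
    apply hpq
    rw [MvPolynomial.mem_map_C_iff]
    intro m
    have h1 : MvPolynomial.coeff m hbar = 0 := by rw [h0]; simp
    rw [MvPolynomial.coeff_map] at h1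
    rwa [← Ideal.ker_algebraMap_residueField p, RingHom.mem_ker]
  obtain ⟨L, _, _, _, _, a, ha⟩ := SmChart2.exists_sep_point p.ResidueField hbar hbar_ne
  obtain ⟨A₁, _, _, _, χ, a', hχ, ha'⟩ := SmChart3.exists_etale_lift A p L a
  let ψ : MvPolynomial (Fin d) A →+* A₁ :=
    (MvPolynomial.aeval a' : MvPolynomial (Fin d) A →ₐ[A] A₁).toRingHom
  have hψC : ψ.comp MvPolynomial.C = algebraMap A A₁ := by
    ext r
    simp [ψ]
  let p₁ : PrimeSpectrum A₁ := ⟨RingHom.ker χ, RingHom.ker_isPrime χ⟩
  have hp₁ : p₁.asIdeal.comap (algebraMap A A₁) = p := by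
    show (RingHom.ker χ).comap (algebraMap A A₁) = p
    rw [RingHom.comap_ker, hχ, RingHom.ker_comp_of_injective _ (algebraMap p.ResidueField L).injective,
      Ideal.ker_algebraMap_residueField]
  have hχψ : χ.comp ψ = (MvPolynomial.aeval a : MvPolynomial (Fin d) p.ResidueField →ₐ[_] L).toRingHom.comp
      (MvPolynomial.map (algebraMap A p.ResidueField)) := by
    apply MvPolynomial.ringHom_ext
    · intro r
      have h1 := congrArg (fun F => F r) hχ
      simp only [RingHom.comp_apply] at h1
      simp [ψ, h1]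
    · intro i
      simp [ψ, ha']
  have ht : PrimeSpectrum.comap ψ p₁ ∈ (PrimeSpectrum.basicOpen h : Set _) := by
    show h ∉ (RingHom.ker χ).comap ψ
    rw [Ideal.mem_comap, RingHom.mem_ker]
    have h1 := congrArg (fun F => F h) hχψ
    simp only [RingHom.comp_apply] at h1
    rw [h1]
    exact ha
  obtain ⟨Q, hQ⟩ := hsub ht
  exact ⟨d, g, φ, A₁, inferInstance, inferInstance, inferInstance, ψ, Q, p₁, hφ, hφC, hψC, hQ, hp₁⟩

end Groth.Agent.Lib.Helper19.SmChart4
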