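import Mathlib
import Groth.Agent.Lib.helper19.SmChart4
import Groth.Agent.Lib.helper19.QFL5

set_option autoImplicit false
set_option linter.style.haveILetI false
universe u
open CategoryTheory CategoryTheory.Limits AlgebraicGeometry

namespace Groth.Agent.Lib.Helper19.SmChart5

theorem main {X S : Scheme.{u}} (f : X ⟶ S) [Smooth f] (s : S) (hs : s ∈ Set.range f) :
    ∃ (S' : Scheme.{u}) (g : S' ⟶ S) (s' : S'), Etale g ∧ g s' = s ∧
      ∃ h : S' ⟶ X, h ≫ f = g := by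
  classical
  obtain ⟨x, rfl⟩ := hs
  obtain ⟨_, ⟨V₀, hV₀, rfl⟩, hsV₀, -⟩ := S.isBasis_affineOpens.exists_subset_of_mem_open
    (Set.mem_univ (f x)) isOpen_univ
  have hmem : x ∈ ((f ⁻¹ᵁ V₀ : X.Opens) : Set X) := hsV₀
  obtain ⟨_, ⟨U₀, hU₀, rfl⟩, hxU₀, hle⟩ := X.isBasis_affineOpens.exists_subset_of_mem_open
    hmem (f ⁻¹ᵁ V₀).2
  letI : Algebra Γ(S, V₀) Γ(X, U₀) := (f.appLE V₀ U₀ hle).hom.toAlgebra
  haveI : Algebra.Smooth Γ(S, V₀) Γ(X, U₀) := by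
    have h1 := HasRingHomProperty.appLE (P := @Smooth) f inferInstance ⟨V₀, hV₀⟩ ⟨U₀, hU₀⟩ hle
    exact RingHom.smooth_algebraMap.mp h1
  let q : Ideal Γ(X, U₀) := (hU₀.primeIdealOf ⟨x, hxU₀⟩).asIdeal
  haveI : q.IsPrime := (hU₀.primeIdealOf ⟨x, hxU₀⟩).2
  have hp : (hV₀.primeIdealOf ⟨f x, hsV₀⟩).asIdeal = q.comap (algebraMap Γ(S, V₀) Γ(X, U₀)) :=
    Groth.Agent.Lib.Helper19.QFL.liesOver_primeIdealOf f hV₀ hU₀ hle x hxU₀ (f x) rfl hsV₀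
  obtain ⟨d, g, φ, A₁, _, _, _, ψ, Q, p₁, hφ, hφC, hψC, hQ, hp₁⟩ :=
    SmChart4.ring_main Γ(S, V₀) Γ(X, U₀) q
  -- categorical versions
  let P := CommRingCat.of (MvPolynomial (Fin d) Γ(S, V₀))
  let Bg := CommRingCat.of (Localization.Away g)
  let φc : P ⟶ Bg := CommRingCat.ofHom φ
  let ψc : P ⟶ CommRingCat.of A₁ := CommRingCat.ofHom ψ
  let Cc : Γ(S, V₀) ⟶ P := CommRingCat.ofHom MvPolynomial.C
  let ιc : Γ(X, U₀) ⟶ Bg := CommRingCat.ofHom (algebraMap Γ(X, U₀) (Localization.Away g))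
  let αc : Γ(S, V₀) ⟶ CommRingCat.of A₁ := CommRingCat.ofHom (algebraMap Γ(S, V₀) A₁)
  have e1 : Cc ≫ φc = f.appLE V₀ U₀ hle ≫ ιc := by
    apply CommRingCat.hom_ext
    exact hφC
  have e2 : Cc ≫ ψc = αc := by
    apply CommRingCat.hom_ext
    exact hψC
  haveI : Etale (Spec.map φc) := HasRingHomProperty.Spec_iff.mpr hφ
  haveI : Etale (Spec.map αc) :=
    HasRingHomProperty.Spec_iff.mpr (RingHom.etale_algebraMap.mpr ‹_›)
  haveI : IsOpenImmersion hV₀.fromSpec := hV₀.isOpenImmersion_fromSpec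
  haveI : IsOpenImmersion hU₀.fromSpec := hU₀.isOpenImmersion_fromSpec
  let S' := pullback (Spec.map φc) (Spec.map ψc)
  let gS : S' ⟶ S := pullback.snd (Spec.map φc) (Spec.map ψc) ≫ Spec.map αc ≫ hV₀.fromSpec
  let h : S' ⟶ X := pullback.fst (Spec.map φc) (Spec.map ψc) ≫ Spec.map ιc ≫ hU₀.fromSpec
  have hQ' : (Spec.map φc) Q = (Spec.map ψc) p₁ := hQ
  obtain ⟨s', hs'1, hs'2⟩ := Scheme.Pullback.exists_preimage_pullback (f := Spec.map φc) (g := Spec.map ψc) Q p₁ hQ'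
  refine ⟨S', gS, s', inferInstance, ?_, h, ?_⟩
  · show hV₀.fromSpec ((Spec.map αc) ((pullback.snd (Spec.map φc) (Spec.map ψc)) s')) = f x
    rw [hs'2]
    have h1 : (Spec.map αc) p₁ = hV₀.primeIdealOf ⟨f x, hsV₀⟩ := by
      apply PrimeSpectrum.ext
      rw [hp]
      exact hp₁
    rw [h1]
    exact hV₀.fromSpec_primeIdealOf ⟨f x, hsV₀⟩
  · show (pullback.fst (Spec.map φc) (Spec.map ψc) ≫ Spec.map ιc ≫ hU₀.fromSpec) ≫ f =
      pullback.snd (Spec.map φc) (Spec.map ψc) ≫ Spec.map αc ≫ hV₀.fromSpec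
    rw [Category.assoc, Category.assoc, ← hV₀.SpecMap_appLE_fromSpec f hU₀ hle,
      ← Spec.map_comp_assoc, ← e1, Spec.map_comp_assoc, ← e2, Spec.map_comp_assoc,
      pullback.condition_assoc]

end Groth.Agent.Lib.Helper19.SmChart5
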