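import Mathlib
import Groth.Agent.Lib.Helper12.HenselQuasiFinite
import Groth.Agent.Lib.Helper12.PairLocal
import Groth.Agent.Lib.helper19.QFL5

set_option autoImplicit false
set_option linter.style.haveILetI false
universe u
open CategoryTheory CategoryTheory.Limits AlgebraicGeometry

namespace Groth.Agent.Lib.Helper19.HensFinPart2

theorem henselianLocalRing_of_ringEquiv {B B' : Type u} [CommRing B] [CommRing B'] (e : B ≃+* B')
    [HenselianLocalRing B] : HenselianLocalRing B' := by
  haveI : IsLocalRing B' := e.isLocalRing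
  have h1 := Groth.Agent.Lib.Helper12.PairUnique.henselianRing_of_ringEquiv e (IsLocalRing.maximalIdeal B)
  have h2 : (IsLocalRing.maximalIdeal B).map (e : B →+* B') = IsLocalRing.maximalIdeal B' := by
    apply IsLocalRing.eq_maximalIdeal
    exact Ideal.map_isMaximal_of_equiv e
  rw [h2] at h1
  exact Groth.Agent.Lib.Helper12.PairUnique.henselianLocalRing_of_henselianRing h1

/-- Over a henselian local ring, a point over the closed point at which `f` is quasi-finite has an
open neighbourhood finite over the base. -/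
theorem exists_finite_nhd (R : Type u) [CommRing R] [HenselianLocalRing R]
    {X : Scheme.{u}} (f : X ⟶ Spec (CommRingCat.of R)) [LocallyOfFiniteType f] (x : X)
    (hx : f.base x = IsLocalRing.closedPoint R) (hqf : f.QuasiFiniteAt x) :
    ∃ V : X.Opens, x ∈ V ∧ IsFinite (V.ι ≫ f) := by
  classical
  let S := Spec (CommRingCat.of R)
  have hS₀ : IsAffineOpen (⊤ : S.Opens) := isAffineOpen_top S
  obtain ⟨_, ⟨T, hT, rfl⟩, hxT, -⟩ := X.isBasis_affineOpens.exists_subset_of_mem_open
    (Set.mem_univ x) isOpen_univ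
  have hle : T ≤ f ⁻¹ᵁ (⊤ : S.Opens) := fun _ _ => trivial
  let R₀ := Γ(S, ⊤)
  let e₀ : R ≃+* R₀ := (Scheme.ΓSpecIso (CommRingCat.of R)).symm.commRingCatIsoToRingEquiv
  haveI : HenselianLocalRing R₀ := henselianLocalRing_of_ringEquiv e₀
  letI : Algebra R₀ Γ(X, T) := (f.appLE ⊤ T hle).hom.toAlgebra
  haveI : Algebra.FiniteType R₀ Γ(X, T) := f.finiteType_appLE hS₀ hT hle
  let q : Ideal Γ(X, T) := (hT.primeIdealOf ⟨x, hxT⟩).asIdeal
  haveI : q.IsPrime := (hT.primeIdealOf ⟨x, hxT⟩).2
  have hsS₀ : f.base x ∈ (⊤ : S.Opens) := trivial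
  have hmax : (hS₀.primeIdealOf ⟨f.base x, hsS₀⟩).asIdeal = IsLocalRing.maximalIdeal R₀ := by
    apply IsLocalRing.eq_maximalIdeal
    rw [← PrimeSpectrum.isClosed_singleton_iff_isMaximal]
    have h1 : ({hS₀.primeIdealOf ⟨f.base x, hsS₀⟩} : Set (Spec Γ(S, ⊤))) =
        hS₀.fromSpec.base ⁻¹' {IsLocalRing.closedPoint R} := by
      ext P
      simp only [Set.mem_preimage]
      constructor
      · rintro rfl
        rw [hS₀.fromSpec_primeIdealOf ⟨f.base x, hsS₀⟩]
        exact hx
      · intro hP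
        haveI : IsOpenImmersion hS₀.fromSpec := hS₀.isOpenImmersion_fromSpec
        apply hS₀.fromSpec.isOpenEmbedding.injective
        rw [hS₀.fromSpec_primeIdealOf ⟨f.base x, hsS₀⟩, hP]
        exact hx.symm
    have h2 : IsClosed (hS₀.fromSpec.base ⁻¹' {IsLocalRing.closedPoint R}) :=
      (IsLocalRing.isClosed_singleton_closedPoint R).preimage hS₀.fromSpec.base.hom.2
    rw [← h1] at h2
    exact h2
  haveI : q.LiesOver (IsLocalRing.maximalIdeal R₀) :=
    ⟨hmax ▸ Groth.Agent.Lib.Helper19.QFL.liesOver_primeIdealOf f hS₀ hT hle x hxT (f.base x) rfl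
      hsS₀⟩
  haveI : Algebra.QuasiFiniteAt R₀ q := hqf.quasiFiniteAt hT hS₀ hle hxT
  obtain ⟨e, he, heq, hfin, -⟩ :=
    Groth.Agent.Lib.Helper12.exists_idem_finite_of_quasiFiniteAt R₀ Γ(X, T) q
  let B := Γ(X, T) ⧸ Ideal.span {1 - e}
  let qm : Γ(X, T) ⟶ CommRingCat.of B := CommRingCat.ofHom (algebraMap Γ(X, T) B)
  haveI : IsLocalization.Away e B :=
    IsLocalization.away_of_isIdempotentElem he Ideal.mk_ker Ideal.Quotient.mk_surjective
  haveI : IsOpenImmersion (Spec.map qm) := IsOpenImmersion.of_isLocalization e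
  haveI : IsOpenImmersion hT.fromSpec := hT.isOpenImmersion_fromSpec
  let t : Spec (CommRingCat.of B) ⟶ X := Spec.map qm ≫ hT.fromSpec
  haveI : IsOpenImmersion t := inferInstance
  have hrange : ∀ P : Spec Γ(X, T), P ∈ Set.range (Spec.map qm) ↔ e ∉ P.asIdeal := by
    intro P
    have h1 : Set.range (Spec.map qm) =
        (PrimeSpectrum.basicOpen e : Set (PrimeSpectrum Γ(X, T))) :=
      PrimeSpectrum.localization_away_comap_range B e
    rw [h1]
    rfl
  obtain ⟨y, hy⟩ := (hrange (hT.primeIdealOf ⟨x, hxT⟩)).mpr heq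
  refine ⟨t.opensRange, ⟨y, ?_⟩, ?_⟩
  · show hT.fromSpec (Spec.map qm y) = x
    rw [hy]
    exact hT.fromSpec_primeIdealOf ⟨x, hxT⟩
  · have h1 : t ≫ f = Spec.map (CommRingCat.ofHom (algebraMap R₀ B)) ≫ hS₀.fromSpec := by
      show (Spec.map qm ≫ hT.fromSpec) ≫ f = _
      rw [Category.assoc, ← hS₀.SpecMap_appLE_fromSpec f hT hle, ← Category.assoc,
        ← Spec.map_comp]
      rfl
    have h2 : t.opensRange.ι ≫ f = t.isoOpensRange.inv ≫ t ≫ f := by
      rw [← Category.assoc, Scheme.Hom.isoOpensRange_inv_comp]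
    rw [h2, h1]
    haveI : IsFinite (Spec.map (CommRingCat.ofHom (algebraMap R₀ B))) := by
      rw [IsFinite.SpecMap_iff]
      exact RingHom.finite_algebraMap.mpr hfin
    haveI : IsIso hS₀.fromSpec := by
      rw [IsAffineOpen.fromSpec_top]
      infer_instance
    infer_instance

end Groth.Agent.Lib.Helper19.HensFinPart2
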