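import Groth.Agent.Lib.helper19.StdRetract
import Groth.Agent.Lib.Helper12.EtaleHomLift

set_option autoImplicit false
set_option linter.style.haveILetI false
universe u

namespace Groth.Agent.Lib.helper19.SmoothHens

theorem smooth_lift (R : Type u) [CommRing R] (S : Type u) [CommRing S]
    [Algebra R S] [Algebra.Smooth R S] (A : Type u) [CommRing A] [Algebra R A] (I : Ideal A)
    [HenselianRing A I] (σ : S →ₐ[R] A ⧸ I) :
    ∃ τ : S →ₐ[R] A, (Ideal.Quotient.mkₐ R I).comp τ = σ := by
  classical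
  obtain ⟨B, _, _, _, _, -, ⟨ρ⟩, hstd⟩ := StdRetract.exists_retract (R := R) (A := S)
  let σB : B →ₐ[R] A ⧸ I := σ.comp (ρ.restrictScalars R)
  have hstd' : (algebraMap R B).IsStandardSmooth := RingHom.isStandardSmooth_algebraMap.mpr hstd
  obtain ⟨n, g, hgC, hg⟩ := RingHom.IsStandardSmooth.exists_etale_mvPolynomial hstd'
  choose a₀ ha₀ using fun i : Fin n => Ideal.Quotient.mk_surjective (σB (g (MvPolynomial.X i)))
  let τ₀ : MvPolynomial (Fin n) R →ₐ[R] A := MvPolynomial.aeval a₀
  letI : Algebra (MvPolynomial (Fin n) R) B := g.toAlgebra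
  letI : Algebra (MvPolynomial (Fin n) R) A := τ₀.toRingHom.toAlgebra
  haveI : Algebra.Etale (MvPolynomial (Fin n) R) B := RingHom.etale_algebraMap.mp hg
  have hcompat : ∀ p : MvPolynomial (Fin n) R, σB (g p) = Ideal.Quotient.mk I (τ₀ p) := by
    intro p
    have : (σB : B →+* A ⧸ I).comp g = (Ideal.Quotient.mk I).comp (τ₀ : _ →+* A) := by
      apply MvPolynomial.ringHom_ext
      · intro r
        have h1 : g (MvPolynomial.C r) = algebraMap R B r := congr($hgC r)
        simp [h1, τ₀]
      · intro i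
        simp [τ₀, ha₀]
    exact congr($this p)
  let gP : B →ₐ[MvPolynomial (Fin n) R] A ⧸ I :=
    { (σB : B →+* A ⧸ I) with
      commutes' := fun p => hcompat p }
  obtain ⟨φ, hφ⟩ := Groth.Agent.Lib.Helper12.exists_algHom_lift_of_etale_of_henselianRing I gP
  have hφR : ∀ r : R, φ (algebraMap R B r) = algebraMap R A r := by
    intro r
    have h1 : algebraMap R B r = algebraMap (MvPolynomial (Fin n) R) B (MvPolynomial.C r) :=
      (congr($hgC r)).symm
    rw [h1, φ.commutes]
    show τ₀ (MvPolynomial.C r) = _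
    simp [τ₀]
  let φR : B →ₐ[R] A := { (φ : B →+* A) with commutes' := hφR }
  refine ⟨φR.comp (IsScalarTower.toAlgHom R S B), ?_⟩
  ext x
  show Ideal.Quotient.mk I (φ (algebraMap S B x)) = σ x
  rw [hφ]
  show σ (ρ (algebraMap S B x)) = σ x
  rw [ρ.commutes]
  rfl

end Groth.Agent.Lib.helper19.SmoothHens
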