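import Mathlib
import Groth.Agent.Lib.helper19.SmoothHens

set_option autoImplicit false
set_option linter.style.haveILetI false
universe u

open CategoryTheory AlgebraicGeometry

namespace Groth.Agent.Lib.Helper19.SmoothSection

/-- S5038. -/
theorem main (A : Type u) [CommRing A] [HenselianLocalRing A]
    {X : Scheme.{u}} (f : X ⟶ Spec (CommRingCat.of A)) [Smooth f]
    (u₀ : Spec (CommRingCat.of (IsLocalRing.ResidueField A)) ⟶ X)
    (h₀ : u₀ ≫ f = Spec.map (CommRingCat.ofHom (IsLocalRing.residue A))) :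
    ∃ u : Spec (CommRingCat.of A) ⟶ X, u ≫ f = 𝟙 _ ∧
      Spec.map (CommRingCat.ofHom (IsLocalRing.residue A)) ≫ u = u₀ := by
  -- the image point
  let x₀ : Spec (CommRingCat.of (IsLocalRing.ResidueField A)) :=
    IsLocalRing.closedPoint (IsLocalRing.ResidueField A)
  let x : X := u₀ x₀
  obtain ⟨_, ⟨U, hU, rfl⟩, hxU, -⟩ := X.isBasis_affineOpens.exists_subset_of_mem_open
    (Set.mem_univ x) isOpen_univ
  -- `u₀` factors through `U`
  have hrange : Set.range u₀ ⊆ Set.range hU.fromSpec := by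
    rw [hU.range_fromSpec]
    rintro _ ⟨y, rfl⟩
    have : y = x₀ := Subsingleton.elim _ _
    rw [this]
    exact hxU
  let v : Spec (CommRingCat.of (IsLocalRing.ResidueField A)) ⟶ Spec Γ(X, U) :=
    IsOpenImmersion.lift hU.fromSpec u₀ hrange
  have hv : v ≫ hU.fromSpec = u₀ := IsOpenImmersion.lift_fac _ _ _
  let g : Spec Γ(X, U) ⟶ Spec (CommRingCat.of A) := hU.fromSpec ≫ f
  haveI : Smooth g := inferInstance
  let φ : CommRingCat.of A ⟶ Γ(X, U) := Spec.preimage g
  have hφ : Spec.map φ = g := Spec.map_preimage g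
  have hφs : φ.hom.Smooth := by
    have : Smooth (Spec.map φ) := hφ ▸ inferInstance
    exact HasRingHomProperty.Spec_iff.mp this
  let σ : Γ(X, U) ⟶ CommRingCat.of (IsLocalRing.ResidueField A) := Spec.preimage v
  have hσ : Spec.map σ = v := Spec.map_preimage v
  have hcomp : φ ≫ σ = CommRingCat.ofHom (IsLocalRing.residue A) := by
    apply Spec.map_injective
    rw [Spec.map_comp, hσ, hφ, ← h₀, ← hv, Category.assoc]
  -- algebra
  letI : Algebra A Γ(X, U) := φ.hom.toAlgebra
  haveI : Algebra.Smooth A Γ(X, U) := hφs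
  let σa : Γ(X, U) →ₐ[A] A ⧸ IsLocalRing.maximalIdeal A :=
    { σ.hom with
      commutes' := fun a => by
        have := congr(($hcomp).hom a)
        exact this }
  obtain ⟨τ, hτ⟩ := Groth.Agent.Lib.helper19.SmoothHens.smooth_lift A Γ(X, U) A
    (IsLocalRing.maximalIdeal A) σa
  let τc : Γ(X, U) ⟶ CommRingCat.of A := CommRingCat.ofHom τ.toRingHom
  have hτφ : φ ≫ τc = 𝟙 _ := by
    ext a
    exact τ.commutes a
  have hτσ : τc ≫ CommRingCat.ofHom (IsLocalRing.residue A) = σ := by
    ext s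
    exact congr($hτ s)
  refine ⟨Spec.map τc ≫ hU.fromSpec, ?_, ?_⟩
  · rw [Category.assoc]
    show Spec.map τc ≫ g = _
    rw [← hφ, ← Spec.map_comp, hτφ, Spec.map_id]
  · rw [← Category.assoc, ← Spec.map_comp, hτσ, hσ, hv]

end Groth.Agent.Lib.Helper19.SmoothSection
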