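import Mathlib
import Groth.Agent.Lib.helper19.SmoothSection

set_option autoImplicit false
set_option linter.style.haveILetI false
universe u

open CategoryTheory CategoryTheory.Limits AlgebraicGeometry

namespace Groth.Agent.Lib.Helper19.HensSectionUnique

/-- Two sections of an unramified morphism over a local ring agreeing at the residue field
coincide. -/
theorem section_unique (R : Type u) [CommRing R] [IsLocalRing R] {X : Scheme.{u}}
    (f : X ⟶ Spec (CommRingCat.of R)) [FormallyUnramified f] [LocallyOfFiniteType f]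
    (s s' : Spec (CommRingCat.of R) ⟶ X) (hs : s ≫ f = 𝟙 _) (hs' : s' ≫ f = 𝟙 _)
    (h : Spec.map (CommRingCat.ofHom (IsLocalRing.residue R)) ≫ s =
      Spec.map (CommRingCat.ofHom (IsLocalRing.residue R)) ≫ s') : s = s' := by
  let d : X ⟶ pullback f f := pullback.diagonal f
  haveI : IsOpenImmersion d := inferInstance
  let hh : Spec (CommRingCat.of R) ⟶ pullback f f := pullback.lift s s' (by rw [hs, hs'])
  let ρ := Spec.map (CommRingCat.ofHom (IsLocalRing.residue R))
  have hh1 : hh ≫ pullback.fst f f = s := pullback.lift_fst _ _ _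
  have hh2 : hh ≫ pullback.snd f f = s' := pullback.lift_snd _ _ _
  have hd1 : d ≫ pullback.fst f f = 𝟙 _ := pullback.diagonal_fst f
  have hd2 : d ≫ pullback.snd f f = 𝟙 _ := pullback.diagonal_snd f
  have hρ : ρ ≫ hh = (ρ ≫ s) ≫ d := by
    apply pullback.hom_ext
    · rw [Category.assoc, hh1, Category.assoc, hd1, Category.comp_id]
    · rw [Category.assoc, hh2, Category.assoc, hd2, Category.comp_id, h]
  -- the open preimage of the range of the diagonal
  let O : (Spec (CommRingCat.of R)).Opens := hh ⁻¹ᵁ d.opensRange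
  have hcl : IsLocalRing.closedPoint R ∈ O := by
    let pt : Spec (CommRingCat.of (IsLocalRing.ResidueField R)) :=
      IsLocalRing.closedPoint (IsLocalRing.ResidueField R)
    have h1 : ρ pt = IsLocalRing.closedPoint R := by
      apply PrimeSpectrum.ext
      show Ideal.comap (IsLocalRing.residue R) (IsLocalRing.maximalIdeal _) =
        IsLocalRing.maximalIdeal R
      rw [IsLocalRing.maximalIdeal_eq_bot, ← RingHom.ker_eq_comap_bot, IsLocalRing.ker_residue]
    show hh (IsLocalRing.closedPoint R) ∈ d.opensRange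
    rw [← h1]
    have : hh (ρ pt) = d ((ρ ≫ s) pt) := congr($hρ pt)
    rw [this]
    exact ⟨_, rfl⟩
  have hO : O = ⊤ := (IsLocalRing.closedPoint_mem_iff O).mp hcl
  have hrange : Set.range hh ⊆ Set.range d := by
    rintro _ ⟨y, rfl⟩
    have : y ∈ O := hO ▸ trivial
    exact this
  let l := IsOpenImmersion.lift d hh hrange
  have hl : l ≫ d = hh := IsOpenImmersion.lift_fac _ _ _
  have e1 : s = l := by
    have := congr($hl ≫ pullback.fst f f)
    rw [Category.assoc, hd1, Category.comp_id, hh1] at this
    exact this.symm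
  have e2 : s' = l := by
    have := congr($hl ≫ pullback.snd f f)
    rw [Category.assoc, hd2, Category.comp_id, hh2] at this
    exact this.symm
  rw [e1, e2]

/-- S17448. -/
theorem main (R : Type u) [CommRing R]
    [HenselianLocalRing R] {X : Scheme.{u}} (f : X ⟶ Spec (CommRingCat.of R))
    [Etale f]
    (t : Spec (CommRingCat.of (IsLocalRing.ResidueField R)) ⟶ X)
    (ht : t ≫ f = Spec.map (CommRingCat.ofHom (IsLocalRing.residue R))) :
    ∃! s : Spec (CommRingCat.of R) ⟶ X,
      s ≫ f = 𝟙 (Spec (CommRingCat.of R)) ∧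
        Spec.map (CommRingCat.ofHom (IsLocalRing.residue R)) ≫ s = t := by
  obtain ⟨s, hs1, hs2⟩ := Groth.Agent.Lib.Helper19.SmoothSection.main R f t ht
  refine ⟨s, ⟨hs1, hs2⟩, ?_⟩
  rintro s' ⟨hs'1, hs'2⟩
  exact section_unique R f s' s hs'1 hs1 (hs'2.trans hs2.symm)

end Groth.Agent.Lib.Helper19.HensSectionUnique
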