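import Groth.Agent.Lib.Helper29.OmegaUniv
import Groth.Agent.Lib.Helper29.KaehlerIso
import Groth.Agent.Lib.Helper29.OmegaLoc2
import Groth.Agent.Lib.Helper29.FPDict

set_option autoImplicit false
universe u
open CategoryTheory CategoryTheory.Limits AlgebraicGeometry Opposite

namespace Groth.Agent.Lib.Helper19.RestrUniv

variable {X S : Scheme.{u}} (f : X ⟶ S)

section push
variable {U : Scheme.{u}} (j : U ⟶ X) {F : U.Modules} (D : OmegaSh.Der (j ≫ f) F)

/-- pushforward of a derivation along `j`. -/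
noncomputable def pushDer : OmegaSh.Der f ((Scheme.Modules.pushforward j).obj F) where
  d {W} := (D.app (j ⁻¹ᵁ W.unop)).comp (j.app W.unop).hom.toAddMonoidHom
  d_mul {W} a b := by
    change D.app (j ⁻¹ᵁ W.unop) (j.app W.unop (a * b)) = _
    rw [map_mul]
    exact D.d_mul _ _
  d_map {W W'} i s := by
    change D.app (j ⁻¹ᵁ W'.unop) (j.app W'.unop (X.presheaf.map i s)) = _
    have h1 : j.app W'.unop (X.presheaf.map i s) =
        U.presheaf.map ((TopologicalSpace.Opens.map j.base).map i.unop).op (j.app W.unop s) := by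
      have := j.naturality i
      exact congr($this s)
    rw [h1]
    exact D.d_map _ _
  d_app {V} c := by
    change D.app (j ⁻¹ᵁ (f ⁻¹ᵁ V.unop)) (j.app (f ⁻¹ᵁ V.unop) (f.app V.unop c)) = 0
    exact D.d_app (X := V) c

theorem pushDer_app (W : X.Opens) (s : Γ(X, W)) :
    (pushDer f j D).app W s = D.app (j ⁻¹ᵁ W) (j.app W s) := rfl

end push

section restr
variable {U : Scheme.{u}} (j : U ⟶ X) [IsOpenImmersion j] {Ω : X.Modules} (d : OmegaSh.Der f Ω)

/-- restriction of a derivation along an open immersion `j`. -/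
noncomputable def restrDer : OmegaSh.Der (j ≫ f) (Ω.restrict j) where
  d {W} := (d.app (j ''ᵁ W.unop)).comp (j.appIso W.unop).inv.hom.toAddMonoidHom
  d_mul {W} a b := by
    change d.app (j ''ᵁ W.unop) ((j.appIso W.unop).inv (a * b)) = _
    rw [map_mul]
    exact d.d_mul _ _
  d_map {W W'} i s := by
    change d.app (j ''ᵁ W'.unop) ((j.appIso W'.unop).inv (U.presheaf.map i s)) = _
    have h1 : (j.appIso W'.unop).inv (U.presheaf.map i s) =
        X.presheaf.map (j.opensFunctor.op.map i) ((j.appIso W.unop).inv s) :=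
      congr($(j.appIso_inv_naturality i) s)
    rw [h1]
    exact d.d_map _ _
  d_app {V} c := by
    change d.app (j ''ᵁ (j ⁻¹ᵁ (f ⁻¹ᵁ V.unop)))
      ((j.appIso (j ⁻¹ᵁ (f ⁻¹ᵁ V.unop))).inv ((j ≫ f).app V.unop c)) = 0
    have h1 : (j ≫ f).app V.unop c = j.app (f ⁻¹ᵁ V.unop) (f.app V.unop c) := by
      rw [Scheme.Hom.comp_app]; rfl
    have h2 : (j.appIso (j ⁻¹ᵁ (f ⁻¹ᵁ V.unop))).inv (j.app (f ⁻¹ᵁ V.unop) (f.app V.unop c)) =
        X.presheaf.map (homOfLE (j.image_preimage_le (f ⁻¹ᵁ V.unop))).op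
          (f.app V.unop c) :=
      congr($(j.app_appIso_inv (f ⁻¹ᵁ V.unop)) (f.app V.unop c))
    rw [h1, h2]
    have h3 := d.d_map (homOfLE (j.image_preimage_le (f ⁻¹ᵁ V.unop))).op
      (f.app V.unop c)
    have h4 : d.d (X := op (f ⁻¹ᵁ V.unop)) (f.app V.unop c) = 0 := d.d_app (X := V) c
    rw [h4, map_zero] at h3
    exact h3

theorem restrDer_app (W : U.Opens) (s : Γ(U, W)) :
    (restrDer f j d).app W s = d.app (j ''ᵁ W) ((j.appIso W).inv s) := rfl

end restr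

section univ
variable {U : Scheme.{u}} (j : U ⟶ X) [IsOpenImmersion j] {Ω : X.Modules} (d : OmegaSh.Der f Ω)

omit f in
theorem restrictFunctor_map_app {M N : X.Modules} (α : M ⟶ N) (W : U.Opens) :
    ((Scheme.Modules.restrictFunctor j).map α).app W = α.app (j ''ᵁ W) := rfl

theorem isUniversal_restrDer (hd : OmegaSh.IsUniversal d) :
    OmegaSh.IsUniversal (restrDer f j d) := by
  intro F D
  obtain ⟨α, hα, hαu⟩ := hd _ (pushDer f j D)
  refine ⟨((Scheme.Modules.restrictAdjunction j).homEquiv Ω F).symm α, ?_, ?_⟩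
  · apply PresheafOfModules.Derivation.ext
    funext W
    ext s
    have h1 := PresheafOfModules.Derivation.congr_d hα (X := op (j ''ᵁ W.unop))
      ((j.appIso W.unop).inv s)
    change α.app (j ''ᵁ W.unop) (d.app (j ''ᵁ W.unop) ((j.appIso W.unop).inv s)) =
      D.app (j ⁻¹ᵁ (j ''ᵁ W.unop)) (j.app (j ''ᵁ W.unop) ((j.appIso W.unop).inv s)) at h1
    rw [Adjunction.homEquiv_counit]
    change ((Scheme.Modules.restrictAdjunction j).counit.app F).app W.unop
      (α.app (j ''ᵁ W.unop) (d.app (j ''ᵁ W.unop) ((j.appIso W.unop).inv s))) = D.app W.unop s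
    rw [h1, Scheme.Modules.restrictAdjunction_counit_app_app]
    have h2 := D.d_map (eqToHom (j.preimage_image_eq W.unop).symm).op
      (j.app (j ''ᵁ W.unop) ((j.appIso W.unop).inv s))
    have h3 : U.presheaf.map (eqToHom (j.preimage_image_eq W.unop).symm).op
        (j.app (j ''ᵁ W.unop) ((j.appIso W.unop).inv s)) = s :=
      congr($(j.appIso_inv_app_presheafMap W.unop) s)
    rw [h3] at h2
    exact h2.symm
  · intro β hβ
    have h1 : (Scheme.Modules.restrictAdjunction j).homEquiv Ω F β = α := by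
      apply hαu
      apply PresheafOfModules.Derivation.ext
      funext W
      ext s
      rw [Adjunction.homEquiv_unit]
      change β.app (j ⁻¹ᵁ W.unop) (((Scheme.Modules.restrictAdjunction j).unit.app Ω).app W.unop
        (d.app W.unop s)) = D.app (j ⁻¹ᵁ W.unop) (j.app W.unop s)
      rw [Scheme.Modules.restrictAdjunction_unit_app_app]
      have h2 := PresheafOfModules.Derivation.congr_d hβ (X := op (j ⁻¹ᵁ W.unop)) (j.app W.unop s)
      change β.app (j ⁻¹ᵁ W.unop) (d.app (j ''ᵁ (j ⁻¹ᵁ W.unop))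
        ((j.appIso (j ⁻¹ᵁ W.unop)).inv (j.app W.unop s))) = D.app (j ⁻¹ᵁ W.unop) (j.app W.unop s) at h2
      rw [← h2]
      have h3 : (j.appIso (j ⁻¹ᵁ W.unop)).inv (j.app W.unop s) =
          X.presheaf.map (homOfLE (j.image_preimage_le W.unop)).op s :=
        congr($(j.app_appIso_inv W.unop) s)
      rw [h3]
      have h4 := d.d_map (homOfLE (j.image_preimage_le W.unop)).op s
      congr 1
      exact h4.symm
    rw [← h1, Equiv.symm_apply_apply]

end univ

section uniq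
variable {Ω₁ Ω₂ : X.Modules} (d₁ : OmegaSh.Der f Ω₁) (d₂ : OmegaSh.Der f Ω₂)

theorem postcomp_app {F G : X.Modules} (D : OmegaSh.Der f F) (α : F ⟶ G) (W : X.Opens) (s : Γ(X, W)) :
    OmegaSh.Der.app (D.postcomp α.val) W s = α.app W (D.app W s) := rfl

theorem postcomp_comp {F G H : X.Modules} (D : OmegaSh.Der f F) (α : F ⟶ G) (β : G ⟶ H) :
    D.postcomp (α ≫ β).val = (D.postcomp α.val).postcomp β.val := by
  apply PresheafOfModules.Derivation.ext
  funext W
  ext s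
  rfl

theorem postcomp_id {F : X.Modules} (D : OmegaSh.Der f F) :
    D.postcomp (𝟙 F : F ⟶ F).val = D := by
  apply PresheafOfModules.Derivation.ext
  funext W
  ext s
  rfl

theorem exists_iso_of_isUniversal (h₁ : OmegaSh.IsUniversal d₁) (h₂ : OmegaSh.IsUniversal d₂) :
    ∃ φ : Ω₁ ≅ Ω₂, d₁.postcomp φ.hom.val = d₂ := by
  obtain ⟨a, ha, -⟩ := h₁ Ω₂ d₂
  obtain ⟨b, hb, -⟩ := h₂ Ω₁ d₁
  have hab : a ≫ b = 𝟙 Ω₁ := by
    obtain ⟨c, -, hc⟩ := h₁ Ω₁ d₁
    rw [hc (a ≫ b) (by show d₁.postcomp (a ≫ b).val = d₁; rw [postcomp_comp, ha, hb]),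
      hc (𝟙 _) (postcomp_id f d₁)]
  have hba : b ≫ a = 𝟙 Ω₂ := by
    obtain ⟨c, -, hc⟩ := h₂ Ω₂ d₂
    rw [hc (b ≫ a) (by show d₂.postcomp (b ≫ a).val = d₂; rw [postcomp_comp, hb, ha]),
      hc (𝟙 _) (postcomp_id f d₂)]
  exact ⟨⟨a, b, hab, hba⟩, ha⟩

end uniq

section bridge
open Groth.Agent.Lib.Helper29 Groth.Agent.Lib.Helper29.OmegaLoc

variable {U : Scheme.{u}} (j : U ⟶ X) [IsOpenImmersion j] [QuasiSeparated (j ≫ f)]
  {Ω : X.Modules} (d : OmegaSh.Der f Ω) (hd : OmegaSh.IsUniversal d)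

include hd in
theorem exists_restrict_iso : ∃ φ : Ω.restrict j ≅ Omega.sheaf (j ≫ f),
    (restrDer f j d).postcomp φ.hom.val = OmegaSh.dOmega (j ≫ f) :=
  exists_iso_of_isUniversal (j ≫ f) _ _ (isUniversal_restrDer f j d hd)
    (OmegaUniv.isUniversal_dOmega (j ≫ f))

include hd in
theorem exists_sections_equiv_image {W : U.Opens} (hW : IsAffineOpen W) {V : S.Opens}
    (hV : IsAffineOpen V) (e' : W ≤ (j ≫ f) ⁻¹ᵁ V) (e : j ''ᵁ W ≤ f ⁻¹ᵁ V) :
    letI := alg f e
    ∃ Φ : Γ(Ω, j ''ᵁ W) ≃+ Ω[Γ(X, j ''ᵁ W)⁄Γ(S, V)],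
      (∀ (b : Γ(X, j ''ᵁ W)) (x : Γ(Ω, j ''ᵁ W)), Φ (b • x) = b • Φ x) ∧
      ∀ s : Γ(X, j ''ᵁ W), Φ (d.app (j ''ᵁ W) s) = KaehlerDifferential.D Γ(S, V) Γ(X, j ''ᵁ W) s := by
  letI := alg f e
  letI := alg (j ≫ f) e'
  obtain ⟨φ, hφ⟩ := exists_restrict_iso f j d hd
  obtain ⟨Φ₀, hΦ₀s, hΦ₀d⟩ := OmegaCan.exists_sections_equiv_can (j ≫ f) hW hV e'
  let θ : Γ(U, W) ≃+* Γ(X, j ''ᵁ W) := (j.appIso W).symm.commRingCatIsoToRingEquiv
  have hθ : ∀ r, θ r = (j.appIso W).inv r := fun _ => rfl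
  have hθs : ∀ b, θ.symm b = (j.appIso W).hom b := fun _ => rfl
  have hαθ : ∀ a : Γ(S, V), θ (algebraMap Γ(S, V) Γ(U, W) a) =
      algebraMap Γ(S, V) Γ(X, j ''ᵁ W) ((RingEquiv.refl Γ(S, V)) a) := by
    intro a
    change (j.appIso W).inv (((j ≫ f).appLE V W e') a) = (f.appLE V (j ''ᵁ W) e) a
    have h1 : (j ≫ f).appLE V W e' = f.appLE V (j ''ᵁ W) e ≫ (j.appIso W).hom := by
      rw [Scheme.Hom.appIso_hom', Scheme.Hom.appLE_comp_appLE]
    rw [h1]
    exact congr($((j.appIso W).hom_inv_id) ((f.appLE V (j ''ᵁ W) e) a))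
  obtain ⟨K, hKs, hKd⟩ := KaehlerIso.exists_equiv (RingEquiv.refl Γ(S, V)) θ hαθ
  let φW : Γ(Ω, j ''ᵁ W) ≃+ Γ(Omega.sheaf (j ≫ f), W) :=
    { toFun := fun x => φ.hom.app W x
      invFun := fun y => φ.inv.app W y
      left_inv := fun x => by
        change (φ.hom.app W ≫ φ.inv.app W) x = x
        rw [← Scheme.Modules.Hom.comp_app, Iso.hom_inv_id]
        rfl
      right_inv := fun y => by
        change (φ.inv.app W ≫ φ.hom.app W) y = y
        rw [← Scheme.Modules.Hom.comp_app, Iso.inv_hom_id]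
        rfl
      map_add' := fun x y => map_add _ x y }
  have hφs : ∀ (r : Γ(U, W)) (x : Γ(Ω, j ''ᵁ W)), φW (θ r • x) = r • φW x := by
    intro r x
    exact Scheme.Modules.Hom.app_smul φ.hom r (show Γ(Ω.restrict j, W) from x)
  have hφd : ∀ r : Γ(U, W), φW (d.app (j ''ᵁ W) (θ r)) = OmegaSh.dSect (j ≫ f) W r := by
    intro r
    exact PresheafOfModules.Derivation.congr_d hφ (X := op W) r
  refine ⟨(φW.trans Φ₀).trans K, ?_, ?_⟩
  · intro b x
    change K (Φ₀ (φW (b • x))) = b • K (Φ₀ (φW x))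
    have hb : b = θ (θ.symm b) := (θ.apply_symm_apply b).symm
    conv_lhs => rw [hb]
    rw [hφs, hΦ₀s, hKs, θ.apply_symm_apply]
  · intro s
    change K (Φ₀ (φW (d.app (j ''ᵁ W) s))) = _
    have hs : s = θ (θ.symm s) := (θ.apply_symm_apply s).symm
    conv_lhs => rw [hs]
    rw [hφd, hΦ₀d, hKd, θ.apply_symm_apply]

end bridge

section affine
open Groth.Agent.Lib.Helper29 Groth.Agent.Lib.Helper29.OmegaLoc

variable {Ω : X.Modules} (d : OmegaSh.Der f Ω) (hd : OmegaSh.IsUniversal d)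
  {U : X.Opens} (hU : IsAffineOpen U) {V : S.Opens} (hV : IsAffineOpen V) (e : U ≤ f ⁻¹ᵁ V)

include hV e in
theorem quasiSeparated_fromSpec_comp : QuasiSeparated (hU.fromSpec ≫ f) := by
  letI := alg f e
  rw [← sq f hU hV e]
  infer_instance

include hd hU hV in
/-- **Sections of any receptacle of a universal derivation over an affine pair are the Kähler differentials.** -/
theorem exists_sections_equiv : letI := alg f e
    ∃ Φ : Γ(Ω, U) ≃+ Ω[Γ(X, U)⁄Γ(S, V)],
      (∀ (b : Γ(X, U)) (x : Γ(Ω, U)), Φ (b • x) = b • Φ x) ∧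
      ∀ s : Γ(X, U), Φ (d.app U s) = KaehlerDifferential.D Γ(S, V) Γ(X, U) s := by
  haveI := quasiSeparated_fromSpec_comp f hU hV e
  have himg : hU.fromSpec ''ᵁ ⊤ = U := by
    rw [Scheme.Hom.image_top_eq_opensRange, hU.opensRange_fromSpec]
  have key : ∀ (U' : X.Opens) (h : hU.fromSpec ''ᵁ ⊤ = U') (e'' : U' ≤ f ⁻¹ᵁ V),
      letI := alg f e''
      ∃ Φ : Γ(Ω, U') ≃+ Ω[Γ(X, U')⁄Γ(S, V)],
        (∀ (b : Γ(X, U')) (x : Γ(Ω, U')), Φ (b • x) = b • Φ x) ∧
        ∀ s : Γ(X, U'), Φ (d.app U' s) = KaehlerDifferential.D Γ(S, V) Γ(X, U') s := by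
    rintro _ rfl e''
    refine exists_sections_equiv_image f hU.fromSpec d hd (isAffineOpen_top _) hV ?_ e''
    intro x _
    exact e'' ⟨x, trivial, rfl⟩
  exact key U himg e

include hd in
theorem isQuasicoherent : Ω.IsQuasicoherent := by
  refine Groth.Agent.Lib.Helper17.CohKer.isQuasicoherent_of_restrict_fromSpec Ω
    (fun i : OmegaUniv.Idx f => i.1.1) ?_ (fun i => i.2.1) (fun i => ?_)
  · refine TopologicalSpace.IsOpenCover.mk (eq_top_iff.2 ?_)
    intro x _
    obtain ⟨U, V, hU, hV, hx, hUV⟩ := exists_affine_pair f x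
    exact TopologicalSpace.Opens.mem_iSup.2 ⟨⟨(U, V), hU, hV, hUV⟩, hx⟩
  · haveI := quasiSeparated_fromSpec_comp f i.2.1 i.2.2.1 i.2.2.2
    obtain ⟨φ, -⟩ := exists_restrict_iso f i.2.1.fromSpec d hd
    exact (SheafOfModules.isQuasicoherent.{u} (Spec Γ(X, i.1.1)).ringCatSheaf).prop_of_iso φ.symm
      (inferInstance : (Omega.sheaf (i.2.1.fromSpec ≫ f)).IsQuasicoherent)

include hd hU hV e in
theorem finite_sections [LocallyOfFiniteType f] : Module.Finite Γ(X, U) Γ(Ω, U) := by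
  letI := alg f e
  obtain ⟨Φ, hΦ, -⟩ := exists_sections_equiv f d hd hU hV e
  haveI : Algebra.FiniteType Γ(S, V) Γ(X, U) := by
    have := LocallyOfFiniteType.finiteType_appLE f hV hU e
    exact this
  let L : Γ(Ω, U) ≃ₗ[Γ(X, U)] Ω[Γ(X, U)⁄Γ(S, V)] := { Φ with map_smul' := hΦ }
  exact Module.Finite.equiv L.symm

include hd hU hV e in
theorem fp_sections [LocallyOfFinitePresentation f] :
    Module.FinitePresentation Γ(X, U) Γ(Ω, U) := by
  letI := alg f e
  obtain ⟨Φ, hΦ, -⟩ := exists_sections_equiv f d hd hU hV e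
  haveI : Algebra.FinitePresentation Γ(S, V) Γ(X, U) := by
    have := LocallyOfFinitePresentation.finitePresentation_appLE f hV hU e
    exact this
  let L : Γ(Ω, U) ≃ₗ[Γ(X, U)] Ω[Γ(X, U)⁄Γ(S, V)] := { Φ with map_smul' := hΦ }
  exact Module.FinitePresentation.of_equiv L.symm

include hd hU hV in
theorem subsingleton_iff :
    Subsingleton Γ(Ω, U) ↔ (f.appLE V U e).hom.FormallyUnramified := by
  letI := alg f e
  obtain ⟨Φ, -⟩ := exists_sections_equiv f d hd hU hV e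
  have h1 : (f.appLE V U e).hom.FormallyUnramified ↔ Algebra.FormallyUnramified Γ(S, V) Γ(X, U) :=
    Iff.rfl
  rw [h1, Algebra.formallyUnramified_iff]
  exact Φ.toEquiv.subsingleton_congr

include hd in
theorem isOpenCover_idx : TopologicalSpace.IsOpenCover (fun i : OmegaUniv.Idx f => i.1.1) := by
  refine TopologicalSpace.IsOpenCover.mk (eq_top_iff.2 ?_)
  intro x _
  obtain ⟨U, V, hU, hV, hx, hUV⟩ := exists_affine_pair f x
  exact TopologicalSpace.Opens.mem_iSup.2 ⟨⟨(U, V), hU, hV, hUV⟩, hx⟩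

include hd in
theorem isFiniteType [LocallyOfFiniteType f] :
    SheafOfModules.IsFiniteType.{u} (R := X.ringCatSheaf) Ω := by
  haveI := isQuasicoherent f d hd
  exact Groth.Agent.Lib.Helper17.FinTypeConv.isFiniteType_of_finite_sections Ω
    (fun i : OmegaUniv.Idx f => i.1.1) (isOpenCover_idx f d hd) (fun i => i.2.1)
    (fun i => finite_sections f d hd i.2.1 i.2.2.1 i.2.2.2)

include hd in
theorem isFinitePresentation [LocallyOfFinitePresentation f] :
    SheafOfModules.IsFinitePresentation.{u} (R := X.ringCatSheaf) Ω := by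
  haveI := isQuasicoherent f d hd
  exact Groth.Agent.Lib.Helper29.FPDict.isFinitePresentation_of_fp_cover Ω
    (fun i : OmegaUniv.Idx f => i.1.1) (isOpenCover_idx f d hd) (fun i => i.2.1)
    (fun i => fp_sections f d hd i.2.1 i.2.2.1 i.2.2.2)

end affine

end Groth.Agent.Lib.Helper19.RestrUniv
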