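import Groth.Agent.Lib.helper19.RestrUniv

set_option autoImplicit false
universe u
open CategoryTheory CategoryTheory.Limits AlgebraicGeometry Opposite

namespace Groth.Agent.Lib.Helper19.RestrUniv2

open Groth.Agent.Lib.Helper19.RestrUniv

variable {X S X' S' : Scheme.{u}} (f : X ⟶ S) (f' : X' ⟶ S') (h : X' ⟶ X) (b : S' ⟶ S)
  (hsq : f' ≫ b = h ≫ f)

theorem der_comp_eq_zero {F : X'.Modules} (D : OmegaSh.Der f' F) (g : X' ⟶ S) (hg : f' ≫ b = g)
    (V : S.Opens) (c : Γ(S, V)) : D.app (g ⁻¹ᵁ V) (g.app V c) = 0 := by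
  subst hg
  exact D.d_app (X := op (b ⁻¹ᵁ V)) (b.app V c)

/-- pushforward of a derivation along a commutative square. -/
noncomputable def pushDerSq {F : X'.Modules} (D : OmegaSh.Der f' F) :
    OmegaSh.Der f ((Scheme.Modules.pushforward h).obj F) where
  d {W} := (D.app (h ⁻¹ᵁ W.unop)).comp (h.app W.unop).hom.toAddMonoidHom
  d_mul {W} a b := by
    change D.app (h ⁻¹ᵁ W.unop) (h.app W.unop (a * b)) = _
    rw [map_mul]
    exact D.d_mul _ _
  d_map {W W'} i s := by
    change D.app (h ⁻¹ᵁ W'.unop) (h.app W'.unop (X.presheaf.map i s)) = _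
    have h1 : h.app W'.unop (X.presheaf.map i s) =
        X'.presheaf.map ((TopologicalSpace.Opens.map h.base).map i.unop).op (h.app W.unop s) := by
      have := h.naturality i
      exact congr($this s)
    rw [h1]
    exact D.d_map _ _
  d_app {V} c := der_comp_eq_zero f' b D (h ≫ f) hsq V.unop c

theorem pushDerSq_app {F : X'.Modules} (D : OmegaSh.Der f' F) (W : X.Opens) (s : Γ(X, W)) :
    (pushDerSq f f' h b hsq D).app W s = D.app (h ⁻¹ᵁ W) (h.app W s) := rfl

variable {Ω : X.Modules} (d : OmegaSh.Der f Ω) {Ω' : X'.Modules} (d' : OmegaSh.Der f' Ω')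

theorem isDiffCompat_iff (c : (Scheme.Modules.pullback h).obj Ω ⟶ Ω') :
    OmegaSh.IsDiffCompat h d d' c ↔
      d.postcomp (((Scheme.Modules.pullbackPushforwardAdjunction h).homEquiv Ω Ω') c).val =
        pushDerSq f f' h b hsq d' := by
  constructor
  · intro hc
    apply PresheafOfModules.Derivation.ext
    funext W
    ext s
    rw [Adjunction.homEquiv_unit]
    exact hc W.unop s
  · intro hc U s
    have h1 := PresheafOfModules.Derivation.congr_d hc (X := op U) s
    rw [Adjunction.homEquiv_unit] at h1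
    exact h1

include hsq in
theorem existsUnique_diffCompat (hd : OmegaSh.IsUniversal d) :
    ∃! c : (Scheme.Modules.pullback h).obj Ω ⟶ Ω', OmegaSh.IsDiffCompat h d d' c := by
  obtain ⟨α, hα, hαu⟩ := hd _ (pushDerSq f f' h b hsq d')
  refine ⟨((Scheme.Modules.pullbackPushforwardAdjunction h).homEquiv Ω Ω').symm α, ?_, ?_⟩
  · change OmegaSh.IsDiffCompat h d d' _
    rw [isDiffCompat_iff f f' h b hsq, Equiv.apply_symm_apply]
    exact hα
  · intro c hc
    change OmegaSh.IsDiffCompat h d d' c at hc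
    rw [isDiffCompat_iff f f' h b hsq] at hc
    rw [← hαu _ hc, Equiv.symm_apply_apply]

end Groth.Agent.Lib.Helper19.RestrUniv2
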