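import Groth.Agent.Lib.helper19.RestrUniv
import Groth.Agent.Lib.Helper1.LocPerf2
import Groth.Agent.Lib.Helper17.FlatDict
import Groth.Agent.S1488

set_option autoImplicit false
universe u
open CategoryTheory CategoryTheory.Limits AlgebraicGeometry Opposite

namespace Groth.Agent.Lib.Helper19.RestrUniv3

open Groth.Agent.Lib.Helper19.RestrUniv Groth.Agent.Lib.Helper29 Groth.Agent.Lib.Helper29.OmegaLoc
open Groth.Agent.Lib.Helper17.ModStalk

variable {X S : Scheme.{u}}

/-- a quasi-coherent module whose sections over the members of an affine open cover are finite projective is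
finite locally free. -/
theorem isFinLocFree_of_projective_sections (M : X.Modules) [M.IsQuasicoherent] {ι : Type u}
    (U : ι → X.Opens) (hcov : TopologicalSpace.IsOpenCover U) (hU : ∀ i, IsAffineOpen (U i))
    (hfin : ∀ i, Module.Finite Γ(X, U i) Γ(M, U i))
    (hproj : ∀ i, Module.Projective Γ(X, U i) Γ(M, U i)) : FlatMod.IsFinLocFree M := by
  haveI : SheafOfModules.IsFinitePresentation.{u} (R := X.ringCatSheaf) M := by
    refine FPDict.isFinitePresentation_of_fp_cover M U hcov hU (fun i => ?_)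
    haveI := hfin i
    haveI := hproj i
    exact Module.finitePresentation_of_projective _ _
  refine Groth.Agent.Lib.Helper1.LocPerf.isFinLocFree_of_flat_stalks M (fun x => ?_)
  obtain ⟨i, hxi⟩ : ∃ i, x ∈ U i := by
    have : x ∈ (⨆ i, U i : X.Opens) := by rw [hcov.iSup_eq_top]; trivial
    exact TopologicalSpace.Opens.mem_iSup.1 this
  haveI := hproj i
  have hflat : Module.Flat Γ(X, U i) Γ(M, U i) := inferInstance
  have h1 := Groth.Agent.Lib.Helper17.FlatDict.flat_stalk_of_flat_sections M (hU i) Γ(X, U i) hflat x hxi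
  letI := moduleStalkSections M (U i) x hxi
  letI := X.presheaf.algebra_section_stalk ⟨x, hxi⟩
  haveI := (hU i).isLocalization_stalk ⟨x, hxi⟩
  haveI : IsScalarTower Γ(X, U i) (X.presheaf.stalk x) (M.presheaf.stalk x) :=
    IsScalarTower.of_compHom _ _ _
  exact (Module.flat_iff_of_isLocalization (X.presheaf.stalk x)
    ((hU i).primeIdealOf ⟨x, hxi⟩).asIdeal.primeCompl (M.presheaf.stalk x)).2 h1

/-- S5018. -/
theorem isFinLocFree_of_formallySmooth (f : X ⟶ S) (hf : MoreMor.IsFormallySmoothHom f)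
    [LocallyOfFiniteType f] (Ω : X.Modules) (d : OmegaSh.Der f Ω) (hd : OmegaSh.IsUniversal d) :
    FlatMod.IsFinLocFree Ω := by
  haveI := isQuasicoherent f d hd
  refine isFinLocFree_of_projective_sections Ω (fun i : OmegaUniv.Idx f => i.1.1)
    (isOpenCover_idx f d hd) (fun i => i.2.1)
    (fun i => finite_sections f d hd i.2.1 i.2.2.1 i.2.2.2) (fun i => ?_)
  letI := alg f i.2.2.2
  obtain ⟨Φ, hΦ, -⟩ := exists_sections_equiv f d hd i.2.1 i.2.2.1 i.2.2.2
  haveI : Algebra.FormallySmooth Γ(S, i.1.2) Γ(X, i.1.1) :=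
    Groth.Agent.S1488.W1.formallySmooth_of_lifting hf i.1.1 i.1.2 i.2.1 i.2.2.1 i.2.2.2
  let L : Γ(Ω, i.1.1) ≃ₗ[Γ(X, i.1.1)] Ω[Γ(X, i.1.1)⁄Γ(S, i.1.2)] := { Φ with map_smul' := hΦ }
  exact Module.Projective.of_equiv L.symm

end Groth.Agent.Lib.Helper19.RestrUniv3
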