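import Mathlib

set_option autoImplicit false
set_option linter.style.haveILetI false
universe u

open IntermediateField

namespace Groth.Agent.Lib.Helper19.PI

/-- A finite Galois extension `L/k` splitting the minimal polynomials of all separable elements of
finitely many finite extensions `K i` of `k`. -/
theorem exists_galois_splitting (k : Type u) [Field k] {ι : Type} [Finite ι] (K : ι → Type u)
    [∀ i, Field (K i)] [∀ i, Algebra k (K i)] [∀ i, FiniteDimensional k (K i)] :
    ∃ (L : Type u) (_ : Field L) (_ : Algebra k L), FiniteDimensional k L ∧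
      Algebra.IsSeparable k L ∧ Normal k L ∧
      ∀ i (y : K i), IsSeparable k y → ((minpoly k y).map (algebraMap k L)).Splits := by
  let Ω := SeparableClosure k
  let E : ∀ i, IntermediateField k (K i) := fun i => separableClosure k (K i)
  let σ : ∀ i, E i →ₐ[k] Ω := fun i => IsSepClosed.lift
  let L : IntermediateField k Ω := ⨆ i, normalClosure k (E i) Ω
  haveI : Normal k L := normal_iSup k Ω _
  haveI : FiniteDimensional k L := finiteDimensional_iSup_of_finite
  haveI : Algebra.IsSeparable k L := Algebra.isSeparable_tower_bot_of_isSeparable k L Ω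
  refine ⟨L, inferInstance, inferInstance, inferInstance, inferInstance, inferInstance, ?_⟩
  intro i y hy
  let y' : E i := ⟨y, mem_separableClosure_iff.mpr hy⟩
  have hmem : σ i y' ∈ L := by
    have h1 : σ i y' ∈ (σ i).fieldRange := ⟨y', rfl⟩
    have h2 : (σ i).fieldRange ≤ normalClosure k (E i) Ω := (σ i).fieldRange_le_normalClosure
    exact (le_iSup (fun i => normalClosure k (E i) Ω) i) (h2 h1)
  let l : L := ⟨σ i y', hmem⟩
  have hmin : minpoly k l = minpoly k y := by
    have h1 : minpoly k l = minpoly k (σ i y') := (minpoly_eq l)
    have h2 : minpoly k (σ i y') = minpoly k y' := minpoly.algHom_eq (σ i) (σ i).injective y'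
    have h3 : minpoly k y' = minpoly k y := minpoly_eq y'
    rw [h1, h2, h3]
  rw [← hmin]
  exact Normal.splits inferInstance l

end Groth.Agent.Lib.Helper19.PI
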