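import Mathlib

set_option autoImplicit false
set_option linter.style.haveILetI false

open IntermediateField

namespace Groth.Agent.Lib.Helper19.PI

/-- Field theory: if `L/k` splits the minimal polynomials of all `k`-separable elements of the
algebraic extension `K/k`, then any compositum `M` of `K` and `L` is purely inseparable over `L`. -/
theorem isPurelyInseparable_of_compositum
    (k K L M : Type*) [Field k] [Field K] [Field L] [Field M]
    [Algebra k K] [Algebra k L] [Algebra K M] [Algebra L M] [Algebra k M]
    [IsScalarTower k K M] [IsScalarTower k L M]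
    [Algebra.IsAlgebraic k K]
    (hsplit : ∀ y : K, IsSeparable k y → ((minpoly k y).map (algebraMap k L)).Splits)
    (hgen : IntermediateField.adjoin L (Set.range (algebraMap K M)) = ⊤) :
    IsPurelyInseparable L M := by
  let q := ringExpChar k
  haveI : ExpChar k q := ringExpChar.expChar k
  haveI : ExpChar L q := expChar_of_injective_algebraMap (algebraMap k L).injective q
  haveI : ExpChar K q := expChar_of_injective_algebraMap (algebraMap k K).injective q
  haveI : ExpChar (separableClosure k K) q :=
    expChar_of_injective_algebraMap (algebraMap k (separableClosure k K)).injective q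
  haveI : IsPurelyInseparable (separableClosure k K) K := separableClosure.isPurelyInseparable k K
  have key : ∀ y : K, ∃ n : ℕ, (algebraMap K M y) ^ q ^ n ∈ (algebraMap L M).range := by
    intro y
    obtain ⟨n, y', hy'⟩ := IsPurelyInseparable.pow_mem (separableClosure k K) q y
    have hsep : IsSeparable k y'.1 := mem_separableClosure_iff.mp y'.2
    have hint : IsIntegral k y'.1 := hsep.isIntegral
    refine ⟨n, ?_⟩
    have hz : algebraMap K M y'.1 ∈ (minpoly k y'.1).rootSet M := by
      rw [Polynomial.mem_rootSet]
      refine ⟨minpoly.ne_zero hint, ?_⟩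
      rw [Polynomial.aeval_algebraMap_apply, minpoly.aeval, map_zero]
    rw [← (hsplit _ hsep).image_rootSet_algebraMap (B := M)] at hz
    obtain ⟨l, -, hl⟩ := hz
    refine ⟨l, ?_⟩
    rw [hl, ← map_pow]
    congr 1
  rw [isPurelyInseparable_iff_perfectClosure_eq_top, eq_top_iff, ← hgen, adjoin_le_iff]
  rintro _ ⟨y, rfl⟩
  exact (mem_perfectClosure_iff_pow_mem q).mpr (key y)

end Groth.Agent.Lib.Helper19.PI
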