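import Mathlib
import Groth.Agent.Lib.helper19.PI1

set_option autoImplicit false
set_option linter.style.haveILetI false
universe u

open IntermediateField Polynomial TensorProduct

namespace Groth.Agent.Lib.Helper19.PI

section

variable {R : Type u} [CommRing R] {A : Type u} [CommRing A] [Algebra R A]
  {R' : Type u} [CommRing R'] [Algebra R R']
  (p : Ideal R) [p.IsPrime] (q : Ideal A) [q.IsPrime] [q.LiesOver p]
  (p' : Ideal R') [p'.IsPrime] [p'.LiesOver p]
  (Q : Ideal (R' ⊗[R] A)) [Q.IsPrime] [Q.LiesOver p']
  (hQq : Q.comap Algebra.TensorProduct.includeRight.toRingHom = q)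

include hQq in
/-- Pure inseparability of the residue field extension `κ(Q)/κ(p')` for a prime `Q` of `R' ⊗ A` over
`p'` and `q`, when `κ(p')` is isomorphic over `κ(p)` to a field splitting the separable part of
`κ(q)/κ(p)`. -/
theorem purelyInseparable_residue
    [Algebra (Localization.AtPrime p) (Localization.AtPrime q)]
    [Localization.AtPrime.IsLiesOverAlgebra p q]
    [Algebra.IsAlgebraic p.ResidueField q.ResidueField]
    (L : Type u) [Field L] [Algebra p.ResidueField L]
    (hsplit : ∀ y : q.ResidueField, IsSeparable p.ResidueField y →
      ((minpoly p.ResidueField y).map (algebraMap p.ResidueField L)).Splits)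
    (ψ : p'.ResidueField →+* L) (hψ : Function.Bijective ψ)
    (hcompat : ψ.comp (Ideal.ResidueField.map p p' (algebraMap R R') (p'.over_def p)) =
      algebraMap p.ResidueField L) :
    letI := (Ideal.ResidueField.map p' Q (algebraMap R' (R' ⊗[R] A)) (Q.over_def p')).toAlgebra
    IsPurelyInseparable p'.ResidueField Q.ResidueField := by
  let k := p.ResidueField
  let K := q.ResidueField
  let L' := p'.ResidueField
  let M := Q.ResidueField
  let T := R' ⊗[R] A
  let b : k →+* L' := Ideal.ResidueField.map p p' (algebraMap R R') (p'.over_def p)
  let c : K →+* M := Ideal.ResidueField.map q Q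
    Algebra.TensorProduct.includeRight.toRingHom hQq.symm
  let d : L' →+* M := Ideal.ResidueField.map p' Q (algebraMap R' T) (Q.over_def p')
  have hsq : c.comp (algebraMap k K) = d.comp b := by
    apply Ideal.ResidueField.ringHom_ext
    ext r
    simp only [RingHom.comp_apply]
    have h1 : algebraMap k K (algebraMap R k r) = algebraMap A K (algebraMap R A r) := by
      rw [← IsScalarTower.algebraMap_apply R k K, ← IsScalarTower.algebraMap_apply R A K]
    rw [h1]
    show Ideal.ResidueField.map q Q _ _ (algebraMap A K (algebraMap R A r)) =
      Ideal.ResidueField.map p' Q _ _ (Ideal.ResidueField.map p p' _ _ (algebraMap R k r))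
    rw [Ideal.ResidueField.map_algebraMap, Ideal.ResidueField.map_algebraMap,
      Ideal.ResidueField.map_algebraMap]
    congr 1
    show (Algebra.TensorProduct.includeRight : A →ₐ[R] T) (algebraMap R A r) = _
    rw [AlgHom.commutes, IsScalarTower.algebraMap_apply R R' T]
  letI : Algebra k L' := b.toAlgebra
  letI : Algebra K M := c.toAlgebra
  letI : Algebra L' M := d.toAlgebra
  letI : Algebra k M := (d.comp b).toAlgebra
  haveI : IsScalarTower k L' M := IsScalarTower.of_algebraMap_eq' rfl
  haveI : IsScalarTower k K M := IsScalarTower.of_algebraMap_eq' hsq.symm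
  show IsPurelyInseparable L' M
  refine isPurelyInseparable_of_compositum k K L' M ?_ ?_
  · intro y hy
    have h1 := (hsplit y hy).map (RingEquiv.ofBijective ψ hψ).symm.toRingHom
    rw [Polynomial.map_map] at h1
    convert h1 using 2
    apply RingHom.ext
    intro z
    show b z = (RingEquiv.ofBijective ψ hψ).symm (algebraMap k L z)
    rw [RingEquiv.eq_symm_apply, ← hcompat]
    rfl
  · rw [eq_top_iff]
    intro m _
    have hT : ∀ t : T, algebraMap T M t ∈ IntermediateField.adjoin L' (Set.range (algebraMap K M)) := by
      intro t
      induction t using TensorProduct.induction_on with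
      | zero => rw [map_zero]; exact zero_mem _
      | tmul r' a =>
        have h1 : (r' ⊗ₜ[R] a : T) = algebraMap R' T r' *
            (Algebra.TensorProduct.includeRight : A →ₐ[R] T) a := by
          rw [Algebra.TensorProduct.algebraMap_apply, Algebra.TensorProduct.includeRight_apply,
            Algebra.TensorProduct.tmul_mul_tmul, mul_one, one_mul]
          rfl
        rw [h1, map_mul]
        refine mul_mem ?_ ?_
        · have : algebraMap T M (algebraMap R' T r') = algebraMap L' M (algebraMap R' L' r') :=
            (Ideal.ResidueField.map_algebraMap p' Q (algebraMap R' T) (Q.over_def p') r').symm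
          rw [this]
          exact IntermediateField.algebraMap_mem _ _
        · have : algebraMap T M ((Algebra.TensorProduct.includeRight : A →ₐ[R] T) a) =
              algebraMap K M (algebraMap A K a) :=
            (Ideal.ResidueField.map_algebraMap q Q
              Algebra.TensorProduct.includeRight.toRingHom hQq.symm a).symm
          rw [this]
          exact IntermediateField.subset_adjoin _ _ ⟨_, rfl⟩
      | add x y hx hy => rw [map_add]; exact add_mem hx hy
    obtain ⟨x, y, -, rfl⟩ := IsFractionRing.div_surjective (A := T ⧸ Q) m
    obtain ⟨x, rfl⟩ := Ideal.Quotient.mk_surjective x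
    obtain ⟨y, rfl⟩ := Ideal.Quotient.mk_surjective y
    exact div_mem (hT x) (hT y)

end

end Groth.Agent.Lib.Helper19.PI
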