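import Mathlib

set_option autoImplicit false
set_option linter.style.haveILetI false
universe u

open TensorProduct

namespace Groth.Agent.Lib.Helper19.PI

/-- For an étale (quasi-finite) `R`-algebra `R₀`, only finitely many primes of `R₀ ⊗ A` lie over a
given prime of `A`. -/
theorem finite_primes_over_right (R : Type u) [CommRing R] (A : Type u) [CommRing A] [Algebra R A]
    (R₀ : Type u) [CommRing R₀] [Algebra R R₀] [Algebra.QuasiFinite R R₀] (q : Ideal A) :
    {Q : Ideal (R₀ ⊗[R] A) | Q.IsPrime ∧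
      Q.comap Algebra.TensorProduct.includeRight.toRingHom = q}.Finite := by
  let e : A ⊗[R] R₀ ≃ₐ[R] R₀ ⊗[R] A := Algebra.TensorProduct.comm R A R₀
  let Φ : Ideal (R₀ ⊗[R] A) → Ideal (A ⊗[R] R₀) := fun Q => Q.comap e.toRingHom
  have hfin : (q.primesOver (A ⊗[R] R₀)).Finite := Algebra.QuasiFinite.finite_primesOver q
  refine Set.Finite.of_finite_image (f := Φ) (hfin.subset ?_) ?_
  · rintro _ ⟨Q, ⟨hQ, hQq⟩, rfl⟩
    refine ⟨Ideal.comap_isPrime _ _, ⟨?_⟩⟩
    rw [← hQq]
    ext a
    simp only [Ideal.under_def, Ideal.mem_comap, Φ]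
    have : e.toRingHom (algebraMap A (A ⊗[R] R₀) a) =
        (Algebra.TensorProduct.includeRight : A →ₐ[R] R₀ ⊗[R] A) a := by
      show e (a ⊗ₜ 1) = 1 ⊗ₜ a
      exact Algebra.TensorProduct.comm_tmul R a 1
    rw [this]
    rfl
  · intro Q _ Q' _ h
    have h' : Q.comap e.toRingHom = Q'.comap e.toRingHom := h
    ext x
    have hx : x = e (e.symm x) := (e.apply_symm_apply x).symm
    rw [hx]
    exact (Ideal.ext_iff.mp h') (e.symm x)

end Groth.Agent.Lib.Helper19.PI
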