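import Mathlib
import Groth.Agent.Lib.helper19.PI2
import Groth.Agent.Lib.helper19.PI4
import Groth.Agent.Lib.helper19.PI5
import Groth.Agent.Lib.helper19.PI6
import Groth.Agent.Lib.helper19.QFL2

set_option autoImplicit false
set_option linter.style.haveILetI false
universe u

open IntermediateField Polynomial TensorProduct

namespace Groth.Agent.Lib.Helper19.PI

open Groth.Agent.Lib.Helper19.QFL

section Cancel

variable (R : Type u) [CommRing R] (R₀ : Type u) [CommRing R₀] [Algebra R R₀]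
  (R' : Type u) [CommRing R'] [Algebra R₀ R'] [Algebra R R'] [IsScalarTower R R₀ R']
  (A : Type u) [CommRing A] [Algebra R A]

/-- The cancellation isomorphism. -/
noncomputable abbrev ε : R' ⊗[R₀] (R₀ ⊗[R] A) ≃ₐ[R'] R' ⊗[R] A :=
  Algebra.TensorProduct.cancelBaseChange R R₀ R' R' A

theorem ε_symm_includeRight (a : A) :
    (ε R R₀ R' A).symm ((1 : R') ⊗ₜ[R] a) = (1 : R') ⊗ₜ[R₀] ((1 : R₀) ⊗ₜ[R] a) :=
  Algebra.TensorProduct.cancelBaseChange_symm_tmul R R₀ R' R' A 1 a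

theorem ε_includeRight (a : A) :
    (ε R R₀ R' A) ((1 : R') ⊗ₜ[R₀] ((1 : R₀) ⊗ₜ[R] a)) = (1 : R') ⊗ₜ[R] a := by
  rw [← ε_symm_includeRight, AlgEquiv.apply_symm_apply]

theorem comap_symm_includeRight (Q' : Ideal (R' ⊗[R₀] (R₀ ⊗[R] A))) :
    (Q'.comap (ε R R₀ R' A).symm.toRingHom).comap
      (Algebra.TensorProduct.includeRight : A →ₐ[R] R' ⊗[R] A).toRingHom =
    (Q'.comap (Algebra.TensorProduct.includeRight :
      R₀ ⊗[R] A →ₐ[R₀] R' ⊗[R₀] (R₀ ⊗[R] A)).toRingHom).comap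
      (Algebra.TensorProduct.includeRight : A →ₐ[R] R₀ ⊗[R] A).toRingHom := by
  ext a
  simp only [Ideal.mem_comap]
  show (ε R R₀ R' A).symm ((1 : R') ⊗ₜ[R] a) ∈ Q' ↔ _
  rw [ε_symm_includeRight]
  rfl

theorem comap_symm_algebraMap (Q' : Ideal (R' ⊗[R₀] (R₀ ⊗[R] A))) :
    (Q'.comap (ε R R₀ R' A).symm.toRingHom).comap (algebraMap R' (R' ⊗[R] A)) =
      Q'.comap (algebraMap R' (R' ⊗[R₀] (R₀ ⊗[R] A))) := by
  ext r
  simp only [Ideal.mem_comap]
  show (ε R R₀ R' A).symm (algebraMap R' (R' ⊗[R] A) r) ∈ Q' ↔ _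
  rw [AlgEquiv.commutes]

theorem comap_symm_comap (P : Ideal (R' ⊗[R] A)) :
    (P.comap (ε R R₀ R' A).toRingHom).comap (ε R R₀ R' A).symm.toRingHom = P := by
  ext x
  simp only [Ideal.mem_comap]
  show (ε R R₀ R' A) ((ε R R₀ R' A).symm x) ∈ P ↔ _
  rw [AlgEquiv.apply_symm_apply]

theorem comap_comap_symm (Q' : Ideal (R' ⊗[R₀] (R₀ ⊗[R] A))) :
    (Q'.comap (ε R R₀ R' A).symm.toRingHom).comap (ε R R₀ R' A).toRingHom = Q' := by
  ext x
  simp only [Ideal.mem_comap]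
  show (ε R R₀ R' A).symm ((ε R R₀ R' A) x) ∈ Q' ↔ _
  rw [AlgEquiv.symm_apply_apply]

end Cancel

end Groth.Agent.Lib.Helper19.PI
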