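import Mathlib
import Groth.Agent.Lib.helper19.PI7

set_option autoImplicit false
set_option linter.style.haveILetI false
universe u

open IntermediateField Polynomial TensorProduct

namespace Groth.Agent.Lib.Helper19.PI

open Groth.Agent.Lib.Helper19.QFL

theorem residueField_map_comp {R R₀ R' : Type u} [CommRing R] [CommRing R₀] [CommRing R']
    [Algebra R R₀] [Algebra R₀ R'] [Algebra R R'] [IsScalarTower R R₀ R']
    (p : Ideal R) [p.IsPrime] (p₀ : Ideal R₀) [p₀.IsPrime] (p' : Ideal R') [p'.IsPrime]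
    (h1 : p = p₀.comap (algebraMap R R₀)) (h2 : p₀ = p'.comap (algebraMap R₀ R'))
    (h3 : p = p'.comap (algebraMap R R')) :
    Ideal.ResidueField.map p p' (algebraMap R R') h3 =
      (Ideal.ResidueField.map p₀ p' (algebraMap R₀ R') h2).comp
        (Ideal.ResidueField.map p p₀ (algebraMap R R₀) h1) := by
  apply Ideal.ResidueField.ringHom_ext
  ext r
  simp only [RingHom.comp_apply]
  rw [Ideal.ResidueField.map_algebraMap, Ideal.ResidueField.map_algebraMap,
    Ideal.ResidueField.map_algebraMap, ← IsScalarTower.algebraMap_apply R R₀ R']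

/-- Ring-level main theorem for the purely inseparable étale localization. -/
theorem exists_family_pi {ι : Type} [Finite ι] (R : Type u) [CommRing R] (A : ι → Type u)
    [∀ i, CommRing (A i)] [∀ i, Algebra R (A i)] [∀ i, Algebra.FiniteType R (A i)]
    (p : Ideal R) [p.IsPrime] (q : ∀ i, Ideal (A i)) [∀ i, (q i).IsPrime]
    [∀ i, (q i).LiesOver p] [∀ i, Algebra.QuasiFiniteAt R (q i)] :
    ∃ (R' : Type u) (_ : CommRing R') (_ : Algebra R R') (_ : Algebra.Etale R R')
      (p' : Ideal R') (_ : p'.IsPrime) (_ : p'.LiesOver p)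
      (J : ι → Type) (_ : ∀ i, Finite (J i))
      (Q : ∀ i, J i → PrimeSpectrum (R' ⊗[R] A i))
      (hover : ∀ i j, p' = (Q i j).asIdeal.comap (algebraMap R' (R' ⊗[R] A i))),
      (∀ i j, (Q i j).asIdeal.comap
        (Algebra.TensorProduct.includeRight : A i →ₐ[R] R' ⊗[R] A i).toRingHom = q i) ∧
      (∀ i j, DQ p' (R' ⊗[R] A i) (Q i j).asIdeal) ∧
      (∀ i, Function.Injective (Q i)) ∧
      (∀ i (P : PrimeSpectrum (R' ⊗[R] A i)),
        P.asIdeal.comap (algebraMap R' (R' ⊗[R] A i)) = p' →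
        P.asIdeal.comap (Algebra.TensorProduct.includeRight : A i →ₐ[R] R' ⊗[R] A i).toRingHom
          = q i → ∃ j, P = Q i j) ∧
      (∀ i j, (Ideal.ResidueField.map p' (Q i j).asIdeal (algebraMap R' (R' ⊗[R] A i))
        (hover i j)).IsPurelyInseparable) ∧
      (∀ i j, (Ideal.ResidueField.map p' (Q i j).asIdeal (algebraMap R' (R' ⊗[R] A i))
        (hover i j)).Finite) := by
  classical
  let k := p.ResidueField
  letI : ∀ i, Algebra (Localization.AtPrime p) (Localization.AtPrime (q i)) := fun i =>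
    Localization.AtPrime.algebraOfLiesOver p (q i)
  haveI : ∀ i, Localization.AtPrime.IsLiesOverAlgebra p (q i) := fun i => ⟨rfl⟩
  -- the splitting field
  obtain ⟨L, _, _, hLfin, hLsep, -, hsplit⟩ :=
    exists_galois_splitting k (fun i => (q i).ResidueField)
  -- the étale neighbourhood with residue field `L`
  obtain ⟨R₀, _, _, _, p₀, _, _, ψ₀, hψ₀, hcompat₀⟩ := exists_etale_residueField R p L
  -- primes of `R₀ ⊗ A i` over `p₀` and `q i`
  let S : ∀ i, Set (Ideal (R₀ ⊗[R] A i)) := fun i => {Q | Q.IsPrime ∧ Q.LiesOver p₀ ∧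
    Q.comap (Algebra.TensorProduct.includeRight : A i →ₐ[R] R₀ ⊗[R] A i).toRingHom = q i}
  have hSfin : ∀ i, (S i).Finite := fun i =>
    (finite_primes_over_right R (A i) R₀ (q i)).subset (fun Q hQ => ⟨hQ.1, hQ.2.2⟩)
  haveI : ∀ i, Finite ↥(S i) := fun i => (hSfin i).to_subtype
  have hn : ∀ i, ∃ n : ℕ, Nonempty (↥(S i) ≃ Fin n) := fun i => Finite.exists_equiv_fin _
  choose n hn using hn
  let eqv : ∀ i, ↥(S i) ≃ Fin (n i) := fun i => (hn i).some
  let J : ι → Type := fun i => Fin (n i)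
  let Qz : ∀ k : (Σ i, J i), Ideal (R₀ ⊗[R] A k.1) := fun k => ((eqv k.1).symm k.2).1
  haveI : ∀ k, (Qz k).IsPrime := fun k => ((eqv k.1).symm k.2).2.1
  haveI : ∀ k, (Qz k).LiesOver p₀ := fun k => ((eqv k.1).symm k.2).2.2.1
  have hQzq : ∀ k : (Σ i, J i), (Qz k).comap (Algebra.TensorProduct.includeRight :
      A k.1 →ₐ[R] R₀ ⊗[R] A k.1).toRingHom = q k.1 := fun k => ((eqv k.1).symm k.2).2.2.2
  haveI : ∀ k : (Σ i, J i), Algebra.QuasiFiniteAt R₀ (Qz k) := fun k =>
    Algebra.QuasiFiniteAt.baseChange (R := R) (q k.1) (Qz k) (hQzq k).symm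
  obtain ⟨R', _, _, _, p', _, _, hb, hD⟩ := exists_family R₀
    (fun k : (Σ i, J i) => R₀ ⊗[R] A k.1) p₀ Qz
  choose Q' hQ'prime hQ'over hQ'Q hDQ using hD
  letI : Algebra R R' := ((algebraMap R₀ R').comp (algebraMap R R₀)).toAlgebra
  haveI : IsScalarTower R R₀ R' := IsScalarTower.of_algebraMap_eq' rfl
  haveI : Algebra.Etale R R' := Algebra.Etale.comp R R₀ R'
  haveI : p'.LiesOver p := Ideal.LiesOver.trans p' p₀ p
  let Q : ∀ i, J i → PrimeSpectrum (R' ⊗[R] A i) := fun i j =>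
    ⟨(Q' ⟨i, j⟩).comap (ε R R₀ R' (A i)).symm.toRingHom, Ideal.comap_isPrime _ _⟩
  have hover : ∀ i j, p' = (Q i j).asIdeal.comap (algebraMap R' (R' ⊗[R] A i)) := by
    intro i j
    show p' = ((Q' ⟨i, j⟩).comap (ε R R₀ R' (A i)).symm.toRingHom).comap _
    rw [comap_symm_algebraMap]
    exact (hQ'over ⟨i, j⟩).over
  have hQq : ∀ i j, (Q i j).asIdeal.comap
      (Algebra.TensorProduct.includeRight : A i →ₐ[R] R' ⊗[R] A i).toRingHom = q i := by
    intro i j
    show ((Q' ⟨i, j⟩).comap (ε R R₀ R' (A i)).symm.toRingHom).comap _ = _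
    rw [comap_symm_includeRight, hQ'Q ⟨i, j⟩]
    exact hQzq ⟨i, j⟩
  -- the isomorphism of residue fields
  let eb : p₀.ResidueField ≃+* p'.ResidueField := RingEquiv.ofBijective
    (Ideal.ResidueField.map p₀ p' (algebraMap R₀ R') (p'.over_def p₀)) hb
  let ψ : p'.ResidueField →+* L := ψ₀.comp eb.symm.toRingHom
  have hψ : Function.Bijective ψ := hψ₀.comp eb.symm.bijective
  have hcompat : ψ.comp (Ideal.ResidueField.map p p' (algebraMap R R') (p'.over_def p)) =
      algebraMap k L := by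
    rw [residueField_map_comp p p₀ p' (p₀.over_def p) (p'.over_def p₀) (p'.over_def p),
      ← hcompat₀]
    ext z
    simp only [RingHom.comp_apply, ψ]
    congr 1
    exact eb.symm_apply_apply
      ((Ideal.ResidueField.map p p₀ (algebraMap R R₀) (p₀.over_def p)) ((algebraMap R p.ResidueField) z))
  refine ⟨R', inferInstance, inferInstance, inferInstance, p', inferInstance, inferInstance, J,
    fun i => inferInstance, Q, hover, hQq, ?_, ?_, ?_, ?_, ?_⟩
  · intro i j
    exact (hDQ ⟨i, j⟩).of_algEquiv (ε R R₀ R' (A i))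
  · intro i j j' hjj'
    have h1 : (Q i j).asIdeal = (Q i j').asIdeal := congrArg PrimeSpectrum.asIdeal hjj'
    have h2 : Q' ⟨i, j⟩ = Q' ⟨i, j'⟩ := by
      rw [← comap_comap_symm R R₀ R' (A i) (Q' ⟨i, j⟩),
        ← comap_comap_symm R R₀ R' (A i) (Q' ⟨i, j'⟩)]
      exact congrArg _ h1
    have h3 : Qz ⟨i, j⟩ = Qz ⟨i, j'⟩ := by
      rw [← hQ'Q ⟨i, j⟩, ← hQ'Q ⟨i, j'⟩, h2]
    have h4 : (eqv i).symm j = (eqv i).symm j' := Subtype.ext h3
    exact (eqv i).symm.injective h4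
  · intro i P hPp hPq
    let P' : Ideal (R' ⊗[R₀] (R₀ ⊗[R] A i)) := P.asIdeal.comap (ε R R₀ R' (A i)).toRingHom
    haveI : P'.IsPrime := Ideal.comap_isPrime _ _
    have hP'P : P'.comap (ε R R₀ R' (A i)).symm.toRingHom = P.asIdeal :=
      comap_symm_comap R R₀ R' (A i) P.asIdeal
    haveI hP'over : P'.LiesOver p' := by
      constructor
      rw [Ideal.under_def, ← comap_symm_algebraMap, hP'P, hPp]
    let Pz : Ideal (R₀ ⊗[R] A i) := P'.comap (Algebra.TensorProduct.includeRight :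
      R₀ ⊗[R] A i →ₐ[R₀] R' ⊗[R₀] (R₀ ⊗[R] A i)).toRingHom
    have hPzmem : Pz ∈ S i := by
      refine ⟨Ideal.comap_isPrime _ _, ⟨?_⟩, ?_⟩
      · rw [Ideal.over_def p' p₀, Ideal.over_def P' p']
        ext r
        simp only [Ideal.under_def, Ideal.mem_comap, Pz]
        have : (Algebra.TensorProduct.includeRight :
            R₀ ⊗[R] A i →ₐ[R₀] R' ⊗[R₀] (R₀ ⊗[R] A i)) (algebraMap R₀ (R₀ ⊗[R] A i) r) =
            algebraMap R' (R' ⊗[R₀] (R₀ ⊗[R] A i)) (algebraMap R₀ R' r) := by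
          rw [AlgHom.commutes, IsScalarTower.algebraMap_apply R₀ R' (R' ⊗[R₀] (R₀ ⊗[R] A i))]
        simp only [AlgHom.toRingHom_eq_coe, RingHom.coe_coe, this]
      · rw [← comap_symm_includeRight, hP'P, hPq]
    refine ⟨eqv i ⟨Pz, hPzmem⟩, ?_⟩
    have h1 : Qz ⟨i, eqv i ⟨Pz, hPzmem⟩⟩ = Pz := by
      show ((eqv i).symm (eqv i ⟨Pz, hPzmem⟩)).1 = Pz
      rw [Equiv.symm_apply_apply]
    have h2 : P' = Q' ⟨i, eqv i ⟨Pz, hPzmem⟩⟩ := by
      haveI := hQ'prime ⟨i, eqv i ⟨Pz, hPzmem⟩⟩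
      haveI := hQ'over ⟨i, eqv i ⟨Pz, hPzmem⟩⟩
      apply Ideal.eq_of_comap_eq_comap_of_bijective_residueFieldMap hb
      have h3 := hQ'Q ⟨i, eqv i ⟨Pz, hPzmem⟩⟩
      rw [h1] at h3
      exact h3.symm
    apply PrimeSpectrum.ext
    show P.asIdeal = (Q' ⟨i, eqv i ⟨Pz, hPzmem⟩⟩).comap _
    rw [← h2, hP'P]
  · intro i j
    haveI : (Q i j).asIdeal.LiesOver p' := ⟨hover i j⟩
    haveI : Algebra.IsAlgebraic p.ResidueField (q i).ResidueField := inferInstance
    exact purelyInseparable_residue p (q i) p' (Q i j).asIdeal (hQq i j) L (hsplit i) ψ hψ hcompat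
  · intro i j
    haveI : (Q i j).asIdeal.LiesOver p' := ⟨hover i j⟩
    haveI : Algebra.QuasiFiniteAt R' (Q i j).asIdeal :=
      Algebra.QuasiFiniteAt.baseChange (R := R) (q i) (Q i j).asIdeal (hQq i j).symm
    letI := Localization.AtPrime.algebraOfLiesOver p' (Q i j).asIdeal
    have hfin : Module.Finite p'.ResidueField (Q i j).asIdeal.ResidueField := inferInstance
    exact RingHom.finite_algebraMap.mpr hfin

end Groth.Agent.Lib.Helper19.PI
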