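import Mathlib
import Groth.Agent.Lib.Helper9.UnivHomeoRing2

set_option autoImplicit false
set_option linter.style.haveILetI false
universe u

open AlgebraicGeometry CategoryTheory CategoryTheory.Limits

namespace Groth.Agent.Lib.Helper19.PI

open Groth.Agent.Lib.Helper9.UnivHomeoRing

theorem pi_of_isIso {A B : CommRingCat.{u}} (e : A ⟶ B) [IsIso e] :
    e.hom.IsPurelyInseparable :=
  ringHom_isPurelyInseparable_of_surjective _
    ((ConcreteCategory.isIso_iff_bijective e).mp inferInstance).2

set_option backward.isDefEq.respectTransparency.types false in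
/-- Ring-level pure inseparability of residue fields gives the scheme-level one. -/
theorem pi_residueFieldMap_SpecMap {R' T : Type u} [CommRing R'] [CommRing T] [Algebra R' T]
    (p' : Ideal R') [p'.IsPrime] (Q : PrimeSpectrum T)
    (h : p' = Q.asIdeal.comap (algebraMap R' T))
    (hpi : (Ideal.ResidueField.map p' Q.asIdeal (algebraMap R' T) h).IsPurelyInseparable) :
    ((Spec.map (CommRingCat.ofHom (algebraMap R' T))).residueFieldMap
      (Q : Spec (CommRingCat.of T))).hom.IsPurelyInseparable := by
  subst h
  set φ : CommRingCat.of R' ⟶ CommRingCat.of T := CommRingCat.ofHom (algebraMap R' T) with hφ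
  let x : Spec (CommRingCat.of T) := Q
  have h0 := residueFieldMap_SpecMap φ x
  have h1 : (Spec.map φ).residueFieldMap x =
      (Scheme.Spec.residueFieldIso (CommRingCat.of R') ((Spec.map φ) x)).hom ≫
        CommRingCat.ofHom (Ideal.ResidueField.map (PrimeSpectrum.comap φ.hom x).asIdeal
          x.asIdeal φ.hom rfl) ≫ (Scheme.Spec.residueFieldIso (CommRingCat.of T) x).inv := by
    have h0' := (Iso.inv_comp_eq _).mp h0
    rw [← Category.assoc]
    exact (Iso.eq_comp_inv _).mpr h0'
  rw [h1]
  simp only [CommRingCat.hom_comp, CommRingCat.hom_ofHom]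
  refine RingHom.IsPurelyInseparable.comp (pi_of_isIso _)
    (RingHom.IsPurelyInseparable.comp ?_ (pi_of_isIso _))
  exact hpi

theorem pi_of_comp_openImmersion {Z P U : Scheme.{u}} (a : Z ⟶ P) [IsOpenImmersion a]
    (h : P ⟶ U) (φ : Z ⟶ U) (e : a ≫ h = φ) (z : Z)
    (hφ : (φ.residueFieldMap z).hom.IsPurelyInseparable) :
    (h.residueFieldMap (a z)).hom.IsPurelyInseparable := by
  subst e
  have h0 : h.residueFieldMap (a z) ≫ a.residueFieldMap z = (a ≫ h).residueFieldMap z :=
    (Scheme.residueFieldMap_comp a h z).symm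
  have h1 : h.residueFieldMap (a z) =
      (a ≫ h).residueFieldMap z ≫ inv (a.residueFieldMap z) := (IsIso.eq_comp_inv _).mpr h0
  rw [h1]
  simp only [CommRingCat.hom_comp]
  exact RingHom.IsPurelyInseparable.comp hφ (pi_of_isIso _)

theorem finite_of_isIso {A B : CommRingCat.{u}} (e : A ⟶ B) [IsIso e] : e.hom.Finite :=
  RingHom.Finite.of_surjective _ ((ConcreteCategory.isIso_iff_bijective e).mp inferInstance).2

set_option backward.isDefEq.respectTransparency.types false in
/-- Ring-level finiteness of residue fields gives the scheme-level one. -/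
theorem finite_residueFieldMap_SpecMap {R' T : Type u} [CommRing R'] [CommRing T] [Algebra R' T]
    (p' : Ideal R') [p'.IsPrime] (Q : PrimeSpectrum T)
    (h : p' = Q.asIdeal.comap (algebraMap R' T))
    (hpi : (Ideal.ResidueField.map p' Q.asIdeal (algebraMap R' T) h).Finite) :
    ((Spec.map (CommRingCat.ofHom (algebraMap R' T))).residueFieldMap
      (Q : Spec (CommRingCat.of T))).hom.Finite := by
  subst h
  set φ : CommRingCat.of R' ⟶ CommRingCat.of T := CommRingCat.ofHom (algebraMap R' T) with hφ
  let x : Spec (CommRingCat.of T) := Q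
  have h0 := residueFieldMap_SpecMap φ x
  have h1 : (Spec.map φ).residueFieldMap x =
      (Scheme.Spec.residueFieldIso (CommRingCat.of R') ((Spec.map φ) x)).hom ≫
        CommRingCat.ofHom (Ideal.ResidueField.map (PrimeSpectrum.comap φ.hom x).asIdeal
          x.asIdeal φ.hom rfl) ≫ (Scheme.Spec.residueFieldIso (CommRingCat.of T) x).inv := by
    have h0' := (Iso.inv_comp_eq _).mp h0
    rw [← Category.assoc]
    exact (Iso.eq_comp_inv _).mpr h0'
  rw [h1]
  simp only [CommRingCat.hom_comp, CommRingCat.hom_ofHom]
  refine RingHom.Finite.comp (RingHom.Finite.comp (finite_of_isIso _) ?_) (finite_of_isIso _)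
  exact hpi

theorem finite_of_comp_openImmersion {Z P U : Scheme.{u}} (a : Z ⟶ P) [IsOpenImmersion a]
    (h : P ⟶ U) (φ : Z ⟶ U) (e : a ≫ h = φ) (z : Z)
    (hφ : (φ.residueFieldMap z).hom.Finite) :
    (h.residueFieldMap (a z)).hom.Finite := by
  subst e
  have h0 : h.residueFieldMap (a z) ≫ a.residueFieldMap z = (a ≫ h).residueFieldMap z :=
    (Scheme.residueFieldMap_comp a h z).symm
  have h1 : h.residueFieldMap (a z) =
      (a ≫ h).residueFieldMap z ≫ inv (a.residueFieldMap z) := (IsIso.eq_comp_inv _).mpr h0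
  rw [h1]
  simp only [CommRingCat.hom_comp]
  exact RingHom.Finite.comp (finite_of_isIso _) hφ

end Groth.Agent.Lib.Helper19.PI
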