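import Mathlib
import Groth.Agent.Lib.helper19.PI8
import Groth.Agent.Lib.helper19.PI9
import Groth.Agent.Lib.helper19.QFL5

set_option autoImplicit false
set_option linter.style.haveILetI false
universe u

open TensorProduct AlgebraicGeometry CategoryTheory CategoryTheory.Limits

namespace Groth.Agent.Lib.Helper19.PI

open Groth.Agent.Lib.Helper19.QFL

open Groth.Agent.Lib.Helper19.UnramLocal in
/-- Scheme-level construction for the purely inseparable case. -/
theorem scheme_main_pi {X S : Scheme.{u}} (f : X ⟶ S) (s : S) {ι : Type} (x : ι → X)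
    (S₀ : S.Opens) (hS₀ : IsAffineOpen S₀) (hsS₀ : s ∈ S₀)
    (T : ι → X.Opens) (hT : ∀ i, IsAffineOpen (T i)) (hxT : ∀ i, x i ∈ T i)
    (hle : ∀ i, T i ≤ f ⁻¹ᵁ S₀)
    [∀ i, Algebra Γ(S, S₀) Γ(X, T i)]
    (halg : ∀ i, algebraMap Γ(S, S₀) Γ(X, T i) = (f.appLE S₀ (T i) (hle i)).hom)
    (R' : Type u) [CommRing R'] [Algebra Γ(S, S₀) R'] [Algebra.Etale Γ(S, S₀) R'] (p' : Ideal R')
    [p'.IsPrime] [p'.LiesOver (hS₀.primeIdealOf ⟨s, hsS₀⟩).asIdeal]
    (J : ι → Type) (Q : ∀ i, J i → PrimeSpectrum (R' ⊗[Γ(S, S₀)] Γ(X, T i)))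
    (hover : ∀ i j, p' = (Q i j).asIdeal.comap (algebraMap R' (R' ⊗[Γ(S, S₀)] Γ(X, T i))))
    (hQq : ∀ i j, (Q i j).asIdeal.comap (Algebra.TensorProduct.includeRight :
      Γ(X, T i) →ₐ[Γ(S, S₀)] R' ⊗[Γ(S, S₀)] Γ(X, T i)).toRingHom =
        ((hT i).primeIdealOf ⟨x i, hxT i⟩).asIdeal)
    (hDQ : ∀ i j, DQ p' (R' ⊗[Γ(S, S₀)] Γ(X, T i)) (Q i j).asIdeal)
    (hcomplete : ∀ i (P : PrimeSpectrum (R' ⊗[Γ(S, S₀)] Γ(X, T i))),
      P.asIdeal.comap (algebraMap R' (R' ⊗[Γ(S, S₀)] Γ(X, T i))) = p' →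
      P.asIdeal.comap (Algebra.TensorProduct.includeRight :
        Γ(X, T i) →ₐ[Γ(S, S₀)] R' ⊗[Γ(S, S₀)] Γ(X, T i)).toRingHom =
          ((hT i).primeIdealOf ⟨x i, hxT i⟩).asIdeal → ∃ j, P = Q i j)
    (hpi : ∀ i j, (Ideal.ResidueField.map p' (Q i j).asIdeal
      (algebraMap R' (R' ⊗[Γ(S, S₀)] Γ(X, T i))) (hover i j)).IsPurelyInseparable)
    (hfinres : ∀ i j, (Ideal.ResidueField.map p' (Q i j).asIdeal
      (algebraMap R' (R' ⊗[Γ(S, S₀)] Γ(X, T i))) (hover i j)).Finite) :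
    ∃ (g : Spec (CommRingCat.of R') ⟶ S) (u : Spec (CommRingCat.of R')), Etale g ∧ g u = s ∧
      ∃ (V : ∀ i, J i → (pullback f g).Opens) (v : ∀ i, J i → ↑(pullback f g)),
        (∀ i j, v i j ∈ V i j ∧ IsFinite ((V i j).ι ≫ pullback.snd f g) ∧
          pullback.snd f g (v i j) = u ∧
          (∀ w : ↑(pullback f g), w ∈ V i j → pullback.snd f g w = u → w = v i j) ∧
          ((pullback.snd f g).residueFieldMap (v i j)).hom.IsPurelyInseparable ∧
          ((pullback.snd f g).residueFieldMap (v i j)).hom.Finite ∧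
          pullback.fst f g (v i j) = x i) ∧
        (∀ i j j', v i j = v i j' → Q i j = Q i j') ∧
        (∀ (w : ↑(pullback f g)) (i : ι), pullback.snd f g w = u → pullback.fst f g w = x i →
          ∃ j, w = v i j) := by
  classical
  choose e he heQ hfin huniq using hDQ
  let ψ : Γ(S, S₀) ⟶ CommRingCat.of R' := CommRingCat.ofHom (algebraMap Γ(S, S₀) R')
  let g : Spec (CommRingCat.of R') ⟶ S := Spec.map ψ ≫ hS₀.fromSpec
  haveI : Etale (Spec.map ψ) :=
    HasRingHomProperty.Spec_iff.mpr (RingHom.etale_algebraMap.mpr ‹_›)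
  haveI : Etale g := inferInstance
  let u : Spec (CommRingCat.of R') := ⟨p', inferInstance⟩
  have hu : g u = s := by
    have h1 : (Spec.map ψ) u = hS₀.primeIdealOf ⟨s, hsS₀⟩ :=
      PrimeSpectrum.ext (Ideal.over_def p' (hS₀.primeIdealOf ⟨s, hsS₀⟩).asIdeal).symm
    show hS₀.fromSpec ((Spec.map ψ) u) = s
    rw [h1]
    exact hS₀.fromSpec_primeIdealOf ⟨s, hsS₀⟩
  -- the pullback squares
  let φ : ∀ i, Γ(S, S₀) ⟶ Γ(X, T i) := fun i => f.appLE S₀ (T i) (hle i)
  have hφ : ∀ i, CommRingCat.ofHom (algebraMap Γ(S, S₀) Γ(X, T i)) = φ i := fun i =>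
    CommRingCat.hom_ext (halg i)
  let inl : ∀ i, CommRingCat.of R' ⟶ CommRingCat.of (R' ⊗[Γ(S, S₀)] Γ(X, T i)) := fun i =>
    CommRingCat.ofHom (algebraMap R' (R' ⊗[Γ(S, S₀)] Γ(X, T i)))
  let inr : ∀ i, Γ(X, T i) ⟶ CommRingCat.of (R' ⊗[Γ(S, S₀)] Γ(X, T i)) := fun i =>
    CommRingCat.ofHom Algebra.TensorProduct.includeRight.toRingHom
  have sq2 : ∀ i, IsPullback (Spec.map (inl i)) (Spec.map (inr i)) (Spec.map ψ)
      (Spec.map (φ i)) := by
    intro i
    rw [← hφ i]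
    exact isPullback_SpecMap_of_isPushout _ _ _ _
      (CommRingCat.isPushout_tensorProduct Γ(S, S₀) R' Γ(X, T i))
  have sq3 : ∀ i, IsPullback (Spec.map (inl i)) (Spec.map (inr i)) g ((hT i).fromSpec ≫ f) := by
    intro i
    have := isPullback_comp_mono (sq2 i) hS₀.fromSpec
    rwa [hS₀.SpecMap_appLE_fromSpec f (hT i) (hle i)] at this
  have tpb : IsPullback (pullback.snd f g) (pullback.fst f g) g f :=
    (IsPullback.of_hasPullback f g).flip
  let a : ∀ i, Spec (CommRingCat.of (R' ⊗[Γ(S, S₀)] Γ(X, T i))) ⟶ pullback f g := fun i =>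
    tpb.lift (Spec.map (inl i)) (Spec.map (inr i) ≫ (hT i).fromSpec)
      (by rw [(sq3 i).w, Category.assoc])
  have ha_snd : ∀ i, a i ≫ pullback.snd f g = Spec.map (inl i) := fun i => tpb.lift_fst _ _ _
  have ha_fst : ∀ i, a i ≫ pullback.fst f g = Spec.map (inr i) ≫ (hT i).fromSpec :=
    fun i => tpb.lift_snd _ _ _
  have sq4 : ∀ i, IsPullback (a i) (Spec.map (inr i)) (pullback.fst f g) (hT i).fromSpec :=
    fun i => IsPullback.of_right' (sq3 i) tpb
  haveI : ∀ i, IsOpenImmersion (a i) := fun i =>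
    MorphismProperty.of_isPullback (P := @IsOpenImmersion) (sq4 i).flip inferInstance
  -- the pieces
  let B : ∀ i, J i → Type u := fun i j =>
    (R' ⊗[Γ(S, S₀)] Γ(X, T i)) ⧸ Ideal.span {1 - e i j}
  let qm : ∀ i j, CommRingCat.of (R' ⊗[Γ(S, S₀)] Γ(X, T i)) ⟶ CommRingCat.of (B i j) :=
    fun i j => CommRingCat.ofHom (algebraMap (R' ⊗[Γ(S, S₀)] Γ(X, T i)) (B i j))
  haveI : ∀ i j, IsLocalization.Away (e i j) (B i j) := fun i j =>
    IsLocalization.away_of_isIdempotentElem (he i j) Ideal.mk_ker Ideal.Quotient.mk_surjective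
  haveI : ∀ i j, IsOpenImmersion (Spec.map (qm i j)) := fun i j =>
    IsOpenImmersion.of_isLocalization (e i j)
  let t : ∀ i j, Spec (CommRingCat.of (B i j)) ⟶ pullback f g := fun i j =>
    Spec.map (qm i j) ≫ a i
  haveI : ∀ i j, IsOpenImmersion (t i j) := fun i j => inferInstance
  have ht_snd : ∀ i j, t i j ≫ pullback.snd f g =
      Spec.map (CommRingCat.ofHom (algebraMap R' (B i j))) := by
    intro i j
    show (Spec.map (qm i j) ≫ a i) ≫ pullback.snd f g = _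
    rw [Category.assoc, ha_snd, ← Spec.map_comp]
    rfl
  have hrange : ∀ i j (P : Spec (CommRingCat.of (R' ⊗[Γ(S, S₀)] Γ(X, T i)))),
      P ∈ Set.range (Spec.map (qm i j)) ↔ e i j ∉ P.asIdeal := by
    intro i j P
    have h1 : Set.range (Spec.map (qm i j)) =
        (PrimeSpectrum.basicOpen (e i j) : Set (PrimeSpectrum (R' ⊗[Γ(S, S₀)] Γ(X, T i)))) :=
      PrimeSpectrum.localization_away_comap_range (B i j) (e i j)
    rw [h1]
    rfl
  have hQmem : ∀ i j, (Q i j : Spec (CommRingCat.of (R' ⊗[Γ(S, S₀)] Γ(X, T i)))) ∈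
      Set.range (Spec.map (qm i j)) := fun i j => (hrange i j _).mpr (heQ i j)
  choose y hy using hQmem
  have hsndQ : ∀ i j, (Spec.map (inl i)) (Q i j) = u := by
    intro i j
    apply PrimeSpectrum.ext
    exact (hover i j).symm
  refine ⟨g, u, inferInstance, hu, fun i j => (t i j).opensRange,
    fun i j => a i (Q i j), fun i j => ⟨?_, ?_, ?_, ?_, ?_, ?_, ?_⟩, ?_, ?_⟩
  · exact ⟨y i j, by show a i (Spec.map (qm i j) (y i j)) = _; rw [hy i j]⟩
  · have h1 : (t i j).opensRange.ι ≫ pullback.snd f g = (t i j).isoOpensRange.inv ≫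
        Spec.map (CommRingCat.ofHom (algebraMap R' (B i j))) := by
      rw [← ht_snd i j, ← Category.assoc, Scheme.Hom.isoOpensRange_inv_comp]
    rw [h1]
    haveI : IsFinite (Spec.map (CommRingCat.ofHom (algebraMap R' (B i j)))) := by
      rw [IsFinite.SpecMap_iff]
      exact RingHom.finite_algebraMap.mpr (hfin i j)
    infer_instance
  · rw [← hsndQ i j, ← ha_snd i]
    rfl
  · rintro w ⟨z, rfl⟩ hw
    show a i (Spec.map (qm i j) z) = a i (Q i j)
    congr 1
    have h1 : e i j ∉ (Spec.map (qm i j) z).asIdeal := (hrange i j _).mp ⟨z, rfl⟩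
    have h2 : (Spec.map (inl i)) (Spec.map (qm i j) z) = u := by
      rw [← ha_snd i]
      exact hw
    have h3 : (Spec.map (qm i j) z).asIdeal.LiesOver p' := by
      constructor
      exact (congrArg PrimeSpectrum.asIdeal h2).symm
    exact PrimeSpectrum.ext (huniq i j _ (Spec.map (qm i j) z).2 h3 h1)
  · exact pi_of_comp_openImmersion (a i) (pullback.snd f g) (Spec.map (inl i)) (ha_snd i) (Q i j)
      (pi_residueFieldMap_SpecMap p' (Q i j) (hover i j) (hpi i j))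
  · exact finite_of_comp_openImmersion (a i) (pullback.snd f g) (Spec.map (inl i)) (ha_snd i)
      (Q i j) (finite_residueFieldMap_SpecMap p' (Q i j) (hover i j) (hfinres i j))
  · have h1 : (Spec.map (inr i)) (Q i j) = (hT i).primeIdealOf ⟨x i, hxT i⟩ :=
      PrimeSpectrum.ext (hQq i j)
    have h2 : pullback.fst f g (a i (Q i j)) = (hT i).fromSpec ((Spec.map (inr i)) (Q i j)) := by
      rw [← Scheme.Hom.comp_apply, ← Scheme.Hom.comp_apply, ha_fst]
    rw [h2, h1]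
    exact (hT i).fromSpec_primeIdealOf ⟨x i, hxT i⟩
  · intro i j j' h
    exact (a i).isOpenEmbedding.injective h
  · intro w i hw hwx
    have hz : (hT i).fromSpec ((hT i).primeIdealOf ⟨x i, hxT i⟩) = x i :=
      (hT i).fromSpec_primeIdealOf ⟨x i, hxT i⟩
    obtain ⟨q', hq1, hq2⟩ := Scheme.exists_preimage_of_isPullback (sq4 i) w
      ((hT i).primeIdealOf ⟨x i, hxT i⟩) (by rw [hz]; exact hwx)
    have hq3 : q'.asIdeal.comap (algebraMap R' (R' ⊗[Γ(S, S₀)] Γ(X, T i))) = p' := by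
      have h1 : Spec.map (inl i) q' = u := by
        rw [← ha_snd i]
        show pullback.snd f g (a i q') = u
        rw [hq1]; exact hw
      exact congrArg PrimeSpectrum.asIdeal h1
    have hq4 : q'.asIdeal.comap (Algebra.TensorProduct.includeRight :
        Γ(X, T i) →ₐ[Γ(S, S₀)] R' ⊗[Γ(S, S₀)] Γ(X, T i)).toRingHom =
          ((hT i).primeIdealOf ⟨x i, hxT i⟩).asIdeal := congrArg PrimeSpectrum.asIdeal hq2
    obtain ⟨j, rfl⟩ := hcomplete i q' hq3 hq4
    exact ⟨j, hq1.symm⟩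

end Groth.Agent.Lib.Helper19.PI
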