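import Mathlib
import Groth.Agent.Lib.helper19.PI10
import Groth.Agent.Lib.helper19.QFL6

set_option autoImplicit false
set_option linter.style.haveILetI false
universe u

open TensorProduct AlgebraicGeometry CategoryTheory CategoryTheory.Limits

namespace Groth.Agent.Lib.Helper19.PI

open Groth.Agent.Lib.Helper19.QFL Groth.Agent.Lib.Helper19.QFL6

/-- Core statement (S1482). -/
theorem main_pi {X S : Scheme.{u}} (f : X ⟶ S) [LocallyOfFiniteType f] (s : S) {ι : Type}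
    [Finite ι] (x : ι → ↑X) (hinj : Function.Injective x) (hs : ∀ i, f (x i) = s)
    (hx : ∀ i, f.QuasiFiniteAt (x i)) :
    ∃ (U : Scheme.{u}) (g : U ⟶ S) (u : U), Etale g ∧ g u = s ∧
      ∃ (J : ι → Type) (_ : ∀ i, Finite (J i)) (V : ∀ i, J i → (pullback f g).Opens)
        (v : ∀ i, J i → ↑(pullback f g)),
        (∀ i j, v i j ∈ V i j ∧ IsFinite ((V i j).ι ≫ pullback.snd f g) ∧
          pullback.snd f g (v i j) = u ∧
          (∀ w : ↑(pullback f g), w ∈ V i j → pullback.snd f g w = u → w = v i j) ∧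
          (((pullback.snd f g).residueFieldMap (v i j)).hom.Finite ∧
            ((pullback.snd f g).residueFieldMap (v i j)).hom.IsPurelyInseparable) ∧
          pullback.fst f g (v i j) = x i) ∧
        (∀ i j i' j', v i j = v i' j' → i = i' ∧ HEq j j') ∧
        (∀ (w : ↑(pullback f g)) (i : ι), pullback.snd f g w = u → pullback.fst f g w = x i →
          ∃ j, w = v i j) := by
  obtain ⟨_, ⟨S₀, hS₀, rfl⟩, hsS₀, -⟩ := S.isBasis_affineOpens.exists_subset_of_mem_open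
    (Set.mem_univ s) isOpen_univ
  have hT : ∀ i, ∃ T : X.Opens, IsAffineOpen T ∧ x i ∈ T ∧ T ≤ f ⁻¹ᵁ S₀ := by
    intro i
    have hmem : x i ∈ ((f ⁻¹ᵁ S₀ : X.Opens) : Set X) := by
      show f (x i) ∈ S₀
      rw [hs i]; exact hsS₀
    obtain ⟨_, ⟨T, hT, rfl⟩, hxT, hTle⟩ := X.isBasis_affineOpens.exists_subset_of_mem_open
      hmem (f ⁻¹ᵁ S₀).2
    exact ⟨T, hT, hxT, hTle⟩
  choose T hT hxT hle using hT
  letI : ∀ i, Algebra Γ(S, S₀) Γ(X, T i) := fun i => (f.appLE S₀ (T i) (hle i)).hom.toAlgebra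
  haveI : ∀ i, Algebra.FiniteType Γ(S, S₀) Γ(X, T i) := fun i =>
    f.finiteType_appLE hS₀ (hT i) (hle i)
  let q : ∀ i, Ideal Γ(X, T i) := fun i => ((hT i).primeIdealOf ⟨x i, hxT i⟩).asIdeal
  haveI : ∀ i, (q i).IsPrime := fun i => ((hT i).primeIdealOf ⟨x i, hxT i⟩).2
  haveI : ∀ i, (q i).LiesOver (hS₀.primeIdealOf ⟨s, hsS₀⟩).asIdeal := fun i =>
    ⟨liesOver_primeIdealOf f hS₀ (hT i) (hle i) (x i) (hxT i) s (hs i) hsS₀⟩
  haveI : ∀ i, Algebra.QuasiFiniteAt Γ(S, S₀) (q i) := fun i =>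
    (hx i).quasiFiniteAt (hT i) hS₀ (hle i) (hxT i)
  obtain ⟨R', _, _, _, p', _, _, J, hJ, Q, hover, hQq, hDQ, hQinj, hcomplete, hpi, hfinres⟩ :=
    exists_family_pi Γ(S, S₀) (fun i => Γ(X, T i)) (hS₀.primeIdealOf ⟨s, hsS₀⟩).asIdeal q
  obtain ⟨g, u, hg, hu, V, v, h1, h2, h3⟩ := scheme_main_pi f s x S₀ hS₀ hsS₀ T hT hxT hle
    (fun i => rfl) R' p' J Q hover hQq hDQ hcomplete hpi hfinres
  refine ⟨_, g, u, hg, hu, J, hJ, V, v, fun i j => ?_, ?_, h3⟩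
  · obtain ⟨a1, a2, a3, a4, a5, a6, a7⟩ := h1 i j
    exact ⟨a1, a2, a3, a4, ⟨a6, a5⟩, a7⟩
  · intro i j i' j' hv
    have hxi : x i = x i' := by
      rw [← (h1 i j).2.2.2.2.2.2, ← (h1 i' j').2.2.2.2.2.2, hv]
    obtain rfl := hinj hxi
    exact ⟨rfl, heq_of_eq (hQinj i (h2 i j j' hv))⟩

end Groth.Agent.Lib.Helper19.PI
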