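import Mathlib
import Groth.Agent.Lib.helper19.PI11

set_option autoImplicit false
set_option linter.style.haveILetI false
universe u

open TensorProduct AlgebraicGeometry CategoryTheory CategoryTheory.Limits

namespace Groth.Agent.Lib.Helper19.PI12

open Groth.Agent.Lib.Helper19.QFL Groth.Agent.Lib.Helper19.QFL6 Groth.Agent.Lib.Helper19.PI

theorem finite_of_le_of_isClosed {P Y : Scheme.{u}} (h : P ⟶ Y) (V' V : P.Opens) (hle : V' ≤ V)
    (hc : IsClosed (V' : Set P)) (hV : IsFinite (V.ι ≫ h)) : IsFinite (V'.ι ≫ h) := by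
  have h1 : V'.ι ≫ h = P.homOfLE hle ≫ V.ι ≫ h := by
    rw [← Category.assoc, Scheme.homOfLE_ι]
  rw [h1]
  haveI : IsClosedImmersion (P.homOfLE hle) := by
    apply IsClosedImmersion.of_isPreimmersion
    have hr : Set.range (P.homOfLE hle) = ((V.ι ⁻¹ᵁ V' : V.toScheme.Opens) : Set V) := by
      rw [← Scheme.opensRange_homOfLE hle]; rfl
    rw [hr]
    exact hc.preimage V.ι.continuous
  infer_instance

/-- S9778. -/
theorem main_pi_sep {X S : Scheme.{u}} (f : X ⟶ S) [LocallyOfFiniteType f] [IsSeparated f]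
    (s : S) {ι : Type} [Finite ι] (x : ι → ↑X) (hinj : Function.Injective x)
    (hs : ∀ i, f (x i) = s) (hx : ∀ i, f.QuasiFiniteAt (x i)) :
    ∃ (U : Scheme.{u}) (g : U ⟶ S) (u : U), Etale g ∧ g u = s ∧
      ∃ (J : ι → Type) (_ : ∀ i, Finite (J i)) (V : ∀ i, J i → (pullback f g).Opens)
        (v : ∀ i, J i → ↑(pullback f g)),
        (∀ i j, IsClopen ((V i j : Set ↑(pullback f g)))) ∧
        (∀ i j i' j', ((V i j : Set ↑(pullback f g)) ∩ (V i' j')).Nonempty →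
          i = i' ∧ HEq j j') ∧
        (∀ i j, v i j ∈ V i j ∧ IsFinite ((V i j).ι ≫ pullback.snd f g) ∧
          pullback.snd f g (v i j) = u ∧
          (∀ w : ↑(pullback f g), w ∈ V i j → pullback.snd f g w = u → w = v i j) ∧
          ((pullback.snd f g).residueFieldMap (v i j)).hom.IsPurelyInseparable ∧
          pullback.fst f g (v i j) = x i) ∧
        (∀ (w : ↑(pullback f g)) (i : ι), pullback.snd f g w = u → pullback.fst f g w = x i →
          ∃ j, w ∈ V i j) := by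
  classical
  obtain ⟨U, g, u, hg, hu, J, hJ, V, v, h1, h2, h3⟩ := main_pi f s x hinj hs hx
  haveI := hJ
  -- closedness
  have hVc : ∀ i j, IsClosed (V i j : Set ↑(pullback f g)) := fun i j =>
    isClosed_of_finite (pullback.snd f g) (V i j) (h1 i j).2.1
  -- the union of the other pieces
  let Oth : (Σ i, J i) → Set ↑(pullback f g) := fun k =>
    ⋃ k' ∈ {k' : Σ i, J i | k' ≠ k}, (V k'.1 k'.2 : Set ↑(pullback f g))
  have hOthc : ∀ k, IsClosed (Oth k) := fun k =>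
    Set.Finite.isClosed_biUnion (Set.toFinite _) (fun k' _ => hVc k'.1 k'.2)
  have hOtho : ∀ k, IsOpen (Oth k) := fun k =>
    isOpen_biUnion (fun k' _ => (V k'.1 k'.2).2)
  let C : (Σ i, J i) → (pullback f g).Opens := fun k => ⟨(Oth k)ᶜ, (hOthc k).isOpen_compl⟩
  let V' : ∀ i, J i → (pullback f g).Opens := fun i j => V i j ⊓ C ⟨i, j⟩
  have hV'le : ∀ i j, V' i j ≤ V i j := fun i j => inf_le_left
  have hV'c : ∀ i j, IsClosed (V' i j : Set ↑(pullback f g)) := fun i j =>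
    (hVc i j).inter (hOtho ⟨i, j⟩).isClosed_compl
  have hvnot : ∀ (k k' : Σ i, J i), k' ≠ k → v k.1 k.2 ∉ V k'.1 k'.2 := by
    intro k k' hne hmem
    have := (h1 k'.1 k'.2).2.2.2.1 (v k.1 k.2) hmem (h1 k.1 k.2).2.2.1
    obtain ⟨e1, e2⟩ := h2 _ _ _ _ this
    apply hne
    exact (Sigma.ext e1 e2).symm
  have hvmem : ∀ i j, v i j ∈ V' i j := by
    intro i j
    refine ⟨(h1 i j).1, ?_⟩
    show v i j ∈ (Oth ⟨i, j⟩)ᶜ
    intro hmem
    simp only [Oth, Set.mem_iUnion] at hmem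
    obtain ⟨k', hk', hmem'⟩ := hmem
    exact hvnot ⟨i, j⟩ k' hk' hmem'
  refine ⟨U, g, u, hg, hu, J, hJ, V', v, fun i j => ⟨hV'c i j, (V' i j).2⟩, ?_, fun i j => ?_, ?_⟩
  · rintro i j i' j' ⟨w, hw1, hw2⟩
    by_contra hne
    have hne' : (⟨i', j'⟩ : Σ i, J i) ≠ ⟨i, j⟩ := by
      intro h
      apply hne
      have := Sigma.mk.inj_iff.mp h
      exact ⟨this.1.symm, this.2.symm⟩
    have h4 : w ∈ (Oth ⟨i, j⟩)ᶜ := hw1.2
    apply h4
    simp only [Oth, Set.mem_iUnion]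
    exact ⟨⟨i', j'⟩, hne', hw2.1⟩
  · obtain ⟨a1, a2, a3, a4, a5, a6⟩ := h1 i j
    refine ⟨hvmem i j, finite_of_le_of_isClosed _ _ _ (hV'le i j) (hV'c i j) a2, a3,
      fun w hw hwu => a4 w (hV'le i j hw) hwu, a5.2, a6⟩
  · intro w i hw hwx
    obtain ⟨j, rfl⟩ := h3 w i hw hwx
    exact ⟨j, hvmem i j⟩

end Groth.Agent.Lib.Helper19.PI12
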