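import Mathlib

set_option autoImplicit false
universe u v w

namespace Groth.Agent.Lib.Helper19.SmDiv9

open TensorProduct KaehlerDifferential IsLocalRing

/-- If `S` is formally smooth over `R` and `P → S` is a surjection of `R`-algebras with kernel `I`,
then `I/I² → S ⊗[P] Ω[P/R]` is (split) injective; no smoothness of `P` needed. -/
theorem kerCotangentToTensor_injective {R P S : Type*} [CommRing R] [CommRing P] [CommRing S]
    [Algebra R P] [Algebra P S] [Algebra R S] [IsScalarTower R P S]
    [Algebra.FormallySmooth R S] (hf : Function.Surjective (algebraMap P S)) :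
    Function.Injective (kerCotangentToTensor R P S) := by
  have hsurj : Function.Surjective (IsScalarTower.toAlgHom R P S).kerSquareLift := by
    intro s
    obtain ⟨p, rfl⟩ := hf s
    exact ⟨Ideal.Quotient.mk _ p, rfl⟩
  have hnil : IsNilpotent (RingHom.ker
      ((IsScalarTower.toAlgHom R P S).kerSquareLift :
        P ⧸ (RingHom.ker (IsScalarTower.toAlgHom R P S).toRingHom ^ 2) →+* S)) := by
    refine ⟨2, ?_⟩
    have := AlgHom.ker_kerSquareLift (IsScalarTower.toAlgHom R P S)
    change RingHom.ker (IsScalarTower.toAlgHom R P S).kerSquareLift.toRingHom ^ 2 = 0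
    rw [this, Ideal.cotangentIdeal_square, Ideal.zero_eq_bot]
  let g := Algebra.FormallySmooth.liftOfSurjective (AlgHom.id R S)
    (IsScalarTower.toAlgHom R P S).kerSquareLift hsurj hnil
  have hg : (IsScalarTower.toAlgHom R P S).kerSquareLift.comp g = AlgHom.id R S :=
    Algebra.FormallySmooth.comp_liftOfSurjective _ _ hsurj hnil
  obtain ⟨l, hl⟩ := (retractionKerCotangentToTensorEquivSection (R := R) hf).symm ⟨g, hg⟩
  exact Function.LeftInverse.injective (g := l) (fun x => LinearMap.congr_fun hl x)

/-- local-ring version of the function-level derivation criterion. -/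
theorem tmul_ne_zero_of_derivation_local {A B : Type u} [CommRing A] [CommRing B] [IsLocalRing B]
    [Algebra A B] (h₀ : B)
    (δ : B → ResidueField B) (hadd : ∀ a b, δ (a + b) = δ a + δ b)
    (hmul : ∀ a b, δ (a * b) = residue B a * δ b + residue B b * δ a)
    (hA : ∀ a : A, δ (algebraMap A B a) = 0) (hδ : δ h₀ ≠ 0) :
    (1 : ResidueField B) ⊗ₜ[B] D A B h₀ ≠ 0 := by
  have hsmulB : ∀ (b : B) (k : ResidueField B), b • k = residue B b * k := fun b k => by
    rw [Algebra.smul_def]; rfl
  let δl : B →ₗ[A] ResidueField B :=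
    { toFun := δ
      map_add' := hadd
      map_smul' := fun a b => by
        simp only [RingHom.id_apply]
        rw [Algebra.smul_def, hmul, hA, mul_zero, add_zero, Algebra.smul_def]
        rfl }
  let δd : Derivation A B (ResidueField B) := Derivation.mk' δl (fun a b => by
    show δ (a * b) = a • δ b + b • δ a
    rw [hmul, hsmulB, hsmulB])
  have hℓ : δd.liftKaehlerDifferential (D A B h₀) = δ h₀ := by
    rw [Derivation.liftKaehlerDifferential_comp_D]; rfl
  let Φ : ResidueField B ⊗[B] Ω[B⁄A] →ₗ[B] ResidueField B :=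
    TensorProduct.lift ((LinearMap.mul B (ResidueField B)).compl₂ δd.liftKaehlerDifferential)
  intro h0
  have : Φ ((1 : ResidueField B) ⊗ₜ[B] D A B h₀) = δ h₀ := by
    simp [Φ, hℓ]
  rw [h0, map_zero] at this
  exact hδ this.symm

end Groth.Agent.Lib.Helper19.SmDiv9
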