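import Mathlib
import Groth.Agent.Lib.helper19.SmDiv9

set_option autoImplicit false
universe u v w

namespace Groth.Agent.Lib.Helper19.SmDiv10

open TensorProduct KaehlerDifferential IsLocalRing

set_option maxHeartbeats 800000 in
/-- `A → B` local hom of local rings with `κ(B)` formally smooth over `κ(A)`; if `h ∈ m_B` is not in
`m_B² + m_A B` then `1 ⊗ dh ≠ 0` in `κ(B) ⊗ Ω[B/A]`. -/
theorem tmul_D_ne_zero {A B : Type u} [CommRing A] [CommRing B] [IsLocalRing A] [IsLocalRing B]
    [Algebra A B] [IsLocalHom (algebraMap A B)]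
    [Algebra (ResidueField A) (ResidueField B)]
    (hcomp : ∀ a : A, algebraMap (ResidueField A) (ResidueField B) (residue A a) =
      residue B (algebraMap A B a))
    [Algebra.FormallySmooth (ResidueField A) (ResidueField B)]
    (h : B) (hm : h ∈ maximalIdeal B)
    (hh : h ∉ maximalIdeal B ^ 2 ⊔ (maximalIdeal A).map (algebraMap A B)) :
    (1 : ResidueField B) ⊗ₜ[B] D A B h ≠ 0 := by
  classical
  set I₀ : Ideal B := (maximalIdeal A).map (algebraMap A B) with hI₀
  have hI₀le : I₀ ≤ maximalIdeal B :=
    ((IsLocalRing.local_hom_TFAE (algebraMap A B)).out 0 2).mp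
      (inferInstance : IsLocalHom (algebraMap A B))
  let P := B ⧸ I₀
  let ρ : ResidueField A →+* P := Ideal.Quotient.lift (maximalIdeal A)
    ((Ideal.Quotient.mk I₀).comp (algebraMap A B))
    (fun a ha => Ideal.Quotient.eq_zero_iff_mem.2 (Ideal.mem_map_of_mem _ ha))
  let π : P →+* ResidueField B := Ideal.Quotient.lift I₀ (residue B)
    (fun b hb => (residue_eq_zero_iff b).2 (hI₀le hb))
  letI algρ : Algebra (ResidueField A) P := ρ.toAlgebra
  letI algπ : Algebra P (ResidueField B) := π.toAlgebra
  haveI tower : IsScalarTower (ResidueField A) P (ResidueField B) :=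
    IsScalarTower.of_algebraMap_eq (fun k => by
      obtain ⟨a, rfl⟩ := residue_surjective k
      rw [hcomp]
      rfl)
  have hπsurj : Function.Surjective (algebraMap P (ResidueField B)) := by
    intro k
    obtain ⟨b, rfl⟩ := residue_surjective k
    exact ⟨Ideal.Quotient.mk I₀ b, rfl⟩
  have hinj := SmDiv9.kerCotangentToTensor_injective (R := ResidueField A) (P := P)
    (S := ResidueField B) hπsurj
  have hker : RingHom.ker (algebraMap P (ResidueField B)) =
      (maximalIdeal B).map (Ideal.Quotient.mk I₀) := by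
    apply le_antisymm
    · intro p hp
      obtain ⟨b, rfl⟩ := Ideal.Quotient.mk_surjective p
      have : residue B b = 0 := hp
      exact Ideal.mem_map_of_mem _ ((residue_eq_zero_iff b).1 this)
    · rw [Ideal.map_le_iff_le_comap]
      intro b hb
      show π (Ideal.Quotient.mk I₀ b) = 0
      exact (residue_eq_zero_iff b).2 hb
  have hmem : Ideal.Quotient.mk I₀ h ∈ RingHom.ker (algebraMap P (ResidueField B)) := by
    rw [hker]; exact Ideal.mem_map_of_mem _ hm
  have hc : (RingHom.ker (algebraMap P (ResidueField B))).toCotangent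
      ⟨Ideal.Quotient.mk I₀ h, hmem⟩ ≠ 0 := by
    rw [Ne, Ideal.toCotangent_eq_zero]
    show Ideal.Quotient.mk I₀ h ∉ _
    rw [hker, ← Ideal.map_pow, Ideal.mem_quotient_iff_mem_sup]
    exact hh
  have hne : (1 : ResidueField B) ⊗ₜ[P] D (ResidueField A) P (Ideal.Quotient.mk I₀ h) ≠ 0 := by
    have := (map_ne_zero_iff _ hinj).2 hc
    rwa [kerCotangentToTensor_toCotangent] at this
  obtain ⟨lam, hlam⟩ : ∃ lam : Module.Dual (ResidueField B)
      (ResidueField B ⊗[P] Ω[P⁄ResidueField A]),
      lam ((1 : ResidueField B) ⊗ₜ[P] D (ResidueField A) P (Ideal.Quotient.mk I₀ h)) ≠ 0 := by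
    by_contra hcon
    push Not at hcon
    exact hne ((Module.forall_dual_apply_eq_zero_iff _ _).mp hcon)
  let δ : B → ResidueField B := fun b =>
    lam ((1 : ResidueField B) ⊗ₜ[P] D (ResidueField A) P (Ideal.Quotient.mk I₀ b))
  refine SmDiv9.tmul_ne_zero_of_derivation_local (A := A) h δ ?_ ?_ ?_ hlam
  · intro a b
    simp only [δ, map_add, TensorProduct.tmul_add]
  · intro a b
    simp only [δ, map_mul, Derivation.leibniz, TensorProduct.tmul_add, map_add]
    congr 1
    · rw [TensorProduct.tmul_smul, ← algebraMap_smul (ResidueField B)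
        ((Ideal.Quotient.mk I₀) a), map_smul, smul_eq_mul]
      rfl
    · rw [TensorProduct.tmul_smul, ← algebraMap_smul (ResidueField B)
        ((Ideal.Quotient.mk I₀) b), map_smul, smul_eq_mul]
      rfl
  · intro a
    have h1 : Ideal.Quotient.mk I₀ (algebraMap A B a) =
        algebraMap (ResidueField A) P (residue A a) := rfl
    simp only [δ]
    rw [h1, Derivation.map_algebraMap, TensorProduct.tmul_zero, map_zero]

end Groth.Agent.Lib.Helper19.SmDiv10
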