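import Mathlib
import Groth.Agent.Lib.helper19.SmDiv10

set_option autoImplicit false
universe u v w

namespace Groth.Agent.Lib.Helper19.Tame1

open TensorProduct KaehlerDifferential IsLocalRing

/-- Core algebra: `k → A → B`, local hom of local rings, `κ(B)/κ(A)` formally smooth,
`m_A B ≤ m_B²`, `m_B ≠ m_B²`, and `κ(B) ⊗ Ω[B/k]` one-dimensional. Then `Ω[κ(B)/k] = 0`. -/
theorem formallyUnramified_residueField {k A B : Type u} [CommRing k] [CommRing A] [CommRing B]
    [IsLocalRing A] [IsLocalRing B] [Algebra k A] [Algebra k B]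
    [Algebra A B] [IsScalarTower k A B] [IsLocalHom (algebraMap A B)]
    [Algebra (ResidueField A) (ResidueField B)]
    (hcomp : ∀ a : A, algebraMap (ResidueField A) (ResidueField B) (residue A a) =
      residue B (algebraMap A B a))
    [Algebra.FormallySmooth (ResidueField A) (ResidueField B)]
    (hle : (maximalIdeal A).map (algebraMap A B) ≤ maximalIdeal B ^ 2)
    (hne : maximalIdeal B ^ 2 ≠ maximalIdeal B)
    (hrank : Module.finrank (ResidueField B) (ResidueField B ⊗[B] Ω[B⁄k]) = 1) :
    Algebra.FormallyUnramified k (ResidueField B) := by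
  classical
  obtain ⟨s, hs, hs2⟩ : ∃ s ∈ maximalIdeal B, s ∉ maximalIdeal B ^ 2 := by
    by_contra hcon
    push Not at hcon
    exact hne (le_antisymm (Ideal.pow_le_self two_ne_zero) hcon)
  have hh : s ∉ maximalIdeal B ^ 2 ⊔ (maximalIdeal A).map (algebraMap A B) := by
    rw [sup_eq_left.2 hle]; exact hs2
  have h1 := Groth.Agent.Lib.Helper19.SmDiv10.tmul_D_ne_zero (A := A) (B := B) hcomp s hs hh
  -- transfer to Ω[B/k]
  let Φ : ResidueField B ⊗[B] Ω[B⁄k] →ₗ[ResidueField B] ResidueField B ⊗[B] Ω[B⁄A] :=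
    (KaehlerDifferential.map k A B B).baseChange (ResidueField B)
  have hΦ : Φ ((1 : ResidueField B) ⊗ₜ[B] D k B s) = (1 : ResidueField B) ⊗ₜ[B] D A B s := by
    simp only [Φ, LinearMap.baseChange_tmul, KaehlerDifferential.map_D]
    rfl
  have hv : (1 : ResidueField B) ⊗ₜ[B] D k B s ≠ 0 := by
    intro h0
    rw [h0, map_zero] at hΦ
    exact h1 hΦ.symm
  have hspan := (finrank_eq_one_iff_of_nonzero' _ hv).1 hrank
  have hsurj : Function.Surjective (KaehlerDifferential.mapBaseChange k B (ResidueField B)) :=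
    KaehlerDifferential.mapBaseChange_surjective k B (ResidueField B) residue_surjective
  have hΨ : KaehlerDifferential.mapBaseChange k B (ResidueField B)
      ((1 : ResidueField B) ⊗ₜ[B] D k B s) = 0 := by
    rw [KaehlerDifferential.mapBaseChange_tmul, one_smul, KaehlerDifferential.map_D]
    have : algebraMap B (ResidueField B) s = 0 := (residue_eq_zero_iff s).2 hs
    rw [this, map_zero]
  rw [Algebra.formallyUnramified_iff]
  constructor
  intro a b
  obtain ⟨a', rfl⟩ := hsurj a
  obtain ⟨b', rfl⟩ := hsurj b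
  obtain ⟨ca, rfl⟩ := hspan a'
  obtain ⟨cb, rfl⟩ := hspan b'
  rw [map_smul, map_smul, hΨ, smul_zero, smul_zero]

end Groth.Agent.Lib.Helper19.Tame1
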