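import Mathlib
import Groth.Prelude.Def_CurvBase
import Groth.Agent.Lib.Helper7.ResFieldTrdeg

set_option autoImplicit false
universe u

namespace Groth.Agent.Lib.Helper19.Tame2

open AlgebraicGeometry CategoryTheory TensorProduct KaehlerDifferential
open Groth.Agent.Lib.Helper7

variable (k : Type u) [Field k] (X : Scheme.{u}) [X.Over (Spec (CommRingCat.of k))]

theorem exists_stdSmooth (n : ℕ) [SmoothOfRelativeDimension n (X ↘ Spec (CommRingCat.of k))]
    (x : X) : ∃ (V : X.Opens) (_ : IsAffineOpen V) (_ : x ∈ V),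
      (ResTrdeg.kToΓ k X V).IsStandardSmoothOfRelativeDimension n := by
  obtain ⟨U, hU, V, hV, hxV, e, hφ⟩ :=
    SmoothOfRelativeDimension.exists_isStandardSmoothOfRelativeDimension (n := n)
      (f := X ↘ Spec (CommRingCat.of k)) x
  have hUtop : U = ⊤ := by
    apply TopologicalSpace.Opens.ext
    apply Set.eq_univ_of_forall
    intro z
    have h1 : (X ↘ Spec (CommRingCat.of k)) x ∈ U := e hxV
    have : z = (X ↘ Spec (CommRingCat.of k)) x := Subsingleton.elim _ _
    rw [this]; exact h1
  subst hUtop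
  refine ⟨V, hV, hxV, ?_⟩
  unfold ResTrdeg.kToΓ
  exact RingHom.isStandardSmoothOfRelativeDimension_respectsIso.2 _
    ((Scheme.ΓSpecIso (CommRingCat.of k)).symm.commRingCatIsoToRingEquiv) hφ

end Groth.Agent.Lib.Helper19.Tame2

namespace Groth.Agent.Lib.Helper19.Tame2

open AlgebraicGeometry CategoryTheory TensorProduct KaehlerDifferential
open Groth.Agent.Lib.Helper7

variable (k : Type u) [Field k] (X : Scheme.{u}) [X.Over (Spec (CommRingCat.of k))]

set_option maxHeartbeats 800000 in
theorem finrank_stalk (n : ℕ) [SmoothOfRelativeDimension n (X ↘ Spec (CommRingCat.of k))]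
    (x : X) :
    letI := Curv2.stalkAlgebra k X x
    Module.finrank (IsLocalRing.ResidueField (X.presheaf.stalk x))
      (IsLocalRing.ResidueField (X.presheaf.stalk x) ⊗[X.presheaf.stalk x]
        Ω[X.presheaf.stalk x⁄k]) = n := by
  obtain ⟨V, hV, hxV, hφ⟩ := exists_stdSmooth k X n x
  letI algΓ : Algebra k Γ(X, V) := (ResTrdeg.kToΓ k X V).toAlgebra
  haveI : Algebra.IsStandardSmoothOfRelativeDimension n k Γ(X, V) := hφ
  letI algB : Algebra k (X.presheaf.stalk x) := Curv2.stalkAlgebra k X x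
  letI algΓB : Algebra Γ(X, V) (X.presheaf.stalk x) := (X.presheaf.germ V x hxV).hom.toAlgebra
  haveI : IsScalarTower k Γ(X, V) (X.presheaf.stalk x) :=
    IsScalarTower.of_algebraMap_eq (fun c => (ResTrdeg.germ_kToΓ k X V x hxV c).symm)
  haveI hloc : IsLocalization.AtPrime (X.presheaf.stalk x) (hV.primeIdealOf ⟨x, hxV⟩).asIdeal :=
    hV.isLocalization_stalk ⟨x, hxV⟩
  haveI : Algebra.FormallyEtale Γ(X, V) (X.presheaf.stalk x) :=
    Algebra.FormallyEtale.of_isLocalization (hV.primeIdealOf ⟨x, hxV⟩).asIdeal.primeCompl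
  haveI : Nontrivial Γ(X, V) := RingHom.domain_nontrivial (X.presheaf.germ V x hxV).hom
  haveI : Algebra.IsStandardSmooth k Γ(X, V) :=
    Algebra.IsStandardSmoothOfRelativeDimension.isStandardSmooth n
  have hrk : Module.finrank Γ(X, V) Ω[Γ(X, V)⁄k] = n := by
    have := Algebra.IsStandardSmoothOfRelativeDimension.rank_kaehlerDifferential
      (R := k) (S := Γ(X, V)) n
    exact Module.finrank_eq_of_rank_eq this
  let e1 := tensorKaehlerEquivOfFormallyEtale k Γ(X, V) (X.presheaf.stalk x)
  haveI : Module.Free (X.presheaf.stalk x) Ω[X.presheaf.stalk x⁄k] := Module.Free.of_equiv e1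
  show Module.finrank (IsLocalRing.ResidueField (X.presheaf.stalk x))
      (IsLocalRing.ResidueField (X.presheaf.stalk x) ⊗[X.presheaf.stalk x]
        Ω[X.presheaf.stalk x⁄k]) = n
  rw [Module.finrank_baseChange, ← e1.finrank_eq, Module.finrank_baseChange, hrk]

end Groth.Agent.Lib.Helper19.Tame2
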