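import Mathlib
import Groth.Prelude.Def_CurvBase
import Groth.Agent.Lib.helper19.Tame1
import Groth.Agent.Lib.helper19.Tame2
import Groth.Agent.Lib.lead.SmoothRelDim
import Groth.Agent.Lib.lead.ClosedLocalDim

set_option autoImplicit false
universe u

namespace Groth.Agent.Lib.Helper19.Tame3

open AlgebraicGeometry CategoryTheory TensorProduct KaehlerDifferential IsLocalRing
open Groth.Agent.Lib.Helper7 Groth.Agent.Lib.lead

theorem ringKrullDim_stalk (k : Type u) [Field k] (X : Scheme.{u})
    [X.Over (Spec (CommRingCat.of k))] (n : ℕ)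
    [SmoothOfRelativeDimension n (X ↘ Spec (CommRingCat.of k))]
    (x : X) (hx : IsClosed ({x} : Set X)) :
    ringKrullDim (X.presheaf.stalk x) = (n : WithBot ℕ∞) := by
  haveI : Smooth (X ↘ Spec (CommRingCat.of k)) := SmoothOfRelativeDimension.smooth n _
  haveI : LocallyOfFiniteType (X ↘ Spec (CommRingCat.of k)) := inferInstance
  rw [← ClosedLocalDim.main k X x hx, ← SmoothRelDim.S2768 n (X ↘ Spec (CommRingCat.of k)) x]
  exact (SmoothRelDim.fibreDimAt_over_field (K := CommRingCat.of k) (Field.toIsField k)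
    (X ↘ Spec (CommRingCat.of k)) x).symm

end Groth.Agent.Lib.Helper19.Tame3

namespace Groth.Agent.Lib.Helper19.Tame3

open AlgebraicGeometry CategoryTheory TensorProduct KaehlerDifferential IsLocalRing
open Groth.Agent.Lib.Helper7 Groth.Agent.Lib.lead

theorem stalkMap_tower (k : Type u) [Field k]
    (X Y : Scheme.{u}) [X.Over (Spec (CommRingCat.of k))] [Y.Over (Spec (CommRingCat.of k))]
    (f : X ⟶ Y) (hf : f ≫ (Y ↘ Spec (CommRingCat.of k)) = X ↘ Spec (CommRingCat.of k))
    (x : X) (c : k) :
    (f.stalkMap x).hom (Curv2.stalkMap k Y (f x) c) = Curv2.stalkMap k X x c := by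
  unfold Curv2.stalkMap Coh.toGlobal
  simp only [RingHom.coe_comp, Function.comp_apply]
  have h1 := Scheme.Hom.germ_stalkMap_apply f ⊤ x trivial
    ((Y ↘ Spec (CommRingCat.of k)).appTop.hom ((Scheme.ΓSpecIso (CommRingCat.of k)).inv.hom c))
  rw [h1]
  have h2 : (X ↘ Spec (CommRingCat.of k)).appTop = (f ≫ (Y ↘ Spec (CommRingCat.of k))).appTop := by
    rw [hf]
  rw [h2]
  rfl

end Groth.Agent.Lib.Helper19.Tame3

namespace Groth.Agent.Lib.Helper19.Tame3

open AlgebraicGeometry CategoryTheory TensorProduct KaehlerDifferential IsLocalRing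
open Groth.Agent.Lib.Helper7 Groth.Agent.Lib.lead

set_option maxHeartbeats 800000 in
theorem main16548 (k : Type u) [Field k]
    (X Y : Scheme.{u}) [X.Over (Spec (CommRingCat.of k))] [Y.Over (Spec (CommRingCat.of k))]
    [SmoothOfRelativeDimension 1 (X ↘ Spec (CommRingCat.of k))]
    (f : X ⟶ Y) (hf : f ≫ (Y ↘ Spec (CommRingCat.of k)) = X ↘ Spec (CommRingCat.of k))
    (x : X) (hx : IsClosed ({x} : Set X)) (e : ℕ)
    (he : (IsLocalRing.maximalIdeal (Y.presheaf.stalk (f.base x))).map (f.stalkMap x).hom =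
      IsLocalRing.maximalIdeal (X.presheaf.stalk x) ^ e)
    (h2 : 2 ≤ e)
    (hsep : @Algebra.IsSeparable (Y.residueField (f.base x)) (X.residueField x) _ _
      (f.residueFieldMap x).hom.toAlgebra) :
    @Algebra.IsSeparable k (X.residueField x) _ _ (Curv2.resAlgebra k X x) := by
  classical
  haveI : Smooth (X ↘ Spec (CommRingCat.of k)) := SmoothOfRelativeDimension.smooth 1 _
  haveI : LocallyOfFiniteType (X ↘ Spec (CommRingCat.of k)) := inferInstance
  haveI : IsLocallyNoetherian X :=
    LocallyOfFiniteType.isLocallyNoetherian (X ↘ Spec (CommRingCat.of k))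
  haveI : IsNoetherianRing (X.presheaf.stalk x) := inferInstance
  have hdim := ringKrullDim_stalk k X 1 x hx
  -- the maximal ideal is nonzero
  have hm0 : maximalIdeal (X.presheaf.stalk x) ≠ ⊥ := by
    intro h0
    have hfld : IsField (X.presheaf.stalk x) := IsLocalRing.isField_iff_maximalIdeal_eq.2 h0
    rw [ringKrullDim_eq_zero_of_isField hfld] at hdim
    exact absurd hdim (by norm_num)
  have hne : maximalIdeal (X.presheaf.stalk x) ^ 2 ≠ maximalIdeal (X.presheaf.stalk x) := by
    intro h0
    apply hm0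
    refine Submodule.eq_bot_of_le_smul_of_le_jacobson_bot (maximalIdeal (X.presheaf.stalk x)) _
      (IsNoetherian.noetherian _) ?_ (IsLocalRing.maximalIdeal_le_jacobson _)
    rw [smul_eq_mul, ← sq, h0]
  letI algA : Algebra k (Y.presheaf.stalk (f x)) := Curv2.stalkAlgebra k Y (f x)
  letI algB : Algebra k (X.presheaf.stalk x) := Curv2.stalkAlgebra k X x
  letI algAB : Algebra (Y.presheaf.stalk (f x)) (X.presheaf.stalk x) := (f.stalkMap x).hom.toAlgebra
  haveI : IsScalarTower k (Y.presheaf.stalk (f x)) (X.presheaf.stalk x) :=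
    IsScalarTower.of_algebraMap_eq (fun c => (stalkMap_tower k X Y f hf x c).symm)
  haveI : IsLocalHom (algebraMap (Y.presheaf.stalk (f x)) (X.presheaf.stalk x)) :=
    inferInstanceAs (IsLocalHom (f.stalkMap x).hom)
  letI algLK : Algebra (ResidueField (Y.presheaf.stalk (f x))) (ResidueField (X.presheaf.stalk x)) :=
    (f.residueFieldMap x).hom.toAlgebra
  haveI : Algebra.IsSeparable (ResidueField (Y.presheaf.stalk (f x)))
      (ResidueField (X.presheaf.stalk x)) := hsep
  haveI : Algebra.FormallyEtale (ResidueField (Y.presheaf.stalk (f x)))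
      (ResidueField (X.presheaf.stalk x)) := Algebra.FormallyEtale.of_isSeparable _ _
  haveI : Algebra.FormallySmooth (ResidueField (Y.presheaf.stalk (f x)))
      (ResidueField (X.presheaf.stalk x)) := inferInstance
  have hle : (maximalIdeal (Y.presheaf.stalk (f x))).map
      (algebraMap (Y.presheaf.stalk (f x)) (X.presheaf.stalk x)) ≤
      maximalIdeal (X.presheaf.stalk x) ^ 2 := by
    show (maximalIdeal (Y.presheaf.stalk (f x))).map (f.stalkMap x).hom ≤ _
    rw [he]
    exact Ideal.pow_le_pow_right h2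
  have hrank := Tame2.finrank_stalk k X 1 x
  have hfu := Tame1.formallyUnramified_residueField (k := k) (A := Y.presheaf.stalk (f x))
    (B := X.presheaf.stalk x) (fun a => rfl) hle hne hrank
  -- essentially of finite type
  obtain ⟨V, hV, hxV, -⟩ :=
    exists_isAffineOpen_mem_and_subset (X := X) (x := x) (U := ⊤) (by simp)
  letI algΓ : Algebra k Γ(X, V) := (ResTrdeg.kToΓ k X V).toAlgebra
  haveI ftΓ : Algebra.FiniteType k Γ(X, V) := ResTrdeg.finiteType_kToΓ k X hV
  letI algΓB : Algebra Γ(X, V) (X.presheaf.stalk x) := (X.presheaf.germ V x hxV).hom.toAlgebra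
  haveI : IsScalarTower k Γ(X, V) (X.presheaf.stalk x) :=
    IsScalarTower.of_algebraMap_eq (fun c => (ResTrdeg.germ_kToΓ k X V x hxV c).symm)
  haveI hloc : IsLocalization.AtPrime (X.presheaf.stalk x) (hV.primeIdealOf ⟨x, hxV⟩).asIdeal :=
    hV.isLocalization_stalk ⟨x, hxV⟩
  haveI : Algebra.EssFiniteType Γ(X, V) (X.presheaf.stalk x) :=
    Algebra.EssFiniteType.of_isLocalization _ (hV.primeIdealOf ⟨x, hxV⟩).asIdeal.primeCompl
  haveI : Algebra.EssFiniteType k (X.presheaf.stalk x) :=
    Algebra.EssFiniteType.comp k Γ(X, V) (X.presheaf.stalk x)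
  haveI : Algebra.FiniteType (X.presheaf.stalk x) (ResidueField (X.presheaf.stalk x)) :=
    Algebra.FiniteType.of_surjective (Algebra.ofId _ _) IsLocalRing.residue_surjective
  haveI : Algebra.EssFiniteType k (ResidueField (X.presheaf.stalk x)) :=
    Algebra.EssFiniteType.comp k (X.presheaf.stalk x) (ResidueField (X.presheaf.stalk x))
  have hsepK : Algebra.IsSeparable k (ResidueField (X.presheaf.stalk x)) :=
    Algebra.FormallyUnramified.isSeparable k _
  have hinst : (IsLocalRing.ResidueField.algebra (X.presheaf.stalk x) : Algebra k (ResidueField (X.presheaf.stalk x))) =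
      Curv2.resAlgebra k X x := Algebra.algebra_ext _ _ (fun c => rfl)
  rw [← hinst]
  exact hsepK

end Groth.Agent.Lib.Helper19.Tame3
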