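import Mathlib

set_option autoImplicit false
universe u
open AlgebraicGeometry CategoryTheory CategoryTheory.Limits

namespace Groth.Agent.Lib.Helper19.SecChart3

variable (n : Type u) (S : Scheme.{u})

instance smooth_over [Finite n] : Smooth (AffineSpace n S ↘ S) :=
  MorphismProperty.pullback_fst _ _ <| by
  have := isIso_of_isTerminal specULiftZIsTerminal.{u} terminalIsTerminal (terminal.from _)
  rw [← terminal.comp_from (Spec.map (CommRingCat.ofHom MvPolynomial.C)),
    MorphismProperty.cancel_right_of_respectsIso (P := @Smooth),
    HasRingHomProperty.Spec_iff (P := @Smooth), RingHom.Smooth]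
  have hsm : Algebra.Smooth (ULift.{u} ℤ) (MvPolynomial n (ULift.{u} ℤ)) := ⟨inferInstance, inferInstance⟩
  convert! hsm
  exact Algebra.algebra_ext _ _ fun _ ↦ rfl

theorem isOpenImmersion_map {S T : Scheme.{u}} (j : S ⟶ T) [IsOpenImmersion j] :
    IsOpenImmersion (AffineSpace.map n j) :=
  MorphismProperty.of_isPullback (AffineSpace.isPullback_map (n := n) j).flip inferInstance

end Groth.Agent.Lib.Helper19.SecChart3
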