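import Mathlib
import Groth.Agent.Lib.Helper12.HenselUnique
import Groth.Agent.Lib.Helper12.HenselSection
import Groth.Agent.Lib.helper19.HensFinPart2
import Groth.Agent.Lib.helper19.SmChart5

set_option autoImplicit false
set_option linter.style.haveILetI false
universe u
open CategoryTheory CategoryTheory.Limits AlgebraicGeometry

namespace Groth.Agent.Lib.Helper19.HensSec1

/-- Over a strictly henselian local ring, an étale morphism has a section through every point
over the closed point. -/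
theorem exists_section_through (R : Type u) [CommRing R] [HenselianLocalRing R]
    [IsSepClosed (IsLocalRing.ResidueField R)]
    {X : Scheme.{u}} (f : X ⟶ Spec (CommRingCat.of R)) [Etale f] (x : X)
    (hx : f.base x = IsLocalRing.closedPoint R) :
    ∃ u : Spec (CommRingCat.of R) ⟶ X, u ≫ f = 𝟙 _ ∧ u.base (IsLocalRing.closedPoint R) = x := by
  classical
  let S := Spec (CommRingCat.of R)
  have hS₀ : IsAffineOpen (⊤ : S.Opens) := isAffineOpen_top S
  obtain ⟨_, ⟨T, hT, rfl⟩, hxT, -⟩ := X.isBasis_affineOpens.exists_subset_of_mem_open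
    (Set.mem_univ x) isOpen_univ
  have hle : T ≤ f ⁻¹ᵁ (⊤ : S.Opens) := fun _ _ => trivial
  let R₀ := Γ(S, ⊤)
  let e₀ : R ≃+* R₀ := (Scheme.ΓSpecIso (CommRingCat.of R)).symm.commRingCatIsoToRingEquiv
  haveI : HenselianLocalRing R₀ :=
    Groth.Agent.Lib.Helper19.HensFinPart2.henselianLocalRing_of_ringEquiv e₀
  haveI : IsLocalHom (e₀ : R →+* R₀) := inferInstance
  haveI : IsSepClosed (IsLocalRing.ResidueField R₀) :=
    Groth.Agent.Lib.Helper12.isSepClosed_of_ringEquiv (IsLocalRing.ResidueField.mapEquiv e₀)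
  letI : Algebra R₀ Γ(X, T) := (f.appLE ⊤ T hle).hom.toAlgebra
  haveI : Algebra.Etale R₀ Γ(X, T) := by
    have := HasRingHomProperty.appLE (P := @Etale) f inferInstance ⟨⊤, hS₀⟩ ⟨T, hT⟩ hle
    exact RingHom.etale_algebraMap.mp this
  let q : Ideal Γ(X, T) := (hT.primeIdealOf ⟨x, hxT⟩).asIdeal
  haveI : q.IsPrime := (hT.primeIdealOf ⟨x, hxT⟩).2
  have hsS₀ : f.base x ∈ (⊤ : S.Opens) := trivial
  have hmax : (hS₀.primeIdealOf ⟨f.base x, hsS₀⟩).asIdeal = IsLocalRing.maximalIdeal R₀ := by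
    apply IsLocalRing.eq_maximalIdeal
    rw [← PrimeSpectrum.isClosed_singleton_iff_isMaximal]
    have h1 : ({hS₀.primeIdealOf ⟨f.base x, hsS₀⟩} : Set (Spec Γ(S, ⊤))) =
        hS₀.fromSpec.base ⁻¹' {IsLocalRing.closedPoint R} := by
      ext P
      simp only [Set.mem_preimage]
      constructor
      · rintro rfl
        rw [hS₀.fromSpec_primeIdealOf ⟨f.base x, hsS₀⟩]
        exact hx
      · intro hP
        haveI : IsOpenImmersion hS₀.fromSpec := hS₀.isOpenImmersion_fromSpec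
        apply hS₀.fromSpec.isOpenEmbedding.injective
        rw [hS₀.fromSpec_primeIdealOf ⟨f.base x, hsS₀⟩, hP]
        exact hx.symm
    have h2 : IsClosed (hS₀.fromSpec.base ⁻¹' {IsLocalRing.closedPoint R}) :=
      (IsLocalRing.isClosed_singleton_closedPoint R).preimage hS₀.fromSpec.base.hom.2
    rw [← h1] at h2
    exact h2
  haveI : q.LiesOver (IsLocalRing.maximalIdeal R₀) :=
    ⟨hmax ▸ Groth.Agent.Lib.Helper19.QFL.liesOver_primeIdealOf f hS₀ hT hle x hxT (f.base x) rfl
      hsS₀⟩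
  have hbij := Groth.Agent.Lib.Helper12.bijective_residueField_mapₐ_of_isSepClosed R₀ Γ(X, T) q
  obtain ⟨s, hs⟩ := Groth.Agent.Lib.Helper12.exists_section_of_etale R₀ Γ(X, T) q hbij
  haveI : IsIso hS₀.fromSpec := by
    rw [IsAffineOpen.fromSpec_top]
    infer_instance
  let u' : Spec Γ(S, ⊤) ⟶ X := Spec.map (CommRingCat.ofHom s.toRingHom) ≫ hT.fromSpec
  have hu' : u' ≫ f = hS₀.fromSpec := by
    show (Spec.map (CommRingCat.ofHom s.toRingHom) ≫ hT.fromSpec) ≫ f = _
    rw [Category.assoc, ← hS₀.SpecMap_appLE_fromSpec f hT hle, ← Category.assoc,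
      ← Spec.map_comp]
    have : f.appLE ⊤ T hle ≫ CommRingCat.ofHom s.toRingHom = 𝟙 _ := by
      ext a
      show s (algebraMap R₀ Γ(X, T) a) = a
      rw [s.commutes]
      rfl
    rw [this, Spec.map_id]
    exact Category.id_comp _
  refine ⟨inv hS₀.fromSpec ≫ u', ?_, ?_⟩
  · rw [Category.assoc, hu', IsIso.inv_hom_id]
  · have h1 : (inv hS₀.fromSpec).base (IsLocalRing.closedPoint R) =
        hS₀.primeIdealOf ⟨f.base x, hsS₀⟩ := by
      haveI : IsOpenImmersion hS₀.fromSpec := hS₀.isOpenImmersion_fromSpec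
      apply hS₀.fromSpec.isOpenEmbedding.injective
      rw [hS₀.fromSpec_primeIdealOf ⟨f.base x, hsS₀⟩, ← Scheme.Hom.comp_apply,
        IsIso.inv_hom_id]
      exact hx.symm
    rw [Scheme.Hom.comp_apply, h1]
    show hT.fromSpec (Spec.map (CommRingCat.ofHom s.toRingHom) _) = x
    have h2 : Spec.map (CommRingCat.ofHom s.toRingHom) (hS₀.primeIdealOf ⟨f.base x, hsS₀⟩) =
        hT.primeIdealOf ⟨x, hxT⟩ := by
      apply PrimeSpectrum.ext
      show Ideal.comap s.toRingHom (hS₀.primeIdealOf ⟨f.base x, hsS₀⟩).asIdeal = q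
      rw [hmax, hs]
    rw [h2]
    exact hT.fromSpec_primeIdealOf ⟨x, hxT⟩

/-- Over a strictly henselian local ring, sections of a smooth morphism are dense in the special
fibre. -/
theorem mem_closure_sections (R : Type u) [CommRing R] [HenselianLocalRing R]
    [IsSepClosed (IsLocalRing.ResidueField R)]
    {X : Scheme.{u}} (p : X ⟶ Spec (CommRingCat.of R)) [Smooth p]
    (x : X) (hx : p.base x = IsLocalRing.closedPoint R) :
    x ∈ closure {y : X | ∃ s : Spec (CommRingCat.of R) ⟶ X, s ≫ p = 𝟙 _ ∧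
      s.base (IsLocalRing.closedPoint R) = y} := by
  rw [mem_closure_iff]
  intro o ho hxo
  let U : X.Opens := ⟨o, ho⟩
  have hxU : x ∈ U := hxo
  have hrange : IsLocalRing.closedPoint R ∈ Set.range (U.ι ≫ p) := by
    refine ⟨⟨x, hxU⟩, ?_⟩
    rw [Scheme.Hom.comp_apply]
    exact hx
  obtain ⟨S', g, s', hg, hgs', h, hh⟩ :=
    Groth.Agent.Lib.Helper19.SmChart5.main (U.ι ≫ p) (IsLocalRing.closedPoint R) hrange
  obtain ⟨u, hu, hus'⟩ := exists_section_through R g s' hgs'
  refine ⟨(u ≫ h ≫ U.ι) (IsLocalRing.closedPoint R), ?_, u ≫ h ≫ U.ι, ?_, rfl⟩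
  · rw [Scheme.Hom.comp_apply, Scheme.Hom.comp_apply]
    exact ((h (u (IsLocalRing.closedPoint R)))).2
  · rw [Category.assoc, Category.assoc, hh, hu]

end Groth.Agent.Lib.Helper19.HensSec1
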