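import Mathlib
import Groth.Agent.Lib.helper19.SmChart1v

set_option autoImplicit false
universe u
open TensorProduct KaehlerDifferential

namespace Groth.Agent.Lib.Helper19.Adapt1

open Groth.Agent.Lib.Helper19

variable (k A : Type u) [CommRing k] [CommRing A] [Algebra k A]
  (q : Ideal A) [q.IsPrime] (I : Ideal A)

/-- Coordinates adapted to an ideal: `b` in `I` spanning the image of `I` in `κ ⊗ Ω`, and `a`
completing to a basis. -/
theorem exists_adapted [Module.Finite q.ResidueField (q.ResidueField ⊗[A] Ω[A⁄k])] :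
    ∃ (m n : ℕ) (a : Fin m → A) (b : Fin n → A), (∀ l, b l ∈ I) ∧
      (∀ c ∈ I, (1 : q.ResidueField) ⊗ₜ[A] D k A c ∈ Submodule.span q.ResidueField
        (Set.range fun l => (1 : q.ResidueField) ⊗ₜ[A] D k A (b l))) ∧
      LinearIndependent q.ResidueField
        (fun i : Fin m ⊕ Fin n => (1 : q.ResidueField) ⊗ₜ[A] D k A (Sum.elim a b i)) ∧
      Submodule.span q.ResidueField
        (Set.range fun i : Fin m ⊕ Fin n => (1 : q.ResidueField) ⊗ₜ[A] D k A (Sum.elim a b i)) = ⊤ := by
  classical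
  let κ := q.ResidueField
  let V := κ ⊗[A] Ω[A⁄k]
  let sI : Set V := Set.range fun c : I => (1 : κ) ⊗ₜ[A] D k A (c : A)
  let W : Submodule κ V := Submodule.span κ sI
  let sA : Set (V ⧸ W) := Set.range fun r : A => W.mkQ ((1 : κ) ⊗ₜ[A] D k A r)
  have hsAspan : Submodule.span κ sA = ⊤ := by
    have h1 : sA = W.mkQ '' (Set.range fun r : A => (1 : κ) ⊗ₜ[A] D k A r) := by
      rw [← Set.range_comp]; rfl
    rw [h1, ← Submodule.map_span, SmChart1v.span_tmul_D_eq_top, Submodule.map_top,
      Submodule.range_mkQ]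
  obtain ⟨fb, hfbs, hfbspan, hfbli⟩ := Submodule.exists_fun_fin_finrank_span_eq κ sI
  have hfb' : ∀ l, ∃ c : I, (1 : κ) ⊗ₜ[A] D k A (c : A) = fb l := fun l => hfbs l
  choose b' hb' using hfb'
  obtain ⟨fa, hfas, hfaspan, hfali⟩ := Submodule.exists_fun_fin_finrank_span_eq κ sA
  have hfa' : ∀ j, ∃ r : A, W.mkQ ((1 : κ) ⊗ₜ[A] D k A r) = fa j := fun j => hfas j
  choose a ha using hfa'
  have hr : (fun l => (1 : κ) ⊗ₜ[A] D k A ((b' l : I) : A)) = fb := funext hb'
  have hfbW : ∀ l, fb l ∈ W := fun l => Submodule.subset_span (hfbs l)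
  refine ⟨_, _, a, fun l => (b' l : A), fun l => (b' l).2, ?_, ?_, ?_⟩
  · intro c hc
    have : (1 : κ) ⊗ₜ[A] D k A c ∈ W := Submodule.subset_span ⟨⟨c, hc⟩, rfl⟩
    rw [hr, hfbspan]
    exact this
  · -- linear independence
    let fbW : Fin _ → W := fun l => ⟨fb l, hfbW l⟩
    have hfbWli : LinearIndependent κ fbW := by
      apply LinearIndependent.of_comp W.subtype
      exact hfbli
    let ga : Fin _ → V := fun j => (1 : κ) ⊗ₜ[A] D k A (a j)
    have hga : LinearIndependent κ (Submodule.Quotient.mk (p := W) ∘ ga) := by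
      have : (Submodule.Quotient.mk (p := W) ∘ ga) = fa := funext ha
      rw [this]
      exact hfali
    have h := LinearIndependent.sumElim_of_quotient hfbWli ga hga
    have h2 := h.comp (Sum.swap) Sum.swap_leftInverse.injective
    have heq : (fun i : Fin _ ⊕ Fin _ => (1 : q.ResidueField) ⊗ₜ[A] D k A (Sum.elim a (fun l => (b' l : A)) i)) =
        (Sum.elim (fun x => (fbW x : V)) ga ∘ Sum.swap) := by
      funext i
      rcases i with j | l
      · rfl
      · simp only [Sum.elim_inr, Function.comp_apply, Sum.swap_inr, Sum.elim_inl]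
        exact hb' l
    rw [heq]
    exact h2
  · let ga : Fin _ → V := fun j => (1 : κ) ⊗ₜ[A] D k A (a j)
    have heq : (fun i : Fin _ ⊕ Fin _ => (1 : q.ResidueField) ⊗ₜ[A] D k A (Sum.elim a (fun l => (b' l : A)) i)) =
        Sum.elim ga fb := by
      funext i
      rcases i with j | l
      · rfl
      · simp only [Sum.elim_inr]
        exact hb' l
    rw [heq, Set.Sum.elim_range, Submodule.span_union, hfbspan]
    change Submodule.span κ (Set.range ga) ⊔ W = ⊤
    rw [sup_comm, ← Submodule.map_mkQ_eq_top, Submodule.map_span, ← Set.range_comp]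
    have : (W.mkQ ∘ ga) = fa := funext ha
    rw [this, hfaspan, hsAspan]

end Groth.Agent.Lib.Helper19.Adapt1
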