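import Mathlib

set_option autoImplicit false
universe u
open AlgebraicGeometry CategoryTheory CategoryTheory.Limits

namespace Groth.Agent.Lib.Helper19.Adapt10

theorem isPullback_chart {S U Z : Scheme.{u}} [IsAffine U] (p : U ⟶ S) (ι' : Z ⟶ U)
    [IsClosedImmersion ι'] {m n : ℕ} (c : ULift.{u} (Fin m ⊕ Fin n) → Γ(U, ⊤))
    (hker : RingHom.ker ι'.appTop.hom = Ideal.span (Set.range fun l : Fin n => c ⟨Sum.inr l⟩)) :
    IsPullback
      (AffineSpace.homOfVector (ι' ≫ p) (fun j : ULift.{u} (Fin m) => ι'.appTop (c ⟨Sum.inl j.down⟩)))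
      ι'
      (AffineSpace.homOfVector (𝔸(ULift.{u} (Fin m); S) ↘ S)
        (fun j : ULift.{u} (Fin m ⊕ Fin n) =>
          Sum.elim (fun a => AffineSpace.coord S (ULift.up a)) (fun _ => 0) j.down))
      (AffineSpace.homOfVector p c) := by
  set ρ := AffineSpace.homOfVector (ι' ≫ p)
    (fun j : ULift.{u} (Fin m) => ι'.appTop (c ⟨Sum.inl j.down⟩)) with hρ
  set jj := AffineSpace.homOfVector (𝔸(ULift.{u} (Fin m); S) ↘ S)
        (fun j : ULift.{u} (Fin m ⊕ Fin n) =>
          Sum.elim (fun a => AffineSpace.coord S (ULift.up a)) (fun _ => 0) j.down) with hjj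
  set π := AffineSpace.homOfVector p c with hπ
  have hcomm : ρ ≫ jj = ι' ≫ π := by
    apply AffineSpace.hom_ext
    · simp [hρ, hjj, hπ]
    · rintro ⟨j | l⟩
      · simp [hρ, hjj, hπ]
      · simp only [hρ, hjj, hπ, Scheme.Hom.comp_appTop, CommRingCat.hom_comp, RingHom.comp_apply,
          AffineSpace.homOfVector_appTop_coord, Sum.elim_inr, map_zero]
        have : c ⟨Sum.inr l⟩ ∈ RingHom.ker ι'.appTop.hom := by
          rw [hker]; exact Ideal.subset_span ⟨l, rfl⟩
        exact this.symm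
  have hle : ∀ s : PullbackCone jj π, ι'.ker ≤ s.snd.ker := by
    intro s
    rw [Scheme.ker_of_isAffine ι', Scheme.ker_of_isAffine s.snd]
    apply Scheme.IdealSheafData.le_of_isAffine
    have hid : ∀ I : Ideal Γ(U, ⊤), (Scheme.IdealSheafData.ofIdealTop I).ideal ⟨⊤, isAffineOpen_top U⟩ = I := by
      intro I
      simp
    rw [hid, hid, hker, Ideal.span_le]
    rintro _ ⟨l, rfl⟩
    have h1 := congrArg (fun φ => φ.appTop (AffineSpace.coord S ⟨Sum.inr l⟩)) s.condition
    simp only [hjj, hπ, Scheme.Hom.comp_appTop, CommRingCat.hom_comp, RingHom.comp_apply,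
      AffineSpace.homOfVector_appTop_coord, Sum.elim_inr, map_zero] at h1
    exact h1.symm
  refine ⟨⟨hcomm⟩, ⟨PullbackCone.IsLimit.mk _ (fun s => IsClosedImmersion.lift ι' s.snd (hle s))
    (fun s => ?_) (fun s => ?_) (fun s t h₁ h₂ => ?_)⟩⟩
  · -- fst
    have hfac : IsClosedImmersion.lift ι' s.snd (hle s) ≫ ι' = s.snd :=
      IsClosedImmersion.lift_fac _ _ _
    apply AffineSpace.hom_ext
    · have h2 := congrArg (fun φ => φ ≫ (𝔸(ULift.{u} (Fin m ⊕ Fin n); S) ↘ S)) s.condition
      simp only [hjj, hπ, Category.assoc, AffineSpace.homOfVector_over] at h2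
      simp only [hρ, Category.assoc, AffineSpace.homOfVector_over]
      rw [reassoc_of% hfac]
      exact h2.symm
    · rintro ⟨j⟩
      have h1 := congrArg (fun φ => φ.appTop (AffineSpace.coord S ⟨Sum.inl j⟩)) s.condition
      simp only [hjj, hπ, Scheme.Hom.comp_appTop, CommRingCat.hom_comp, RingHom.comp_apply,
        AffineSpace.homOfVector_appTop_coord, Sum.elim_inl] at h1
      simp only [hρ, Scheme.Hom.comp_appTop, CommRingCat.hom_comp, RingHom.comp_apply,
        AffineSpace.homOfVector_appTop_coord]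
      rw [h1]
      have h3 := congrArg (fun φ => φ.appTop (c ⟨Sum.inl j⟩)) hfac
      simp only [Scheme.Hom.comp_appTop, CommRingCat.hom_comp, RingHom.comp_apply] at h3
      exact h3
  · exact IsClosedImmersion.lift_fac _ _ _
  · rw [← cancel_mono ι', h₂]
    exact (IsClosedImmersion.lift_fac _ _ _).symm

end Groth.Agent.Lib.Helper19.Adapt10
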