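import Mathlib

set_option autoImplicit false
universe u
open TensorProduct IsLocalRing

namespace Groth.Agent.Lib.Helper19.FinFlatIso1

variable {R : Type u} [CommRing R]

/-- clearing denominators in `m_p • (R_p ⊗ M)`. -/
theorem denoms (p : Ideal R) [p.IsPrime] (M : Type u) [AddCommGroup M] [Module R M]
    (z : Localization.AtPrime p ⊗[R] M)
    (hz : z ∈ (maximalIdeal (Localization.AtPrime p)) •
      (⊤ : Submodule (Localization.AtPrime p) (Localization.AtPrime p ⊗[R] M))) :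
    ∃ s ∈ p.primeCompl, ∃ y ∈ (p • ⊤ : Submodule R M), s • z = (1 : Localization.AtPrime p) ⊗ₜ[R] y := by
  refine Submodule.smul_induction_on hz ?_ ?_
  · intro ρ hρ w _
    obtain ⟨⟨x, s⟩, hs⟩ := IsLocalizedModule.surj p.primeCompl
      (TensorProduct.mk R (Localization.AtPrime p) M 1) w
    obtain ⟨⟨π, s'⟩, hs'⟩ := IsLocalization.surj p.primeCompl ρ
    have hπ : π ∈ p := by
      have h1 : ρ * algebraMap R _ (s' : R) ∈ maximalIdeal (Localization.AtPrime p) :=
        Ideal.mul_mem_right _ _ hρ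
      rw [hs'] at h1
      exact (IsLocalization.AtPrime.to_map_mem_maximal_iff _ p π).mp h1
    refine ⟨((s' * s : p.primeCompl) : R), (s' * s).2, π • x, Submodule.smul_mem_smul hπ trivial, ?_⟩
    simp only [TensorProduct.mk_apply] at hs
    have e1 : ((s' * s : p.primeCompl) : R) • (ρ • w) = (ρ * algebraMap R _ (s' : R)) • ((s : R) • w) := by
      rw [Submonoid.coe_mul, mul_smul, mul_smul, algebraMap_smul, smul_comm ρ, smul_comm ρ]
    rw [e1, hs', ← Submonoid.smul_def, hs, algebraMap_smul, ← TensorProduct.tmul_smul]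
  · intro z₁ z₂ h₁ h₂
    obtain ⟨s₁, hs₁, y₁, hy₁, e₁⟩ := h₁
    obtain ⟨s₂, hs₂, y₂, hy₂, e₂⟩ := h₂
    refine ⟨s₁ * s₂, p.primeCompl.mul_mem hs₁ hs₂, s₂ • y₁ + s₁ • y₂,
      Submodule.add_mem _ (Submodule.smul_mem _ _ hy₁) (Submodule.smul_mem _ _ hy₂), ?_⟩
    rw [smul_add, mul_comm s₁ s₂, mul_smul, e₁, mul_comm s₂ s₁, mul_smul, e₂, TensorProduct.tmul_add,
      TensorProduct.tmul_smul, TensorProduct.tmul_smul]

end Groth.Agent.Lib.Helper19.FinFlatIso1

namespace Groth.Agent.Lib.Helper19.FinFlatIso1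

variable {R : Type u} [CommRing R]

theorem mem_smul_top_of_tmul_eq_zero (p : Ideal R) [p.IsPrime] (M : Type u) [AddCommGroup M] [Module R M]
    (x : M) (hx : (1 : p.ResidueField) ⊗ₜ[R] x = 0) :
    (1 : Localization.AtPrime p) ⊗ₜ[R] x ∈ (maximalIdeal (Localization.AtPrime p)) •
      (⊤ : Submodule (Localization.AtPrime p) (Localization.AtPrime p ⊗[R] M)) := by
  have h1 : (1 : p.ResidueField) ⊗ₜ[Localization.AtPrime p] ((1 : Localization.AtPrime p) ⊗ₜ[R] x) = 0 := by
    apply (AlgebraTensorModule.cancelBaseChange R (Localization.AtPrime p) (Localization.AtPrime p)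
      p.ResidueField M).injective
    rw [AlgebraTensorModule.cancelBaseChange_tmul, one_smul, hx, map_zero]
  rw [← LinearMap.ker_tensorProductMk]
  exact h1

theorem exists_smul_mem_of_tmul_eq_zero (p : Ideal R) [p.IsPrime] (M : Type u) [AddCommGroup M] [Module R M]
    (x : M) (hx : (1 : p.ResidueField) ⊗ₜ[R] x = 0) :
    ∃ t ∈ p.primeCompl, t • x ∈ (p • ⊤ : Submodule R M) := by
  obtain ⟨s, hs, y, hy, e⟩ := denoms p M _ (mem_smul_top_of_tmul_eq_zero p M x hx)
  rw [← TensorProduct.tmul_smul] at e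
  have h2 : TensorProduct.mk R (Localization.AtPrime p) M 1 (s • x) =
      TensorProduct.mk R (Localization.AtPrime p) M 1 y := e
  obtain ⟨c, hc⟩ := (IsLocalizedModule.eq_iff_exists p.primeCompl _).mp h2
  refine ⟨c * s, p.primeCompl.mul_mem c.2 hs, ?_⟩
  rw [mul_smul]
  rw [Submonoid.smul_def, Submonoid.smul_def] at hc
  rw [hc]
  exact Submodule.smul_mem _ _ hy

end Groth.Agent.Lib.Helper19.FinFlatIso1
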