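import Mathlib
import Groth.Agent.Lib.helper19.FinFlatIso1

set_option autoImplicit false
universe u
open TensorProduct KaehlerDifferential

namespace Groth.Agent.Lib.Helper19.Adapt2

open Groth.Agent.Lib.Helper19

variable (k A B : Type u) [CommRing k] [CommRing A] [CommRing B] [Algebra k A] [Algebra k B]
  [Algebra A B] [IsScalarTower k A B]
  (q : Ideal A) [q.IsPrime]

/-- an element of `I` whose class in `I/I²` lies in `q • (I/I²)` lies in `q I`. -/
theorem mem_mul_of_toCotangent_mem (I : Ideal A) (hq : I ≤ q) (c : I)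
    (h : I.toCotangent c ∈ (q • ⊤ : Submodule A I.Cotangent)) : (c : A) ∈ q * I := by
  have h1 : (q • ⊤ : Submodule A I.Cotangent) = Submodule.map I.toCotangent (q • ⊤) := by
    rw [Submodule.map_smul'', Submodule.map_top, LinearMap.range_eq_top.mpr I.toCotangent_surjective]
  rw [h1] at h
  obtain ⟨c', hc', hcc'⟩ := h
  have h2 : ((c : A) - (c' : A)) ∈ I ^ 2 := (Ideal.toCotangent_eq I).mp hcc'.symm
  have h3 : ((c : A) - (c' : A)) ∈ q * I := by
    rw [pow_two] at h2
    exact Ideal.mul_mono_left hq h2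
  have h6 : (c' : A) ∈ Submodule.map (Submodule.subtype I) (q • (⊤ : Submodule A I)) :=
    Submodule.mem_map_of_mem hc'
  rw [Submodule.map_smul'', Submodule.map_top, Submodule.range_subtype] at h6
  have := Ideal.add_mem _ h3 h6
  simpa using this

/-- Step 2a: an element of `I` whose differential vanishes in `κ ⊗ Ω` lies in `q I` locally. -/
theorem step_a [Algebra.FormallySmooth k A] [Algebra.FormallySmooth k B]
    (hsurj : Function.Surjective (algebraMap A B))
    (hq : RingHom.ker (algebraMap A B) ≤ q) (c : A) (hc : c ∈ RingHom.ker (algebraMap A B))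
    (h0 : (1 : q.ResidueField) ⊗ₜ[A] D k A c = 0) :
    ∃ t ∈ q.primeCompl, t * c ∈ q * RingHom.ker (algebraMap A B) := by
  obtain ⟨l, hl⟩ := (Algebra.FormallySmooth.iff_split_injection (R := k) (P := A) (A := B) hsurj).mp
    inferInstance
  have hx0 : (1 : q.ResidueField) ⊗ₜ[A] ((1 : B) ⊗ₜ[A] D k A c) = 0 := by
    have := congrArg (LinearMap.lTensor q.ResidueField (TensorProduct.mk A B Ω[A⁄k] 1)) h0
    simpa using this
  obtain ⟨t, ht, htx⟩ := FinFlatIso1.exists_smul_mem_of_tmul_eq_zero q (B ⊗[A] Ω[A⁄k]) _ hx0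
  refine ⟨t, ht, ?_⟩
  have hlx : l ((1 : B) ⊗ₜ[A] D k A c) = (RingHom.ker (algebraMap A B)).toCotangent ⟨c, hc⟩ := by
    have := congrArg (fun φ => φ ((RingHom.ker (algebraMap A B)).toCotangent ⟨c, hc⟩)) hl
    simp only [LinearMap.coe_comp, Function.comp_apply, LinearMap.id_coe, id_eq,
      KaehlerDifferential.kerCotangentToTensor_toCotangent] at this
    exact this
  have h1 : l (t • ((1 : B) ⊗ₜ[A] D k A c)) ∈
      (q • ⊤ : Submodule A (RingHom.ker (algebraMap A B)).Cotangent) := by
    have : l (t • ((1 : B) ⊗ₜ[A] D k A c)) ∈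
        Submodule.map l (q • (⊤ : Submodule A (B ⊗[A] Ω[A⁄k]))) :=
      Submodule.mem_map_of_mem htx
    rw [Submodule.map_smul''] at this
    exact Submodule.smul_mono le_rfl le_top this
  rw [map_smul, hlx, ← map_smul] at h1
  have h2 := mem_mul_of_toCotangent_mem A q _ hq _ h1
  simpa using h2

end Groth.Agent.Lib.Helper19.Adapt2
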