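import Mathlib
import Groth.Agent.Lib.helper19.Adapt2

set_option autoImplicit false
universe u
open TensorProduct KaehlerDifferential

namespace Groth.Agent.Lib.Helper19.Adapt3

open Groth.Agent.Lib.Helper19

variable (k A B : Type u) [CommRing k] [CommRing A] [CommRing B] [Algebra k A] [Algebra k B]
  [Algebra A B] [IsScalarTower k A B]
  (q : Ideal A) [q.IsPrime]

theorem tmulD_mul (x y : A) :
    (1 : q.ResidueField) ⊗ₜ[A] D k A (x * y) =
      algebraMap A q.ResidueField x • ((1 : q.ResidueField) ⊗ₜ[A] D k A y) +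
      algebraMap A q.ResidueField y • ((1 : q.ResidueField) ⊗ₜ[A] D k A x) := by
  rw [Derivation.leibniz, TensorProduct.tmul_add, TensorProduct.tmul_smul, TensorProduct.tmul_smul,
    algebraMap_smul, algebraMap_smul]

theorem tmulD_mul_of_mem (x y : A) (hy : y ∈ q) :
    (1 : q.ResidueField) ⊗ₜ[A] D k A (x * y) =
      algebraMap A q.ResidueField x • ((1 : q.ResidueField) ⊗ₜ[A] D k A y) := by
  rw [tmulD_mul, Ideal.algebraMap_residueField_eq_zero.mpr hy, zero_smul, add_zero]

/-- Step 2b. -/
theorem step_b [Algebra.FormallySmooth k A] [Algebra.FormallySmooth k B]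
    (hsurj : Function.Surjective (algebraMap A B))
    (hq : RingHom.ker (algebraMap A B) ≤ q) {n : ℕ} (b : Fin n → A)
    (hb : ∀ l, b l ∈ RingHom.ker (algebraMap A B))
    (c : A) (hc : c ∈ RingHom.ker (algebraMap A B))
    (hspan : (1 : q.ResidueField) ⊗ₜ[A] D k A c ∈ Submodule.span q.ResidueField
        (Set.range fun l => (1 : q.ResidueField) ⊗ₜ[A] D k A (b l))) :
    ∃ t ∈ q.primeCompl, t * c ∈ Ideal.span (Set.range b) ⊔ q * RingHom.ker (algebraMap A B) := by
  classical
  obtain ⟨lam, hlam⟩ := (Submodule.mem_span_range_iff_exists_fun _).mp hspan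
  have hres : ∀ l, ∃ ρ : Localization.AtPrime q, IsLocalRing.residue _ ρ = lam l :=
    fun l => IsLocalRing.residue_surjective (lam l)
  choose ρ hρ using hres
  obtain ⟨s, hs⟩ := IsLocalization.exist_integer_multiples q.primeCompl (Finset.univ) ρ
  have hr : ∀ l, ∃ r : A, algebraMap A (Localization.AtPrime q) r = (s : A) • ρ l :=
    fun l => hs l (Finset.mem_univ l)
  choose r hr using hr
  have hrκ : ∀ l, algebraMap A q.ResidueField (r l) = algebraMap A q.ResidueField (s : A) * lam l := by
    intro l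
    have h1 := congrArg (IsLocalRing.residue (Localization.AtPrime q)) (hr l)
    rw [Algebra.smul_def, map_mul, hρ] at h1
    exact h1
  set c' : A := (s : A) * c - ∑ l, r l * b l with hc'
  have hc'I : c' ∈ RingHom.ker (algebraMap A B) :=
    Ideal.sub_mem _ (Ideal.mul_mem_left _ _ hc)
      (Ideal.sum_mem _ fun l _ => Ideal.mul_mem_left _ _ (hb l))
  have h0 : (1 : q.ResidueField) ⊗ₜ[A] D k A c' = 0 := by
    rw [hc', map_sub, TensorProduct.tmul_sub, map_sum, TensorProduct.tmul_sum,
      tmulD_mul_of_mem k A q _ _ (hq hc)]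
    simp_rw [tmulD_mul_of_mem k A q _ _ (hq (hb _)), hrκ]
    rw [← hlam, Finset.smul_sum, ← Finset.sum_sub_distrib]
    apply Finset.sum_eq_zero
    intro l _
    rw [mul_smul, sub_self]
  obtain ⟨t, ht, htc⟩ := Adapt2.step_a k A B q hsurj hq c' hc'I h0
  refine ⟨t * s, q.primeCompl.mul_mem ht s.2, ?_⟩
  have : t * (s : A) * c = t * ∑ l, r l * b l + t * c' := by
    rw [hc']; ring
  rw [this]
  refine Submodule.add_mem_sup (Ideal.mul_mem_left _ _ (Ideal.sum_mem _ fun l _ => ?_)) htc
  exact Ideal.mul_mem_left _ _ (Ideal.subset_span ⟨l, rfl⟩)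

end Groth.Agent.Lib.Helper19.Adapt3
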