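import Mathlib

set_option autoImplicit false
universe u

namespace Groth.Agent.Lib.Helper19.Adapt4

open IsLocalRing

variable {A : Type u} [CommRing A] (q : Ideal A) [q.IsPrime]

/-- Local Nakayama with explicit denominators: if `N ≤ I`, `I` f.g. and every element of `I` lies
in `N + q I` up to a denominator outside `q`, then some `g ∉ q` maps `I` into `N`. -/
theorem exists_mul_mem (I N : Ideal A) (hfg : I.FG)
    (h : ∀ c ∈ I, ∃ t ∈ q.primeCompl, t * c ∈ N ⊔ q * I) :
    ∃ g ∈ q.primeCompl, ∀ c ∈ I, g * c ∈ N := by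
  classical
  set P := Localization.AtPrime q
  set f := algebraMap A P
  have hle : I.map f ≤ N.map f := by
    apply Submodule.le_of_le_smul_of_le_jacobson_bot (I := maximalIdeal P) (hfg.map f)
    · exact (IsLocalRing.jacobson_eq_maximalIdeal (⊥ : Ideal P) bot_ne_top).ge
    · rw [Ideal.map_le_iff_le_comap]
      intro c hc
      obtain ⟨t, ht, htc⟩ := h c hc
      rw [Ideal.mem_comap]
      have hu : IsUnit (f t) := IsLocalization.map_units P ⟨t, ht⟩
      have h1 : f (t * c) ∈ N.map f ⊔ maximalIdeal P • I.map f := by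
        have h2 : f (t * c) ∈ (N ⊔ q * I).map f := Ideal.mem_map_of_mem f htc
        rw [Ideal.map_sup, Ideal.map_mul] at h2
        have h3 : Ideal.map f q * Ideal.map f I ≤ maximalIdeal P • I.map f := by
          rw [smul_eq_mul]
          apply Ideal.mul_mono_left
          rw [IsLocalization.AtPrime.map_eq_maximalIdeal q P]
        exact (sup_le_sup_left h3 _ : _ ≤ _) h2
      rw [map_mul] at h1
      have := Ideal.mul_mem_left _ (↑hu.unit⁻¹ : P) h1
      rwa [← mul_assoc, IsUnit.val_inv_mul, one_mul] at this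
  have hone : ∀ c ∈ I, ∃ g ∈ q.primeCompl, g * c ∈ N := by
    intro c hc
    have : f c ∈ N.map f := hle (Ideal.mem_map_of_mem f hc)
    rw [IsLocalization.mem_map_algebraMap_iff q.primeCompl] at this
    obtain ⟨⟨n', s⟩, hns⟩ := this
    rw [← map_mul] at hns
    obtain ⟨u, hu⟩ := (IsLocalization.eq_iff_exists q.primeCompl P).mp hns
    refine ⟨u * s, q.primeCompl.mul_mem u.2 s.2, ?_⟩
    have : (u : A) * (s : A) * c = u * (n' : A) := by
      rw [← hu]; ring
    rw [this]
    exact Ideal.mul_mem_left _ _ n'.2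
  obtain ⟨S, hS⟩ := hfg
  have hSI : ∀ c ∈ S, c ∈ I := fun c hc => hS ▸ Ideal.subset_span hc
  choose! g hg hgN using hone
  refine ⟨∏ c ∈ S, g c, ?_, ?_⟩
  · exact Submonoid.prod_mem _ fun c hc => hg c (hSI c hc)
  · intro c hc
    rw [← hS] at hc
    refine Submodule.span_induction ?_ ?_ ?_ ?_ hc
    · intro x hx
      rw [← Finset.mul_prod_erase S g hx, mul_comm (g x), mul_assoc]
      exact Ideal.mul_mem_left _ _ (hgN x (hSI x hx))
    · simp
    · intro x y _ _ hx hy
      rw [mul_add]
      exact Ideal.add_mem _ hx hy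
    · intro a x _ hx
      rw [smul_eq_mul, mul_left_comm]
      exact Ideal.mul_mem_left _ _ hx

end Groth.Agent.Lib.Helper19.Adapt4
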