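import Mathlib

set_option autoImplicit false
universe u
open TensorProduct IsLocalRing

namespace Groth.Agent.Lib.Helper19.FinFlatIso2

theorem ker_fg {R A B : Type u} [CommRing R] [CommRing A] [CommRing B] [Algebra R A] [Algebra R B]
    [Algebra.FinitePresentation R A] [Algebra.FiniteType R B]
    (f : B →ₐ[R] A) (hf : Function.Surjective f) : (RingHom.ker f.toRingHom).FG := by
  obtain ⟨n, g, hg⟩ := Algebra.FiniteType.iff_quotient_mvPolynomial''.mp (inferInstance : Algebra.FiniteType R B)
  convert! (Algebra.FinitePresentation.ker_fg_of_mvPolynomial (f.comp g) (hf.comp hg)).map g.toRingHom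
  simp_rw [RingHom.ker_eq_comap_bot, AlgHom.toRingHom_eq_coe, AlgHom.comp_toRingHom]
  rw [← Ideal.comap_comap, Ideal.map_comap_of_surjective (g : MvPolynomial (Fin n) R →+* B) hg]

theorem local_kill {R A B : Type u} [CommRing R] [IsLocalRing R] [CommRing A] [CommRing B]
    [Algebra R A] [Algebra R B]
    [Module.Finite R A] [Module.Flat R A] [Algebra.FiniteType R B] (f : B →ₐ[R] A)
    (hf : Function.Surjective f)
    (hker : ∀ b ∈ RingHom.ker f.toRingHom, b ∈ (maximalIdeal R • ⊤ : Submodule R B)) :
    ∃ e : B, e - 1 ∈ Ideal.map (algebraMap R B) (maximalIdeal R) ∧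
      ∀ b ∈ RingHom.ker f.toRingHom, e * b = 0 := by
  haveI : Module.Free R A := Module.free_of_flat_of_isLocalRing
  haveI : Module.FinitePresentation R A := Module.finitePresentation_of_projective R A
  haveI : Algebra.FinitePresentation R A := inferInstance
  have hfg := ker_fg f hf
  obtain ⟨σ, hσ⟩ := Module.projective_lifting_property f.toLinearMap LinearMap.id hf
  -- the projection onto the kernel
  let π : B →ₗ[R] B := LinearMap.id - σ.comp f.toLinearMap
  have hπker : ∀ b, π b ∈ RingHom.ker f.toRingHom := by
    intro b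
    rw [RingHom.mem_ker]
    have h1 : f (σ (f b)) = f b := by
      have := LinearMap.congr_fun hσ (f b)
      simpa using this
    simp only [π, LinearMap.sub_apply, LinearMap.id_apply, LinearMap.comp_apply,
      AlgHom.toLinearMap_apply, AlgHom.toRingHom_eq_coe, RingHom.coe_coe, map_sub, h1, sub_self]
  have hπid : ∀ b ∈ RingHom.ker f.toRingHom, π b = b := by
    intro b hb
    rw [RingHom.mem_ker] at hb
    have hb' : f b = 0 := hb
    simp only [π, LinearMap.sub_apply, LinearMap.id_apply, LinearMap.comp_apply,
      AlgHom.toLinearMap_apply, hb', map_zero, sub_zero]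
  -- ker ≤ mB • ker
  obtain ⟨e, he1, he2⟩ := Submodule.exists_sub_one_mem_and_smul_eq_zero_of_fg_of_le_smul
    (Ideal.map (algebraMap R B) (maximalIdeal R)) (RingHom.ker f.toRingHom : Submodule B B) hfg (by
    intro b hb
    have h1 := hker b hb
    rw [← hπid b hb]
    refine Submodule.smul_induction_on h1 ?_ ?_
    · intro r hr n _
      have e1 : π (r • n) = (algebraMap R B r) • π n := by
        rw [map_smul, Algebra.smul_def, smul_eq_mul]
      rw [e1]
      exact Submodule.smul_mem_smul (Ideal.mem_map_of_mem (algebraMap R B) hr) (hπker n)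
    · intro x y hx hy
      rw [map_add]
      exact Submodule.add_mem _ hx hy)
  exact ⟨e, he1, fun b hb => he2 b hb⟩

end Groth.Agent.Lib.Helper19.FinFlatIso2
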