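import Mathlib
import Groth.Agent.Lib.helper19.Adapt1
import Groth.Agent.Lib.helper19.Adapt3
import Groth.Agent.Lib.helper19.Adapt4
import Groth.Agent.Lib.helper19.FinFlatIso2

set_option autoImplicit false
universe u
open TensorProduct KaehlerDifferential

namespace Groth.Agent.Lib.Helper19.Adapt5

open Groth.Agent.Lib.Helper19

/-- **Adapted étale coordinates.** Let `A → B` be a surjection of smooth `k`-algebras and `q` a prime
of `A` containing the kernel `I`. Then near `q` there are étale coordinates `(a, b)` on `A` with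
`b` generating `I`. -/
theorem adapted_coords (k A B : Type u) [CommRing k] [CommRing A] [CommRing B] [Algebra k A]
    [Algebra k B] [Algebra A B] [IsScalarTower k A B] [Algebra.Smooth k A] [Algebra.Smooth k B]
    (hsurj : Function.Surjective (algebraMap A B)) (q : Ideal A) [q.IsPrime]
    (hq : RingHom.ker (algebraMap A B) ≤ q) :
    ∃ (m n : ℕ) (a : Fin m → A) (b : Fin n → A) (g : A), g ∉ q ∧
      (∀ l, b l ∈ RingHom.ker (algebraMap A B)) ∧
      (∀ c ∈ RingHom.ker (algebraMap A B), g * c ∈ Ideal.span (Set.range b)) ∧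
      ∀ (Ag : Type u) [CommRing Ag] [Algebra A Ag] [IsLocalization.Away g Ag],
        ((algebraMap A Ag).comp (MvPolynomial.aeval (Sum.elim a b) :
          MvPolynomial (Fin m ⊕ Fin n) k →ₐ[k] A).toRingHom).Etale := by
  classical
  haveI : Algebra.FinitePresentation k A := Algebra.Smooth.finitePresentation
  haveI : Algebra.FinitePresentation k B := Algebra.Smooth.finitePresentation
  haveI : Algebra.FormallySmooth k A := Algebra.Smooth.formallySmooth
  haveI : Algebra.FormallySmooth k B := Algebra.Smooth.formallySmooth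
  haveI : Module.Finite A Ω[A⁄k] := inferInstance
  haveI : Module.Finite q.ResidueField (q.ResidueField ⊗[A] Ω[A⁄k]) := inferInstance
  haveI : Algebra.IsSmoothAt k q := by
    haveI : Algebra.FormallySmooth A (Localization.AtPrime q) :=
      Algebra.FormallySmooth.of_isLocalization q.primeCompl
    exact Algebra.FormallySmooth.comp k A (Localization.AtPrime q)
  obtain ⟨m, n, a, b, hbI, hspan, hli, hsp⟩ :=
    Adapt1.exists_adapted k A q (RingHom.ker (algebraMap A B))
  -- the ideal is finitely generated
  have hfg : (RingHom.ker (algebraMap A B)).FG := by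
    have := FinFlatIso2.ker_fg (R := k) (A := B) (B := A) (IsScalarTower.toAlgHom k A B) hsurj
    exact this
  -- Nakayama
  obtain ⟨g₂, hg₂, hg₂N⟩ := Adapt4.exists_mul_mem q (RingHom.ker (algebraMap A B))
    (Ideal.span (Set.range b)) hfg
    (fun c hc => Adapt3.step_b k A B q hsurj hq b hbI c hc (hspan c hc))
  -- the chart
  let x : Fin (m + n) → A := Sum.elim a b ∘ finSumFinEquiv.symm
  have hli' : LinearIndependent q.ResidueField
      (fun i => (1 : q.ResidueField) ⊗ₜ[A] D k A (x i)) :=
    hli.comp finSumFinEquiv.symm finSumFinEquiv.symm.injective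
  have hsp' : Submodule.span q.ResidueField
      (Set.range fun i => (1 : q.ResidueField) ⊗ₜ[A] D k A (x i)) = ⊤ := by
    have : (Set.range fun i => (1 : q.ResidueField) ⊗ₜ[A] D k A (x i)) =
        Set.range fun i : Fin m ⊕ Fin n => (1 : q.ResidueField) ⊗ₜ[A] D k A (Sum.elim a b i) := by
      exact finSumFinEquiv.symm.surjective.range_comp
        (fun i : Fin m ⊕ Fin n => (1 : q.ResidueField) ⊗ₜ[A] D k A (Sum.elim a b i))
    rw [this, hsp]
  obtain ⟨g₁, hg₁, hét⟩ := SmChart1v.chart_of_coords k A q x hli' hsp'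
  refine ⟨m, n, a, b, g₁ * g₂, ?_, hbI, ?_, ?_⟩
  · exact fun h => (Ideal.IsPrime.mem_or_mem inferInstance h).elim hg₁ hg₂
  · intro c hc
    rw [mul_assoc]
    exact Ideal.mul_mem_left _ _ (hg₂N c hc)
  · intro Ag _ _ _
    let L₁ := Localization.Away g₁
    have hu : IsUnit (algebraMap A Ag g₁) := by
      have h1 : IsUnit (algebraMap A Ag (g₁ * g₂)) := IsLocalization.Away.algebraMap_isUnit _
      rw [map_mul] at h1
      exact isUnit_of_mul_isUnit_left h1
    let ψ : L₁ →+* Ag := IsLocalization.Away.lift g₁ hu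
    have hψ : ψ.comp (algebraMap A L₁) = algebraMap A Ag := IsLocalization.Away.lift_comp g₁ hu
    letI : Algebra L₁ Ag := ψ.toAlgebra
    haveI : IsScalarTower A L₁ Ag := IsScalarTower.of_algebraMap_eq' hψ.symm
    haveI : Algebra.Etale A L₁ := Algebra.Etale.of_isLocalizationAway g₁
    haveI : Algebra.Etale A Ag := Algebra.Etale.of_isLocalizationAway (g₁ * g₂)
    haveI : Algebra.Etale L₁ Ag := Algebra.Etale.of_restrictScalars A L₁ Ag
    have hψe : ψ.Etale := RingHom.etale_algebraMap.mpr (inferInstanceAs (Algebra.Etale L₁ Ag))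
    let ρ : MvPolynomial (Fin m ⊕ Fin n) k ≃ₐ[k] MvPolynomial (Fin (m + n)) k :=
      MvPolynomial.renameEquiv k finSumFinEquiv
    have hρe : (ρ : MvPolynomial (Fin m ⊕ Fin n) k →+* MvPolynomial (Fin (m + n)) k).Etale :=
      RingHom.Etale.of_bijective ρ.bijective
    have heq : (algebraMap A Ag).comp (MvPolynomial.aeval (Sum.elim a b) :
          MvPolynomial (Fin m ⊕ Fin n) k →ₐ[k] A).toRingHom =
        ψ.comp (((algebraMap A L₁).comp
          (MvPolynomial.aeval x : MvPolynomial (Fin (m + n)) k →ₐ[k] A).toRingHom).comp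
          (ρ : MvPolynomial (Fin m ⊕ Fin n) k →+* MvPolynomial (Fin (m + n)) k)) := by
      rw [← RingHom.comp_assoc, ← RingHom.comp_assoc, hψ, RingHom.comp_assoc]
      congr 1
      apply MvPolynomial.ringHom_ext
      · intro r
        simp [ρ]
      · intro i
        simp [ρ, x]
    rw [heq]
    exact RingHom.Etale.stableUnderComposition _ _ (RingHom.Etale.stableUnderComposition _ _ hρe hét) hψe

end Groth.Agent.Lib.Helper19.Adapt5
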