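import Mathlib
import Groth.Agent.Lib.helper19.Adapt5

set_option autoImplicit false
universe u
open AlgebraicGeometry CategoryTheory CategoryTheory.Limits

namespace Groth.Agent.Lib.Helper19.Adapt7

theorem mem_basicOpen_of_not_mem {X : Scheme.{u}} {U : X.Opens} (hU : IsAffineOpen U) (x : X)
    (hx : x ∈ U) (g : Γ(X, U)) (hg : g ∉ (hU.primeIdealOf ⟨x, hx⟩).asIdeal) :
    x ∈ X.basicOpen g := by
  letI : Algebra Γ(X, U) (X.presheaf.stalk x) :=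
    TopCat.Presheaf.algebra_section_stalk X.presheaf (⟨x, hx⟩ : U)
  haveI := hU.isLocalization_stalk ⟨x, hx⟩
  rw [Scheme.mem_basicOpen X g x hx]
  exact (IsLocalization.AtPrime.isUnit_to_map_iff (X.presheaf.stalk x)
    (hU.primeIdealOf ⟨x, hx⟩).asIdeal g).mpr hg

set_option maxHeartbeats 800000 in
theorem exists_adapted_chart {S X Y : Scheme.{u}} (pX : X ⟶ S) [Smooth pX]
    (i : Y ⟶ X) [IsClosedImmersion i] [Smooth (i ≫ pX)] (y : Y) :
    ∃ (V : S.Opens) (U : X.Opens) (_ : IsAffineOpen V) (hU : IsAffineOpen U) (e : U ≤ pX ⁻¹ᵁ V)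
      (m n : ℕ) (a : Fin m → Γ(X, U)) (b : Fin n → Γ(X, U)),
      i y ∈ U ∧ i.ker.ideal ⟨U, hU⟩ = Ideal.span (Set.range b) ∧
      (MvPolynomial.eval₂Hom (pX.appLE V U e).hom (Sum.elim a b)).Etale := by
  -- affine neighbourhoods
  obtain ⟨_, ⟨V₀, hV₀ : IsAffineOpen V₀, rfl⟩, hsV₀, -⟩ :=
    (S.isBasis_affineOpens).exists_subset_of_mem_open (Set.mem_univ (pX (i y))) isOpen_univ
  obtain ⟨_, ⟨U₀, hU₀ : IsAffineOpen U₀, rfl⟩, hxU₀, e₀'⟩ :=
    (X.isBasis_affineOpens).exists_subset_of_mem_open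
      (show i y ∈ ((pX ⁻¹ᵁ V₀ : X.Opens) : Set X) from hsV₀) (pX ⁻¹ᵁ V₀).isOpen
  have e₀ : U₀ ≤ pX ⁻¹ᵁ V₀ := e₀'
  have hW : IsAffineOpen (i ⁻¹ᵁ U₀) := hU₀.preimage i
  have eY : i ⁻¹ᵁ U₀ ≤ (i ≫ pX) ⁻¹ᵁ V₀ := fun z hz => e₀ hz
  -- algebra structures
  letI algA : Algebra Γ(S, V₀) Γ(X, U₀) := (pX.appLE V₀ U₀ e₀).hom.toAlgebra
  letI algB : Algebra Γ(X, U₀) Γ(Y, i ⁻¹ᵁ U₀) := (i.app U₀).hom.toAlgebra
  letI algkB : Algebra Γ(S, V₀) Γ(Y, i ⁻¹ᵁ U₀) := ((i ≫ pX).appLE V₀ (i ⁻¹ᵁ U₀) eY).hom.toAlgebra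
  haveI : IsScalarTower Γ(S, V₀) Γ(X, U₀) Γ(Y, i ⁻¹ᵁ U₀) := by
    apply IsScalarTower.of_algebraMap_eq'
    simp only [RingHom.algebraMap_toAlgebra]
    rw [← CommRingCat.hom_comp]
    congr 1
    rw [Scheme.Hom.app_eq_appLE, Scheme.Hom.appLE_comp_appLE]
  haveI : Algebra.Smooth Γ(S, V₀) Γ(X, U₀) :=
    HasRingHomProperty.appLE @Smooth pX inferInstance ⟨V₀, hV₀⟩ ⟨U₀, hU₀⟩ e₀
  haveI : Algebra.Smooth Γ(S, V₀) Γ(Y, i ⁻¹ᵁ U₀) :=
    HasRingHomProperty.appLE @Smooth (i ≫ pX) inferInstance ⟨V₀, hV₀⟩ ⟨i ⁻¹ᵁ U₀, hW⟩ eY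
  have hsurj : Function.Surjective (algebraMap Γ(X, U₀) Γ(Y, i ⁻¹ᵁ U₀)) :=
    i.app_surjective U₀ hU₀
  set q := (hU₀.primeIdealOf ⟨i y, hxU₀⟩).asIdeal with hq
  have hker : RingHom.ker (algebraMap Γ(X, U₀) Γ(Y, i ⁻¹ᵁ U₀)) ≤ q := by
    intro c hc
    by_contra hcq
    have h1 : i y ∈ X.basicOpen c := mem_basicOpen_of_not_mem hU₀ (i y) hxU₀ c hcq
    have h2 : y ∈ i ⁻¹ᵁ X.basicOpen c := h1
    rw [Scheme.preimage_basicOpen] at h2
    have h3 : (i.app U₀).hom c = 0 := hc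
    rw [h3, Scheme.basicOpen_zero] at h2
    exact h2
  obtain ⟨m, n, a, b, g, hg, hbI, hgI, hét⟩ :=
    Adapt5.adapted_coords Γ(S, V₀) Γ(X, U₀) Γ(Y, i ⁻¹ᵁ U₀) hsurj q hker
  have hU : IsAffineOpen (X.basicOpen g) := hU₀.basicOpen g
  have e : X.basicOpen g ≤ pX ⁻¹ᵁ V₀ := (X.basicOpen_le g).trans e₀
  let res : Γ(X, U₀) →+* Γ(X, X.basicOpen g) := (X.presheaf.map (homOfLE (X.basicOpen_le g)).op).hom
  haveI hloc : IsLocalization.Away g Γ(X, X.basicOpen g) := hU₀.isLocalization_basicOpen g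
  have hres : algebraMap Γ(X, U₀) Γ(X, X.basicOpen g) = res := rfl
  refine ⟨V₀, X.basicOpen g, hV₀, hU, e, m, n, fun j => res (a j), fun l => res (b l), ?_, ?_, ?_⟩
  · exact mem_basicOpen_of_not_mem hU₀ (i y) hxU₀ g hg
  · -- the ideal
    have h1 : i.ker.ideal ⟨X.basicOpen g, hU⟩ = (i.ker.ideal ⟨U₀, hU₀⟩).map res :=
      (i.ker.map_ideal_basicOpen ⟨U₀, hU₀⟩ g).symm
    rw [h1, Scheme.Hom.ker_apply]
    have hrange : (Set.range fun l => res (b l)) = res '' (Set.range b) := by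
      rw [← Set.range_comp]; rfl
    rw [hrange, ← Ideal.map_span]
    apply le_antisymm
    · rw [Ideal.map_le_iff_le_comap]
      intro c hc
      rw [Ideal.mem_comap]
      have hu : IsUnit (res g) := by
        rw [← hres]; exact IsLocalization.Away.algebraMap_isUnit g
      have h2 : res (g * c) ∈ Ideal.map res (Ideal.span (Set.range b)) :=
        Ideal.mem_map_of_mem res (hgI c hc)
      rw [map_mul] at h2
      have := Ideal.mul_mem_left _ (↑hu.unit⁻¹ : Γ(X, X.basicOpen g)) h2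
      rwa [← mul_assoc, IsUnit.val_inv_mul, one_mul] at this
    · apply Ideal.map_mono
      rw [Ideal.span_le]
      rintro _ ⟨l, rfl⟩
      exact hbI l
  · have key := hét Γ(X, X.basicOpen g)
    have heq : MvPolynomial.eval₂Hom (pX.appLE V₀ (X.basicOpen g) e).hom
          (Sum.elim (fun j => res (a j)) (fun l => res (b l))) =
        (algebraMap Γ(X, U₀) Γ(X, X.basicOpen g)).comp
          (MvPolynomial.aeval (Sum.elim a b) :
            MvPolynomial (Fin m ⊕ Fin n) Γ(S, V₀) →ₐ[Γ(S, V₀)] Γ(X, U₀)).toRingHom := by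
      apply MvPolynomial.ringHom_ext
      · intro r
        simp only [MvPolynomial.eval₂Hom_C, RingHom.comp_apply, AlgHom.toRingHom_eq_coe,
          RingHom.coe_coe, MvPolynomial.aeval_C, hres]
        rw [RingHom.algebraMap_toAlgebra]
        change _ = (pX.appLE V₀ U₀ e₀ ≫ X.presheaf.map (homOfLE (X.basicOpen_le g)).op).hom r
        rw [Scheme.Hom.appLE_map]
      · intro j
        rcases j with j | l <;> simp [hres]
    rw [heq]
    exact key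

end Groth.Agent.Lib.Helper19.Adapt7
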