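import Mathlib
import Groth.Agent.Lib.helper19.SecChart2
import Groth.Agent.Lib.helper19.SecChart3

set_option autoImplicit false
universe u
open AlgebraicGeometry CategoryTheory CategoryTheory.Limits

namespace Groth.Agent.Lib.Helper19.Adapt9

open Groth.Agent.Lib.Helper19

/-- An étale ring-level chart on affine opens gives an étale morphism to affine space over the
whole base. -/
theorem etale_chart {X S : Scheme.{u}} (p : X ⟶ S) (V : S.Opens) (U : X.Opens)
    (hV : IsAffineOpen V) (hU : IsAffineOpen U) (e : U ≤ p ⁻¹ᵁ V) {ι : Type} (v : ι → Γ(X, U))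
    (hét : (MvPolynomial.eval₂Hom (p.appLE V U e).hom v).Etale) :
    Etale (AffineSpace.homOfVector (U.ι ≫ p)
      (fun j : ULift.{u} ι => U.topIso.inv (v j.down))) := by
  haveI : IsAffine (V : Scheme.{u}) := hV
  haveI : IsAffine (U : Scheme.{u}) := hU
  set w : ULift.{u} ι → Γ(U, ⊤) := fun j => U.topIso.inv (v j.down) with hw
  have h1 : Etale (AffineSpace.homOfVector (p.resLE V U e) w) := by
    apply SecChart2.etale_homOfVector
    let α : Γ(V, ⊤) ≃+* Γ(S, V) := V.topIso.commRingCatIsoToRingEquiv
    let β : Γ(U, ⊤) ≃+* Γ(X, U) := U.topIso.commRingCatIsoToRingEquiv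
    let esrc : MvPolynomial (ULift.{u} ι) Γ(V, ⊤) ≃+* MvPolynomial ι Γ(S, V) :=
      (MvPolynomial.renameEquiv Γ(V, ⊤) Equiv.ulift).toRingEquiv.trans (MvPolynomial.mapEquiv ι α)
    have hsq := (arrowResLEAppIso p V U e).hom.w
    have key : MvPolynomial.eval₂Hom (p.resLE V U e).appTop.hom w =
        (β.symm.toRingHom.comp (MvPolynomial.eval₂Hom (p.appLE V U e).hom v)).comp
          esrc.toRingHom := by
      apply MvPolynomial.ringHom_ext
      · intro a
        simp only [MvPolynomial.coe_eval₂Hom, MvPolynomial.eval₂_C, RingHom.comp_apply,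
          RingEquiv.toRingHom_eq_coe, RingHom.coe_coe, esrc, RingEquiv.trans_apply,
          AlgEquiv.coe_ringEquiv, MvPolynomial.renameEquiv_apply, MvPolynomial.rename_C,
          MvPolynomial.mapEquiv_apply, MvPolynomial.map_C]
        rw [RingEquiv.eq_symm_apply]
        have h1 := congrArg (fun q => q.hom a) hsq
        simp only [Arrow.mk_hom, CommRingCat.hom_comp, RingHom.comp_apply] at h1
        exact h1.symm
      · intro j
        simp only [MvPolynomial.coe_eval₂Hom, MvPolynomial.eval₂_X, RingHom.comp_apply,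
          RingEquiv.toRingHom_eq_coe, RingHom.coe_coe, esrc, RingEquiv.trans_apply,
          AlgEquiv.coe_ringEquiv, MvPolynomial.renameEquiv_apply, MvPolynomial.rename_X,
          MvPolynomial.mapEquiv_apply, MvPolynomial.map_X]
        rfl
    rw [key]
    exact RingHom.Etale.respectsIso.2 _ esrc (RingHom.Etale.respectsIso.1 _ β.symm hét)
  have h2 : AffineSpace.homOfVector (U.ι ≫ p) w =
      AffineSpace.homOfVector (p.resLE V U e) w ≫ AffineSpace.map (ULift.{u} ι) V.ι := by
    apply AffineSpace.hom_ext
    · simp [Scheme.Hom.resLE_comp_ι]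
    · intro j
      simp
  rw [h2]
  haveI := SecChart3.isOpenImmersion_map (ULift.{u} ι) V.ι
  infer_instance

end Groth.Agent.Lib.Helper19.Adapt9
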