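import Mathlib
import Groth.Agent.Lib.helper19.Adapt7
import Groth.Agent.Lib.helper19.Adapt9
import Groth.Agent.Lib.helper19.Adapt10

set_option autoImplicit false
universe u
open AlgebraicGeometry CategoryTheory CategoryTheory.Limits

namespace Groth.Agent.Lib.Helper19.Adapt11

open Groth.Agent.Lib.Helper19

theorem iso_hom_inv {A B : CommRingCat.{u}} (e : A ≅ B) (s : B) : e.hom.hom (e.inv.hom s) = s := by
  have := congrArg (fun φ => φ.hom s) e.inv_hom_id
  simpa using this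

theorem iso_inv_hom {A B : CommRingCat.{u}} (e : A ≅ B) (s : A) : e.inv.hom (e.hom.hom s) = s := by
  have := congrArg (fun φ => φ.hom s) e.hom_inv_id
  simpa using this

theorem ker_conj {A B A' B' : CommRingCat.{u}} (e : A ≅ A') (e' : B ≅ B') (φ : A' ⟶ B') :
    RingHom.ker (e.hom ≫ φ ≫ e'.inv).hom = (RingHom.ker φ.hom).map e.inv.hom := by
  ext r
  simp only [RingHom.mem_ker, CommRingCat.hom_comp, RingHom.comp_apply]
  constructor
  · intro h
    have h4 : φ.hom (e.hom.hom r) = 0 := by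
      have := congrArg (e'.hom.hom) h
      rwa [iso_hom_inv, map_zero] at this
    rw [← iso_inv_hom e r]
    exact Ideal.mem_map_of_mem _ h4
  · intro h
    have hle : (RingHom.ker φ.hom).map e.inv.hom ≤
        RingHom.ker (e'.inv.hom.comp (φ.hom.comp e.hom.hom)) := by
      rw [Ideal.map_le_iff_le_comap]
      intro s hs
      simp only [Ideal.mem_comap, RingHom.mem_ker, RingHom.comp_apply]
      rw [iso_hom_inv, RingHom.mem_ker.mp hs, map_zero]
    exact hle h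

theorem ker_morphismRestrict_appTop {X Y : Scheme.{u}} (i : Y ⟶ X) (U : X.Opens) :
    RingHom.ker (i ∣_ U).appTop.hom =
      (RingHom.ker (i.app U).hom).map U.topIso.inv.hom := by
  have hsq := (arrowResLEAppIso i U (i ⁻¹ᵁ U) le_rfl).hom.w
  have h2 : (arrowResLEAppIso i U (i ⁻¹ᵁ U) le_rfl).hom.left = U.topIso.hom := rfl
  have h3 : (arrowResLEAppIso i U (i ⁻¹ᵁ U) le_rfl).hom.right = (i ⁻¹ᵁ U).topIso.hom := rfl
  simp only [Arrow.mk_hom] at hsq
  rw [h2, h3] at hsq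
  have h1 : (i ∣_ U).appTop = U.topIso.hom ≫ i.app U ≫ (i ⁻¹ᵁ U).topIso.inv := by
    rw [← Scheme.Hom.resLE_eq_morphismRestrict, ← Category.assoc, Iso.eq_comp_inv,
      ← Scheme.Hom.appLE_eq_app]
    exact hsq.symm
  rw [h1, ker_conj]

theorem main {S X Y : Scheme.{u}} (pX : X ⟶ S) (pY : Y ⟶ S) [Smooth pX] [Smooth pY]
    (i : Y ⟶ X) [IsClosedImmersion i] (w : i ≫ pX = pY) (y : Y) :
    ∃ (U : X.Opens) (m n : ℕ) (π : (U : Scheme.{u}) ⟶ 𝔸(ULift.{u} (Fin m ⊕ Fin n); S)) (ρ : (↑(i ⁻¹ᵁ U) : Scheme.{u}) ⟶ 𝔸(ULift.{u} (Fin m); S)),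
      i y ∈ U ∧ Etale π ∧ π ≫ (𝔸(ULift.{u} (Fin m ⊕ Fin n); S) ↘ S) = U.ι ≫ pX ∧
      IsPullback ρ (i ∣_ U)
        (AffineSpace.homOfVector (𝔸(ULift.{u} (Fin m); S) ↘ S)
          (fun j : ULift.{u} (Fin m ⊕ Fin n) => Sum.elim (fun a => AffineSpace.coord S (ULift.up a)) (fun _ => 0) j.down))
        π := by
  subst w
  obtain ⟨V, U, hV, hU, e, m, n, a, b, hx, hker, hét⟩ := Adapt7.exists_adapted_chart pX i y
  haveI : IsAffine (U : Scheme.{u}) := hU
  let c : ULift.{u} (Fin m ⊕ Fin n) → Γ(U, ⊤) := fun j => U.topIso.inv (Sum.elim a b j.down)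
  have hpb := Adapt10.isPullback_chart (S := S) (U := U) (Z := (i ⁻¹ᵁ U : Y.Opens))
    (U.ι ≫ pX) (i ∣_ U) (m := m) (n := n) c (by
      rw [ker_morphismRestrict_appTop, ← Scheme.Hom.ker_apply i ⟨U, hU⟩, hker, Ideal.map_span]
      congr 1
      rw [← Set.range_comp]
      rfl)
  refine ⟨U, m, n, AffineSpace.homOfVector (U.ι ≫ pX) c, _, hx, ?_, ?_, hpb⟩
  · exact Adapt9.etale_chart pX V U hV hU e (Sum.elim a b) hét
  · exact AffineSpace.homOfVector_over _ _

end Groth.Agent.Lib.Helper19.Adapt11
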