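import Mathlib
import Groth.Agent.Lib.Helper21.KosPoly

set_option autoImplicit false
universe u

namespace Groth.Agent.Lib.Helper19.Adapt6

open MvPolynomial

variable (k : Type u) [CommRing k] (m n : ℕ)

/-- the last `n` variables form a weakly regular sequence. -/
theorem isWeaklyRegular_X_inr :
    RingTheory.Sequence.IsWeaklyRegular (MvPolynomial (Fin m ⊕ Fin n) k)
      (List.ofFn fun l : Fin n => (X (Sum.inr l) : MvPolynomial (Fin m ⊕ Fin n) k)) := by
  constructor
  intro i hi
  rw [isSMulRegular_quotient_iff_mem_of_smul_mem]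
  have hi' : i < n := by
    rw [List.length_ofFn] at hi
    exact hi
  have hI : (Ideal.ofList ((List.ofFn (fun l : Fin n =>
      (X (Sum.inr l) : MvPolynomial (Fin m ⊕ Fin n) k))).take i) •
        (⊤ : Submodule (MvPolynomial (Fin m ⊕ Fin n) k) (MvPolynomial (Fin m ⊕ Fin n) k))) =
      Ideal.span ((fun j : Fin m ⊕ Fin n => (X j : MvPolynomial (Fin m ⊕ Fin n) k) ^ 1) ''
        (Sum.inr '' {j : Fin n | j.val < i})) := by
    rw [Ideal.smul_eq_mul, Ideal.mul_top, Ideal.ofList]
    have := Groth.Agent.Lib.Helper21.KosPoly.setOf_mem_take_ofFn (fun l : Fin n =>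
      (X (Sum.inr l) : MvPolynomial (Fin m ⊕ Fin n) k)) i
    rw [this, Set.image_image]
    simp only [pow_one]
  rw [hI]
  intro p hp
  rw [List.getElem_ofFn, smul_eq_mul] at hp
  refine Groth.Agent.Lib.Helper21.KosPoly.mem_of_X_pow_mul_mem
    (Sum.inr '' {j : Fin n | j.val < i}) 1 (Sum.inr ⟨i, hi'⟩) ?_ p (by simpa using hp)
  rintro ⟨j, hj, hji⟩
  have : j = ⟨i, hi'⟩ := Sum.inr_injective hji
  rw [this] at hj
  exact lt_irrefl i hj

end Groth.Agent.Lib.Helper19.Adapt6
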