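import Mathlib
import Groth.Prelude.Def_Mor2
import Groth.Agent.Lib.helper19.Adapt6
import Groth.Agent.Lib.helper19.Adapt7

set_option autoImplicit false
universe u
open AlgebraicGeometry CategoryTheory CategoryTheory.Limits

namespace Groth.Agent.Lib.Helper19.Adapt8

theorem eq_bot_of_subsingleton {Z : Scheme.{u}} (W : Z.Opens) (h : Subsingleton Γ(Z, W)) :
    W = ⊥ := by
  have h1 : Z.basicOpen (1 : Γ(Z, W)) = W := Z.basicOpen_of_isUnit isUnit_one
  have h2 : Z.basicOpen (0 : Γ(Z, W)) = ⊥ := Z.basicOpen_zero W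
  rw [← h1, Subsingleton.elim (1 : Γ(Z, W)) 0, h2]

/-- A closed immersion between smooth `S`-schemes is a regular closed immersion. -/
theorem regular_of_smooth {S X Y : Scheme.{u}} (pX : X ⟶ S) [Smooth pX]
    (i : Y ⟶ X) [IsClosedImmersion i] [Smooth (i ≫ pX)] : Mor2.IsRegularClosedImmersion i := by
  refine ⟨inferInstance, fun z => ?_⟩
  obtain ⟨V, U, hV, hU, e, m, n, a, b, hx, hker, hét⟩ := Adapt7.exists_adapted_chart pX i z
  refine ⟨U, hU, hx, List.ofFn b, ?_, ?_⟩
  · have hof : Ideal.ofList (List.ofFn b) = Ideal.span (Set.range b) := by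
      unfold Ideal.ofList
      congr 1
      ext r
      simp [List.mem_ofFn]
    letI alg : Algebra (MvPolynomial (Fin m ⊕ Fin n) Γ(S, V)) Γ(X, U) :=
      (MvPolynomial.eval₂Hom (pX.appLE V U e).hom (Sum.elim a b)).toAlgebra
    haveI : Module.Flat (MvPolynomial (Fin m ⊕ Fin n) Γ(S, V)) Γ(X, U) :=
      (RingHom.Etale.iff_flat_and_formallyUnramified.mp hét).1
    have h1 := (Adapt6.isWeaklyRegular_X_inr Γ(S, V) m n).of_flat (S := Γ(X, U))
    have h2 : (List.ofFn fun l : Fin n =>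
        (MvPolynomial.X (Sum.inr l) : MvPolynomial (Fin m ⊕ Fin n) Γ(S, V))).map
          (algebraMap (MvPolynomial (Fin m ⊕ Fin n) Γ(S, V)) Γ(X, U)) = List.ofFn b := by
      rw [List.map_ofFn]
      congr 1
      funext l
      simp [RingHom.algebraMap_toAlgebra]
    rw [h2] at h1
    refine ⟨h1, ?_⟩
    rw [Ideal.smul_eq_mul, Ideal.mul_top, hof, ← hker, Scheme.Hom.ker_apply]
    intro htop
    have h3 : (1 : Γ(X, U)) ∈ RingHom.ker (i.app U).hom := by rw [← htop]; trivial
    rw [RingHom.mem_ker, map_one] at h3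
    have h4 : Subsingleton Γ(Y, i ⁻¹ᵁ U) := subsingleton_of_zero_eq_one h3.symm
    have h5 := eq_bot_of_subsingleton (i ⁻¹ᵁ U) h4
    have h6 : z ∈ i ⁻¹ᵁ U := hx
    rw [h5] at h6
    exact h6
  · rw [hker]
    unfold Ideal.ofList
    congr 1
    ext r
    simp [List.mem_ofFn]

end Groth.Agent.Lib.Helper19.Adapt8
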