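import Mathlib
import Groth.Agent.Lib.Helper25.GlobalCI
import Groth.Agent.Lib.Helper25.StdSmoothDim
import Groth.Agent.Lib.Helper20.SegTrdeg

set_option autoImplicit false
set_option linter.unusedVariables false
set_option linter.style.haveILetI false
universe u

namespace Groth.Agent.Lib.Helper19.AffBertA

open TensorProduct KaehlerDifferential

/-- equidimensionality passes to principal localisations (algebras of finite type over a field) -/
theorem equidim_away (k : Type u) [Field k] (A : Type u) [CommRing A] [Algebra k A]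
    [Algebra.FiniteType k A] (r : ℕ)
    (hA : ∀ P ∈ minimalPrimes A, ringKrullDim (A ⧸ P) = r) (f : A)
    (B : Type u) [CommRing B] [Algebra A B] [IsLocalization.Away f B] :
    ∀ P' ∈ minimalPrimes B, ringKrullDim (B ⧸ P') = r := by
  intro P' hP'
  haveI hP'prime : P'.IsPrime := Ideal.minimalPrimes_isPrime hP'
  have hmin := IsLocalization.minimalPrimes_map (Submonoid.powers f) B (⊥ : Ideal A)
  rw [Ideal.map_bot] at hmin
  have hP : P'.under A ∈ minimalPrimes A := by
    have : P' ∈ (⊥ : Ideal B).minimalPrimes := hP'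
    rw [hmin] at this
    exact this
  set P : Ideal A := P'.under A with hPdef
  haveI : P.IsPrime := Ideal.minimalPrimes_isPrime hP
  have hmap : P.map (algebraMap A B) = P' := IsLocalization.map_comap (Submonoid.powers f) B P'
  have hfP : f ∉ P := by
    intro hf
    apply hP'prime.ne_top
    rw [Ideal.eq_top_iff_one]
    have hu : IsUnit (algebraMap A B f) := IsLocalization.Away.algebraMap_isUnit f
    have hmem : algebraMap A B f ∈ P' := hf
    obtain ⟨u, hu⟩ := hu
    have := P'.mul_mem_left (↑u⁻¹ : B) hmem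
    rwa [← hu, Units.inv_mul] at this
  have hfbar : Ideal.Quotient.mk P f ≠ 0 := fun h => hfP (Ideal.Quotient.eq_zero_iff_mem.1 h)
  haveI : Algebra.FiniteType k (A ⧸ P) :=
    Algebra.FiniteType.of_surjective (Ideal.Quotient.mkₐ k P) (Ideal.Quotient.mkₐ_surjective k P)
  haveI hloc : IsLocalization.Away (Ideal.Quotient.mk P f) (B ⧸ P.map (algebraMap A B)) := by
    have h : IsLocalization (Algebra.algebraMapSubmonoid (A ⧸ P) (Submonoid.powers f))
        (B ⧸ P.map (algebraMap A B)) := inferInstance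
    rw [Algebra.algebraMapSubmonoid_powers] at h
    exact h
  have e : Localization.Away (Ideal.Quotient.mk P f) ≃+* (B ⧸ P.map (algebraMap A B)) :=
    (IsLocalization.algEquiv (Submonoid.powers (Ideal.Quotient.mk P f))
      (Localization.Away (Ideal.Quotient.mk P f)) (B ⧸ P.map (algebraMap A B))).toRingEquiv
  have h1 : ringKrullDim (B ⧸ P.map (algebraMap A B)) = r := by
    rw [← ringKrullDim_eq_of_ringEquiv e,
      Groth.Agent.Lib.Helper25.GlobalCI.ringKrullDim_away_of_isDomain k (A ⧸ P) _ hfbar]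
    exact hA P hP
  rw [← hmap]
  exact h1

set_option maxHeartbeats 800000 in
/-- on a smooth equidimensional algebra over a field, the differentials have rank `r` everywhere -/
theorem rankAtStalk_kaehler (k : Type u) [Field k] (B : Type u) [CommRing B] [Algebra k B]
    [Algebra.Smooth k B] (r : ℕ)
    (hB : ∀ P ∈ minimalPrimes B, ringKrullDim (B ⧸ P) = r) (𝔮 : PrimeSpectrum B) :
    Module.rankAtStalk Ω[B⁄k] 𝔮 = r := by
  haveI : Algebra.FiniteType k B := Algebra.FiniteType.of_finitePresentation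
  haveI := 𝔮.2
  obtain ⟨g, hg𝔮, hstd⟩ := Algebra.IsSmoothAt.exists_notMem_isStandardSmooth k 𝔮.asIdeal
  set Bg := Localization.Away g with hBg
  have hdisj : Disjoint (Submonoid.powers g : Set B) (𝔮.asIdeal : Set B) := by
    rw [Set.disjoint_left]
    rintro x ⟨n, rfl⟩ hx
    exact hg𝔮 (𝔮.2.mem_of_pow_mem n hx)
  haveI h𝔮' : (𝔮.asIdeal.map (algebraMap B Bg)).IsPrime :=
    IsLocalization.isPrime_of_isPrime_disjoint (Submonoid.powers g) _ _ 𝔮.2 hdisj
  haveI : Nontrivial Bg := by
    by_contra hnt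
    rw [not_nontrivial_iff_subsingleton] at hnt
    exact h𝔮'.ne_top (Subsingleton.elim _ _)
  obtain ⟨ι, σ, hι, hσ, ⟨P⟩⟩ := hstd
  set d := P.dimension with hd
  haveI hrel : Algebra.IsStandardSmoothOfRelativeDimension d k Bg := ⟨ι, σ, hι, hσ, ⟨P, rfl⟩⟩
  haveI hstd' : Algebra.IsStandardSmooth k Bg := ⟨ι, σ, hι, hσ, ⟨P⟩⟩
  have hrank : Module.rank Bg Ω[Bg⁄k] = d :=
    Algebra.IsStandardSmoothOfRelativeDimension.rank_kaehlerDifferential d
  have hdim : ringKrullDim Bg = d :=
    Groth.Agent.Lib.Helper25.StdSmoothDim.ringKrullDim_eq_of_isStandardSmoothOfRelativeDimension k d Bg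
  have hBg' := equidim_away k B r hB g Bg
  haveI : Algebra.FiniteType k Bg := Algebra.FiniteType.of_finitePresentation
  have hdim' : ringKrullDim (Bg ⧸ (⊥ : Ideal Bg)) = d := by
    rw [ringKrullDim_eq_of_ringEquiv (RingEquiv.quotientBot Bg)]
    exact hdim
  obtain ⟨Q, hQ, hQp, hQd, -⟩ :=
    Groth.Agent.Lib.Helper20.SegTrdeg.exists_minimalPrime_trdeg k Bg ⊥ d hdim'
  have hdr : d = r := by
    have h1 := hBg' Q hQ
    rw [hQd] at h1
    exact_mod_cast h1
  -- transfer the rank
  haveI : Algebra.FormallyEtale B Bg := Algebra.FormallyEtale.of_isLocalization (Submonoid.powers g)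
  have hbc : IsBaseChange Bg (KaehlerDifferential.map k k B Bg) :=
    KaehlerDifferential.isBaseChange_of_formallyEtale k B Bg
  let 𝔮' : PrimeSpectrum Bg := ⟨𝔮.asIdeal.map (algebraMap B Bg), h𝔮'⟩
  have hcomap : 𝔮'.comap (algebraMap B Bg) = 𝔮 := by
    apply PrimeSpectrum.ext
    exact IsLocalization.comap_map_of_isPrime_disjoint (Submonoid.powers g) Bg 𝔮.2 hdisj
  have h2 := Module.rankAtStalk_isBaseChange hbc 𝔮'
  rw [hcomap] at h2
  rw [← h2, Module.rankAtStalk_eq_finrank_of_free, ← hdr]
  exact Module.finrank_eq_of_rank_eq hrank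

end Groth.Agent.Lib.Helper19.AffBertA
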