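import Mathlib
import Groth.Agent.Lib.Helper5.QuotKaehler

set_option autoImplicit false
set_option linter.unusedVariables false
set_option linter.unusedSectionVars false
set_option linter.style.haveILetI false
universe u

namespace Groth.Agent.Lib.Helper19.AffBertB

open TensorProduct KaehlerDifferential Groth.Agent.Lib.Helper5

section Kaehler

variable (R : Type*) [CommRing R] {P B L : Type*} [CommRing P] [CommRing B] [CommRing L]
  [Algebra R P] [Algebra R B] [Algebra P B] [IsScalarTower R P B] [Algebra P L]
  [Algebra B L] [IsScalarTower P B L]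

lemma up_surjective (hsurj : Function.Surjective (algebraMap P B)) :
    Function.Surjective (ImperfTower.up R P B L) := by
  have h1 : Function.Surjective ((KaehlerDifferential.mapBaseChange R P B).baseChange L) := by
    rw [LinearMap.baseChange_eq_ltensor]
    exact LinearMap.lTensor_surjective L (KaehlerDifferential.mapBaseChange_surjective R P B hsurj)
  intro y
  obtain ⟨x, rfl⟩ := h1 y
  refine ⟨TensorProduct.AlgebraTensorModule.cancelBaseChange P B L L Ω[P⁄R] x, ?_⟩
  rw [ImperfTower.up_apply, LinearEquiv.symm_apply_apply]

lemma tmul_D_mem_span {ι : Type*} (F : ι → P)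
    (hker : RingHom.ker (algebraMap P B) = Ideal.span (Set.range F)) (y : P)
    (hy : y ∈ RingHom.ker (algebraMap P B)) :
    (1 : B) ⊗ₜ[P] KaehlerDifferential.D R P y ∈
      Submodule.span B (Set.range fun i => (1 : B) ⊗ₜ[P] KaehlerDifferential.D R P (F i)) := by
  rw [hker] at hy
  have key : ∀ y : P, y ∈ Ideal.span (Set.range F) →
      (1 : B) ⊗ₜ[P] KaehlerDifferential.D R P y ∈
      Submodule.span B (Set.range fun i => (1 : B) ⊗ₜ[P] KaehlerDifferential.D R P (F i)) := by
    intro y hy
    induction hy using Submodule.span_induction with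
    | mem x hm =>
      obtain ⟨i, rfl⟩ := hm
      exact Submodule.subset_span ⟨i, rfl⟩
    | zero => rw [map_zero, TensorProduct.tmul_zero]; exact Submodule.zero_mem _
    | add x y _ _ h1 h2 =>
      rw [map_add, TensorProduct.tmul_add]; exact Submodule.add_mem _ h1 h2
    | smul a x hx h1 =>
      have hx0 : algebraMap P B x = 0 := by
        have : x ∈ RingHom.ker (algebraMap P B) := hker ▸ hx
        exact this
      have : (1 : B) ⊗ₜ[P] KaehlerDifferential.D R P (a • x) =
          (algebraMap P B a) • ((1 : B) ⊗ₜ[P] KaehlerDifferential.D R P x) := by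
        rw [smul_eq_mul, Derivation.leibniz, TensorProduct.tmul_add, TensorProduct.tmul_smul,
          TensorProduct.tmul_smul, TensorProduct.smul_tmul', TensorProduct.smul_tmul',
          Algebra.smul_def, Algebra.smul_def, mul_one, mul_one, hx0, TensorProduct.zero_tmul,
          add_zero, TensorProduct.smul_tmul', smul_eq_mul, mul_one]
      rw [this]
      exact Submodule.smul_mem _ _ h1
  exact key y hy

lemma ker_mapBaseChange_eq_span (hsurj : Function.Surjective (algebraMap P B)) {ι : Type*}
    (F : ι → P) (hker : RingHom.ker (algebraMap P B) = Ideal.span (Set.range F)) :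
    LinearMap.ker (KaehlerDifferential.mapBaseChange R P B) =
      Submodule.span B (Set.range fun i => (1 : B) ⊗ₜ[P] KaehlerDifferential.D R P (F i)) := by
  apply le_antisymm
  · intro z hz
    have hex := KaehlerDifferential.exact_kerCotangentToTensor_mapBaseChange R P B hsurj
    obtain ⟨w, rfl⟩ := (hex z).1 hz
    obtain ⟨y, rfl⟩ := Ideal.toCotangent_surjective _ w
    rw [kerCotangentToTensor_toCotangent]
    exact tmul_D_mem_span R F hker y y.2
  · rw [Submodule.span_le]
    rintro _ ⟨i, rfl⟩
    have hFi : algebraMap P B (F i) = 0 := by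
      have : F i ∈ RingHom.ker (algebraMap P B) := by
        rw [hker]; exact Ideal.subset_span ⟨i, rfl⟩
      exact this
    change KaehlerDifferential.mapBaseChange R P B _ = 0
    rw [KaehlerDifferential.mapBaseChange_tmul, KaehlerDifferential.map_D, hFi, map_zero,
      smul_zero]

/-- the kernel of `L ⊗_P Ω_P → L ⊗_B Ω_B` for a quotient `B` of `P` -/
theorem ker_up_eq_span (hsurj : Function.Surjective (algebraMap P B)) {ι : Type*}
    (F : ι → P) (hker : RingHom.ker (algebraMap P B) = Ideal.span (Set.range F)) :
    LinearMap.ker (ImperfTower.up R P B L) =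
      Submodule.span L (Set.range fun i => (1 : L) ⊗ₜ[P] KaehlerDifferential.D R P (F i)) := by
  apply le_antisymm
  · intro z hz
    rw [LinearMap.mem_ker, ImperfTower.up_apply] at hz
    have h1 := QuotKaehler.ker_baseChange_le_span (L := L) (KaehlerDifferential.mapBaseChange R P B)
      (KaehlerDifferential.mapBaseChange_surjective R P B hsurj) _
      (ker_mapBaseChange_eq_span R hsurj F hker) hz
    set e := TensorProduct.AlgebraTensorModule.cancelBaseChange P B L L Ω[P⁄R] with he
    have h2 : z = e (e.symm z) := (e.apply_symm_apply z).symm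
    rw [h2]
    have h3 : Submodule.span L ((fun s => (1 : L) ⊗ₜ[B] s) ''
        (Set.range fun i => (1 : B) ⊗ₜ[P] KaehlerDifferential.D R P (F i))) ≤
        (Submodule.span L (Set.range fun i =>
          (1 : L) ⊗ₜ[P] KaehlerDifferential.D R P (F i))).comap e.toLinearMap := by
      rw [Submodule.span_le]
      rintro _ ⟨_, ⟨i, rfl⟩, rfl⟩
      refine Submodule.mem_comap.2 ?_
      rw [LinearEquiv.coe_coe, he, TensorProduct.AlgebraTensorModule.cancelBaseChange_tmul,
        one_smul]
      exact Submodule.subset_span ⟨i, rfl⟩
    exact h3 h1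
  · rw [Submodule.span_le]
    rintro _ ⟨i, rfl⟩
    have hFi : algebraMap P B (F i) = 0 := by
      have : F i ∈ RingHom.ker (algebraMap P B) := by
        rw [hker]; exact Ideal.subset_span ⟨i, rfl⟩
      exact this
    change ImperfTower.up R P B L _ = 0
    rw [ImperfTower.up_tmul_D, hFi, map_zero, TensorProduct.tmul_zero]

end Kaehler

section Field

variable (R : Type*) [CommRing R] {P B L : Type*} [CommRing P] [CommRing B] [Field L]
  [Algebra R P] [Algebra R B] [Algebra P B] [IsScalarTower R P B] [Algebra P L]
  [Algebra B L] [IsScalarTower P B L]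

/-- cutting by one equation whose differential does not vanish at the point drops the fibre
dimension of the differentials by one -/
theorem finrank_fibre_succ [Module.Finite P Ω[P⁄R]]
    (hsurj : Function.Surjective (algebraMap P B)) (F : P)
    (hker : RingHom.ker (algebraMap P B) = Ideal.span {F})
    (l : Ω[P⁄R] →ₗ[P] P) (hl : algebraMap P L (l (D R P F)) ≠ 0) :
    Module.finrank L (L ⊗[B] Ω[B⁄R]) + 1 = Module.finrank L (L ⊗[P] Ω[P⁄R]) := by
  have hker' : RingHom.ker (algebraMap P B) = Ideal.span (Set.range fun _ : Unit => F) := by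
    rw [hker, Set.range_const]
  have h1 := ker_up_eq_span (L := L) R hsurj (fun _ : Unit => F) hker'
  have h2 := up_surjective (L := L) R (P := P) (B := B) hsurj
  set e : L ⊗[P] Ω[P⁄R] := (1 : L) ⊗ₜ[P] D R P F with he
  have hrange : (Set.range fun _ : Unit => (1 : L) ⊗ₜ[P] D R P F) = {e} := Set.range_const
  rw [hrange] at h1
  have hene : e ≠ 0 := by
    intro h0
    apply hl
    have := congrArg (LinearMap.liftBaseChange L ((Algebra.linearMap P L).comp l)) h0
    rw [he, LinearMap.liftBaseChange_tmul, map_zero, one_smul, LinearMap.comp_apply,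
      Algebra.linearMap_apply] at this
    exact this
  have h3 := LinearMap.finrank_range_add_finrank_ker (ImperfTower.up R P B L)
  rw [h1, finrank_span_singleton hene, LinearMap.range_eq_top.2 h2, finrank_top] at h3
  exact h3

end Field

section Rank

open Module

/-- fibre dimension over any field-valued point computes the rank at the corresponding prime -/
theorem finrank_tensor_eq_rankAtStalk {R : Type u} {M : Type u} {L : Type u} [CommRing R]
    [AddCommGroup M] [Module R M] [Module.Finite R M] [Module.Flat R M] [Field L] [Algebra R L]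
    (𝔮 : PrimeSpectrum R) (h𝔮 : RingHom.ker (algebraMap R L) = 𝔮.asIdeal) :
    Module.finrank L (L ⊗[R] M) = Module.rankAtStalk M 𝔮 := by
  let p : PrimeSpectrum L := ⟨⊥, Ideal.isPrime_bot⟩
  have h1 := Module.rankAtStalk_baseChange (R := R) (M := M) (S := L) p
  have hp : p.comap (algebraMap R L) = 𝔮 := by
    apply PrimeSpectrum.ext
    rw [← h𝔮]
    rfl
  rw [hp, Module.rankAtStalk_eq_finrank_of_free] at h1
  exact h1

end Rank

section Locally

/-- a smooth algebra whose differentials have constant rank `d` is locally standard smooth of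
relative dimension `d` -/
theorem locally_isStandardSmoothOfRelativeDimension (k : Type u) [CommRing k] (C : Type u)
    [CommRing C] [Algebra k C] [Algebra.Smooth k C] (d : ℕ)
    (h : ∀ 𝔫 : PrimeSpectrum C, Module.rankAtStalk Ω[C⁄k] 𝔫 = d) :
    RingHom.Locally (RingHom.IsStandardSmoothOfRelativeDimension d) (algebraMap k C) := by
  obtain ⟨s, hs, hstd⟩ := Algebra.Smooth.exists_span_eq_top_isStandardSmooth (R := k) (S := C)
  refine ⟨{t ∈ s | Nontrivial (Localization.Away t)}, ?_, ?_⟩
  · by_contra hne
    obtain ⟨𝔪, h𝔪, hle⟩ := Ideal.exists_le_maximal _ hne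
    apply h𝔪.ne_top
    rw [eq_top_iff, ← hs, Ideal.span_le]
    intro t ht
    by_cases hnt : Nontrivial (Localization.Away t)
    · exact hle (Ideal.subset_span ⟨ht, hnt⟩)
    · rw [not_nontrivial_iff_subsingleton] at hnt
      have h0 : (0 : C) ∈ Submonoid.powers t :=
        (IsLocalization.subsingleton_iff (S := Localization.Away t)
          (M := Submonoid.powers t)).1 hnt
      obtain ⟨n, hn⟩ := h0
      have hn' : t ^ n = 0 := hn
      exact h𝔪.isPrime.mem_of_pow_mem n (hn'.symm ▸ 𝔪.zero_mem)
  · rintro t ⟨ht, hnt⟩
    haveI := hnt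
    haveI hst : Algebra.IsStandardSmooth k (Localization.Away t) := hstd t ht
    rw [← IsScalarTower.algebraMap_eq k C (Localization.Away t),
      RingHom.isStandardSmoothOfRelativeDimension_algebraMap,
      Algebra.IsStandardSmoothOfRelativeDimension.iff_of_isStandardSmooth]
    obtain ⟨𝔪, h𝔪⟩ := Ideal.exists_maximal (Localization.Away t)
    let 𝔫' : PrimeSpectrum (Localization.Away t) := ⟨𝔪, h𝔪.isPrime⟩
    haveI : Algebra.FormallyEtale C (Localization.Away t) :=
      Algebra.FormallyEtale.of_isLocalization (Submonoid.powers t)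
    have hbc : IsBaseChange (Localization.Away t)
        (KaehlerDifferential.map k k C (Localization.Away t)) :=
      KaehlerDifferential.isBaseChange_of_formallyEtale k C (Localization.Away t)
    haveI : Algebra.FiniteType k C := Algebra.FiniteType.of_finitePresentation
    have h2 := Module.rankAtStalk_isBaseChange hbc 𝔫'
    rw [h, Module.rankAtStalk_eq_finrank_of_free] at h2
    simp only [Pi.natCast_apply, Nat.cast_id] at h2
    rw [← Module.finrank_eq_rank, h2]

end Locally

end Groth.Agent.Lib.Helper19.AffBertB
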