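import Mathlib

set_option autoImplicit false
set_option linter.unusedVariables false
set_option linter.style.haveILetI false
universe u

namespace Groth.Agent.Lib.Helper19.JetsDelta

open TensorProduct KaehlerDifferential

/-- a submodule of a finite module which is everything modulo every maximal ideal is everything -/
theorem eq_top_of_forall_maximal {A : Type*} [CommRing A] {T : Type*} [AddCommGroup T] [Module A T]
    [Module.Finite A T] (N : Submodule A T)
    (h : ∀ 𝔪 : Ideal A, 𝔪.IsMaximal → N ⊔ 𝔪 • (⊤ : Submodule A T) = ⊤) : N = ⊤ := by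
  by_contra hN
  let I : Ideal A := N.colon ⊤
  have hI : I ≠ ⊤ := by
    intro hI
    apply hN
    rw [eq_top_iff]
    intro x _
    have h1 : (1 : A) ∈ I := hI ▸ Submodule.mem_top
    rw [Submodule.mem_colon] at h1
    simpa using h1 x trivial
  obtain ⟨𝔪, h𝔪, hI𝔪⟩ := Ideal.exists_le_maximal I hI
  have h1 : (⊤ : Submodule A (T ⧸ N)) ≤ 𝔪 • (⊤ : Submodule A (T ⧸ N)) := by
    have h2 := congrArg (Submodule.map N.mkQ) (h 𝔪 h𝔪)
    rw [Submodule.map_sup, Submodule.mkQ_map_self, bot_sup_eq, Submodule.map_smul'',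
      Submodule.map_top, Submodule.range_mkQ] at h2
    rw [h2]
  obtain ⟨r, hr1, hr2⟩ := Submodule.exists_sub_one_mem_and_smul_eq_zero_of_fg_of_le_smul 𝔪
    (⊤ : Submodule A (T ⧸ N)) (Module.Finite.fg_top) h1
  have hrI : r ∈ I := by
    rw [Submodule.mem_colon]
    intro x _
    have := hr2 (N.mkQ x) trivial
    rw [← map_smul, Submodule.mkQ_apply, Submodule.Quotient.mk_eq_zero] at this
    exact this
  have hr𝔪 : r ∈ 𝔪 := hI𝔪 hrI
  apply h𝔪.ne_top
  rw [Ideal.eq_top_iff_one]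
  have := 𝔪.sub_mem hr𝔪 hr1
  simpa using this

variable {k : Type u} [Field k] {A : Type u} [CommRing A] [Algebra k A] [Algebra.FiniteType k A]
  {m : ℕ} (g : Fin m → A)

theorem D_mem_of_mem_sq (𝔪 : Ideal A) (y : A) (hy : y ∈ 𝔪 ^ 2) :
    D k A y ∈ 𝔪 • (⊤ : Submodule A Ω[A⁄k]) := by
  rw [pow_two] at hy
  refine Submodule.mul_induction_on hy ?_ ?_
  · intro a ha b hb
    rw [Derivation.leibniz]
    exact Submodule.add_mem _ (Submodule.smul_mem_smul ha trivial)
      (Submodule.smul_mem_smul hb trivial)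
  · intro x y hx hy
    rw [map_add]
    exact Submodule.add_mem _ hx hy

theorem pair_mem (𝔪 : Ideal A) (y : A) (hy : y ∈ 𝔪) (η : Ω[A⁄k])
    (hη : η ∈ 𝔪 • (⊤ : Submodule A Ω[A⁄k])) :
    ((y, η) : A × Ω[A⁄k]) ∈ 𝔪 • (⊤ : Submodule A (A × Ω[A⁄k])) := by
  have h1 : ((y, η) : A × Ω[A⁄k]) = y • ((1, 0) : A × Ω[A⁄k]) + LinearMap.inr A A Ω[A⁄k] η := by
    simp
  rw [h1]
  refine Submodule.add_mem _ (Submodule.smul_mem_smul hy trivial) ?_
  have h2 : LinearMap.inr A A Ω[A⁄k] η ∈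
      Submodule.map (LinearMap.inr A A Ω[A⁄k]) (𝔪 • (⊤ : Submodule A Ω[A⁄k])) :=
    Submodule.mem_map_of_mem hη
  rw [Submodule.map_smul''] at h2
  exact Submodule.smul_mono le_rfl le_top h2

set_option maxHeartbeats 800000 in
theorem surj_of_jets
    (hjet : ∀ 𝔪 : Ideal A, 𝔪.IsMaximal → ∀ l : A, ∃ c : Fin m → k, ∑ i, c i • g i - l ∈ 𝔪 ^ 2)
    (a : A) (ω : Ω[A⁄k]) :
    ∃ c : Fin m → A, ∑ i, c i * g i = a ∧ ∑ i, c i • D k A (g i) = ω := by
  classical
  let Φ : (Fin m → A) →ₗ[A] A × Ω[A⁄k] :=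
    Fintype.linearCombination A (fun i => ((g i, D k A (g i)) : A × Ω[A⁄k]))
  have hΦ : ∀ c : Fin m → A, Φ c = (∑ i, c i * g i, ∑ i, c i • D k A (g i)) := by
    intro c
    simp only [Φ, Fintype.linearCombination_apply, Prod.smul_mk, smul_eq_mul]
    rw [Prod.ext_iff]
    simp [Prod.fst_sum, Prod.snd_sum]
  have hΦk : ∀ c : Fin m → k, Φ (fun i => algebraMap k A (c i)) =
      (∑ i, c i • g i, D k A (∑ i, c i • g i)) := by
    intro c
    have hD : D k A (∑ i, c i • g i) = ∑ i, algebraMap k A (c i) • D k A (g i) := by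
      rw [_root_.map_sum (D k A) (fun i => c i • g i) Finset.univ]
      refine Finset.sum_congr rfl fun i _ => ?_
      rw [Derivation.map_smul, algebraMap_smul]
    rw [hΦ, hD]
    refine Prod.ext ?_ rfl
    simp only [Algebra.smul_def]
  have htop : LinearMap.range Φ = ⊤ := by
    apply eq_top_of_forall_maximal
    intro 𝔪 h𝔪
    set N' := LinearMap.range Φ ⊔ 𝔪 • (⊤ : Submodule A (A × Ω[A⁄k])) with hN'
    have hbad : ∀ y ∈ 𝔪 ^ 2, ((y, D k A y) : A × Ω[A⁄k]) ∈ N' := fun y hy =>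
      Submodule.mem_sup_right (pair_mem 𝔪 y (Ideal.pow_le_self two_ne_zero hy) _
        (D_mem_of_mem_sq 𝔪 y hy))
    have h10 : ((1, 0) : A × Ω[A⁄k]) ∈ N' := by
      obtain ⟨c, hc⟩ := hjet 𝔪 h𝔪 1
      have h1 : ((1, 0) : A × Ω[A⁄k]) = Φ (fun i => algebraMap k A (c i)) -
          ((∑ i, c i • g i - 1, D k A (∑ i, c i • g i - 1)) : A × Ω[A⁄k]) := by
        rw [hΦk, map_sub, Derivation.map_one_eq_zero]
        simp
      rw [h1]
      exact Submodule.sub_mem _ (Submodule.mem_sup_left ⟨_, rfl⟩) (hbad _ hc)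
    have h0D : ∀ l : A, ((0, D k A l) : A × Ω[A⁄k]) ∈ N' := by
      intro l
      obtain ⟨c, hc⟩ := hjet 𝔪 h𝔪 l
      have h1 : ((0, D k A l) : A × Ω[A⁄k]) = Φ (fun i => algebraMap k A (c i)) -
          ((∑ i, c i • g i - l, D k A (∑ i, c i • g i - l)) : A × Ω[A⁄k]) -
          l • ((1, 0) : A × Ω[A⁄k]) := by
        rw [hΦk, map_sub]
        simp
      rw [h1]
      exact Submodule.sub_mem _ (Submodule.sub_mem _ (Submodule.mem_sup_left ⟨_, rfl⟩) (hbad _ hc))
        (Submodule.smul_mem _ _ h10)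
    rw [eq_top_iff]
    rintro ⟨a, ω⟩ -
    have h1 : ((a, ω) : A × Ω[A⁄k]) = a • ((1, 0) : A × Ω[A⁄k]) + LinearMap.inr A A Ω[A⁄k] ω := by
      simp
    rw [h1]
    refine Submodule.add_mem _ (Submodule.smul_mem _ _ h10) ?_
    have h2 : ω ∈ Submodule.span A (Set.range (D k A)) := by
      rw [KaehlerDifferential.span_range_derivation]; trivial
    refine Submodule.span_induction ?_ ?_ ?_ ?_ h2
    · rintro _ ⟨l, rfl⟩
      exact h0D l
    · rw [map_zero]
      exact Submodule.zero_mem _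
    · intro x y _ _ hx hy
      rw [map_add]
      exact Submodule.add_mem _ hx hy
    · intro r x _ hx
      rw [map_smul]
      exact Submodule.smul_mem _ _ hx
  have : ((a, ω) : A × Ω[A⁄k]) ∈ LinearMap.range Φ := htop ▸ Submodule.mem_top
  obtain ⟨c, hc⟩ := this
  rw [hΦ, Prod.ext_iff] at hc
  exact ⟨c, hc.1, hc.2⟩

end Groth.Agent.Lib.Helper19.JetsDelta
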