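import Mathlib

set_option autoImplicit false
set_option linter.unusedVariables false
universe u

namespace Groth.Agent.Lib.Helper19.JetsLA

open Cardinal

variable {L K : Type u} [Field L] [Field K] [Algebra L K]

/-- the linear form `v ↦ Σ vᵢ tᵢ` -/
noncomputable def T {m : ℕ} (t : Fin m → K) : (Fin m → L) →ₗ[L] K :=
  Fintype.linearCombination L t

theorem T_apply {m : ℕ} (t : Fin m → K) (v : Fin m → L) : T t v = ∑ i, v i • t i := by
  simp [T, Fintype.linearCombination_apply]

theorem trdeg_add_finrank_le {m : ℕ} (t : Fin m → K)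
    (hK : ∀ x : K, ∃ a ∈ Algebra.adjoin L (Set.range t), ∃ b ∈ Algebra.adjoin L (Set.range t),
      b ≠ 0 ∧ x = a / b)
    (E : Submodule L (Fin m → L))
    (hE : ∀ v ∈ E, ∑ i, v i • t i ∈ (algebraMap L K).range) :
    Algebra.trdeg L K + (Module.finrank L E : Cardinal.{u}) ≤ (m : Cardinal.{u}) := by
  classical
  obtain ⟨E', hE'⟩ := Submodule.exists_isCompl E
  let b := Module.finBasis L E'
  let lam : Fin (Module.finrank L E') → K := fun j => T t (b j : Fin m → L)
  let D' : Subalgebra L K := Algebra.adjoin L (Set.range lam)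
  have hT : ∀ v : Fin m → L, T t v ∈ D' := by
    intro v
    have hv : v ∈ E ⊔ E' := by rw [hE'.sup_eq_top]; trivial
    obtain ⟨e, he, e', he', rfl⟩ := Submodule.mem_sup.1 hv
    rw [map_add]
    refine D'.add_mem ?_ ?_
    · obtain ⟨y, hy⟩ := hE e he
      rw [T_apply, ← hy]
      exact D'.algebraMap_mem y
    · have h1 : e' = ∑ j, (b.repr ⟨e', he'⟩ j) • (b j : Fin m → L) := by
        have := b.sum_repr ⟨e', he'⟩
        have h2 : (↑(∑ j, b.repr ⟨e', he'⟩ j • b j) : Fin m → L) = e' := congrArg Subtype.val this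
        rw [AddSubmonoidClass.coe_finset_sum] at h2
        simp only [Submodule.coe_smul] at h2
        exact h2.symm
      rw [h1, map_sum]
      refine D'.sum_mem fun j _ => ?_
      rw [map_smul]
      exact D'.smul_mem (Algebra.subset_adjoin ⟨j, rfl⟩) _
  have hle : Algebra.adjoin L (Set.range t) ≤ D' := by
    refine Algebra.adjoin_le ?_
    rintro _ ⟨i, rfl⟩
    have := hT (Pi.single i 1)
    rw [T_apply] at this
    simpa [Pi.single_apply] using this
  haveI : Algebra.IsAlgebraic D' K := by
    refine ⟨fun x => ?_⟩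
    obtain ⟨a, ha, c, hc, hc0, rfl⟩ := hK x
    have h1 : IsAlgebraic D' a := isAlgebraic_algebraMap (⟨a, hle ha⟩ : D')
    have h2 : IsAlgebraic D' c := isAlgebraic_algebraMap (⟨c, hle hc⟩ : D')
    rw [div_eq_mul_inv]
    exact h1.mul h2.inv
  have h1 : Algebra.trdeg L K ≤ #(Set.range lam) :=
    Algebra.IsAlgebraic.trdeg_le_cardinalMk L (Set.range lam)
  have h2 : #(Set.range lam) ≤ (Module.finrank L E' : Cardinal.{u}) := by
    have := Cardinal.mk_range_le_lift (f := lam)
    simpa using this
  have h3 : Module.finrank L E + Module.finrank L E' = m := by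
    have := Submodule.finrank_add_eq_of_isCompl hE'
    simpa using this
  calc Algebra.trdeg L K + (Module.finrank L E : Cardinal.{u})
      ≤ (Module.finrank L E' : Cardinal.{u}) + (Module.finrank L E : Cardinal.{u}) :=
        add_le_add_left (h1.trans h2) _
    _ = (m : Cardinal.{u}) := by
        rw [← Nat.cast_add, add_comm, h3]

end Groth.Agent.Lib.Helper19.JetsLA
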