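import Mathlib
import Groth.Agent.Lib.lead.KaehlerFibreDim
import Groth.Agent.Lib.helper19.JetsLA

set_option autoImplicit false
set_option linter.unusedVariables false
set_option linter.style.haveILetI false
universe u

namespace Groth.Agent.Lib.Helper19.JetsGamma

open TensorProduct KaehlerDifferential Cardinal

variable {k : Type u} [Field k] {A : Type u} [CommRing A] [Algebra k A] [Algebra.FiniteType k A]
  {K : Type u} [Field K] [Algebra A K] [Algebra k K] [IsScalarTower k A K]
  {m : ℕ} (f₀ : A) (g : Fin m → A) (t : Fin m → K)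

set_option maxHeartbeats 1600000 in
theorem not_algebraicIndependent
    (hΦ : ∀ (a : A) (ω : Ω[A⁄k]), ∃ c : Fin m → A,
      ∑ i, c i * g i = a ∧ ∑ i, c i • D k A (g i) = ω)
    (hK : ∀ x : K, ∃ p q : MvPolynomial (Fin m) A, MvPolynomial.aeval t q ≠ 0 ∧
      x = MvPolynomial.aeval t p / MvPolynomial.aeval t q)
    (hF : algebraMap A K f₀ + ∑ i, t i * algebraMap A K (g i) = 0)
    (hdF : (1 : K) ⊗ₜ[A] D k A f₀ + ∑ i, t i ⊗ₜ[A] D k A (g i) = 0) :
    ¬ AlgebraicIndependent k t := by
  classical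
  intro hind
  let 𝔭 : Ideal A := RingHom.ker (algebraMap A K)
  haveI : 𝔭.IsPrime := RingHom.ker_isPrime _
  let L := 𝔭.ResidueField
  let φL : L →+* K := Ideal.ResidueField.lift 𝔭 (algebraMap A K) le_rfl (by
    intro x hx
    change IsUnit (algebraMap A K x)
    exact IsUnit.mk0 _ (fun h => hx (RingHom.mem_ker.2 h)))
  letI : Algebra L K := φL.toAlgebra
  have hφL : ∀ x : A, algebraMap L K (algebraMap A L x) = algebraMap A K x := fun x =>
    Ideal.ResidueField.lift_algebraMap _ _ _ _ x
  haveI : IsScalarTower A L K := IsScalarTower.of_algebraMap_eq' (RingHom.ext fun x => (hφL x).symm)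
  haveI : IsScalarTower k L K := IsScalarTower.of_algebraMap_eq fun x => by
    rw [IsScalarTower.algebraMap_apply k A K, IsScalarTower.algebraMap_apply k A L, hφL]
  haveI : Algebra.EssFiniteType k L := Algebra.EssFiniteType.comp k A L
  haveI : Algebra.FormallyUnramified A (Localization.AtPrime 𝔭) :=
    Algebra.FormallyUnramified.of_isLocalization 𝔭.primeCompl
  haveI : Algebra.FormallyUnramified A L :=
    Algebra.FormallyUnramified.comp A (Localization.AtPrime 𝔭) L
  let N := L ⊗[A] Ω[A⁄k]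
  -- the differentials of `L`
  have hπ : Function.Surjective (KaehlerDifferential.mapBaseChange k A L) := by
    rw [← LinearMap.range_eq_top, KaehlerDifferential.range_mapBaseChange, Submodule.eq_top_iff']
    intro x
    exact Subsingleton.elim _ _
  have hn1 : Module.finrank L Ω[L⁄k] ≤ Module.finrank L N :=
    LinearMap.finrank_le_finrank_of_surjective hπ
  have hlead : Algebra.trdeg k L ≤ (Module.finrank L Ω[L⁄k] : Cardinal.{u}) :=
    Groth.Agent.Lib.lead.KaehlerFibreDim.trdeg_le_finrank_kaehler k L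
  -- the rows
  let Γ : (L × Module.Dual L N) →ₗ[L] (Fin m → L) :=
    LinearMap.pi fun i =>
      (LinearMap.mulRight L (algebraMap A L (g i))).comp (LinearMap.fst L L (Module.Dual L N)) +
      (LinearMap.applyₗ ((1 : L) ⊗ₜ[A] D k A (g i))).comp (LinearMap.snd L L (Module.Dual L N))
  have hΓ : ∀ (a₀ : L) (u : Module.Dual L N) (i : Fin m),
      Γ (a₀, u) i = a₀ * algebraMap A L (g i) + u ((1 : L) ⊗ₜ[A] D k A (g i)) := fun _ _ _ => rfl
  have hcomb : ∀ (a₀ : L) (u : Module.Dual L N) (c : Fin m → A),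
      ∑ i, algebraMap A L (c i) * Γ (a₀, u) i =
        a₀ * algebraMap A L (∑ i, c i * g i) + u ((1 : L) ⊗ₜ[A] ∑ i, c i • D k A (g i)) := by
    intro a₀ u c
    simp only [hΓ, mul_add, Finset.sum_add_distrib, map_sum, map_mul, TensorProduct.tmul_sum,
      Finset.mul_sum]
    congr 1
    · refine Finset.sum_congr rfl fun i _ => ?_
      ring
    · refine Finset.sum_congr rfl fun i _ => ?_
      rw [← smul_eq_mul, ← map_smul, TensorProduct.smul_tmul', smul_eq_mul, mul_one,
        ← TensorProduct.smul_tmul, Algebra.smul_def, mul_one]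
  have hΓinj : Function.Injective Γ := by
    rw [injective_iff_map_eq_zero]
    rintro ⟨a₀, u⟩ h0
    have key : ∀ (a : A) (ω : Ω[A⁄k]), a₀ * algebraMap A L a + u ((1 : L) ⊗ₜ[A] ω) = 0 := by
      intro a ω
      obtain ⟨c, hc1, hc2⟩ := hΦ a ω
      rw [← hc1, ← hc2, ← hcomb, h0]
      simp
    have ha₀ : a₀ = 0 := by
      have := key 1 0
      simpa using this
    have hu : u = 0 := by
      apply TensorProduct.AlgebraTensorModule.ext
      intro l ω
      have h1 := key 0 ω
      rw [map_zero, mul_zero, zero_add] at h1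
      have h2 : l ⊗ₜ[A] ω = l • ((1 : L) ⊗ₜ[A] ω) := by
        rw [TensorProduct.smul_tmul', smul_eq_mul, mul_one]
      rw [h2, map_smul, h1, smul_zero]
      rfl
    rw [ha₀, hu]
    rfl
  let E : Submodule L (Fin m → L) := LinearMap.range Γ
  have hfinE : Module.finrank L E = 1 + Module.finrank L N := by
    change Module.finrank L (LinearMap.range Γ) = _
    rw [LinearMap.finrank_range_of_inj hΓinj, Module.finrank_prod, Module.finrank_self,
      Subspace.dual_finrank_eq]
  -- the relations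
  have hE : ∀ v ∈ E, ∑ i, v i • t i ∈ (algebraMap L K).range := by
    rintro _ ⟨⟨a₀, u⟩, rfl⟩
    let ψ : Ω[A⁄k] →ₗ[A] K :=
      ((Algebra.linearMap L K).restrictScalars A) ∘ₗ (u.restrictScalars A) ∘ₗ
        (TensorProduct.mk A L Ω[A⁄k] 1)
    have hψ : ∀ ω, ψ ω = algebraMap L K (u ((1 : L) ⊗ₜ[A] ω)) := fun ω => rfl
    have h1 := congrArg (LinearMap.liftBaseChange K ψ) hdF
    rw [map_add, map_sum, map_zero, LinearMap.liftBaseChange_tmul, one_smul] at h1
    simp only [LinearMap.liftBaseChange_tmul, hψ, smul_eq_mul] at h1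
    refine ⟨-(a₀ * algebraMap A L f₀) - u ((1 : L) ⊗ₜ[A] D k A f₀), ?_⟩
    have h2 : ∑ i, Γ (a₀, u) i • t i =
        algebraMap L K a₀ * ∑ i, t i * algebraMap A K (g i) +
          ∑ i, t i * algebraMap L K (u ((1 : L) ⊗ₜ[A] D k A (g i))) := by
      rw [Finset.mul_sum, ← Finset.sum_add_distrib]
      refine Finset.sum_congr rfl fun i _ => ?_
      rw [hΓ, Algebra.smul_def, map_add, map_mul, hφL]
      ring
    rw [h2, eq_neg_of_add_eq_zero_right hF, eq_neg_of_add_eq_zero_right h1, map_sub, map_neg,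
      map_mul, hφL]
    ring
  have hKL : ∀ x : K, ∃ a ∈ Algebra.adjoin L (Set.range t), ∃ b ∈ Algebra.adjoin L (Set.range t),
      b ≠ 0 ∧ x = a / b := by
    intro x
    obtain ⟨p, q, hq, hx⟩ := hK x
    have hmem : ∀ r : MvPolynomial (Fin m) A,
        MvPolynomial.aeval t r ∈ Algebra.adjoin L (Set.range t) := by
      intro r
      rw [Algebra.adjoin_range_eq_range_aeval, ← MvPolynomial.aeval_map_algebraMap L t r]
      exact ⟨_, rfl⟩
    exact ⟨_, hmem p, _, hmem q, hq, hx⟩
  have hLA := Groth.Agent.Lib.Helper19.JetsLA.trdeg_add_finrank_le t hKL E hE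
  -- the count
  haveI : FaithfulSMul k L := (faithfulSMul_iff_algebraMap_injective k L).2 (algebraMap k L).injective
  haveI : FaithfulSMul L K := (faithfulSMul_iff_algebraMap_injective L K).2 (algebraMap L K).injective
  have hadd : Algebra.trdeg k L + Algebra.trdeg L K = Algebra.trdeg k K :=
    trdeg_add_eq k L (A := K)
  have hm : (m : Cardinal.{u}) ≤ Algebra.trdeg k K := by
    have := hind.lift_cardinalMk_le_trdeg
    simpa using this
  have hb : Algebra.trdeg L K < ℵ₀ :=
    lt_of_le_of_lt (le_trans le_self_add hLA) (Cardinal.nat_lt_aleph0 m)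
  obtain ⟨b', hb'⟩ := Cardinal.lt_aleph0.1 hb
  have ha : Algebra.trdeg k L ≤ (Module.finrank L N : Cardinal.{u}) :=
    hlead.trans (by exact_mod_cast hn1)
  obtain ⟨a', ha'⟩ := Cardinal.lt_aleph0.1 (lt_of_le_of_lt ha (Cardinal.nat_lt_aleph0 _))
  rw [hb', hfinE] at hLA
  rw [ha'] at ha
  rw [← hadd, ha', hb'] at hm
  have h1 : b' + (1 + Module.finrank L N) ≤ m := by exact_mod_cast hLA
  have h2 : a' ≤ Module.finrank L N := by exact_mod_cast ha
  have h3 : m ≤ a' + b' := by exact_mod_cast hm
  omega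

end Groth.Agent.Lib.Helper19.JetsGamma
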