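import Mathlib

set_option autoImplicit false
set_option linter.unusedVariables false
universe u

namespace Groth.Agent.Lib.Helper19.JetsPJ

open TensorProduct

variable {A : Type*} [CommRing A] {M : Type*} [AddCommGroup M] [Module A M]
  {K : Type*} [CommRing K] [Algebra A K]

theorem rid_lTensor (l : M →ₗ[A] A) (x : K ⊗[A] M) :
    AlgebraTensorModule.rid A K K (l.lTensor K x) =
      LinearMap.liftBaseChange K ((Algebra.linearMap A K) ∘ₗ l) x := by
  induction x with
  | zero => simp
  | add x y hx hy => simp only [map_add, hx, hy]
  | tmul c m =>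
    simp [Algebra.smul_def, mul_comm]

/-- an element of `K ⊗ M`, `M` projective, killed by all functionals coming from `M`, vanishes -/
theorem eq_zero_of_forall_dual [Module.Projective A M] (x : K ⊗[A] M)
    (h : ∀ l : M →ₗ[A] A, LinearMap.liftBaseChange K ((Algebra.linearMap A K) ∘ₗ l) x = 0) :
    x = 0 := by
  classical
  obtain ⟨s, hs⟩ := Module.projective_def'.mp (inferInstance : Module.Projective A M)
  have h1 : s.lTensor K x = 0 := by
    apply (finsuppScalarRight A K K M).injective
    rw [map_zero]
    ext m
    rw [finsuppScalarRight_apply, ← LinearMap.comp_apply, ← LinearMap.lTensor_comp, rid_lTensor,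
      h]
    simp
  have h2 : (Finsupp.linearCombination A id ∘ₗ s).lTensor K x = x := by
    rw [hs, LinearMap.lTensor_id]
    rfl
  rw [← h2, LinearMap.lTensor_comp, LinearMap.comp_apply, h1, map_zero]

end Groth.Agent.Lib.Helper19.JetsPJ
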