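import Mathlib
import Groth.Agent.Lib.Helper5.JacZarC
import Groth.Agent.Lib.helper19.JetsGamma
import Groth.Agent.Lib.helper19.JetsDelta
import Groth.Agent.Lib.helper19.JetsPJ

set_option autoImplicit false
set_option linter.unusedVariables false
set_option linter.style.haveILetI false
universe u

namespace Groth.Agent.Lib.Helper19.JetsCore

open TensorProduct KaehlerDifferential MvPolynomial

variable (k : Type u) [Field k] {A : Type u} [CommRing A] [Algebra k A]
  {m : ℕ} (f₀ : A) (g : Fin m → A)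

/-- the inclusion of the parameter ring -/
noncomputable def ι : MvPolynomial (Fin m) k →+* MvPolynomial (Fin m) A :=
  MvPolynomial.map (algebraMap k A)

/-- the universal member `f₀ + Σ tᵢ gᵢ` -/
noncomputable def F : MvPolynomial (Fin m) A := C f₀ + ∑ i, X i * C (g i)

/-- the universal "partial derivative" along a functional on the differentials -/
noncomputable def G (l : Ω[A⁄k] →ₗ[A] A) : MvPolynomial (Fin m) A :=
  C (l (D k A f₀)) + ∑ i, X i * C (l (D k A (g i)))

/-- the ideal of the bad locus -/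
noncomputable def J : Ideal (MvPolynomial (Fin m) A) :=
  Ideal.span ({F f₀ g} ∪ Set.range (G k f₀ g))

variable [Algebra.Smooth k A]

set_option maxHeartbeats 1600000 in
theorem comap_J_ne_bot
    (hΦ : ∀ (a : A) (ω : Ω[A⁄k]), ∃ c : Fin m → A,
      ∑ i, c i * g i = a ∧ ∑ i, c i • D k A (g i) = ω) :
    (J k f₀ g).comap (ι (A := A) (m := m) k) ≠ ⊥ := by
  classical
  intro h
  have hmin : (⊥ : Ideal (MvPolynomial (Fin m) k)) ∈
      ((J k f₀ g).comap (ι (A := A) (m := m) k)).minimalPrimes := by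
    rw [h, Ideal.minimalPrimes_eq_subsingleton_self]
    rfl
  obtain ⟨P', hP', hJP', hcomap⟩ := Ideal.exists_comap_eq_of_mem_minimalPrimes _ ⊥ hmin
  haveI := hP'
  let K := P'.ResidueField
  let t : Fin m → K := fun i => algebraMap (MvPolynomial (Fin m) A) K (X i)
  have hC : ∀ a : A, algebraMap (MvPolynomial (Fin m) A) K (C a) = algebraMap A K a := by
    intro a
    rw [IsScalarTower.algebraMap_apply A (MvPolynomial (Fin m) A) K, MvPolynomial.algebraMap_eq]
  have haev : ∀ r : MvPolynomial (Fin m) A,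
      MvPolynomial.aeval t r = algebraMap (MvPolynomial (Fin m) A) K r := by
    intro r
    have := MvPolynomial.aeval_unique (IsScalarTower.toAlgHom A (MvPolynomial (Fin m) A) K)
    exact (AlgHom.congr_fun this r).symm
  have hzero : ∀ r ∈ J k f₀ g, algebraMap (MvPolynomial (Fin m) A) K r = 0 := fun r hr =>
    Ideal.algebraMap_residueField_eq_zero.2 (hJP' hr)
  have hK : ∀ x : K, ∃ p q : MvPolynomial (Fin m) A, MvPolynomial.aeval t q ≠ 0 ∧
      x = MvPolynomial.aeval t p / MvPolynomial.aeval t q := by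
    intro x
    obtain ⟨a, b, hb, hab⟩ := IsFractionRing.div_surjective (MvPolynomial (Fin m) A ⧸ P') x
    obtain ⟨p, rfl⟩ := Ideal.Quotient.mk_surjective a
    obtain ⟨q, rfl⟩ := Ideal.Quotient.mk_surjective b
    rw [Ideal.algebraMap_quotient_residueField_mk, Ideal.algebraMap_quotient_residueField_mk] at hab
    refine ⟨p, q, ?_, ?_⟩
    · rw [haev, ← Ideal.algebraMap_quotient_residueField_mk]
      exact map_ne_zero_of_mem_nonZeroDivisors _
        (Ideal.injective_algebraMap_quotient_residueField P') hb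
    · rw [haev, haev, hab]
  have hind : AlgebraicIndependent k t := by
    rw [algebraicIndependent_iff_injective_aeval]
    have h1 : ((MvPolynomial.aeval t : MvPolynomial (Fin m) k →ₐ[k] K) : MvPolynomial (Fin m) k →+* K) =
        (algebraMap (MvPolynomial (Fin m) A) K).comp (ι (A := A) (m := m) k) := by
      apply MvPolynomial.ringHom_ext
      · intro x
        simp only [ι, RingHom.coe_coe, MvPolynomial.aeval_C, RingHom.comp_apply,
          MvPolynomial.map_C, hC]
        exact IsScalarTower.algebraMap_apply k A K x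
      · intro i
        simp [ι, t]
    rw [injective_iff_map_eq_zero]
    intro r hr
    have h2 : algebraMap (MvPolynomial (Fin m) A) K (ι (A := A) (m := m) k r) = 0 := by
      have := RingHom.congr_fun h1 r
      rw [RingHom.comp_apply] at this
      rw [← this]
      exact hr
    rw [Ideal.algebraMap_residueField_eq_zero] at h2
    have h3 : r ∈ P'.comap (ι (A := A) (m := m) k) := h2
    rw [hcomap] at h3
    exact h3
  have hF : algebraMap A K f₀ + ∑ i, t i * algebraMap A K (g i) = 0 := by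
    have := hzero (F f₀ g) (Ideal.subset_span (Or.inl rfl))
    simpa only [F, map_add, map_sum, map_mul, hC] using this
  have hG : ∀ l : Ω[A⁄k] →ₗ[A] A,
      algebraMap A K (l (D k A f₀)) + ∑ i, t i * algebraMap A K (l (D k A (g i))) = 0 := by
    intro l
    have := hzero (G k f₀ g l) (Ideal.subset_span (Or.inr ⟨l, rfl⟩))
    simpa only [G, map_add, map_sum, map_mul, hC] using this
  have hdF : (1 : K) ⊗ₜ[A] D k A f₀ + ∑ i, t i ⊗ₜ[A] D k A (g i) = 0 := by
    apply Groth.Agent.Lib.Helper19.JetsPJ.eq_zero_of_forall_dual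
    intro l
    rw [map_add, map_sum]
    simp only [LinearMap.liftBaseChange_tmul, LinearMap.comp_apply, Algebra.linearMap_apply,
      one_smul, smul_eq_mul, one_mul]
    exact hG l
  exact Groth.Agent.Lib.Helper19.JetsGamma.not_algebraicIndependent f₀ g t hΦ hK hF hdF hind

set_option maxHeartbeats 1600000 in
theorem smooth_fibre (p : MvPolynomial (Fin m) k) (hp : ι (A := A) (m := m) k p ∈ J k f₀ g)
    (c : Fin m → k) (hc : MvPolynomial.eval c p ≠ 0) :
    Algebra.Smooth k (A ⧸ Ideal.span {f₀ + ∑ i, c i • g i}) := by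
  classical
  set Fc : A := f₀ + ∑ i, c i • g i with hFc
  haveI : Algebra.FinitePresentation k (A ⧸ Ideal.span {Fc}) :=
    Algebra.FinitePresentation.quotient (Submodule.fg_span_singleton _)
  refine ⟨?_, inferInstance⟩
  rw [← Algebra.smoothLocus_eq_univ_iff]
  by_contra hne
  have hcl : IsClosed (Algebra.smoothLocus k (A ⧸ Ideal.span {Fc}))ᶜ :=
    Algebra.isOpen_smoothLocus.isClosed_compl
  obtain ⟨I, hI⟩ := (PrimeSpectrum.isClosed_iff_zeroLocus_ideal _).1 hcl
  have hItop : I ≠ ⊤ := by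
    rintro rfl
    apply hne
    rw [← compl_compl (Algebra.smoothLocus k (A ⧸ Ideal.span {Fc})), hI]
    simp
  obtain ⟨𝔫, h𝔫, hI𝔫⟩ := Ideal.exists_le_maximal I hItop
  have hbad : (⟨𝔫, h𝔫.isPrime⟩ : PrimeSpectrum (A ⧸ Ideal.span {Fc})) ∈
      (Algebra.smoothLocus k (A ⧸ Ideal.span {Fc}))ᶜ := by
    rw [hI]
    exact hI𝔫
  apply hbad
  haveI := h𝔫.isPrime
  change Algebra.IsSmoothAt k 𝔫
  -- the pointwise criterion
  let 𝔪 : Ideal A := 𝔫.comap (Ideal.Quotient.mk (Ideal.span {Fc}))
  haveI h𝔪 : 𝔪.IsMaximal := Ideal.comap_isMaximal_of_surjective _ Ideal.Quotient.mk_surjective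
  have hJ𝔪 : Ideal.span {Fc} ≤ 𝔪 := by
    intro x hx
    change Ideal.Quotient.mk (Ideal.span {Fc}) x ∈ 𝔫
    rw [Ideal.Quotient.eq_zero_iff_mem.2 hx]
    exact 𝔫.zero_mem
  have hFc𝔪 : Fc ∈ 𝔪 := hJ𝔪 (Ideal.subset_span rfl)
  have hmap : 𝔪.map (Ideal.Quotient.mk (Ideal.span {Fc})) = 𝔫 :=
    Ideal.map_comap_of_surjective _ Ideal.Quotient.mk_surjective 𝔫
  let ev : MvPolynomial (Fin m) A →+* A ⧸ 𝔪 :=
    MvPolynomial.eval₂Hom (Ideal.Quotient.mk 𝔪)
      (fun i => Ideal.Quotient.mk 𝔪 (algebraMap k A (c i)))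
  have hevC : ∀ a : A, ev (C a) = Ideal.Quotient.mk 𝔪 a := fun a => by simp [ev]
  have hevX : ∀ i, ev (X i) = Ideal.Quotient.mk 𝔪 (algebraMap k A (c i)) := fun i => by simp [ev]
  have hevι : ev.comp (ι (A := A) (m := m) k) =
      (algebraMap k (A ⧸ 𝔪)).comp (MvPolynomial.eval c) := by
    apply MvPolynomial.ringHom_ext
    · intro x
      simp only [ι, RingHom.comp_apply, MvPolynomial.map_C, hevC, MvPolynomial.eval_C]
      rfl
    · intro i
      simp only [ι, RingHom.comp_apply, MvPolynomial.map_X, hevX, MvPolynomial.eval_X]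
      rfl
  have hevp : ev (ι (A := A) (m := m) k p) ≠ 0 := by
    have := RingHom.congr_fun hevι p
    rw [RingHom.comp_apply, RingHom.comp_apply] at this
    rw [this]
    exact (map_ne_zero_iff _ (algebraMap k (A ⧸ 𝔪)).injective).2 hc
  have hnot : ¬ (J k f₀ g ≤ RingHom.ker ev) := fun hle => hevp (RingHom.mem_ker.1 (hle hp))
  have hcomb : ∀ a₀ : A, ∀ b : Fin m → A, ev (C a₀ + ∑ i, X i * C (b i)) =
      Ideal.Quotient.mk 𝔪 (a₀ + ∑ i, c i • b i) := by
    intro a₀ b
    simp only [map_add, map_sum, map_mul, hevC, hevX, Algebra.smul_def]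
  have hevF : ev (F f₀ g) = 0 := by
    rw [F, hcomb]
    exact Ideal.Quotient.eq_zero_iff_mem.2 hFc𝔪
  obtain ⟨l, hl⟩ : ∃ l : Ω[A⁄k] →ₗ[A] A, ev (G k f₀ g l) ≠ 0 := by
    by_contra hall
    push Not at hall
    apply hnot
    rw [J, Ideal.span_le]
    rintro x (hx | ⟨l, rfl⟩)
    · rw [Set.mem_singleton_iff] at hx
      rw [hx]
      exact RingHom.mem_ker.2 hevF
    · exact RingHom.mem_ker.2 (hall l)
  let δ : Derivation k A A := l.compDer (D k A)
  have hδ : δ Fc ∉ 𝔪 := by
    intro hmem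
    apply hl
    rw [G, hcomb]
    refine Ideal.Quotient.eq_zero_iff_mem.2 ?_
    have h1 : δ Fc = l (D k A f₀) + ∑ i, c i • l (D k A (g i)) := by
      change l (D k A Fc) = _
      rw [hFc, map_add, map_add, _root_.map_sum (D k A) (fun i => c i • g i) Finset.univ, map_sum]
      congr 1
      refine Finset.sum_congr rfl fun i _ => ?_
      rw [Derivation.map_smul, LinearMap.map_smul_of_tower]
    rw [← h1]
    exact hmem
  haveI : (𝔪.map (Ideal.Quotient.mk (Ideal.span {Fc}))).IsPrime := by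
    rw [hmap]; infer_instance
  haveI : IsNoetherianRing A := Algebra.FiniteType.isNoetherianRing k A
  have hcrit : Algebra.FormallySmooth k
      (Localization.AtPrime (𝔪.map (Ideal.Quotient.mk (Ideal.span {Fc})))) := by
    rw [Groth.Agent.Lib.Helper5.JacZar.jacobian_criterion (R₀ := k) (Ideal.span {Fc}) 𝔪 hJ𝔪]
    refine ⟨1, fun _ => Fc, fun _ => δ, fun _ => Ideal.subset_span rfl, ?_, ?_⟩
    · rw [Ideal.map_span, Set.image_singleton, Set.range_const]
    · rw [Matrix.det_fin_one]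
      exact hδ
  have key : ∀ (𝔫' : Ideal (A ⧸ Ideal.span {Fc})) [𝔫'.IsPrime], 𝔫' = 𝔫 →
      Algebra.FormallySmooth k (Localization.AtPrime 𝔫') → Algebra.IsSmoothAt k 𝔫 := by
    rintro _ _ rfl h
    exact h
  exact key _ hmap hcrit

theorem exists_poly_jets
    (hjet : ∀ 𝔪 : Ideal A, 𝔪.IsMaximal → ∀ l : A, ∃ c : Fin m → k,
      ∑ i, c i • g i - l ∈ 𝔪 ^ 2) :
    ∃ p : MvPolynomial (Fin m) k, p ≠ 0 ∧ ∀ c : Fin m → k, MvPolynomial.eval c p ≠ 0 →
      Algebra.Smooth k (A ⧸ Ideal.span {f₀ + ∑ i, c i • g i}) := by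
  have hΦ := Groth.Agent.Lib.Helper19.JetsDelta.surj_of_jets g hjet
  have h1 := comap_J_ne_bot k f₀ g hΦ
  obtain ⟨p, hpJ, hp0⟩ := Submodule.exists_mem_ne_zero_of_ne_bot h1
  exact ⟨p, hp0, fun c hc => smooth_fibre k f₀ g p hpJ c hc⟩

end Groth.Agent.Lib.Helper19.JetsCore
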