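import Mathlib
import Groth.Agent.Lib.helper19.JetsCore
import Groth.Agent.Lib.helper19.AffBertA
import Groth.Agent.Lib.helper19.AffBertB

set_option autoImplicit false
set_option linter.unusedVariables false
set_option linter.unusedSectionVars false
set_option linter.style.haveILetI false
universe u

namespace Groth.Agent.Lib.Helper19.AffBertC

open TensorProduct KaehlerDifferential MvPolynomial Groth.Agent.Lib.Helper19.JetsCore

section Dual

variable (k : Type u) [Field k] {A : Type u} [CommRing A] [Algebra k A]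
  {m : ℕ} (f₀ : A) (g : Fin m → A)

/-- outside the discriminant, the differential of the member does not vanish at any of its points -/
theorem exists_dual_notMem (p : MvPolynomial (Fin m) k) (hp : ι (A := A) (m := m) k p ∈ J k f₀ g)
    (c : Fin m → k) (hc : MvPolynomial.eval c p ≠ 0) (𝔮 : Ideal A) [𝔮.IsPrime]
    (hF : f₀ + ∑ i, c i • g i ∈ 𝔮) :
    ∃ l : Ω[A⁄k] →ₗ[A] A, l (D k A (f₀ + ∑ i, c i • g i)) ∉ 𝔮 := by
  classical
  set Fc : A := f₀ + ∑ i, c i • g i with hFc
  let ev : MvPolynomial (Fin m) A →+* A ⧸ 𝔮 :=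
    MvPolynomial.eval₂Hom (Ideal.Quotient.mk 𝔮)
      (fun i => Ideal.Quotient.mk 𝔮 (algebraMap k A (c i)))
  have hevC : ∀ a : A, ev (C a) = Ideal.Quotient.mk 𝔮 a := fun a => by simp [ev]
  have hevX : ∀ i, ev (X i) = Ideal.Quotient.mk 𝔮 (algebraMap k A (c i)) := fun i => by simp [ev]
  have hevι : ev.comp (ι (A := A) (m := m) k) =
      (algebraMap k (A ⧸ 𝔮)).comp (MvPolynomial.eval c) := by
    apply MvPolynomial.ringHom_ext
    · intro x
      simp only [ι, RingHom.comp_apply, MvPolynomial.map_C, hevC, MvPolynomial.eval_C]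
      rfl
    · intro i
      simp only [ι, RingHom.comp_apply, MvPolynomial.map_X, hevX, MvPolynomial.eval_X]
      rfl
  have hevp : ev (ι (A := A) (m := m) k p) ≠ 0 := by
    have := RingHom.congr_fun hevι p
    rw [RingHom.comp_apply, RingHom.comp_apply] at this
    rw [this]
    exact (map_ne_zero_iff _ (algebraMap k (A ⧸ 𝔮)).injective).2 hc
  have hnot : ¬ (J k f₀ g ≤ RingHom.ker ev) := fun hle => hevp (RingHom.mem_ker.1 (hle hp))
  have hcomb : ∀ a₀ : A, ∀ b : Fin m → A, ev (C a₀ + ∑ i, X i * C (b i)) =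
      Ideal.Quotient.mk 𝔮 (a₀ + ∑ i, c i • b i) := by
    intro a₀ b
    simp only [map_add, map_sum, map_mul, hevC, hevX, Algebra.smul_def]
  have hevF : ev (F f₀ g) = 0 := by
    rw [F, hcomb]
    exact Ideal.Quotient.eq_zero_iff_mem.2 hF
  obtain ⟨l, hl⟩ : ∃ l : Ω[A⁄k] →ₗ[A] A, ev (G k f₀ g l) ≠ 0 := by
    by_contra hall
    push Not at hall
    apply hnot
    rw [J, Ideal.span_le]
    rintro x (hx | ⟨l, rfl⟩)
    · rw [Set.mem_singleton_iff] at hx
      rw [hx]
      exact RingHom.mem_ker.2 hevF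
    · exact RingHom.mem_ker.2 (hall l)
  refine ⟨l, fun hmem => ?_⟩
  apply hl
  rw [G, hcomb]
  refine Ideal.Quotient.eq_zero_iff_mem.2 ?_
  have h1 : l (D k A Fc) = l (D k A f₀) + ∑ i, c i • l (D k A (g i)) := by
    rw [hFc, map_add, map_add, _root_.map_sum (D k A) (fun i => c i • g i) Finset.univ, map_sum]
    congr 1
    refine Finset.sum_congr rfl fun i _ => ?_
    rw [Derivation.map_smul, LinearMap.map_smul_of_tower]
  rw [← h1]
  exact hmem

end Dual

section Chart

variable (k : Type u) [Field k] (n r : ℕ) (A : Type u) [CommRing A] [Algebra k A]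
  (x : Fin n → A)

/-- the affine-linear function attached to a coefficient vector -/
noncomputable def h (a : Fin (n + 1) → k) : A :=
  algebraMap k A (a 0) + ∑ i : Fin n, algebraMap k A (a i.succ) * x i

variable {A}

/-- the generators `1, x₁, …, xₙ` on a localisation -/
noncomputable def gB (B : Type u) [CommRing B] [Algebra A B] : Fin (n + 1) → B :=
  Fin.cons 1 (fun i => algebraMap A B (x i))

theorem sum_gB (B : Type u) [CommRing B] [Algebra A B] [Algebra k B] [IsScalarTower k A B]
    (a : Fin (n + 1) → k) :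
    (0 : B) + ∑ i, a i • gB n x B i = algebraMap A B (h k n A x a) := by
  rw [zero_add, Fin.sum_univ_succ, h, map_add, map_sum]
  congr 1
  · simp only [gB, Fin.cons_zero, Algebra.smul_def, mul_one]
    rw [← IsScalarTower.algebraMap_apply]
  · refine Finset.sum_congr rfl fun i _ => ?_
    simp only [gB, Fin.cons_succ, Algebra.smul_def, map_mul]
    rw [← IsScalarTower.algebraMap_apply]

set_option maxHeartbeats 800000 in
theorem surj (hx : Function.Surjective (MvPolynomial.aeval x : MvPolynomial (Fin n) k →ₐ[k] A))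
    (f : A) (B : Type u) [CommRing B] [Algebra A B] [Algebra k B] [IsScalarTower k A B]
    [IsLocalization.Away f B] :
    ∀ (b : B) (ω : Ω[B⁄k]), ∃ c : Fin (n + 1) → B,
      ∑ i, c i * gB n x B i = b ∧ ∑ i, c i • D k B (gB n x B i) = ω := by
  classical
  intro b ω
  have hspan : ∀ P : MvPolynomial (Fin n) k, D k B (algebraMap A B (MvPolynomial.aeval x P)) ∈
      Submodule.span B (Set.range fun i : Fin n => D k B (algebraMap A B (x i))) := by
    intro P
    induction P using MvPolynomial.induction_on with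
    | C c =>
      rw [MvPolynomial.aeval_C, ← IsScalarTower.algebraMap_apply, Derivation.map_algebraMap]
      exact Submodule.zero_mem _
    | add p q hp hq =>
      rw [map_add, map_add, map_add]
      exact Submodule.add_mem _ hp hq
    | mul_X p i hp =>
      rw [map_mul, map_mul, Derivation.leibniz, MvPolynomial.aeval_X]
      exact Submodule.add_mem _ (Submodule.smul_mem _ _ (Submodule.subset_span ⟨i, rfl⟩))
        (Submodule.smul_mem _ _ hp)
  have htop : Submodule.span B (Set.range fun i : Fin n => D k B (algebraMap A B (x i))) = ⊤ := by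
    rw [eq_top_iff,
      ← KaehlerDifferential.span_range_map_derivation_of_isLocalization k A B (Submonoid.powers f),
      Submodule.span_le]
    rintro _ ⟨y, rfl⟩
    obtain ⟨P, rfl⟩ := hx y
    rw [Function.comp_apply, KaehlerDifferential.map_D]
    exact hspan P
  have hω : ω ∈ Submodule.span B (Set.range fun i : Fin n => D k B (algebraMap A B (x i))) :=
    htop ▸ Submodule.mem_top
  obtain ⟨s, hs⟩ := (Submodule.mem_span_range_iff_exists_fun _).1 hω
  refine ⟨Fin.cons (b - ∑ i, s i * algebraMap A B (x i)) s, ?_, ?_⟩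
  · rw [Fin.sum_univ_succ]
    simp only [gB, Fin.cons_zero, Fin.cons_succ, mul_one]
    ring
  · rw [Fin.sum_univ_succ]
    simp only [gB, Fin.cons_zero, Fin.cons_succ, Derivation.map_one_eq_zero, smul_zero, zero_add]
    exact hs

set_option maxHeartbeats 1600000 in
/-- Bertini on one smooth chart, with the rank of the differentials of the section -/
theorem chart_step
    (hx : Function.Surjective (MvPolynomial.aeval x : MvPolynomial (Fin n) k →ₐ[k] A))
    (hdim : ∀ P ∈ minimalPrimes A, ringKrullDim (A ⧸ P) = r)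
    (f : A) [Algebra.Smooth k (Localization.Away f)] :
    ∃ p : MvPolynomial (Fin (n + 1)) k, p ≠ 0 ∧ ∀ a : Fin (n + 1) → k,
      MvPolynomial.eval a p ≠ 0 →
      ∀ F' : Localization.Away f, F' = algebraMap A (Localization.Away f) (h k n A x a) →
        Algebra.Smooth k (Localization.Away f ⧸ Ideal.span {F'}) ∧
        ∀ 𝔫 : PrimeSpectrum (Localization.Away f ⧸ Ideal.span {F'}),
          Module.rankAtStalk Ω[(Localization.Away f ⧸ Ideal.span {F'})⁄k] 𝔫 = r - 1 := by
  classical
  haveI : Algebra.FiniteType k A := Algebra.FiniteType.of_surjective _ hx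
  set B := Localization.Away f with hBdef
  have hB := Groth.Agent.Lib.Helper19.AffBertA.equidim_away k A r hdim f B
  have hΦ := surj k n x hx f B
  have h1 := comap_J_ne_bot k (0 : B) (gB n x B) hΦ
  obtain ⟨p, hpJ, hp0⟩ := Submodule.exists_mem_ne_zero_of_ne_bot h1
  refine ⟨p, hp0, fun a ha F' hF' => ?_⟩
  have hF'' : F' = (0 : B) + ∑ i, a i • gB n x B i := by rw [hF', sum_gB]
  clear hF'
  have hsm : Algebra.Smooth k (B ⧸ Ideal.span {F'}) := by
    rw [hF'']
    exact smooth_fibre k (0 : B) (gB n x B) p hpJ a ha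
  refine ⟨hsm, fun 𝔫 => ?_⟩
  haveI := hsm
  have hdual : ∀ (𝔮 : Ideal B) [𝔮.IsPrime], F' ∈ 𝔮 →
      ∃ l : Ω[B⁄k] →ₗ[B] B, l (D k B F') ∉ 𝔮 := by
    rw [hF'']
    intro 𝔮 _ h𝔮
    exact exists_dual_notMem k (0 : B) (gB n x B) p hpJ a ha 𝔮 h𝔮
  set C := B ⧸ Ideal.span {F'} with hC
  haveI := 𝔫.2
  let L := 𝔫.asIdeal.ResidueField
  letI algBL : Algebra B L := ((algebraMap C L).comp (algebraMap B C)).toAlgebra
  haveI : IsScalarTower B C L := by
    have h : @IsScalarTower B C L Algebra.toSMul Algebra.toSMul Algebra.toSMul :=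
      IsScalarTower.of_algebraMap_eq (fun _ => rfl)
    exact h
  let 𝔮 : PrimeSpectrum B := 𝔫.comap (algebraMap B C)
  have hkerC : RingHom.ker (algebraMap C L) = 𝔫.asIdeal := Ideal.ker_algebraMap_residueField _
  have hkerB : RingHom.ker (algebraMap B L) = 𝔮.asIdeal := by
    ext b
    rw [RingHom.mem_ker]
    change algebraMap C L (algebraMap B C b) = 0 ↔ algebraMap B C b ∈ 𝔫.asIdeal
    constructor
    · intro h
      have : algebraMap B C b ∈ RingHom.ker (algebraMap C L) := h
      rwa [hkerC] at this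
    · intro h
      have : algebraMap B C b ∈ RingHom.ker (algebraMap C L) := by rw [hkerC]; exact h
      exact this
  have hF'𝔮 : F' ∈ 𝔮.asIdeal := by
    change algebraMap B C F' ∈ 𝔫.asIdeal
    have : algebraMap B C F' = 0 :=
      Ideal.Quotient.eq_zero_iff_mem.2 (Ideal.subset_span rfl)
    rw [this]
    exact 𝔫.asIdeal.zero_mem
  haveI := 𝔮.2
  obtain ⟨l, hl⟩ := hdual 𝔮.asIdeal hF'𝔮
  have hl' : algebraMap B L (l (D k B F')) ≠ 0 := by
    intro h0
    apply hl
    rw [← hkerB]
    exact h0
  haveI : Algebra.FiniteType k B := Algebra.FiniteType.of_finitePresentation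
  haveI : Algebra.FiniteType k C := Algebra.FiniteType.of_finitePresentation
  have hsurj : Function.Surjective (algebraMap B C) := Ideal.Quotient.mk_surjective
  have hker : RingHom.ker (algebraMap B C) = Ideal.span {F'} := Ideal.mk_ker
  have h2 := Groth.Agent.Lib.Helper19.AffBertB.finrank_fibre_succ k (P := B) (B := C) (L := L)
    hsurj F' hker l hl'
  rw [Groth.Agent.Lib.Helper19.AffBertB.finrank_tensor_eq_rankAtStalk 𝔫 hkerC,
    Groth.Agent.Lib.Helper19.AffBertB.finrank_tensor_eq_rankAtStalk 𝔮 hkerB,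
    Groth.Agent.Lib.Helper19.AffBertA.rankAtStalk_kaehler k B r hB 𝔮] at h2
  have h3 : Module.rankAtStalk Ω[(Localization.Away f ⧸ Ideal.span {F'})⁄k] 𝔫 + 1 = r := h2
  omega

end Chart

end Groth.Agent.Lib.Helper19.AffBertC
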