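import Mathlib
import Groth.Agent.Lib.helper19.AffBertC

set_option autoImplicit false
set_option linter.unusedVariables false
set_option linter.unusedSectionVars false
set_option linter.style.haveILetI false
universe u

namespace Groth.Agent.Lib.Helper19.AffBertD

open CategoryTheory AlgebraicGeometry TensorProduct KaehlerDifferential MvPolynomial
open Groth.Agent.Lib.Helper19.AffBertC

variable (k : Type u) [Field k] (n r : ℕ) {A : Type u} [CommRing A] [Algebra k A]
  (x : Fin n → A)

/-- ideal form of `chart_step` -/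
theorem chart_step'
    (hx : Function.Surjective (MvPolynomial.aeval x : MvPolynomial (Fin n) k →ₐ[k] A))
    (hdim : ∀ P ∈ minimalPrimes A, ringKrullDim (A ⧸ P) = r)
    (f : A) [Algebra.Smooth k (Localization.Away f)] :
    ∃ p : MvPolynomial (Fin (n + 1)) k, p ≠ 0 ∧ ∀ a : Fin (n + 1) → k,
      MvPolynomial.eval a p ≠ 0 →
      ∀ I' : Ideal (Localization.Away f),
        I' = (Ideal.span {h k n A x a}).map (algebraMap A (Localization.Away f)) →
        Algebra.Smooth k (Localization.Away f ⧸ I') ∧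
        ∀ 𝔫 : PrimeSpectrum (Localization.Away f ⧸ I'),
          Module.rankAtStalk Ω[(Localization.Away f ⧸ I')⁄k] 𝔫 = r - 1 := by
  obtain ⟨p, hp0, hp⟩ := chart_step k n r x hx hdim f
  refine ⟨p, hp0, fun a ha I' hI' => ?_⟩
  have hI'' : I' = Ideal.span {algebraMap A (Localization.Away f) (h k n A x a)} := by
    rw [hI', Ideal.map_span, Set.image_singleton]
  subst hI''
  exact hp a ha _ rfl

set_option maxHeartbeats 1600000 in
theorem main
    (hx : Function.Surjective (MvPolynomial.aeval x : MvPolynomial (Fin n) k →ₐ[k] A))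
    (hdim : ∀ P ∈ minimalPrimes A, ringKrullDim (A ⧸ P) = r) :
    ∃ g : MvPolynomial (Fin (n + 1)) k, g ≠ 0 ∧
      ∀ a : Fin (n + 1) → k, MvPolynomial.eval a g ≠ 0 →
        ∀ (q : Ideal (A ⧸ Ideal.span {algebraMap k A (a 0) + ∑ i : Fin n, algebraMap k A (a i.succ) * x i}))
          (_ : q.IsPrime),
          (∃ f : A, f ∉ q.comap (Ideal.Quotient.mk _) ∧
            Smooth (Spec.map (CommRingCat.ofHom (algebraMap k (Localization.Away f))))) →
          ∃ f : A ⧸ Ideal.span {algebraMap k A (a 0) + ∑ i : Fin n, algebraMap k A (a i.succ) * x i},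
            f ∉ q ∧ SmoothOfRelativeDimension (r - 1)
              (Spec.map (CommRingCat.ofHom (algebraMap k (Localization.Away f)))) := by
  classical
  haveI : Algebra.FiniteType k A := Algebra.FiniteType.of_surjective _ hx
  haveI : IsNoetherianRing A := Algebra.FiniteType.isNoetherianRing k A
  let 𝒮 : Set A := {f | Algebra.Smooth k (Localization.Away f)}
  let U : Set (PrimeSpectrum A) := ⋃ f : 𝒮, (PrimeSpectrum.basicOpen f.1 : Set (PrimeSpectrum A))
  have hUc : IsCompact U := TopologicalSpace.NoetherianSpace.isCompact U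
  obtain ⟨t, ht⟩ := hUc.elim_finite_subcover
    (fun f : 𝒮 => (PrimeSpectrum.basicOpen f.1 : Set (PrimeSpectrum A)))
    (fun f => (PrimeSpectrum.basicOpen f.1).isOpen) subset_rfl
  have hstep : ∀ f : 𝒮, ∃ p : MvPolynomial (Fin (n + 1)) k, p ≠ 0 ∧ ∀ a : Fin (n + 1) → k,
      MvPolynomial.eval a p ≠ 0 →
      ∀ I' : Ideal (Localization.Away f.1),
        I' = (Ideal.span {h k n A x a}).map (algebraMap A (Localization.Away f.1)) →
        Algebra.Smooth k (Localization.Away f.1 ⧸ I') ∧
        ∀ 𝔫 : PrimeSpectrum (Localization.Away f.1 ⧸ I'),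
          Module.rankAtStalk Ω[(Localization.Away f.1 ⧸ I')⁄k] 𝔫 = r - 1 := by
    intro f
    haveI : Algebra.Smooth k (Localization.Away f.1) := f.2
    exact chart_step' k n r x hx hdim f.1
  choose P hP0 hP using hstep
  refine ⟨∏ f ∈ t, P f, Finset.prod_ne_zero_iff.2 (fun f _ => hP0 f), ?_⟩
  intro a ha
  have hev : ∀ f ∈ t, MvPolynomial.eval a (P f) ≠ 0 := by
    rw [map_prod] at ha
    exact Finset.prod_ne_zero_iff.1 ha
  have hIa0 : Ideal.span {h k n A x a} =
      Ideal.span {algebraMap k A (a 0) + ∑ i : Fin n, algebraMap k A (a i.succ) * x i} := rfl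
  generalize Ideal.span {algebraMap k A (a 0) + ∑ i : Fin n, algebraMap k A (a i.succ) * x i} = Ia
    at hIa0 ⊢
  intro q hq hex
  obtain ⟨f, hfq, hsm⟩ := hex
  have hf𝒮 : f ∈ 𝒮 := by
    have h1 := (HasRingHomProperty.Spec_iff (P := @Smooth)).1 hsm
    exact RingHom.smooth_algebraMap.1 h1
  haveI := hq
  let q' : PrimeSpectrum A := ⟨q.comap (Ideal.Quotient.mk Ia), inferInstance⟩
  have hq'U : q' ∈ U := Set.mem_iUnion.2 ⟨⟨f, hf𝒮⟩, hfq⟩
  obtain ⟨fj, hfjt, hfjq⟩ := Set.mem_iUnion₂.1 (ht hq'U)
  have hfjq' : fj.1 ∉ q.comap (Ideal.Quotient.mk Ia) := hfjq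
  refine ⟨Ideal.Quotient.mk Ia fj.1, hfjq', ?_⟩
  set B := Localization.Away fj.1 with hB
  set fbar : A ⧸ Ia := Ideal.Quotient.mk Ia fj.1 with hfbar
  obtain ⟨hsmC, hrank⟩ := hP fj a (hev fj hfjt) (Ia.map (algebraMap A B)) (by rw [hIa0])
  set C' := B ⧸ Ia.map (algebraMap A B) with hC'
  haveI := hsmC
  haveI hloc : IsLocalization.Away fbar C' := by
    have h : IsLocalization (Algebra.algebraMapSubmonoid (A ⧸ Ia) (Submonoid.powers fj.1)) C' :=
      inferInstance
    rw [Algebra.algebraMapSubmonoid_powers] at h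
    exact h
  have h1 : SmoothOfRelativeDimension (r - 1)
      (Spec.map (CommRingCat.ofHom (algebraMap k C'))) :=
    (HasRingHomProperty.Spec_iff (P := @SmoothOfRelativeDimension (r - 1))).2
      (Groth.Agent.Lib.Helper19.AffBertB.locally_isStandardSmoothOfRelativeDimension k C' (r - 1) hrank)
  let e : Localization.Away fbar ≃ₐ[A ⧸ Ia] C' :=
    IsLocalization.algEquiv (Submonoid.powers fbar) (Localization.Away fbar) C'
  have htower : ∀ c : k, algebraMap (A ⧸ Ia) C' (algebraMap k (A ⧸ Ia) c) = algebraMap k C' c := by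
    intro c
    change Ideal.Quotient.mk _ (algebraMap A B (algebraMap k A c)) =
      Ideal.Quotient.mk _ (algebraMap k B c)
    rw [← IsScalarTower.algebraMap_apply]
  have hcompat : ∀ c : k, e (algebraMap k (Localization.Away fbar) c) = algebraMap k C' c := by
    intro c
    rw [IsScalarTower.algebraMap_apply k (A ⧸ Ia) (Localization.Away fbar), e.commutes, htower]
  let ie : CommRingCat.of (Localization.Away fbar) ≅ CommRingCat.of C' :=
    e.toRingEquiv.toCommRingCatIso
  have hfac : CommRingCat.ofHom (algebraMap k C') =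
      CommRingCat.ofHom (algebraMap k (Localization.Away fbar)) ≫ ie.hom := by
    ext c
    exact (hcompat c).symm
  rw [hfac, Spec.map_comp] at h1
  exact (MorphismProperty.cancel_left_of_respectsIso (@SmoothOfRelativeDimension (r - 1)) _ _).1 h1

end Groth.Agent.Lib.Helper19.AffBertD
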