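import Mathlib
import Groth.Prelude.Def_CAlg
import Groth.Prelude.Def_MoreMor
import Groth.Prelude.Def_AlgSp3
import Groth.Agent.Lib.helper19.AlgSpCM1

set_option autoImplicit false
set_option linter.style.haveILetI false
universe u

namespace Groth.Agent.Lib.Helper19.AlgSpCM2

open CategoryTheory CategoryTheory.Limits AlgebraicGeometry IsLocalRing TopologicalSpace

/-- over a point whose local ring is a field: CM / Gorenstein at `x` of the morphism is that of the local ring. -/
theorem point_iff {X S : Scheme.{u}} (g : X ⟶ S) (x : X)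
    (h : IsField (S.presheaf.stalk (g x))) :
    (MoreMor.IsCMAt g x ↔ LocCoh.IsCohenMacaulayLocalRing (X.presheaf.stalk x)) ∧
    (((g.stalkMap x).hom.Flat ∧
        LocCoh.IsGorensteinLocalRing ((g.fiber (g x)).presheaf.stalk (g.asFiber x))) ↔
      LocCoh.IsGorensteinLocalRing (X.presheaf.stalk x)) := by
  obtain ⟨e⟩ := AlgSpCM1.fiberStalk_equiv_of_isField g x h
  have hfl := AlgSpCM1.flat_of_isField g x h
  refine ⟨⟨fun h1 => ?_, fun h1 => ⟨hfl, ?_⟩⟩, ⟨fun h1 => ?_, fun h1 => ⟨hfl, ?_⟩⟩⟩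
  · haveI := h1.2
    exact Groth.Agent.Lib.Helper5.CMFlatLocal.isCohenMacaulayLocalRing_of_ringEquiv e
  · haveI := h1
    exact Groth.Agent.Lib.Helper5.CMFlatLocal.isCohenMacaulayLocalRing_of_ringEquiv e.symm
  · haveI := h1.2
    exact Groth.Agent.Lib.Helper5.GorIso.isGorensteinLocalRing_of_ringEquiv e
  · haveI := h1
    exact Groth.Agent.Lib.Helper5.GorIso.isGorensteinLocalRing_of_ringEquiv e.symm

/-- the chart statement. -/
theorem chart_iff (k : Type u) [Field k] {X U V : Scheme.{u}} (p : X ⟶ Spec (CommRingCat.of k))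
    [IsLocallyNoetherian X] (a : U ⟶ X) [Etale a] (b : V ⟶ Spec (CommRingCat.of k)) [Etale b]
    (h : U ⟶ V) (u : U) :
    (MoreMor.IsCMAt h u ↔ LocCoh.IsCohenMacaulayLocalRing (X.presheaf.stalk (a u))) ∧
    (((h.stalkMap u).hom.Flat ∧
        LocCoh.IsGorensteinLocalRing ((h.fiber (h u)).presheaf.stalk (h.asFiber u))) ↔
      LocCoh.IsGorensteinLocalRing (X.presheaf.stalk (a u))) := by
  have hV : IsField (V.presheaf.stalk (h u)) :=
    AlgSpCM1.isField_stalk_of_etale b (h u) (AlgSpCM1.isField_stalk_spec_field k _)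
  obtain ⟨h1, h2⟩ := point_iff h u hV
  obtain ⟨h3, h4⟩ := AlgSpCM1.stalk_iff_of_etale a u
  exact ⟨h1.trans h3, h2.trans h4⟩

variable {S : Scheme.{u}}

theorem main_cm (k : Type u) [Field k] (t : Spec (CommRingCat.of k) ⟶ S)
    (X : Scheme.{u}) (p : X ⟶ Spec (CommRingCat.of k)) [LocallyOfFiniteType p] :
    AlgSp.LocP (fun _ _ g => ∀ x, MoreMor.IsCMAt g x)
      ((AlgSp.yon S).map (Over.homMk p rfl : Over.mk (p ≫ t) ⟶ Over.mk t)) ↔
      ∀ x : ↥X, LocCoh.IsCohenMacaulayLocalRing (X.presheaf.stalk x) := by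
  haveI : IsLocallyNoetherian X := LocallyOfFiniteType.isLocallyNoetherian p
  constructor
  · intro hL x
    have h1 := AlgSp.locP_yon_map hL
    exact (point_iff p x (AlgSpCM1.isField_stalk_spec_field k _)).1.1 (h1 x)
  · intro hX U V a b h ha hb w
    obtain ⟨a', rfl⟩ := (AlgSp.yon S).map_surjective a
    obtain ⟨b', rfl⟩ := (AlgSp.yon S).map_surjective b
    haveI ha' : Etale a'.left := (AlgSp.repWith_yon_map_iff @Etale a').1 ha
    haveI hb' : Etale b'.left := (AlgSp.repWith_yon_map_iff @Etale b').1 hb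
    intro u
    exact (chart_iff k p a'.left b'.left h.left u).1.2 (hX _)

theorem main_gor (k : Type u) [Field k] (t : Spec (CommRingCat.of k) ⟶ S)
    (X : Scheme.{u}) (p : X ⟶ Spec (CommRingCat.of k)) [LocallyOfFiniteType p] :
    AlgSp.LocP (fun _ _ g => ∀ x, (g.stalkMap x).hom.Flat ∧
        LocCoh.IsGorensteinLocalRing ((g.fiber (g x)).presheaf.stalk (g.asFiber x)))
      ((AlgSp.yon S).map (Over.homMk p rfl : Over.mk (p ≫ t) ⟶ Over.mk t)) ↔
      ∀ x : ↥X, LocCoh.IsGorensteinLocalRing (X.presheaf.stalk x) := by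
  haveI : IsLocallyNoetherian X := LocallyOfFiniteType.isLocallyNoetherian p
  constructor
  · intro hL x
    have h1 := AlgSp.locP_yon_map hL
    exact (point_iff p x (AlgSpCM1.isField_stalk_spec_field k _)).2.1 (h1 x)
  · intro hX U V a b h ha hb w
    obtain ⟨a', rfl⟩ := (AlgSp.yon S).map_surjective a
    obtain ⟨b', rfl⟩ := (AlgSp.yon S).map_surjective b
    haveI ha' : Etale a'.left := (AlgSp.repWith_yon_map_iff @Etale a').1 ha
    haveI hb' : Etale b'.left := (AlgSp.repWith_yon_map_iff @Etale b').1 hb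
    intro u
    exact (chart_iff k p a'.left b'.left h.left u).2.2 (hX _)

end Groth.Agent.Lib.Helper19.AlgSpCM2
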