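import Mathlib
import Groth.Prelude.Def_ModelsG
import Groth.Agent.Lib.helper19.ArSec3

set_option autoImplicit false
set_option linter.unusedSectionVars false
universe u

namespace Groth.Agent.Lib.Helper19.ArSec4

open CategoryTheory AlgebraicGeometry IsLocalRing Groth.Agent.Lib.Helper13.StalkSpecLoc

variable (R : Type u) [CommRing R] [IsDomain R] [IsDiscreteValuationRing R]
  (X : Over (Spec (CommRingCat.of R)))

theorem theta_stalkHom (σ : Spec (CommRingCat.of R) ⟶ X.left) (hσ : σ ≫ X.hom = 𝟙 _) (r : R) :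
    (Scheme.stalkClosedPointTo σ).hom (Models.stalkHom R X (σ (closedPoint R)) r) = r := by
  have h1 := Scheme.germ_stalkClosedPointTo σ ⊤ trivial
  have h2 : (Scheme.stalkClosedPointTo σ).hom (Models.stalkHom R X (σ (closedPoint R)) r) =
      (X.left.presheaf.germ ⊤ _ trivial ≫ Scheme.stalkClosedPointTo σ).hom
        (Coh.toGlobal X.hom r) := rfl
  rw [h2, h1]
  have h3 : Coh.toGlobal X.hom r =
      ((Scheme.ΓSpecIso (CommRingCat.of R)).inv ≫ X.hom.appTop).hom r := rfl
  rw [h3]
  have h4 := congrArg (fun g => g.appTop) hσ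
  simp only [Scheme.Hom.comp_appTop] at h4
  have h6 : ((Scheme.ΓSpecIso (CommRingCat.of R)).inv ≫ X.hom.appTop ≫ σ.appTop ≫
      (Scheme.ΓSpecIso (CommRingCat.of R)).hom) = 𝟙 _ := by
    rw [← Category.assoc X.hom.appTop, h4]
    simp
  have h7 := congrArg (fun g => g.hom r) h6
  simp only [CommRingCat.hom_comp, RingHom.comp_apply, CommRingCat.hom_id, RingHom.id_apply] at h7
  simp only [CommRingCat.hom_comp, RingHom.comp_apply, Iso.trans_hom, Functor.mapIso_hom,
    Iso.op_hom, eqToIso.hom]
  convert h7 using 2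
  have h8 : ∀ (e : (⊤ : (Spec (CommRingCat.of R)).Opens) = ⊤) (z : Γ(Spec (CommRingCat.of R), ⊤)),
      ((Spec (CommRingCat.of R)).presheaf.map (eqToHom e).op).hom z = z := by
    intro e z
    simp
  exact h8 _ _

theorem surj (σ : Spec (CommRingCat.of R) ⟶ X.left) (hσ : σ ≫ X.hom = 𝟙 _) :
    Function.Surjective ((X.left.residue (σ (closedPoint R))).hom.comp
        (Models.stalkHom R X (σ (closedPoint R)))) := by
  intro z
  obtain ⟨b, rfl⟩ := X.left.residue_surjective (σ (closedPoint R)) z
  let θ := (Scheme.stalkClosedPointTo σ).hom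
  haveI : IsLocalHom θ := Scheme.isLocalHom_stalkClosedPointTo' σ
  refine ⟨θ b, ?_⟩
  rw [RingHom.comp_apply]
  have h1 : θ (b - Models.stalkHom R X (σ (closedPoint R)) (θ b)) = 0 := by
    rw [map_sub, theta_stalkHom R X σ hσ, sub_self]
  have h2 : b - Models.stalkHom R X (σ (closedPoint R)) (θ b) ∈
      maximalIdeal (X.left.presheaf.stalk (σ (closedPoint R))) := by
    rw [mem_maximalIdeal, mem_nonunits_iff]
    intro hu
    have := hu.map θ
    rw [h1] at this
    exact not_isUnit_zero this
  have h3 : (X.left.residue (σ (closedPoint R))).hom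
      (b - Models.stalkHom R X (σ (closedPoint R)) (θ b)) = 0 := by
    exact (IsLocalRing.residue_eq_zero_iff _).mpr h2
  rw [map_sub, sub_eq_zero] at h3
  exact h3.symm

end Groth.Agent.Lib.Helper19.ArSec4
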