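import Mathlib
import Groth.Prelude.Def_ModelsG
import Groth.Agent.Lib.helper19.ArSec4
import Groth.Agent.Lib.helper19.Mod19912

set_option autoImplicit false
set_option linter.unusedSectionVars false
universe u

namespace Groth.Agent.Lib.Helper19.ArSec5

open CategoryTheory AlgebraicGeometry IsLocalRing Groth.Agent.Lib.Helper13.StalkSpecLoc

theorem genPtOf_eq (R : Type u) [CommRing R] [IsDomain R] [IsDiscreteValuationRing R]
    (X : Over (Spec (CommRingCat.of R))) (Γ : ArSurf.VertComp R X) (η : X.left)
    (h : Set.range (Γ.ι.base : Γ.curve.left → X.left) = closure {η}) :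
    Models.genPtOf R X Γ = η := by
  have h1 : IsGenericPoint (genericPoint Γ.curve.left) (⊤ : Set Γ.curve.left) := genericPoint_spec _
  have h2 := h1.image Γ.ι.continuous
  have h3 : closure ((Γ.ι : Γ.curve.left → X.left) '' (⊤ : Set Γ.curve.left)) = closure {η} := by
    rw [Set.top_eq_univ, Set.image_univ]
    rw [show Set.range (Γ.ι : Γ.curve.left → X.left) = closure {η} from h, closure_closure]
  rw [h3] at h2
  have h4 : IsGenericPoint η (closure {η}) := rfl
  exact h2.eq h4

theorem main (R : Type u) [CommRing R] [IsDomain R] [IsDiscreteValuationRing R]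
    (X : Over (Spec (CommRingCat.of R))) (hX : ArSurf.IsArithSurface R X)
    {n : ℕ} (Γ : Fin n → ArSurf.VertComp R X) (hΓ : Models.IsComponentList R X Γ)
    (σ : Spec (CommRingCat.of R) ⟶ X.left) (hσ : σ ≫ X.hom = 𝟙 _) :
    Function.Surjective ((X.left.residue (σ.base (IsLocalRing.closedPoint R))).hom.comp
        (Models.stalkHom R X (σ.base (IsLocalRing.closedPoint R)))) ∧
      IsRegularLocalRing (X.left.presheaf.stalk (σ.base (IsLocalRing.closedPoint R)) ⧸
        Ideal.map (Models.stalkHom R X (σ.base (IsLocalRing.closedPoint R))) (IsLocalRing.maximalIdeal R)) ∧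
      (∃! i : Fin n, σ.base (IsLocalRing.closedPoint R) ∈ Set.range ((Γ i).ι.base : (Γ i).curve.left → X.left)) ∧
      ∀ i : Fin n, σ.base (IsLocalRing.closedPoint R) ∈ Set.range ((Γ i).ι.base : (Γ i).curve.left → X.left) →
        Models.mult R X (Γ i) = 1 := by
  set p : X.left := σ.base (IsLocalRing.closedPoint R) with hp
  have hreg : IsRegularLocalRing (X.left.presheaf.stalk p ⧸
      Ideal.map (Models.stalkHom R X p) (IsLocalRing.maximalIdeal R)) := by
    refine Groth.Agent.Lib.Helper19.Mod19912.main19912 R X R ?_ σ ?_ p rfl (hX.1 p)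
    · rw [Algebra.algebraMap_self, Ideal.map_id]
    · rw [hσ, Algebra.algebraMap_self, CommRingCat.ofHom_id, Spec.map_id]
  refine ⟨ArSec4.surj R X σ hσ, hreg, ?_⟩
  set I := Ideal.map (Models.stalkHom R X p) (IsLocalRing.maximalIdeal R) with hI
  haveI hIp : I.IsPrime := by
    rw [← Ideal.Quotient.isDomain_iff_prime]
    exact Groth.Agent.Lib.helper19.isDomain_of_isRegularLocalRing _
  have hFc := Models.isClosed_specialFibreSet R X
  have hF := ArSec1.mem_specialFibre_iff R X p
  set η := ArSec2.eta p I with hη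
  have hmx := ArSec2.maximal_closure_eta p (Models.specialFibreSet R X) hFc I hF
  have hmem : closure {η} ∈ Models.fibreComponents R X := hmx
  rw [← hΓ.2] at hmem
  obtain ⟨i₀, hi₀⟩ := hmem
  have huniq : ∀ i : Fin n, p ∈ Set.range ((Γ i).ι.base : (Γ i).curve.left → X.left) → i = i₀ := by
    intro i hi
    have h1 : Set.range ((Γ i).ι.base : (Γ i).curve.left → X.left) ∈ Models.fibreComponents R X := by
      rw [← hΓ.2]; exact ⟨i, rfl⟩
    have h2 := ArSec2.eq_closure_eta_of_maximal p (Models.specialFibreSet R X) hFc I hF h1 hi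
    apply hΓ.1
    change Set.range ((Γ i).ι.base : (Γ i).curve.left → X.left) =
      Set.range ((Γ i₀).ι.base : (Γ i₀).curve.left → X.left)
    rw [h2]
    exact hi₀.symm
  have hi₀' : Set.range ((Γ i₀).ι.base : (Γ i₀).curve.left → X.left) = closure {η} := hi₀
  refine ⟨⟨i₀, ?_, huniq⟩, ?_⟩
  · change p ∈ Set.range ((Γ i₀).ι.base : (Γ i₀).curve.left → X.left)
    rw [hi₀']
    exact ArSec2.mem_closure_eta p I
  · intro i hi
    rw [huniq i hi]
    have hgen := genPtOf_eq R X (Γ i₀) η hi₀'
    unfold Models.mult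
    rw [hgen]
    have := ArSec3.length_eta R X p
    rw [this]
    rfl

end Groth.Agent.Lib.Helper19.ArSec5
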