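import Mathlib

set_option autoImplicit false
universe u

open CategoryTheory AlgebraicGeometry TopologicalSpace

namespace Groth.Agent.Lib.helper19.AssDenseA

/-- An open subset of a locally Noetherian scheme containing all associated points is
scheme-theoretically dense. -/
theorem isSchemeTheoreticallyDominant_ι (S : Scheme.{u}) [IsLocallyNoetherian S] (U : S.Opens)
    (hU : ∀ s : S, IsLocalRing.maximalIdeal (S.presheaf.stalk s) ∈
        associatedPrimes (S.presheaf.stalk s) (S.presheaf.stalk s) → s ∈ U) :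
    IsSchemeTheoreticallyDominant U.ι := by
  constructor
  apply Scheme.IdealSheafData.ext
  funext V
  rw [Scheme.Hom.ker_apply]
  simp only [Scheme.IdealSheafData.ideal_bot, Pi.bot_apply]
  rw [eq_bot_iff]
  intro s hs
  rw [RingHom.mem_ker] at hs
  rw [Submodule.mem_bot]
  by_contra hs0
  haveI : IsNoetherianRing Γ(S, V.1) := IsLocallyNoetherian.component_noetherian V
  obtain ⟨P, hP, hle⟩ := exists_le_isAssociatedPrime_of_isNoetherianRing Γ(S, V.1) s hs0
  haveI := hP.isPrime
  let y : PrimeSpectrum Γ(S, V.1) := ⟨P, hP.isPrime⟩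
  have hy : V.2.fromSpec y ∈ V.1 := by
    have : V.2.fromSpec y ∈ Set.range V.2.fromSpec := ⟨y, rfl⟩
    rw [V.2.range_fromSpec] at this
    exact this
  letI : Algebra Γ(S, V.1) (S.presheaf.stalk (V.2.fromSpec y)) :=
    TopCat.Presheaf.algebra_section_stalk S.presheaf ⟨V.2.fromSpec y, hy⟩
  haveI hloc : IsLocalization.AtPrime (S.presheaf.stalk (V.2.fromSpec y)) P :=
    V.2.isLocalization_stalk' y hy
  have hxU : V.2.fromSpec y ∈ U := by
    apply hU
    haveI : IsLocalizedModule P.primeCompl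
        (Algebra.linearMap Γ(S, V.1) (S.presheaf.stalk (V.2.fromSpec y))) :=
      (isLocalizedModule_iff_isLocalization' _ _).2 hloc
    apply Module.associatedPrimes.mem_associatedPrimes_of_comap_mem_associatedPrimes_of_isLocalizedModule
      P.primeCompl (Algebra.linearMap Γ(S, V.1) (S.presheaf.stalk (V.2.fromSpec y)))
    have hc : Ideal.comap (algebraMap Γ(S, V.1) (S.presheaf.stalk (V.2.fromSpec y)))
        (IsLocalRing.maximalIdeal (S.presheaf.stalk (V.2.fromSpec y))) = P :=
      IsLocalization.AtPrime.comap_maximalIdeal (S.presheaf.stalk (V.2.fromSpec y)) P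
    rw [hc]
    exact hP
  -- the germ of `s` vanishes
  have hgerm : algebraMap Γ(S, V.1) (S.presheaf.stalk (V.2.fromSpec y)) s = 0 := by
    show S.presheaf.germ V.1 (V.2.fromSpec y) hy s = 0
    have hmem : V.2.fromSpec y ∈ U.ι ''ᵁ U.ι ⁻¹ᵁ V.1 := by
      refine ⟨⟨V.2.fromSpec y, hxU⟩, hy, rfl⟩
    have h1 := S.presheaf.germ_res_apply
      (homOfLE (x := U.ι ''ᵁ U.ι ⁻¹ᵁ V.1) (Set.image_preimage_subset _ _)) (V.2.fromSpec y) hmem s
    rw [← h1]
    have h2 : (S.presheaf.map (homOfLE (x := U.ι ''ᵁ U.ι ⁻¹ᵁ V.1)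
        (Set.image_preimage_subset _ _)).op) s = 0 := hs
    rw [h2, map_zero]
  obtain ⟨u, hu⟩ := (IsLocalization.map_eq_zero_iff P.primeCompl _ s).1 hgerm
  have : (u : Γ(S, V.1)) ∈ P := hle (by
    rw [Submodule.mem_colon_singleton]
    exact hu)
  exact u.2 this

end Groth.Agent.Lib.helper19.AssDenseA
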