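import Groth.Agent.Lib.helper19.AssDenseA

set_option autoImplicit false
universe u

open CategoryTheory CategoryTheory.Limits AlgebraicGeometry TopologicalSpace

namespace Groth.Agent.Lib.helper19.AssDenseB

/-- two `S`-morphisms into a separated `S`-scheme agreeing on a scheme-theoretically dense part are
equal (argument as in `Groth.Agent.S18498`) -/
theorem eq_of_comp_eq {Z X Y S : Scheme.{u}} (j : Z ⟶ X) [IsSchemeTheoreticallyDominant j]
    (fX : X ⟶ S) (fY : Y ⟶ S) [IsSeparated fY] (φ ψ : X ⟶ Y) (hφ : φ ≫ fY = fX)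
    (hψ : ψ ≫ fY = fX) (h : j ≫ φ = j ≫ ψ) : φ = ψ := by
  let X' : Over S := Over.mk fX
  let Y' : Over S := Over.mk fY
  haveI : IsSeparated Y'.hom := ‹IsSeparated fY›
  let f : X' ⟶ Y' := Over.homMk φ hφ
  let g : X' ⟶ Y' := Over.homMk ψ hψ
  let Z' : Over S := Over.mk (j ≫ fX)
  let j' : Z' ⟶ X' := Over.homMk j rfl
  have hj' : j' ≫ f = j' ≫ g := by
    ext1
    exact h
  have hci : IsClosedImmersion (equalizer.ι f g).left := inferInstance
  have hker : (equalizer.ι f g).left.ker = ⊥ := by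
    have h1 : (equalizer.lift j' hj').left ≫ (equalizer.ι f g).left = j := by
      rw [← Over.comp_left, equalizer.lift_ι]
      rfl
    have h2 := Scheme.Hom.le_ker_comp (equalizer.lift j' hj').left (equalizer.ι f g).left
    rw [h1, Scheme.Hom.ker_eq_bot j] at h2
    exact le_bot_iff.mp h2
  have hiso : IsIso (equalizer.ι f g).left := IsClosedImmersion.isIso_iff_ker_eq_bot.mpr hker
  have h3 : f.left = g.left := by
    rw [← cancel_epi (equalizer.ι f g).left]
    exact congrArg (fun φ => φ.left) (equalizer.condition f g)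
  exact h3

theorem main (S G₁ G₂ : Scheme.{u}) [AlgebraicGeometry.IsNoetherian S] (f₁ : G₁ ⟶ S) (f₂ : G₂ ⟶ S)
    [Flat f₁] [IsSeparated f₂]
    (U : S.Opens)
    (hU : ∀ s : S, IsLocalRing.maximalIdeal (S.presheaf.stalk s) ∈
        associatedPrimes (S.presheaf.stalk s) (S.presheaf.stalk s) → s ∈ U)
    (φ ψ : G₁ ⟶ G₂) (hφ : φ ≫ f₂ = f₁) (hψ : ψ ≫ f₂ = f₁)
    (h : (f₁ ⁻¹ᵁ U).ι ≫ φ = (f₁ ⁻¹ᵁ U).ι ≫ ψ) : φ = ψ := by
  haveI := AssDenseA.isSchemeTheoreticallyDominant_ι S U hU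
  haveI : IsSchemeTheoreticallyDominant (f₁ ⁻¹ᵁ U).ι :=
    .of_isPullback (isPullback_morphismRestrict f₁ U)
  exact eq_of_comp_eq (f₁ ⁻¹ᵁ U).ι f₁ f₂ φ ψ hφ hψ h

end Groth.Agent.Lib.helper19.AssDenseB
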