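import Mathlib

set_option autoImplicit false
universe u

namespace Groth.Agent.Lib.helper19.BLRing

variable {A A' : Type u} [CommRing A] [CommRing A'] (φ : A →+* A') (t : A)

theorem algebraMap_eq_zero_iff (a : A) :
    algebraMap A (Localization.Away t) a = 0 ↔ ∃ m : ℕ, t ^ m * a = 0 := by
  rw [IsLocalization.map_eq_zero_iff (Submonoid.powers t)]
  constructor
  · rintro ⟨⟨_, m, rfl⟩, h⟩
    exact ⟨m, h⟩
  · rintro ⟨m, h⟩
    exact ⟨⟨_, m, rfl⟩, h⟩

theorem awayMap_algebraMap (a : A) :
    Localization.awayMap φ t (algebraMap A (Localization.Away t) a) =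
      algebraMap A' (Localization.Away (φ t)) (φ a) := by
  simp [Localization.awayMap, IsLocalization.Away.map, IsLocalization.map_eq]

variable (htor : ∀ a' : A', (∃ m : ℕ, φ t ^ m * a' = 0) → ∃! a : A, (∃ m : ℕ, t ^ m * a = 0) ∧ φ a = a')

include htor in
/-- joint injectivity of `A → A' × A_t` -/
theorem eq_zero_of (a : A) (h1 : φ a = 0) (h2 : algebraMap A (Localization.Away t) a = 0) : a = 0 := by
  rw [algebraMap_eq_zero_iff] at h2
  obtain ⟨a₀, -, huniq⟩ := htor 0 ⟨0, by simp⟩
  rw [huniq a ⟨h2, h1⟩, huniq 0 ⟨⟨0, by simp⟩, map_zero φ⟩]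

include htor in
theorem eq_of (a b : A) (h1 : φ a = φ b)
    (h2 : algebraMap A (Localization.Away t) a = algebraMap A (Localization.Away t) b) : a = b := by
  rw [← sub_eq_zero]
  apply eq_zero_of φ t htor
  · rw [map_sub, h1, sub_self]
  · rw [map_sub, h2, sub_self]

variable (hq : ∀ m : ℕ, Function.Bijective
  (Ideal.quotientMap (Ideal.map φ (Ideal.span {t} ^ m)) φ Ideal.le_comap_map))

include htor hq in
/-- the square `A → A' × A_t ⇉ A'_t` is cartesian -/
theorem exists_glue (a' : A') (b : Localization.Away t)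
    (hab : algebraMap A' (Localization.Away (φ t)) a' = Localization.awayMap φ t b) :
    ∃ a : A, φ a = a' ∧ algebraMap A (Localization.Away t) a = b := by
  obtain ⟨m, c, hc⟩ := IsLocalization.Away.surj t b
  -- torsion element τ
  have h1 : algebraMap A' (Localization.Away (φ t)) (a' * φ t ^ m - φ c) = 0 := by
    have := congrArg (Localization.awayMap φ t) hc
    rw [map_mul, map_pow, awayMap_algebraMap, awayMap_algebraMap, ← hab] at this
    rw [map_sub, map_mul, map_pow, this, sub_self]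
  rw [algebraMap_eq_zero_iff] at h1
  obtain ⟨d, ⟨hd1, hd2⟩, -⟩ := htor _ h1
  have hd0 : algebraMap A (Localization.Away t) d = 0 := (algebraMap_eq_zero_iff t d).2 hd1
  -- c₁ = c + d
  have hc1 : φ (c + d) = a' * φ t ^ m := by
    rw [map_add, hd2]; ring
  have hmem : c + d ∈ Ideal.span {t} ^ m := by
    rw [← Ideal.Quotient.eq_zero_iff_mem]
    apply (hq m).1
    rw [map_zero, Ideal.quotientMap_mk, Ideal.Quotient.eq_zero_iff_mem, hc1, ← map_pow]
    apply Ideal.mul_mem_left
    apply Ideal.mem_map_of_mem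
    rw [Ideal.span_singleton_pow]
    exact Ideal.mem_span_singleton_self _
  rw [Ideal.span_singleton_pow, Ideal.mem_span_singleton'] at hmem
  obtain ⟨a₀, ha₀⟩ := hmem
  have hu : IsUnit (algebraMap A (Localization.Away t) t ^ m) :=
    (IsLocalization.Away.algebraMap_isUnit t).pow m
  have hb : algebraMap A (Localization.Away t) a₀ = b := by
    apply hu.mul_right_cancel
    rw [hc, ← map_pow, ← map_mul, ha₀, map_add, hd0, add_zero]
  -- second torsion element
  have h2 : ∃ k : ℕ, φ t ^ k * (a' - φ a₀) = 0 := by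
    refine ⟨m, ?_⟩
    have : φ (a₀ * t ^ m) = a' * φ t ^ m := by rw [ha₀, hc1]
    rw [map_mul, map_pow] at this
    rw [mul_sub, mul_comm _ a', ← this]; ring
  obtain ⟨d', ⟨hd1', hd2'⟩, -⟩ := htor _ h2
  have hd0' : algebraMap A (Localization.Away t) d' = 0 := (algebraMap_eq_zero_iff t d').2 hd1'
  refine ⟨a₀ + d', ?_, ?_⟩
  · rw [map_add, hd2']; ring
  · rw [map_add, hd0', add_zero, hb]

include hq in
/-- primes containing `t` come from `A'` -/
theorem mem_range_comap_of_mem (q : PrimeSpectrum A) (hq' : t ∈ q.asIdeal) :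
    q ∈ Set.range (PrimeSpectrum.comap φ) := by
  have hψπ : (Ideal.quotientMap (Ideal.map φ (Ideal.span {t} ^ 1)) φ Ideal.le_comap_map).comp
      (Ideal.Quotient.mk (Ideal.span {t} ^ 1)) =
      (Ideal.Quotient.mk (Ideal.map φ (Ideal.span {t} ^ 1))).comp φ := by
    ext a
    simp
  have h1 : q ∈ Set.range (PrimeSpectrum.comap (Ideal.Quotient.mk (Ideal.span {t} ^ 1))) := by
    rw [_root_.range_comap_of_surjective _ _ Ideal.Quotient.mk_surjective, Ideal.mk_ker,
      PrimeSpectrum.mem_zeroLocus, pow_one, SetLike.coe_subset_coe, Ideal.span_singleton_le_iff_mem]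
    exact hq'
  obtain ⟨qb, rfl⟩ := h1
  let e := RingEquiv.ofBijective _ (hq 1)
  have h2 : qb = PrimeSpectrum.comap
      (Ideal.quotientMap (Ideal.map φ (Ideal.span {t} ^ 1)) φ Ideal.le_comap_map)
      (PrimeSpectrum.comap (e.symm : _ →+* _) qb) := by
    rw [← PrimeSpectrum.comap_comp_apply]
    have h3 : (e.symm : _ →+* _).comp
        (Ideal.quotientMap (Ideal.map φ (Ideal.span {t} ^ 1)) φ Ideal.le_comap_map) = RingHom.id _ := by
      ext x
      exact e.symm_apply_apply x
    rw [h3]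
    rfl
  refine ⟨PrimeSpectrum.comap (Ideal.Quotient.mk (Ideal.map φ (Ideal.span {t} ^ 1)))
    (PrimeSpectrum.comap (e.symm : _ →+* _) qb), ?_⟩
  rw [← PrimeSpectrum.comap_comp_apply, ← hψπ, PrimeSpectrum.comap_comp_apply, ← h2]

end Groth.Agent.Lib.helper19.BLRing
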