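import Mathlib

set_option autoImplicit false
universe u

open CategoryTheory AlgebraicGeometry TopologicalSpace Opposite

namespace Groth.Agent.Lib.helper19.QAffPts

variable (X : Scheme.{u}) [X.IsQuasiAffine]

/-- morphisms to a quasi-affine scheme are determined by the composite to `Spec Γ(X)` -/
theorem hom_ext {T : Scheme.{u}} (f g : T ⟶ X) (e : f ≫ X.toSpecΓ = g ≫ X.toSpecΓ) : f = g :=
  (cancel_mono X.toSpecΓ).1 e

/-- a ring map `Γ(X) → A` whose `Spec` lands in `X` lifts to a morphism `Spec A ⟶ X` -/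
theorem exists_lift {A : CommRingCat.{u}} (ψ : Γ(X, ⊤) ⟶ A)
    (hψ : ∀ x : Spec A, (Spec.map ψ).base x ∈ Set.range X.toSpecΓ.base) :
    ∃ f : Spec A ⟶ X, f ≫ X.toSpecΓ = Spec.map ψ := by
  have hr : Set.range (Spec.map ψ).base ⊆ Set.range X.toSpecΓ.base := by
    rintro _ ⟨x, rfl⟩
    exact hψ x
  exact ⟨IsOpenImmersion.lift X.toSpecΓ (Spec.map ψ) hr, IsOpenImmersion.lift_fac _ _ _⟩

/-- it suffices to test the range condition on closed points -/
theorem forall_mem_range_of_maximal {A : CommRingCat.{u}} (g : Spec A ⟶ Spec Γ(X, ⊤))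
    (hm : ∀ x : Spec A, IsClosed ({x} : Set (Spec A)) → g.base x ∈ Set.range X.toSpecΓ.base)
    (x : Spec A) : g.base x ∈ Set.range X.toSpecΓ.base := by
  by_contra hx
  let O : (Spec A).Opens := g ⁻¹ᵁ X.toSpecΓ.opensRange
  have hxO : x ∉ O := hx
  have hcl : IsClosed ((O : Set (Spec A))ᶜ) := O.isOpen.isClosed_compl
  obtain ⟨y, hy, hyc⟩ := hcl.exists_closed_singleton ⟨x, hxO⟩
  exact hy (hm y hyc)

theorem main (A : Type u) [CommRing A] (I : Ideal A) [IsAdicComplete I A] :
    (∀ f g : Spec (CommRingCat.of A) ⟶ X,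
      (∀ n : ℕ, Spec.map (CommRingCat.ofHom (Ideal.Quotient.mk (I ^ n))) ≫ f =
        Spec.map (CommRingCat.ofHom (Ideal.Quotient.mk (I ^ n))) ≫ g) → f = g) ∧
    (∀ e : ∀ n : ℕ, Spec (CommRingCat.of (A ⧸ I ^ n)) ⟶ X,
      (∀ n : ℕ, Spec.map (CommRingCat.ofHom (Ideal.Quotient.factorPowSucc I n)) ≫ e (n + 1) = e n) →
      ∃ f : Spec (CommRingCat.of A) ⟶ X,
        ∀ n : ℕ, Spec.map (CommRingCat.ofHom (Ideal.Quotient.mk (I ^ n))) ≫ f = e n) := by
  constructor
  · intro f g hfg
    apply hom_ext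
    obtain ⟨φf, hφf⟩ := Spec.map_surjective (f ≫ X.toSpecΓ)
    obtain ⟨φg, hφg⟩ := Spec.map_surjective (g ≫ X.toSpecΓ)
    rw [← hφf, ← hφg]
    congr 1
    ext b
    have hb : ∀ n, Ideal.Quotient.mk (I ^ n) (φf.hom b) = Ideal.Quotient.mk (I ^ n) (φg.hom b) := by
      intro n
      have h1 : Spec.map (CommRingCat.ofHom (Ideal.Quotient.mk (I ^ n))) ≫ Spec.map φf =
          Spec.map (CommRingCat.ofHom (Ideal.Quotient.mk (I ^ n))) ≫ Spec.map φg := by
        rw [hφf, hφg, ← Category.assoc, ← Category.assoc, hfg n]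
      rw [← Spec.map_comp, ← Spec.map_comp] at h1
      have h2 := Spec.map_injective h1
      exact congrArg (fun k => k.hom b) h2
    rw [← sub_eq_zero]
    apply IsHausdorff.haus (inferInstance : IsHausdorff I A)
    intro n
    rw [SModEq.zero, smul_eq_mul, Ideal.mul_top, ← Ideal.Quotient.eq_zero_iff_mem, map_sub, hb n, sub_self]
  · intro e he
    choose ψ hψ using fun n => Spec.map_surjective (e n ≫ X.toSpecΓ)
    have hcompat : ∀ m, (Ideal.Quotient.factorPow I (strictMono_id.monotone m.le_succ)).comp (ψ (m + 1)).hom =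
        (ψ m).hom := by
      intro m
      have h1 : Spec.map (CommRingCat.ofHom (Ideal.Quotient.factorPowSucc I m)) ≫ Spec.map (ψ (m + 1)) =
          Spec.map (ψ m) := by
        rw [hψ, hψ, ← Category.assoc, he m]
      rw [← Spec.map_comp] at h1
      have h2 := Spec.map_injective h1
      exact congrArg CommRingCat.Hom.hom h2
    let Ψ : Γ(X, ⊤) →+* A := IsAdicComplete.StrictMono.liftRingHom I strictMono_id (fun n => (ψ n).hom)
      (fun {m} => hcompat m)
    have hΨ : ∀ n, (Ideal.Quotient.mk (I ^ n)).comp Ψ = (ψ n).hom := fun n =>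
      IsAdicComplete.StrictMono.mk_comp_liftRingHom I strictMono_id _ _
    have hΨ' : ∀ n, Spec.map (CommRingCat.ofHom (Ideal.Quotient.mk (I ^ n))) ≫
        Spec.map (CommRingCat.ofHom Ψ) = e n ≫ X.toSpecΓ := by
      intro n
      rw [← Spec.map_comp, ← hψ n]
      congr 1
      ext b
      exact congrArg (fun k => k b) (hΨ n)
    have hrange : ∀ x : Spec (CommRingCat.of A),
        (Spec.map (CommRingCat.ofHom Ψ)).base x ∈ Set.range X.toSpecΓ.base := by
      apply forall_mem_range_of_maximal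
      intro x hx
      have hmax : x.asIdeal.IsMaximal := (PrimeSpectrum.isClosed_singleton_iff_isMaximal x).1 hx
      have hIx : I ≤ x.asIdeal := (IsAdicComplete.le_jacobson_bot I).trans (sInf_le ⟨bot_le, hmax⟩)
      have hx' : x ∈ Set.range (PrimeSpectrum.comap (Ideal.Quotient.mk (I ^ 1))) := by
        rw [_root_.range_comap_of_surjective _ _ Ideal.Quotient.mk_surjective, Ideal.mk_ker]
        rw [pow_one]
        exact (PrimeSpectrum.mem_zeroLocus (x : PrimeSpectrum A) _).2 hIx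
      obtain ⟨x', rfl⟩ := hx'
      have h3 := congrArg (fun k => k.base x') (hΨ' 1)
      exact ⟨(e 1).base x', h3.symm⟩
    obtain ⟨f, hf⟩ := exists_lift X (CommRingCat.ofHom Ψ) hrange
    refine ⟨f, fun n => hom_ext X _ _ ?_⟩
    rw [Category.assoc, hf, hΨ' n]

end Groth.Agent.Lib.helper19.QAffPts
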