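import Mathlib
import Groth.Agent.Lib.helper19.QAffPts
import Groth.Agent.Lib.helper19.BLRing

set_option autoImplicit false
universe u

open CategoryTheory AlgebraicGeometry TopologicalSpace Opposite

namespace Groth.Agent.Lib.helper19.BLPts

open Groth.Agent.Lib.helper19

variable {A A' : Type u} [CommRing A] [CommRing A'] (φ : A →+* A') (t : A)

theorem jointly_surjective
    (hq : ∀ m : ℕ, Function.Bijective
      (Ideal.quotientMap (Ideal.map φ (Ideal.span {t} ^ m)) φ Ideal.le_comap_map))
    (q : Spec (CommRingCat.of A)) :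
    (∃ q' : Spec (CommRingCat.of A'), (Spec.map (CommRingCat.ofHom φ)).base q' = q) ∨
    (∃ q'' : Spec (CommRingCat.of (Localization.Away t)),
      (Spec.map (CommRingCat.ofHom (algebraMap A (Localization.Away t)))).base q'' = q) := by
  by_cases ht : t ∈ q.asIdeal
  · left
    obtain ⟨q', hq'⟩ := BLRing.mem_range_comap_of_mem φ t hq q ht
    exact ⟨q', hq'⟩
  · right
    have h1 : (q : PrimeSpectrum A) ∈ Set.range (PrimeSpectrum.comap (algebraMap A (Localization.Away t))) := by
      rw [PrimeSpectrum.localization_away_comap_range (Localization.Away t) t]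
      exact ht
    obtain ⟨q'', hq''⟩ := h1
    exact ⟨q'', hq''⟩

variable (htor : ∀ a' : A', (∃ m : ℕ, φ t ^ m * a' = 0) → ∃! a : A, (∃ m : ℕ, t ^ m * a = 0) ∧ φ a = a')
  (hq : ∀ m : ℕ, Function.Bijective
      (Ideal.quotientMap (Ideal.map φ (Ideal.span {t} ^ m)) φ Ideal.le_comap_map))

include htor in
theorem ringHom_ext {B : Type u} [CommRing B] (θ₁ θ₂ : B →+* A) (h1 : φ.comp θ₁ = φ.comp θ₂)
    (h2 : (algebraMap A (Localization.Away t)).comp θ₁ = (algebraMap A (Localization.Away t)).comp θ₂) :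
    θ₁ = θ₂ := by
  ext b
  exact BLRing.eq_of φ t htor _ _ (congrArg (fun k => k b) h1) (congrArg (fun k => k b) h2)

include htor hq in
theorem exists_ringHom {B : Type u} [CommRing B] (ξ' : B →+* A') (ξt : B →+* Localization.Away t)
    (h : (algebraMap A' (Localization.Away (φ t))).comp ξ' = (Localization.awayMap φ t).comp ξt) :
    ∃ σ : B →+* A, φ.comp σ = ξ' ∧ (algebraMap A (Localization.Away t)).comp σ = ξt := by
  have hex : ∀ b : B, ∃ a : A, φ a = ξ' b ∧ algebraMap A (Localization.Away t) a = ξt b := fun b =>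
    BLRing.exists_glue φ t htor hq (ξ' b) (ξt b) (congrArg (fun k => k b) h)
  choose σ0 h1 h2 using hex
  have hj : ∀ a b : A, φ a = φ b →
      algebraMap A (Localization.Away t) a = algebraMap A (Localization.Away t) b → a = b :=
    BLRing.eq_of φ t htor
  refine ⟨{ toFun := σ0
            map_one' := hj _ _ (by rw [h1, map_one, map_one]) (by rw [h2, map_one, map_one])
            map_mul' := fun x y => hj _ _ (by rw [h1, map_mul, map_mul, h1, h1])
              (by rw [h2, map_mul, map_mul, h2, h2])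
            map_zero' := hj _ _ (by rw [h1, map_zero, map_zero]) (by rw [h2, map_zero, map_zero])
            map_add' := fun x y => hj _ _ (by rw [h1, map_add, map_add, h1, h1])
              (by rw [h2, map_add, map_add, h2, h2]) }, ?_, ?_⟩
  · ext b
    exact h1 b
  · ext b
    exact h2 b

include htor hq in
theorem main (X : Scheme.{u}) [X.IsQuasiAffine] (p : X ⟶ Spec (CommRingCat.of A)) :
    (∀ s₁ s₂ : Spec (CommRingCat.of A) ⟶ X, s₁ ≫ p = 𝟙 _ → s₂ ≫ p = 𝟙 _ →
        Spec.map (CommRingCat.ofHom φ) ≫ s₁ = Spec.map (CommRingCat.ofHom φ) ≫ s₂ →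
        Spec.map (CommRingCat.ofHom (algebraMap A (Localization.Away t))) ≫ s₁ =
          Spec.map (CommRingCat.ofHom (algebraMap A (Localization.Away t))) ≫ s₂ →
        s₁ = s₂) ∧
    (∀ (x' : Spec (CommRingCat.of A') ⟶ X) (xt : Spec (CommRingCat.of (Localization.Away t)) ⟶ X),
        x' ≫ p = Spec.map (CommRingCat.ofHom φ) →
        xt ≫ p = Spec.map (CommRingCat.ofHom (algebraMap A (Localization.Away t))) →
        Spec.map (CommRingCat.ofHom (algebraMap A' (Localization.Away (φ t)))) ≫ x' =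
          Spec.map (CommRingCat.ofHom (Localization.awayMap φ t)) ≫ xt →
        ∃ s : Spec (CommRingCat.of A) ⟶ X, s ≫ p = 𝟙 _ ∧
          Spec.map (CommRingCat.ofHom φ) ≫ s = x' ∧
          Spec.map (CommRingCat.ofHom (algebraMap A (Localization.Away t))) ≫ s = xt) := by
  constructor
  · intro s₁ s₂ _ _ h1 h2
    apply QAffPts.hom_ext
    obtain ⟨σ₁, hσ₁⟩ := Spec.map_surjective (s₁ ≫ X.toSpecΓ)
    obtain ⟨σ₂, hσ₂⟩ := Spec.map_surjective (s₂ ≫ X.toSpecΓ)
    rw [← hσ₁, ← hσ₂]
    congr 1
    have e1 : σ₁ ≫ CommRingCat.ofHom φ = σ₂ ≫ CommRingCat.ofHom φ := by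
      apply Spec.map_injective
      rw [Spec.map_comp, Spec.map_comp, hσ₁, hσ₂, ← Category.assoc, h1, Category.assoc]
    have e2 : σ₁ ≫ CommRingCat.ofHom (algebraMap A (Localization.Away t)) =
        σ₂ ≫ CommRingCat.ofHom (algebraMap A (Localization.Away t)) := by
      apply Spec.map_injective
      rw [Spec.map_comp, Spec.map_comp, hσ₁, hσ₂, ← Category.assoc, h2, Category.assoc]
    apply CommRingCat.hom_ext
    exact ringHom_ext φ t htor σ₁.hom σ₂.hom (congrArg CommRingCat.Hom.hom e1)
      (congrArg CommRingCat.Hom.hom e2)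
  · intro x' xt hx' hxt hcomp
    obtain ⟨ξ', hξ'⟩ := Spec.map_surjective (x' ≫ X.toSpecΓ)
    obtain ⟨ξt, hξt⟩ := Spec.map_surjective (xt ≫ X.toSpecΓ)
    have hc : ξ' ≫ CommRingCat.ofHom (algebraMap A' (Localization.Away (φ t))) =
        ξt ≫ CommRingCat.ofHom (Localization.awayMap φ t) := by
      apply Spec.map_injective
      rw [Spec.map_comp, Spec.map_comp, hξ', hξt, ← Category.assoc, hcomp, Category.assoc]
    obtain ⟨σ, hσ1, hσ2⟩ := exists_ringHom φ t htor hq ξ'.hom ξt.hom (congrArg CommRingCat.Hom.hom hc)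
    have hS1 : Spec.map (CommRingCat.ofHom φ) ≫ Spec.map (CommRingCat.ofHom σ) = x' ≫ X.toSpecΓ := by
      rw [← Spec.map_comp, ← hξ']
      congr 1
      apply CommRingCat.hom_ext
      exact hσ1
    have hS2 : Spec.map (CommRingCat.ofHom (algebraMap A (Localization.Away t))) ≫
        Spec.map (CommRingCat.ofHom σ) = xt ≫ X.toSpecΓ := by
      rw [← Spec.map_comp, ← hξt]
      congr 1
      apply CommRingCat.hom_ext
      exact hσ2
    have hrange : ∀ q : Spec (CommRingCat.of A),
        (Spec.map (CommRingCat.ofHom σ)).base q ∈ Set.range X.toSpecΓ.base := by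
      intro q
      rcases jointly_surjective φ t hq q with ⟨q', rfl⟩ | ⟨q'', rfl⟩
      · exact ⟨x'.base q', (congrArg (fun k => k.base q') hS1).symm⟩
      · exact ⟨xt.base q'', (congrArg (fun k => k.base q'') hS2).symm⟩
    obtain ⟨s, hs⟩ := QAffPts.exists_lift X (CommRingCat.ofHom σ) hrange
    have hs1 : Spec.map (CommRingCat.ofHom φ) ≫ s = x' := by
      apply QAffPts.hom_ext
      rw [Category.assoc, hs, hS1]
    have hs2 : Spec.map (CommRingCat.ofHom (algebraMap A (Localization.Away t))) ≫ s = xt := by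
      apply QAffPts.hom_ext
      rw [Category.assoc, hs, hS2]
    refine ⟨s, ?_, hs1, hs2⟩
    obtain ⟨θ, hθ⟩ := Spec.map_surjective (s ≫ p)
    rw [← hθ, ← Spec.map_id]
    congr 1
    have e1 : θ ≫ CommRingCat.ofHom φ = 𝟙 _ ≫ CommRingCat.ofHom φ := by
      apply Spec.map_injective
      rw [Spec.map_comp, hθ, ← Category.assoc, hs1, hx', Category.id_comp]
    have e2 : θ ≫ CommRingCat.ofHom (algebraMap A (Localization.Away t)) =
        𝟙 _ ≫ CommRingCat.ofHom (algebraMap A (Localization.Away t)) := by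
      apply Spec.map_injective
      rw [Spec.map_comp, hθ, ← Category.assoc, hs2, hxt, Category.id_comp]
    apply CommRingCat.hom_ext
    exact ringHom_ext φ t htor θ.hom (𝟙 (CommRingCat.of A) : CommRingCat.of A ⟶ CommRingCat.of A).hom
      (congrArg CommRingCat.Hom.hom e1) (congrArg CommRingCat.Hom.hom e2)

end Groth.Agent.Lib.helper19.BLPts
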