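import Mathlib
import Groth.Agent.Lib.Helper22.GenericSmooth
import Groth.Agent.S1535

set_option autoImplicit false
set_option linter.unusedVariables false
set_option linter.style.haveILetI false
universe u

namespace Groth.Agent.Lib.Helper19.BertiniAff

open CategoryTheory CategoryTheory.Limits AlgebraicGeometry TensorProduct

variable (k : Type u) [Field k] {A : Type u} [CommRing A] [Algebra k A]
variable {m : ℕ} (f : Fin (m + 1) → A)

/-- the universal linear combination `Σ tᵢ fᵢ` -/
noncomputable def G : MvPolynomial (Fin (m + 1)) A :=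
  ∑ i, MvPolynomial.X i * MvPolynomial.C (f i)

/-- the total space of the linear system -/
abbrev R : Type u := MvPolynomial (Fin (m + 1)) A ⧸ Ideal.span {G f}

theorem pderiv_G (i : Fin (m + 1)) : MvPolynomial.pderiv i (G f) = MvPolynomial.C (f i) := by
  classical
  simp [G, Pi.single_apply, Finset.sum_ite_eq']

/-- the presentation of `R f` as an extension -/
noncomputable abbrev E : Algebra.Extension A (R f) :=
  ⟨MvPolynomial (Fin (m + 1)) A, Function.surjInv Ideal.Quotient.mk_surjective,
    Function.surjInv_eq _⟩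

theorem formallySmooth_R (a : Fin (m + 1) → A) (ha : ∑ i, a i * f i = 1) :
    Algebra.FormallySmooth A (R f) := by
  classical
  haveI : Algebra.FormallySmooth A (E f).Ring :=
    inferInstanceAs (Algebra.FormallySmooth A (MvPolynomial (Fin (m + 1)) A))
  rw [(E f).formallySmooth_iff_split_injection]
  have hker : (E f).ker = Ideal.span {G f} := Ideal.mk_ker
  have hπG : algebraMap (E f).Ring (R f) (G f) = 0 :=
    Ideal.Quotient.eq_zero_iff_mem.2 (Ideal.subset_span rfl)
  have hgker : G f ∈ (E f).ker := by rw [hker]; exact Ideal.subset_span rfl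
  let γ : (E f).Cotangent := Algebra.Extension.Cotangent.mk ⟨G f, hgker⟩
  let l₀ : Ω[(E f).Ring⁄A] →ₗ[(E f).Ring] (E f).Cotangent :=
    (KaehlerDifferential.mvPolynomialBasis A (Fin (m + 1))).constr
      (MvPolynomial (Fin (m + 1)) A)
      (fun i => (MvPolynomial.C (a i) : MvPolynomial (Fin (m + 1)) A) • γ)
  have hl₀ : ∀ x : MvPolynomial (Fin (m + 1)) A, l₀ (KaehlerDifferential.D A _ x) =
      (∑ i, MvPolynomial.pderiv i x * MvPolynomial.C (a i)) • γ := by
    intro x
    change (KaehlerDifferential.mvPolynomialBasis A (Fin (m + 1))).constr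
      (MvPolynomial (Fin (m + 1)) A)
      (fun i => (MvPolynomial.C (a i) : MvPolynomial (Fin (m + 1)) A) • γ) _ = _
    rw [Module.Basis.constr_apply, Finsupp.sum_fintype _ _ (by intro i; exact zero_smul _ _),
      Finset.sum_smul]
    refine Finset.sum_congr rfl fun i _ => ?_
    rw [KaehlerDifferential.mvPolynomialBasis_repr_apply, mul_smul]
  let l : (E f).CotangentSpace →ₗ[R f] (E f).Cotangent := LinearMap.liftBaseChange (R f) l₀
  refine ⟨l, ?_⟩
  ext x
  obtain ⟨⟨y, hy⟩, rfl⟩ := Algebra.Extension.Cotangent.mk_surjective x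
  obtain ⟨h, rfl⟩ : ∃ h, h * G f = y := Ideal.mem_span_singleton'.1 (hker ▸ hy)
  rw [LinearMap.comp_apply, Algebra.Extension.cotangentComplex_mk, LinearMap.id_apply]
  change l ((1 : R f) ⊗ₜ[(E f).Ring] KaehlerDifferential.D A _ (h * G f)) = _
  rw [LinearMap.liftBaseChange_tmul, one_smul, hl₀]
  have h1 : Algebra.Extension.Cotangent.mk (⟨h * G f, hy⟩ : (E f).ker) = h • γ := by
    rw [← map_smul]
    rfl
  rw [h1, ← algebraMap_smul (R f) (∑ i, MvPolynomial.pderiv i (h * G f) * MvPolynomial.C (a i)) γ,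
    ← algebraMap_smul (R f) h γ]
  congr 1
  simp only [map_sum, map_mul, Derivation.leibniz, pderiv_G, smul_eq_mul, map_add, hπG,
    zero_mul, add_zero]
  have h2 : ∑ i, algebraMap (E f).Ring (R f) (MvPolynomial.C (f i)) *
      algebraMap (E f).Ring (R f) (MvPolynomial.C (a i)) = 1 := by
    simp only [← map_mul, ← map_sum]
    have : ∑ i, f i * a i = 1 := by simpa [mul_comm] using ha
    rw [this]; simp
  simp only [mul_assoc]
  rw [← Finset.mul_sum]
  exact (congrArg _ h2).trans (mul_one _)

theorem smooth_R (a : Fin (m + 1) → A) (ha : ∑ i, a i * f i = 1) :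
    Algebra.Smooth A (R f) := by
  haveI := formallySmooth_R f a ha
  haveI : Algebra.FinitePresentation A (R f) :=
    Algebra.FinitePresentation.quotient (Submodule.fg_span_singleton _)
  exact ⟨inferInstance, inferInstance⟩

/-- the structure map from the parameter space -/
noncomputable def φ : MvPolynomial (Fin (m + 1)) k →+* R f :=
  (Ideal.Quotient.mk _).comp (MvPolynomial.map (algebraMap k A))

variable (c : Fin (m + 1) → k)

/-- the member of the linear system with parameter `c` -/
noncomputable def F : A := ∑ i, c i • f i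

/-- the fibre over `c` -/
abbrev Q : Type u := A ⧸ Ideal.span {F k f c}

/-- evaluating the parameters at `c` -/
noncomputable def ψ : R f →+* Q k f c :=
  Ideal.Quotient.lift _ ((Ideal.Quotient.mk _).comp
    (MvPolynomial.eval₂Hom (RingHom.id A) (fun i => algebraMap k A (c i)))) (by
    intro x hx
    obtain ⟨h, rfl⟩ := Ideal.mem_span_singleton'.1 hx
    rw [map_mul]
    have : (Ideal.Quotient.mk (Ideal.span {F k f c})).comp
        (MvPolynomial.eval₂Hom (RingHom.id A) (fun i => algebraMap k A (c i))) (G f) = 0 := by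
      rw [RingHom.comp_apply, Ideal.Quotient.eq_zero_iff_mem]
      have : MvPolynomial.eval₂Hom (RingHom.id A) (fun i => algebraMap k A (c i)) (G f) =
          F k f c := by
        simp [G, F, Algebra.smul_def]
      rw [this]
      exact Ideal.subset_span rfl
    rw [this, mul_zero])

theorem ψ_mk_C (x : A) :
    ψ k f c (Ideal.Quotient.mk _ (MvPolynomial.C x)) = Ideal.Quotient.mk _ x := by
  simp [ψ]

theorem ψ_mk_X (i : Fin (m + 1)) :
    ψ k f c (Ideal.Quotient.mk _ (MvPolynomial.X i)) =
      Ideal.Quotient.mk _ (algebraMap k A (c i)) := by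
  simp [ψ]

theorem ψ_comp_φ :
    (ψ k f c).comp (φ k f) = (algebraMap k (Q k f c)).comp (MvPolynomial.eval c) := by
  apply MvPolynomial.ringHom_ext
  · intro x
    simp [φ, ψ_mk_C]
  · intro i
    simp [φ, ψ_mk_X]

section desc

variable {k f c}
variable {T : Type u} [CommRing T]

theorem α_mk_C_alg (α : R f →+* T) (β : k →+* T)
    (h : α.comp (φ k f) = β.comp (MvPolynomial.eval c)) (x : k) :
    α (Ideal.Quotient.mk _ (MvPolynomial.C (algebraMap k A x))) = β x := by
  have := congrArg (fun g => g (MvPolynomial.C x)) h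
  simpa [φ] using this

theorem α_mk_X (α : R f →+* T) (β : k →+* T)
    (h : α.comp (φ k f) = β.comp (MvPolynomial.eval c)) (i : Fin (m + 1)) :
    α (Ideal.Quotient.mk _ (MvPolynomial.X i)) = β (c i) := by
  have := congrArg (fun g => g (MvPolynomial.X i)) h
  simpa [φ] using this

theorem α_F (α : R f →+* T) (β : k →+* T)
    (h : α.comp (φ k f) = β.comp (MvPolynomial.eval c)) :
    α (Ideal.Quotient.mk _ (MvPolynomial.C (F k f c))) = 0 := by
  have h0 : α (Ideal.Quotient.mk (Ideal.span {G f}) (G f)) = 0 := by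
    have : Ideal.Quotient.mk (Ideal.span {G f}) (G f) = 0 :=
      Ideal.Quotient.eq_zero_iff_mem.2 (Ideal.subset_span (Set.mem_singleton _))
    rw [this, map_zero]
  rw [← h0]
  have e1 : α (Ideal.Quotient.mk (Ideal.span {G f}) (MvPolynomial.C (F k f c))) =
      ∑ i, β (c i) * α (Ideal.Quotient.mk (Ideal.span {G f}) (MvPolynomial.C (f i))) := by
    simp only [F, map_sum, Algebra.smul_def, map_mul]
    refine Finset.sum_congr rfl fun i _ => ?_
    rw [α_mk_C_alg α β h]
  have e2 : α (Ideal.Quotient.mk (Ideal.span {G f}) (G f)) =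
      ∑ i, β (c i) * α (Ideal.Quotient.mk (Ideal.span {G f}) (MvPolynomial.C (f i))) := by
    have hG : Ideal.Quotient.mk (Ideal.span {G f}) (G f) =
        ∑ i, Ideal.Quotient.mk (Ideal.span {G f}) (MvPolynomial.X i) *
          Ideal.Quotient.mk (Ideal.span {G f}) (MvPolynomial.C (f i)) := by
      conv_lhs => arg 2; rw [show G f = ∑ i, MvPolynomial.X i * MvPolynomial.C (f i) from rfl]
      simp only [map_sum, map_mul]
    rw [hG]
    simp only [map_sum, map_mul]
    refine Finset.sum_congr rfl fun i _ => ?_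
    rw [α_mk_X α β h]
  rw [e1, e2]

/-- the induced map out of the fibre -/
noncomputable def desc (α : R f →+* T) (β : k →+* T)
    (h : α.comp (φ k f) = β.comp (MvPolynomial.eval c)) : Q k f c →+* T :=
  Ideal.Quotient.lift _ (α.comp ((Ideal.Quotient.mk _).comp MvPolynomial.C)) (by
    intro x hx
    obtain ⟨y, rfl⟩ := Ideal.mem_span_singleton'.1 hx
    rw [map_mul]
    have : (α.comp ((Ideal.Quotient.mk (Ideal.span {G f})).comp MvPolynomial.C)) (F k f c) = 0 :=
      α_F α β h
    rw [this, mul_zero])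

variable (α : R f →+* T) (β : k →+* T) (h : α.comp (φ k f) = β.comp (MvPolynomial.eval c))

theorem desc_mk (x : A) :
    desc α β h (Ideal.Quotient.mk _ x) = α (Ideal.Quotient.mk _ (MvPolynomial.C x)) := by
  simp [desc]

theorem desc_comp_ψ : (desc α β h).comp (ψ k f c) = α := by
  apply Ideal.Quotient.ringHom_ext
  apply MvPolynomial.ringHom_ext
  · intro x
    simp only [RingHom.comp_apply, ψ_mk_C, desc_mk]
  · intro i
    simp only [RingHom.comp_apply, ψ_mk_X, desc_mk]
    rw [α_mk_C_alg α β h, α_mk_X α β h]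

theorem desc_comp_algebraMap : (desc α β h).comp (algebraMap k (Q k f c)) = β := by
  ext x
  rw [RingHom.comp_apply]
  change desc α β h (Ideal.Quotient.mk _ (algebraMap k A x)) = _
  rw [desc_mk, α_mk_C_alg α β h]

theorem desc_unique (d : Q k f c →+* T) (hd : d.comp (ψ k f c) = α) : d = desc α β h := by
  apply Ideal.Quotient.ringHom_ext
  ext x
  simp only [RingHom.comp_apply, desc_mk]
  rw [← hd, RingHom.comp_apply, ψ_mk_C]

end desc

theorem isPushout :
    IsPushout (CommRingCat.ofHom (φ k f)) (CommRingCat.ofHom (MvPolynomial.eval c))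
      (CommRingCat.ofHom (ψ k f c)) (CommRingCat.ofHom (algebraMap k (Q k f c))) := by
  have w : CommRingCat.ofHom (φ k f) ≫ CommRingCat.ofHom (ψ k f c) =
      CommRingCat.ofHom (MvPolynomial.eval c) ≫ CommRingCat.ofHom (algebraMap k (Q k f c)) := by
    rw [← CommRingCat.ofHom_comp, ← CommRingCat.ofHom_comp, ψ_comp_φ]
  have hs : ∀ s : PushoutCocone (CommRingCat.ofHom (φ k f))
      (CommRingCat.ofHom (MvPolynomial.eval c)),
      s.inl.hom.comp (φ k f) = s.inr.hom.comp (MvPolynomial.eval c) := by
    intro s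
    have := congrArg CommRingCat.Hom.hom s.condition
    simpa using this
  refine ⟨⟨w⟩, ⟨PushoutCocone.IsColimit.mk w
    (fun s => CommRingCat.ofHom (desc s.inl.hom s.inr.hom (hs s))) ?_ ?_ ?_⟩⟩
  · intro s
    apply CommRingCat.hom_ext
    exact desc_comp_ψ s.inl.hom s.inr.hom (hs s)
  · intro s
    apply CommRingCat.hom_ext
    exact desc_comp_algebraMap s.inl.hom s.inr.hom (hs s)
  · intro s d h1 h2
    apply CommRingCat.hom_ext
    refine desc_unique s.inl.hom s.inr.hom (hs s) d.hom ?_
    rw [← h1]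
    rfl

section scheme

variable [CharZero k] [Algebra.Smooth k A]

set_option maxHeartbeats 800000 in
theorem exists_poly (hf : Ideal.span (Set.range f) = ⊤) :
    ∃ p : MvPolynomial (Fin (m + 1)) k, p ≠ 0 ∧ ∀ c : Fin (m + 1) → k,
      MvPolynomial.eval c p ≠ 0 → Algebra.Smooth k (A ⧸ Ideal.span {∑ i, c i • f i}) := by
  classical
  obtain ⟨a, ha⟩ : ∃ a : Fin (m + 1) → A, ∑ i, a i * f i = 1 := by
    have h1 : (1 : A) ∈ Ideal.span (Set.range f) := hf ▸ Submodule.mem_top
    exact (Ideal.mem_span_range_iff_exists_fun).1 h1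
  haveI := smooth_R f a ha
  haveI : Algebra.Smooth k (R f) := Algebra.Smooth.comp k A (R f)
  let X : Scheme.{u} := Spec (CommRingCat.of (R f))
  let Y : Scheme.{u} := Spec (CommRingCat.of (MvPolynomial (Fin (m + 1)) k))
  let g : X ⟶ Y := Spec.map (CommRingCat.ofHom (φ k f))
  let qX : X ⟶ Spec (CommRingCat.of k) := Spec.map (CommRingCat.ofHom (algebraMap k (R f)))
  let qY : Y ⟶ Spec (CommRingCat.of k) :=
    Spec.map (CommRingCat.ofHom (algebraMap k (MvPolynomial (Fin (m + 1)) k)))
  have hgq : g ≫ qY = qX := by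
    rw [← Spec.map_comp, ← CommRingCat.ofHom_comp]
    congr 2
    ext x
    simp [φ]
    rfl
  haveI : Smooth qX :=
    (HasRingHomProperty.Spec_iff (P := @Smooth)).2 (RingHom.smooth_algebraMap.2 inferInstance)
  haveI : LocallyOfFiniteType qX := inferInstance
  haveI : LocallyOfFiniteType (g ≫ qY) := hgq ▸ inferInstance
  haveI : LocallyOfFiniteType g := locallyOfFiniteType_of_comp g qY
  haveI : IsLocallyNoetherian Y := inferInstance
  haveI : LocallyOfFinitePresentation g := inferInstance
  haveI : IsLocallyNoetherian X := LocallyOfFiniteType.isLocallyNoetherian g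
  haveI : QuasiCompact g := inferInstance
  haveI : IsIntegral Y := inferInstance
  letI : X.Over (Spec (CommRingCat.of k)) := ⟨qX⟩
  haveI : Smooth (X ↘ Spec (CommRingCat.of k)) := ‹Smooth qX›
  have hreg : ∀ x : X, IsRegularLocalRing (X.presheaf.stalk x) :=
    fun x => Groth.Agent.S1535.result k X x
  let φ0 : k →+* Y.functionField :=
    ((Scheme.ΓSpecIso (CommRingCat.of (MvPolynomial (Fin (m + 1)) k))).inv ≫
      Y.presheaf.germ ⊤ (genericPoint Y) trivial).hom.comp
        (algebraMap k (MvPolynomial (Fin (m + 1)) k))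
  haveI : CharZero Y.functionField := charZero_of_injective_ringHom φ0.injective
  obtain ⟨V, hVd, hV⟩ := Groth.Agent.Lib.Helper22.GenericSmooth.exists_dense_open_smooth hreg g
  obtain ⟨y, hy⟩ := hVd.nonempty
  obtain ⟨_, ⟨p, rfl⟩, hyp, hpV⟩ :=
    PrimeSpectrum.isTopologicalBasis_basic_opens.exists_subset_of_mem_open hy V.2
  refine ⟨p, ?_, fun c hc => ?_⟩
  · rintro rfl
    have hyp' : (y : PrimeSpectrum (MvPolynomial (Fin (m + 1)) k)) ∈
        PrimeSpectrum.basicOpen (0 : MvPolynomial (Fin (m + 1)) k) := hyp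
    rw [PrimeSpectrum.basicOpen_zero] at hyp'
    exact hyp'
  · let ιc : Spec (CommRingCat.of k) ⟶ Y := Spec.map (CommRingCat.ofHom (MvPolynomial.eval c))
    have hι : ∀ z : Spec (CommRingCat.of k), ιc z ∈ V := by
      intro z
      apply hpV
      change p ∉ (z.asIdeal.comap (MvPolynomial.eval c))
      rw [Ideal.mem_comap]
      intro hmem
      have hz : z.asIdeal = ⊥ := Ideal.eq_bot_of_prime z.asIdeal
      rw [hz, Ideal.mem_bot] at hmem
      exact hc hmem
    have hrange : Set.range ιc ⊆ Set.range V.ι := by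
      rintro _ ⟨z, rfl⟩
      rw [Scheme.Opens.range_ι]
      exact hι z
    let j : Spec (CommRingCat.of k) ⟶ (V : Scheme) := IsOpenImmersion.lift V.ι ιc hrange
    have hj : j ≫ V.ι = ιc := IsOpenImmersion.lift_fac _ _ _
    have big := isPullback_SpecMap_of_isPushout _ _ _ _ (isPushout k f c)
    have hrange' : Set.range (Spec.map (CommRingCat.ofHom (ψ k f c))) ⊆
        Set.range (g ⁻¹ᵁ V).ι := by
      rintro _ ⟨w, rfl⟩
      rw [Scheme.Opens.range_ι]
      change g (Spec.map (CommRingCat.ofHom (ψ k f c)) w) ∈ V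
      rw [← Scheme.Hom.comp_apply, big.w, Scheme.Hom.comp_apply]
      exact hι _
    let u : Spec (CommRingCat.of (Q k f c)) ⟶ (g ⁻¹ᵁ V : Scheme) :=
      IsOpenImmersion.lift (g ⁻¹ᵁ V).ι (Spec.map (CommRingCat.ofHom (ψ k f c))) hrange'
    have hu : u ≫ (g ⁻¹ᵁ V).ι = Spec.map (CommRingCat.ofHom (ψ k f c)) :=
      IsOpenImmersion.lift_fac _ _ _
    have hsq : u ≫ (g ∣_ V) = Spec.map (CommRingCat.ofHom (algebraMap k (Q k f c))) ≫ j := by
      rw [← cancel_mono V.ι, Category.assoc, Category.assoc, morphismRestrict_ι, ← Category.assoc,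
        hu, hj]
      exact big.w
    have left : IsPullback u (Spec.map (CommRingCat.ofHom (algebraMap k (Q k f c)))) (g ∣_ V) j :=
      IsPullback.of_right (by rw [hu, hj]; exact big) hsq (isPullback_morphismRestrict g V).flip
    have hsm : Smooth (Spec.map (CommRingCat.ofHom (algebraMap k (Q k f c)))) :=
      MorphismProperty.of_isPullback left hV
    exact RingHom.smooth_algebraMap.1 ((HasRingHomProperty.Spec_iff (P := @Smooth)).1 hsm)

end scheme

end Groth.Agent.Lib.Helper19.BertiniAff
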