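import Mathlib

set_option autoImplicit false
universe u

open CategoryTheory AlgebraicGeometry TopologicalSpace

namespace Groth.Agent.Lib.helper19.BiratA

open Scheme

variable {X Y Z : Scheme.{u}}

/-- factorisation of the underlying morphism of a composite of partial maps -/
theorem comp_hom_fac [PreirreducibleSpace X] [Nonempty Y] (f : X.PartialMap Y) [IsDominant f.hom]
    (g : Y.PartialMap Z) :
    ∃ (hle : (f.comp g).domain ≤ f.domain) (l : (f.comp g).domain.toScheme ⟶ g.domain.toScheme),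
      l ≫ g.domain.ι = X.homOfLE hle ≫ f.hom ∧ (f.comp g).hom = l ≫ g.hom := by
  have hle : f.domain.ι ''ᵁ f.hom ⁻¹ᵁ g.domain ≤ f.domain := f.domain.ι_image_le _
  refine ⟨hle, (f.domain.ι.isoImage (f.hom ⁻¹ᵁ g.domain)).inv ≫ f.hom ∣_ g.domain, ?_, ?_⟩
  · rw [Category.assoc, morphismRestrict_ι]
    have : X.homOfLE hle = (f.domain.ι.isoImage (f.hom ⁻¹ᵁ g.domain)).inv ≫
        (f.hom ⁻¹ᵁ g.domain).ι := by
      rw [← cancel_mono f.domain.ι, X.homOfLE_ι, Category.assoc,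
        Scheme.Hom.isoImage_inv_ι]
    show _ = X.homOfLE hle ≫ f.hom
    rw [this, Category.assoc]
    rfl
  · rw [PartialMap.comp_hom, Category.assoc]
    rfl

theorem equiv_id_iff (h : X.PartialMap X) :
    h.equiv (PartialMap.id X) ↔
      ∃ (W : X.Opens) (_ : Dense (W : Set X)) (hW : W ≤ h.domain), X.homOfLE hW ≫ h.hom = W.ι := by
  constructor
  · rintro ⟨W, hWd, hWl, hWr, e⟩
    refine ⟨W, hWd, hWl, ?_⟩
    have e' : X.homOfLE hWl ≫ h.hom = X.homOfLE (le_top : W ≤ ⊤) ≫ (X.topIso.hom ≫ 𝟙 X) := e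
    rw [e', Category.comp_id, Scheme.topIso_hom, X.homOfLE_ι]
  · rintro ⟨W, hWd, hWl, e⟩
    refine ⟨W, hWd, hWl, le_top, ?_⟩
    show X.homOfLE hWl ≫ h.hom = X.homOfLE (le_top : W ≤ ⊤) ≫ (X.topIso.hom ≫ 𝟙 X)
    rw [e, Category.comp_id, Scheme.topIso_hom, X.homOfLE_ι]

end Groth.Agent.Lib.helper19.BiratA
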