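import Groth.Agent.Lib.helper19.BiratA

set_option autoImplicit false
universe u

open CategoryTheory AlgebraicGeometry TopologicalSpace

namespace Groth.Agent.Lib.helper19.BiratB

open Scheme

variable {X Y : Scheme.{u}}

/-- abstract construction of a partial isomorphism from mutually inverse morphisms on opens -/
theorem nonempty_partialIso [IrreducibleSpace X] [IrreducibleSpace Y]
    (Df W : X.Opens) (Dg W' : Y.Opens) (F : Df.toScheme ⟶ Y) (G : Dg.toScheme ⟶ X)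
    (hWDf : W ≤ Df) (hW'Dg : W' ≤ Dg)
    (l' : W.toScheme ⟶ Dg.toScheme) (m' : W'.toScheme ⟶ Df.toScheme)
    (hl1 : l' ≫ Dg.ι = X.homOfLE hWDf ≫ F) (hl2 : l' ≫ G = W.ι)
    (hm1 : m' ≫ Df.ι = Y.homOfLE hW'Dg ≫ G) (hm2 : m' ≫ F = W'.ι)
    (hα : IsDominant (X.homOfLE hWDf ≫ F)) (hβ : IsDominant (Y.homOfLE hW'Dg ≫ G))
    (hWne : (W : Set X).Nonempty) (hW'ne : (W' : Set Y).Nonempty) :
    Nonempty (Scheme.PartialIso X Y) := by
  set α : W.toScheme ⟶ Y := X.homOfLE hWDf ≫ F with hαdef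
  set β : W'.toScheme ⟶ X := Y.homOfLE hW'Dg ≫ G with hβdef
  let U₀ : W.toScheme.Opens := α ⁻¹ᵁ W'
  let V₀ : W'.toScheme.Opens := β ⁻¹ᵁ W
  let a₁ : U₀.toScheme ⟶ W'.toScheme := α ∣_ W'
  let b₁ : V₀.toScheme ⟶ W.toScheme := β ∣_ W
  have ha₁ : a₁ ≫ W'.ι = U₀.ι ≫ α := morphismRestrict_ι α W'
  have hb₁ : b₁ ≫ W.ι = V₀.ι ≫ β := morphismRestrict_ι β W
  have hstar : a₁ ≫ β = U₀.ι ≫ W.ι := by
    have h1 : a₁ ≫ Y.homOfLE hW'Dg = U₀.ι ≫ l' := by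
      rw [← cancel_mono Dg.ι, Category.assoc, Y.homOfLE_ι, ha₁, Category.assoc, hl1]
    rw [hβdef, ← Category.assoc, h1, Category.assoc, hl2]
  have hstar' : b₁ ≫ α = V₀.ι ≫ W'.ι := by
    have h1 : b₁ ≫ X.homOfLE hWDf = V₀.ι ≫ m' := by
      rw [← cancel_mono Df.ι, Category.assoc, X.homOfLE_ι, hb₁, Category.assoc, hm1]
    rw [hαdef, ← Category.assoc, h1, Category.assoc, hm2]
  have hra : Set.range a₁ ⊆ Set.range V₀.ι := by
    rintro _ ⟨u, rfl⟩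
    rw [Scheme.Opens.range_ι]
    show β (a₁ u) ∈ W
    have h2 : β (a₁ u) = W.ι (U₀.ι u) := by
      rw [← Scheme.Hom.comp_apply, hstar, Scheme.Hom.comp_apply]
    rw [h2]
    exact (U₀.ι u).2
  have hrb : Set.range b₁ ⊆ Set.range U₀.ι := by
    rintro _ ⟨v, rfl⟩
    rw [Scheme.Opens.range_ι]
    show α (b₁ v) ∈ W'
    have h2 : α (b₁ v) = W'.ι (V₀.ι v) := by
      rw [← Scheme.Hom.comp_apply, hstar', Scheme.Hom.comp_apply]
    rw [h2]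
    exact (V₀.ι v).2
  let a₂ : U₀.toScheme ⟶ V₀.toScheme := IsOpenImmersion.lift V₀.ι a₁ hra
  let b₂ : V₀.toScheme ⟶ U₀.toScheme := IsOpenImmersion.lift U₀.ι b₁ hrb
  have ha₂ : a₂ ≫ V₀.ι = a₁ := IsOpenImmersion.lift_fac _ _ _
  have hb₂ : b₂ ≫ U₀.ι = b₁ := IsOpenImmersion.lift_fac _ _ _
  have hab : a₂ ≫ b₂ = 𝟙 _ := by
    rw [← cancel_mono (U₀.ι ≫ W.ι), Category.assoc, ← Category.assoc b₂, hb₂, hb₁,
      ← Category.assoc, ha₂, hstar, Category.id_comp]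
  have hba : b₂ ≫ a₂ = 𝟙 _ := by
    rw [← cancel_mono (V₀.ι ≫ W'.ι), Category.assoc, ← Category.assoc a₂, ha₂, ha₁,
      ← Category.assoc, hb₂, hstar', Category.id_comp]
  let e₀ : U₀.toScheme ≅ V₀.toScheme := ⟨a₂, b₂, hab, hba⟩
  have hU₀ne : (U₀ : Set W.toScheme).Nonempty := by
    obtain ⟨y, hy, w, rfl⟩ := hα.denseRange.inter_open_nonempty _ W'.2 hW'ne
    exact ⟨w, hy⟩
  have hV₀ne : (V₀ : Set W'.toScheme).Nonempty := by
    obtain ⟨y, hy, w, rfl⟩ := hβ.denseRange.inter_open_nonempty _ W.2 hWne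
    exact ⟨w, hy⟩
  exact ⟨{ source := W.ι ''ᵁ U₀
           dense_source := (W.ι ''ᵁ U₀).2.dense (by
             obtain ⟨u, hu⟩ := hU₀ne
             exact ⟨W.ι u, u, hu, rfl⟩)
           target := W'.ι ''ᵁ V₀
           dense_target := (W'.ι ''ᵁ V₀).2.dense (by
             obtain ⟨u, hu⟩ := hV₀ne
             exact ⟨W'.ι u, u, hu, rfl⟩)
           iso := (W.ι.isoImage U₀).symm ≪≫ e₀ ≪≫ (W'.ι.isoImage V₀) }⟩

end Groth.Agent.Lib.helper19.BiratB
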