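import Groth.Agent.Lib.helper19.BiratB

set_option autoImplicit false
universe u

open CategoryTheory AlgebraicGeometry TopologicalSpace

namespace Groth.Agent.Lib.helper19.BiratC

open Scheme

variable {X Y : Scheme.{u}}

/-- data extracted from `f.comp g = id` -/
theorem exists_data [IrreducibleSpace X] [Nonempty Y] (f₀ : X.PartialMap Y) [IsDominant f₀.hom]
    (g₀ : Y.PartialMap X) (h : (f₀.comp g₀).toRationalMap = RationalMap.id X) :
    ∃ (W : X.Opens) (_ : Dense (W : Set X)) (hWDf : W ≤ f₀.domain)
      (l' : W.toScheme ⟶ g₀.domain.toScheme),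
      l' ≫ g₀.domain.ι = X.homOfLE hWDf ≫ f₀.hom ∧ l' ≫ g₀.hom = W.ι := by
  rw [PartialMap.toRationalMap_eq_iff, BiratA.equiv_id_iff] at h
  obtain ⟨W, hWd, hWle, hW⟩ := h
  obtain ⟨hle, l, hl1, hl2⟩ := BiratA.comp_hom_fac f₀ g₀
  refine ⟨W, hWd, hWle.trans hle, X.homOfLE hWle ≫ l, ?_, ?_⟩
  · rw [Category.assoc, hl1, ← Category.assoc, X.homOfLE_homOfLE]
  · rw [Category.assoc, ← hl2, hW]

theorem birational_of_inverse [IsIntegral X] [IsIntegral Y] (f : X ⤏ Y) (g : Y ⤏ X)
    [f.IsDominant] [g.IsDominant]
    (h1 : f.comp g = RationalMap.id X) (h2 : g.comp f = RationalMap.id Y) :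
    Scheme.Birational X Y := by
  have e1 : (f.representative.comp g.representative).toRationalMap = RationalMap.id X := by
    rw [← RationalMap.comp_def, g.toRationalMap_representative]; exact h1
  have e2 : (g.representative.comp f.representative).toRationalMap = RationalMap.id Y := by
    rw [← RationalMap.comp_def, f.toRationalMap_representative]; exact h2
  obtain ⟨W, hWd, hWDf, l', hl1, hl2⟩ := exists_data f.representative g.representative e1
  obtain ⟨W', hW'd, hW'Dg, m', hm1, hm2⟩ := exists_data g.representative f.representative e2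
  have hα : IsDominant (X.homOfLE hWDf ≫ f.representative.hom) :=
    PartialMap.isDominant_restrict_hom f.representative W hWd hWDf
  have hβ : IsDominant (Y.homOfLE hW'Dg ≫ g.representative.hom) :=
    PartialMap.isDominant_restrict_hom g.representative W' hW'd hW'Dg
  exact BiratB.nonempty_partialIso f.representative.domain W g.representative.domain W'
    f.representative.hom g.representative.hom hWDf hW'Dg l' m' hl1 hl2 hm1 hm2 hα hβ
    hWd.nonempty hW'd.nonempty

theorem comp_symm_eq_id [IsIntegral X] [IsIntegral Y] (e : Scheme.PartialIso X Y)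
    [IsDominant e.toPartialMap.hom] :
    (e.toPartialMap.comp e.symm.toPartialMap).toRationalMap = RationalMap.id X := by
  rw [PartialMap.toRationalMap_eq_iff, BiratA.equiv_id_iff]
  obtain ⟨hle, l, hl1, hl2⟩ := BiratA.comp_hom_fac e.toPartialMap e.symm.toPartialMap
  refine ⟨(e.toPartialMap.comp e.symm.toPartialMap).domain,
    (e.toPartialMap.comp e.symm.toPartialMap).dense_domain, le_rfl, ?_⟩
  have hle' : (e.toPartialMap.comp e.symm.toPartialMap).domain ≤ e.source := hle
  have h3' : l ≫ e.target.ι = (X.homOfLE hle' ≫ e.iso.hom) ≫ e.target.ι :=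
    hl1.trans (Category.assoc _ _ _).symm
  have h3 : l = X.homOfLE hle' ≫ e.iso.hom := (cancel_mono e.target.ι).1 h3'
  have h5 : (X.homOfLE hle' ≫ e.iso.hom) ≫ (e.iso.inv ≫ e.source.ι) =
      X.homOfLE hle' ≫ e.source.ι := by
    rw [Category.assoc, Iso.hom_inv_id_assoc]
  have h6 : l ≫ e.symm.toPartialMap.hom =
      (X.homOfLE hle' ≫ e.iso.hom) ≫ (e.iso.inv ≫ e.source.ι) :=
    congrArg (fun t => t ≫ e.symm.toPartialMap.hom) h3
  have h4 : (e.toPartialMap.comp e.symm.toPartialMap).hom =
      (e.toPartialMap.comp e.symm.toPartialMap).domain.ι :=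
    hl2.trans (h6.trans (h5.trans (X.homOfLE_ι hle')))
  rw [h4, X.homOfLE_ι]

theorem main (X Y : Scheme.{u}) [IsIntegral X] [IsIntegral Y] :
    Scheme.Birational X Y ↔
      ∃ (f : X ⤏ Y) (g : Y ⤏ X) (_ : f.IsDominant) (_ : g.IsDominant),
        f.comp g = Scheme.RationalMap.id X ∧ g.comp f = Scheme.RationalMap.id Y := by
  constructor
  · rintro ⟨e⟩
    haveI hd1 : IsDominant e.toPartialMap.hom := by
      haveI := Opens.isDominant_ι e.dense_target
      show IsDominant (e.iso.hom ≫ e.target.ι)
      infer_instance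
    haveI hd2 : IsDominant e.symm.toPartialMap.hom := by
      haveI := Opens.isDominant_ι e.dense_source
      show IsDominant (e.iso.inv ≫ e.source.ι)
      infer_instance
    refine ⟨e.toRationalMap, e.symm.toRationalMap, inferInstance, inferInstance, ?_, ?_⟩
    · rw [RationalMap.toRationalMap_comp]
      exact comp_symm_eq_id e
    · rw [RationalMap.toRationalMap_comp]
      exact comp_symm_eq_id e.symm
  · rintro ⟨f, g, hf, hg, h1, h2⟩
    exact birational_of_inverse f g h1 h2

end Groth.Agent.Lib.helper19.BiratC
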