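import Mathlib

/-!
# Modules over a simple artinian algebra are classified by their dimension
-/

set_option autoImplicit false

namespace Groth.Agent.Lib.helper19.CSA

variable {k : Type*} [Field k]
variable {R : Type*} [Ring R] [Algebra k R] [IsSimpleRing R] [IsArtinianRing R]

/-- any two simple modules over a simple artinian ring are isomorphic -/
theorem simple_linearEquiv {S S' : Type*} [AddCommGroup S] [Module R S] [AddCommGroup S']
    [Module R S'] [IsSimpleModule R S] [IsSimpleModule R S'] : Nonempty (S ≃ₗ[R] S') := by
  classical
  have hiso := IsSimpleRing.isIsotypic R (S × S')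
  let i1 : S →ₗ[R] S × S' := LinearMap.inl R S S'
  let i2 : S' →ₗ[R] S × S' := LinearMap.inr R S S'
  have hi1 : Function.Injective i1 := LinearMap.inl_injective
  have hi2 : Function.Injective i2 := LinearMap.inr_injective
  let e1 : S ≃ₗ[R] LinearMap.range i1 := LinearEquiv.ofInjective i1 hi1
  let e2 : S' ≃ₗ[R] LinearMap.range i2 := LinearEquiv.ofInjective i2 hi2
  haveI : IsSimpleModule R (LinearMap.range i1) := IsSimpleModule.congr e1.symm
  haveI : IsSimpleModule R (LinearMap.range i2) := IsSimpleModule.congr e2.symm
  obtain ⟨e⟩ := hiso (LinearMap.range i2) (LinearMap.range i1)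
  exact ⟨e1.trans (e.trans e2.symm)⟩

variable {M N : Type*} [AddCommGroup M] [Module R M] [Module k M] [IsScalarTower k R M]
  [AddCommGroup N] [Module R N] [Module k N] [IsScalarTower k R N]
  [Module.Finite k M] [Module.Finite k N]

theorem nonempty_linearEquiv_of_finrank_eq (h : Module.finrank k M = Module.finrank k N) :
    Nonempty (M ≃ₗ[R] N) := by
  classical
  haveI : Module.Finite R M := Module.Finite.of_restrictScalars_finite k R M
  haveI : Module.Finite R N := Module.Finite.of_restrictScalars_finite k R N
  rcases subsingleton_or_nontrivial M with hM | hM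
  · have h0 : Module.finrank k M = 0 := Module.finrank_zero_of_subsingleton
    rw [h0] at h
    haveI : Subsingleton N := Module.finrank_zero_iff.mp h.symm
    exact ⟨LinearEquiv.ofSubsingleton M N⟩
  · haveI : Nontrivial N := by
      apply Module.nontrivial_of_finrank_pos (R := k)
      rw [← h]
      exact Module.finrank_pos
    obtain ⟨n, _, S, hS, ⟨eM⟩⟩ := (IsSimpleRing.isIsotypic R M).linearEquiv_fun
    obtain ⟨n', _, S', hS', ⟨eN⟩⟩ := (IsSimpleRing.isIsotypic R N).linearEquiv_fun
    obtain ⟨e⟩ := simple_linearEquiv (R := R) (S := S) (S' := S')
    haveI : Module.Finite k S :=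
      Module.Finite.of_injective ((S.subtype).restrictScalars k) S.injective_subtype
    haveI : Module.Finite k S' :=
      Module.Finite.of_injective ((S'.subtype).restrictScalars k) S'.injective_subtype
    -- k-structures on S, S'
    have hdS : Module.finrank k S = Module.finrank k S' :=
      (e.restrictScalars k).finrank_eq
    have hposS : 0 < Module.finrank k S := by
      haveI : Nontrivial S := IsSimpleModule.nontrivial R S
      exact Module.finrank_pos
    have h1 : Module.finrank k M = n * Module.finrank k S := by
      rw [(eM.restrictScalars k).finrank_eq, Module.finrank_pi_fintype]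
      simp
    have h2 : Module.finrank k N = n' * Module.finrank k S' := by
      rw [(eN.restrictScalars k).finrank_eq, Module.finrank_pi_fintype]
      simp
    have hn : n = n' := by
      rw [h1, h2, ← hdS] at h
      exact Nat.eq_of_mul_eq_mul_right hposS h
    subst hn
    exact ⟨eM.trans ((LinearEquiv.piCongrRight fun _ => e).trans eN.symm)⟩

end Groth.Agent.Lib.helper19.CSA
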