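import Mathlib
import Groth.Agent.Lib.helper19.SimpleModules

/-!
# Endomorphism algebras of modules over a simple algebra (cheap Morita theory)

`P` simple finite-dimensional over `k`, `V` a finite-dimensional `P`-module.  Then
`M_a(End_P V) ≃ M_t(P)ᵐᵒᵖ` with `a = dim P`, `t = dim V`; hence `dim End_P V * dim P = (dim V)²`,
and `End_P V` is simple (and central when `P` is).
-/

set_option autoImplicit false

namespace Groth.Agent.Lib.helper19.CSA

variable {k : Type*} [Field k]
variable {P : Type*} [Ring P] [Algebra k P] [IsSimpleRing P] [FiniteDimensional k P]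
variable {V : Type*} [AddCommGroup V] [Module P V] [Module k V] [IsScalarTower k P V]
  [Module.Finite k V]

variable (k P V) in
theorem nonempty_matrix_end_algEquiv :
    Nonempty (Matrix (Fin (Module.finrank k P)) (Fin (Module.finrank k P)) (Module.End P V) ≃ₐ[k]
      (Matrix (Fin (Module.finrank k V)) (Fin (Module.finrank k V)) P)ᵐᵒᵖ) := by
  classical
  haveI : IsArtinianRing P := IsArtinianRing.of_finite k P
  have h : Module.finrank k (Fin (Module.finrank k P) → V) =
      Module.finrank k (Fin (Module.finrank k V) → P) := by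
    rw [Module.finrank_pi_fintype, Module.finrank_pi_fintype]
    simp [mul_comm]
  obtain ⟨e⟩ := nonempty_linearEquiv_of_finrank_eq (k := k) (R := P) h
  exact ⟨(endVecAlgEquivMatrixEnd (Fin _) k P V).symm.trans ((e.conjAlgEquiv k).trans
    ((AlgEquiv.opOp k _).trans (AlgEquiv.op (matrixAlgEquivEndVecMulOpposite k).symm)))⟩

instance finite_end : Module.Finite k (Module.End P V) :=
  Module.Finite.of_injective (LinearMap.restrictScalarsₗ k P V V k)
    (LinearMap.restrictScalars_injective k)

variable (k P V) in
theorem finrank_end_mul :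
    Module.finrank k (Module.End P V) * Module.finrank k P = Module.finrank k V ^ 2 := by
  obtain ⟨e⟩ := nonempty_matrix_end_algEquiv k P V
  have h1 := e.toLinearEquiv.finrank_eq
  rw [← (MulOpposite.opLinearEquiv k).finrank_eq, Module.finrank_matrix, Module.finrank_matrix] at h1
  simp only [Fintype.card_fin] at h1
  have hpos : 0 < Module.finrank k P := Module.finrank_pos
  have h2 : Module.finrank k P * (Module.finrank k (Module.End P V) * Module.finrank k P) =
      Module.finrank k P * Module.finrank k V ^ 2 := by
    rw [sq]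
    calc Module.finrank k P * (Module.finrank k (Module.End P V) * Module.finrank k P)
        = Module.finrank k P * Module.finrank k P * Module.finrank k (Module.End P V) := by ring
      _ = Module.finrank k V * Module.finrank k V * Module.finrank k P := h1
      _ = Module.finrank k P * (Module.finrank k V * Module.finrank k V) := by ring
  exact Nat.eq_of_mul_eq_mul_left hpos h2

/-- simplicity descends from a matrix ring -/
theorem isSimpleRing_of_matrix {B : Type*} [Ring B] (n : ℕ) [NeZero n]
    (h : IsSimpleRing (Matrix (Fin n) (Fin n) B)) : IsSimpleRing B :=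
  ⟨(TwoSidedIdeal.orderIsoMatrix (R := B) (n := Fin n)).isSimpleOrder⟩

/-- centrality descends from a matrix ring -/
theorem isCentral_of_matrix {B : Type*} [Ring B] [Algebra k B] (n : ℕ) [NeZero n]
    (h : Algebra.IsCentral k (Matrix (Fin n) (Fin n) B)) : Algebra.IsCentral k B := by
  refine ⟨fun z hz => ?_⟩
  have h1 : Matrix.scalarAlgHom (Fin n) k z ∈ Subalgebra.center k (Matrix (Fin n) (Fin n) B) := by
    rw [Matrix.subalgebraCenter_eq_scalarAlgHom_map]
    exact ⟨z, hz, rfl⟩
  obtain ⟨r, hr⟩ := Algebra.mem_bot.mp (h.out h1)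
  refine Algebra.mem_bot.mpr ⟨r, ?_⟩
  have h2 := congrFun (congrFun hr (0 : Fin n)) (0 : Fin n)
  simpa [Matrix.algebraMap_matrix_apply] using h2

/-- centrality transports along algebra isomorphisms (universe polymorphic) -/
theorem isCentral_of_algEquiv {D D' : Type*} [Ring D] [Ring D'] [Algebra k D] [Algebra k D']
    (e : D ≃ₐ[k] D') [h : Algebra.IsCentral k D] : Algebra.IsCentral k D' := by
  refine ⟨fun z hz => ?_⟩
  have h1 : e.symm z ∈ Subalgebra.center k D := by
    rw [Subalgebra.mem_center_iff] at hz ⊢
    intro x
    have := hz (e x)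
    apply e.injective
    rw [map_mul, map_mul, e.apply_symm_apply, this]
  obtain ⟨r, hr⟩ := Algebra.mem_bot.mp (h.out h1)
  exact Algebra.mem_bot.mpr ⟨r, by rw [← e.apply_symm_apply z, ← hr, e.commutes]⟩

include k in
variable (k P V) in
theorem isSimpleRing_end [Nontrivial V] : IsSimpleRing (Module.End P V) := by
  obtain ⟨e⟩ := nonempty_matrix_end_algEquiv k P V
  haveI : NeZero (Module.finrank k V) := ⟨(Module.finrank_pos (R := k) (M := V)).ne'⟩
  haveI : NeZero (Module.finrank k P) := ⟨(Module.finrank_pos (R := k) (M := P)).ne'⟩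
  have h1 : IsSimpleRing (Matrix (Fin (Module.finrank k V)) (Fin (Module.finrank k V)) P)ᵐᵒᵖ :=
    inferInstance
  exact isSimpleRing_of_matrix (Module.finrank k P)
    (IsSimpleRing.of_ringEquiv e.symm.toRingEquiv h1)

variable (k P V) in
theorem isCentral_end [Algebra.IsCentral k P] [Nontrivial V] :
    Algebra.IsCentral k (Module.End P V) := by
  obtain ⟨e⟩ := nonempty_matrix_end_algEquiv k P V
  haveI : NeZero (Module.finrank k P) := ⟨(Module.finrank_pos (R := k) (M := P)).ne'⟩
  have h1 : Algebra.IsCentral k
      (Matrix (Fin (Module.finrank k V)) (Fin (Module.finrank k V)) P)ᵐᵒᵖ := inferInstance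
  exact isCentral_of_matrix (k := k) (Module.finrank k P)
    (isCentral_of_algEquiv e.symm)

end Groth.Agent.Lib.helper19.CSA
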