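import Mathlib
import Groth.Agent.Lib.helper19.Morita

/-!
# Column modules over matrix algebras and cancellation

`ρ : P →ₐ[k] M_n(R)` makes `Rⁿ` a `P`-module `CV ρ`; right multiplication gives
`Rᵐᵒᵖ → End_P (CV ρ)`, an isomorphism when `ρ` is bijective and `R` is simple finite-dimensional.
-/

set_option autoImplicit false

namespace Groth.Agent.Lib.helper19.CSA

open MulOpposite

variable {k : Type*} [Field k]
variable {P : Type*} [Ring P] [Algebra k P]
variable {R : Type*} [Ring R] [Algebra k R] {n : ℕ}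

/-- `Rⁿ` with `P` acting through `ρ`. -/
def CV (_ρ : P →ₐ[k] Matrix (Fin n) (Fin n) R) : Type _ := Fin n → R

variable (ρ : P →ₐ[k] Matrix (Fin n) (Fin n) R)

namespace CV

instance : AddCommGroup (CV ρ) := inferInstanceAs (AddCommGroup (Fin n → R))
instance : Module k (CV ρ) := inferInstanceAs (Module k (Fin n → R))
instance [Module.Finite k R] : Module.Finite k (CV ρ) :=
  inferInstanceAs (Module.Finite k (Fin n → R))

/-- to `CV` -/
def mk (v : Fin n → R) : CV ρ := v
/-- from `CV` -/
def val (v : CV ρ) : Fin n → R := v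

instance : Module P (CV ρ) where
  smul a v := mk ρ ((ρ a).mulVec (val ρ v))
  one_smul v := by
    change (ρ 1).mulVec (val ρ v) = v
    rw [map_one, Matrix.one_mulVec]; rfl
  mul_smul a b v := by
    change (ρ (a * b)).mulVec (val ρ v) = (ρ a).mulVec ((ρ b).mulVec (val ρ v))
    rw [map_mul, Matrix.mulVec_mulVec]
  smul_zero a := by
    change (ρ a).mulVec 0 = 0
    rw [Matrix.mulVec_zero]
  smul_add a v w := by
    change (ρ a).mulVec (val ρ v + val ρ w) = (ρ a).mulVec (val ρ v) + (ρ a).mulVec (val ρ w)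
    rw [Matrix.mulVec_add]
  add_smul a b v := by
    change (ρ (a + b)).mulVec (val ρ v) = (ρ a).mulVec (val ρ v) + (ρ b).mulVec (val ρ v)
    rw [map_add, Matrix.add_mulVec]
  zero_smul v := by
    change (ρ 0).mulVec (val ρ v) = 0
    rw [map_zero, Matrix.zero_mulVec]

lemma smul_def (a : P) (v : CV ρ) : a • v = mk ρ ((ρ a).mulVec (val ρ v)) := rfl

instance : IsScalarTower k P (CV ρ) := ⟨fun r a v => by
  change (ρ (r • a)).mulVec (val ρ v) = r • (ρ a).mulVec (val ρ v)
  rw [map_smul, Matrix.smul_mulVec]⟩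

lemma finrank_eq [Module.Finite k R] :
    Module.finrank k (CV ρ) = n * Module.finrank k R := by
  change Module.finrank k (Fin n → R) = _
  rw [Module.finrank_pi_fintype]
  simp

/-- right multiplication by `r` on `Rⁿ`, a `P`-linear map -/
def rmul : Rᵐᵒᵖ →ₐ[k] Module.End P (CV ρ) where
  toFun r :=
    { toFun := fun v => mk ρ (fun i => val ρ v i * unop r)
      map_add' := fun v w => by
        funext i
        change (val ρ v i + val ρ w i) * unop r = val ρ v i * unop r + val ρ w i * unop r
        rw [add_mul]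
      map_smul' := fun a v => by
        funext i
        change ((ρ a).mulVec (val ρ v)) i * unop r =
          ((ρ a).mulVec (fun i => val ρ v i * unop r)) i
        simp only [Matrix.mulVec, dotProduct, Finset.sum_mul, mul_assoc] }
  map_one' := by
    ext v
    funext i
    change val ρ v i * 1 = _
    rw [mul_one]; rfl
  map_mul' r s := by
    ext v
    funext i
    change val ρ v i * (unop s * unop r) = val ρ v i * unop s * unop r
    rw [mul_assoc]
  map_zero' := by
    ext v
    funext i
    change val ρ v i * 0 = 0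
    rw [mul_zero]
  map_add' r s := by
    ext v
    funext i
    change val ρ v i * (unop r + unop s) = val ρ v i * unop r + val ρ v i * unop s
    rw [mul_add]
  commutes' r := by
    ext v
    funext i
    change val ρ v i * (algebraMap k R r) = r • (val ρ v i)
    rw [← Algebra.commutes, Algebra.smul_def]

lemma rmul_injective [NeZero n] : Function.Injective (rmul ρ) := by
  rw [injective_iff_map_eq_zero]
  intro r hr
  have h1 := LinearMap.congr_fun hr (mk ρ (fun _ => 1))
  have h2 := congrFun h1 (0 : Fin n)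
  change (1 : R) * unop r = 0 at h2
  rw [one_mul] at h2
  exact unop_injective h2

end CV

section Tools

/-- `Rᵐᵒᵖ ≃ End_P(Rⁿ)` when `P ≃ M_n(R)` -/
theorem rmul_bijective [IsSimpleRing R] [FiniteDimensional k R] [NeZero n]
    (hρ : Function.Bijective ρ) : Function.Bijective (CV.rmul ρ) := by
  classical
  let eρ : P ≃ₐ[k] Matrix (Fin n) (Fin n) R := AlgEquiv.ofBijective ρ hρ
  haveI : IsSimpleRing P :=
    IsSimpleRing.of_ringEquiv eρ.symm.toRingEquiv (inferInstance : IsSimpleRing (Matrix _ _ R))
  haveI : FiniteDimensional k P := Module.Finite.equiv eρ.symm.toLinearEquiv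
  have hinj := CV.rmul_injective ρ
  have hn : 0 < n := Nat.pos_of_ne_zero (NeZero.ne n)
  have hR : 0 < Module.finrank k R := Module.finrank_pos
  have hMor := finrank_end_mul k P (CV ρ)
  have hP : Module.finrank k P = n * n * Module.finrank k R := by
    rw [eρ.toLinearEquiv.finrank_eq, Module.finrank_matrix]
    simp
  rw [hP, CV.finrank_eq] at hMor
  have hE : Module.finrank k (Module.End P (CV ρ)) = Module.finrank k R := by
    have h2 : Module.finrank k (Module.End P (CV ρ)) * (n * n * Module.finrank k R) =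
        Module.finrank k R * (n * n * Module.finrank k R) := by
      rw [hMor]; ring
    exact Nat.eq_of_mul_eq_mul_right (by positivity) h2
  have hdim : Module.finrank k Rᵐᵒᵖ = Module.finrank k (Module.End P (CV ρ)) := by
    rw [hE, ← (MulOpposite.opLinearEquiv k (M := R)).finrank_eq]
  exact ⟨hinj, (LinearMap.injective_iff_surjective_of_finrank_eq_finrank
    (f := (CV.rmul ρ).toLinearMap) hdim).mp hinj⟩

/-- `End_P C ≃ M_j(End_P C')` when `dim C = j * dim C'` -/
theorem nonempty_end_algEquiv_matrix [IsSimpleRing P] [FiniteDimensional k P]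
    {C C' : Type*} [AddCommGroup C] [Module P C] [Module k C] [IsScalarTower k P C]
    [Module.Finite k C] [AddCommGroup C'] [Module P C'] [Module k C'] [IsScalarTower k P C']
    [Module.Finite k C'] (j : ℕ) (h : Module.finrank k C = j * Module.finrank k C') :
    Nonempty (Module.End P C ≃ₐ[k] Matrix (Fin j) (Fin j) (Module.End P C')) := by
  classical
  haveI : IsArtinianRing P := IsArtinianRing.of_finite k P
  have h' : Module.finrank k C = Module.finrank k (Fin j → C') := by
    rw [h, Module.finrank_pi_fintype]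
    simp
  obtain ⟨e⟩ := nonempty_linearEquiv_of_finrank_eq (k := k) (R := P) h'
  exact ⟨(e.conjAlgEquiv k).trans (endVecAlgEquivMatrixEnd (Fin j) k P C')⟩

/-- a one-dimensional algebra is the base field -/
theorem nonempty_algEquiv_of_finrank_eq_one {E : Type*} [Ring E] [Algebra k E]
    (h : Module.finrank k E = 1) : Nonempty (E ≃ₐ[k] k) := by
  haveI : FiniteDimensional k E := Module.finite_of_finrank_pos (by rw [h]; exact one_pos)
  haveI : Nontrivial E := Module.nontrivial_of_finrank_pos (R := k) (by rw [h]; exact one_pos)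
  have hinj : Function.Injective (Algebra.ofId k E) := (algebraMap k E).injective
  have hdim : Module.finrank k k = Module.finrank k E := by rw [h, Module.finrank_self]
  have hbij : Function.Bijective (Algebra.ofId k E) :=
    ⟨hinj, (LinearMap.injective_iff_surjective_of_finrank_eq_finrank
      (f := (Algebra.ofId k E).toLinearMap) hdim).mp hinj⟩
  exact ⟨(AlgEquiv.ofBijective (Algebra.ofId k E) hbij).symm⟩

end Tools

section Cancel

/-- cancellation: `M_n(A) ≃ M_n(A')` implies `A ≃ A'` (simple finite-dimensional algebras) -/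
theorem nonempty_algEquiv_of_matrix_algEquiv {A A' : Type*} [Ring A] [Algebra k A]
    [IsSimpleRing A] [FiniteDimensional k A] [Ring A'] [Algebra k A'] [IsSimpleRing A']
    [FiniteDimensional k A'] (n : ℕ) (hn : n ≠ 0)
    (e : Matrix (Fin n) (Fin n) A ≃ₐ[k] Matrix (Fin n) (Fin n) A') : Nonempty (A ≃ₐ[k] A') := by
  classical
  haveI : NeZero n := ⟨hn⟩
  haveI : IsArtinianRing (Matrix (Fin n) (Fin n) A) := IsArtinianRing.of_finite k _
  let ρ : Matrix (Fin n) (Fin n) A →ₐ[k] Matrix (Fin n) (Fin n) A := AlgHom.id k _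
  let ρ' : Matrix (Fin n) (Fin n) A →ₐ[k] Matrix (Fin n) (Fin n) A' := e
  let e1 : Aᵐᵒᵖ ≃ₐ[k] Module.End (Matrix (Fin n) (Fin n) A) (CV ρ) :=
    AlgEquiv.ofBijective (CV.rmul ρ) (rmul_bijective ρ Function.bijective_id)
  let e2 : A'ᵐᵒᵖ ≃ₐ[k] Module.End (Matrix (Fin n) (Fin n) A) (CV ρ') :=
    AlgEquiv.ofBijective (CV.rmul ρ') (rmul_bijective ρ' e.bijective)
  have hdim : Module.finrank k A = Module.finrank k A' := by
    have h1 := e.toLinearEquiv.finrank_eq
    rw [Module.finrank_matrix, Module.finrank_matrix] at h1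
    simp only [Fintype.card_fin] at h1
    exact Nat.eq_of_mul_eq_mul_left (by positivity : 0 < n * n) h1
  have h : Module.finrank k (CV ρ) = Module.finrank k (CV ρ') := by
    rw [CV.finrank_eq, CV.finrank_eq, hdim]
  obtain ⟨f⟩ := nonempty_linearEquiv_of_finrank_eq (k := k) (R := Matrix (Fin n) (Fin n) A) h
  exact ⟨AlgEquiv.unop (e1.trans ((f.conjAlgEquiv k).trans e2.symm))⟩

/-- split cancellation: `M_n(X) ≃ M_N(k)` implies `X ≃ M_j(k)` -/
theorem nonempty_algEquiv_matrix_of_matrix_algEquiv {X : Type*} [Ring X] [Algebra k X]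
    (n N : ℕ) (hn : n ≠ 0) (hN : N ≠ 0)
    (e : Matrix (Fin n) (Fin n) X ≃ₐ[k] Matrix (Fin N) (Fin N) k) :
    ∃ j : ℕ, j ≠ 0 ∧ Nonempty (X ≃ₐ[k] Matrix (Fin j) (Fin j) k) := by
  classical
  haveI : NeZero n := ⟨hn⟩
  haveI : NeZero N := ⟨hN⟩
  haveI : IsSimpleRing X := isSimpleRing_of_matrix n
    (IsSimpleRing.of_ringEquiv e.symm.toRingEquiv (inferInstance : IsSimpleRing (Matrix _ _ k)))
  haveI : FiniteDimensional k (Matrix (Fin n) (Fin n) X) :=
    Module.Finite.equiv e.symm.toLinearEquiv
  haveI : FiniteDimensional k X :=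
    Module.Finite.of_injective (Matrix.scalarAlgHom (Fin n) k : X →ₐ[k] _).toLinearMap
      (fun a b hab => Matrix.scalar_inj.mp hab)
  haveI : IsArtinianRing (Matrix (Fin n) (Fin n) X) := IsArtinianRing.of_finite k _
  have hdim : n * n * Module.finrank k X = N * N := by
    have h1 := e.toLinearEquiv.finrank_eq
    rw [Module.finrank_matrix, Module.finrank_matrix] at h1
    simpa using h1
  have hdvd : n ∣ N := by
    have h2 : n ^ 2 ∣ N ^ 2 := ⟨Module.finrank k X, by rw [sq, sq, ← hdim]⟩
    exact (Nat.pow_dvd_pow_iff (by norm_num)).mp h2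
  obtain ⟨j, rfl⟩ := hdvd
  have hj : j ≠ 0 := by
    rintro rfl
    exact hN (by simp)
  have hX : Module.finrank k X = j * j := by
    have h3 : n * n * Module.finrank k X = n * n * (j * j) := by rw [hdim]; ring
    exact Nat.eq_of_mul_eq_mul_left (by positivity : 0 < n * n) h3
  let ρ : Matrix (Fin n) (Fin n) X →ₐ[k] Matrix (Fin n) (Fin n) X := AlgHom.id k _
  let ρ' : Matrix (Fin n) (Fin n) X →ₐ[k] Matrix (Fin (n * j)) (Fin (n * j)) k := e
  let e1 : Xᵐᵒᵖ ≃ₐ[k] Module.End (Matrix (Fin n) (Fin n) X) (CV ρ) :=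
    AlgEquiv.ofBijective (CV.rmul ρ) (rmul_bijective ρ Function.bijective_id)
  let e2 : kᵐᵒᵖ ≃ₐ[k] Module.End (Matrix (Fin n) (Fin n) X) (CV ρ') :=
    AlgEquiv.ofBijective (CV.rmul ρ') (rmul_bijective ρ' e.bijective)
  have h : Module.finrank k (CV ρ) = j * Module.finrank k (CV ρ') := by
    rw [CV.finrank_eq, CV.finrank_eq, hX, Module.finrank_self]
    ring
  obtain ⟨f⟩ := nonempty_end_algEquiv_matrix (k := k) (P := Matrix (Fin n) (Fin n) X) j h
  exact ⟨j, hj, ⟨AlgEquiv.unop (e1.trans (f.trans
    ((AlgEquiv.mapMatrix e2.symm).trans (AlgEquiv.mopMatrix (R := k)))))⟩⟩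

end Cancel

end Groth.Agent.Lib.helper19.CSA
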