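import Mathlib
import Groth.Prelude.Def_Curves
import Groth.Agent.Lib.helper19.MoritaMatrix

/-!
# Brauer equivalence of (unbundled) algebras
-/

set_option autoImplicit false

namespace Groth.Agent.Lib.helper19.CSA

open TensorProduct Matrix

variable (k : Type*) [Field k]

/-- `M_n(X) ≃ M_m(Y)` for some positive `n, m`. -/
def BrEq (X Y : Type*) [Ring X] [Algebra k X] [Ring Y] [Algebra k Y] : Prop :=
  ∃ n m : ℕ, n ≠ 0 ∧ m ≠ 0 ∧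
    Nonempty (Matrix (Fin n) (Fin n) X ≃ₐ[k] Matrix (Fin m) (Fin m) Y)

variable {k}
variable {X Y Z : Type*} [Ring X] [Algebra k X] [Ring Y] [Algebra k Y] [Ring Z] [Algebra k Z]

lemma BrEq.symm (h : BrEq k X Y) : BrEq k Y X :=
  let ⟨n, m, hn, hm, ⟨iso⟩⟩ := h
  ⟨m, n, hm, hn, ⟨iso.symm⟩⟩

lemma BrEq.of_algEquiv (e : X ≃ₐ[k] Y) : BrEq k X Y :=
  ⟨1, 1, one_ne_zero, one_ne_zero, ⟨AlgEquiv.mapMatrix e⟩⟩

lemma BrEq.trans (hXY : BrEq k X Y) (hYZ : BrEq k Y Z) : BrEq k X Z := by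
  obtain ⟨n, m, hn, hm, ⟨iso1⟩⟩ := hXY
  obtain ⟨p, q, hp, hq, ⟨iso2⟩⟩ := hYZ
  exact ⟨p * n, m * q, by simp_all, by simp_all,
    ⟨reindexAlgEquiv _ _ finProdFinEquiv |>.symm.trans <| compAlgEquiv _ _ _ _|>.symm.trans <|
    iso1.mapMatrix (m := Fin p)|>.trans <| compAlgEquiv _ _ _ _|>.trans <|
    reindexAlgEquiv k Y (.prodComm (Fin p) (Fin m))|>.trans <| compAlgEquiv _ _ _ _|>.symm.trans <|
    iso2.mapMatrix.trans <| compAlgEquiv _ _ _ _|>.trans <| reindexAlgEquiv _ _ finProdFinEquiv⟩⟩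

/-- `M_n(A ⊗ X) ≃ A ⊗ M_n(X)` -/
noncomputable def matTensor (A X : Type*) [Ring A] [Algebra k A] [Ring X] [Algebra k X] (n : ℕ) :
    Matrix (Fin n) (Fin n) (A ⊗[k] X) ≃ₐ[k] A ⊗[k] Matrix (Fin n) (Fin n) X :=
  (matrixEquivTensor (Fin n) k (A ⊗[k] X)).trans
    ((Algebra.TensorProduct.assoc k k k A X (Matrix (Fin n) (Fin n) k)).trans
      (Algebra.TensorProduct.congr AlgEquiv.refl (matrixEquivTensor (Fin n) k X).symm))

lemma BrEq.tensor_left (A : Type*) [Ring A] [Algebra k A] (h : BrEq k X Y) :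
    BrEq k (A ⊗[k] X) (A ⊗[k] Y) := by
  obtain ⟨n, m, hn, hm, ⟨iso⟩⟩ := h
  exact ⟨n, m, hn, hm, ⟨(matTensor A X n).trans
    ((Algebra.TensorProduct.congr AlgEquiv.refl iso).trans (matTensor A Y m).symm)⟩⟩

lemma BrEq.splits (h : BrEq k X Y) (hY : Curves.Splits k Y k) : Curves.Splits k X k := by
  obtain ⟨n, m, hn, hm, ⟨iso⟩⟩ := h
  obtain ⟨r, hr, ⟨φ⟩⟩ := hY
  let ψ : Y ≃ₐ[k] Matrix (Fin r) (Fin r) k := (Algebra.TensorProduct.lid k Y).symm.trans φ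
  have e : Matrix (Fin n) (Fin n) X ≃ₐ[k] Matrix (Fin (m * r)) (Fin (m * r)) k :=
    iso.trans ((AlgEquiv.mapMatrix ψ).trans ((compAlgEquiv _ _ _ _).trans
      (reindexAlgEquiv _ _ finProdFinEquiv)))
  obtain ⟨j, hj, ⟨f⟩⟩ := nonempty_algEquiv_matrix_of_matrix_algEquiv n (m * r) hn
    (Nat.mul_ne_zero hm hr) e
  exact ⟨j, hj, ⟨(Algebra.TensorProduct.lid k X).trans f⟩⟩

end Groth.Agent.Lib.helper19.CSA
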