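import Mathlib

set_option autoImplicit false
set_option linter.unusedVariables false
set_option linter.style.haveILetI false
universe u

namespace Groth.Agent.Lib.Helper19.CIntA

open MvPolynomial

/-- a retract of a formally smooth algebra is formally smooth -/
theorem formallySmooth_of_retract {k B C : Type u} [CommRing k] [CommRing B] [CommRing C]
    [Algebra k B] [Algebra k C] [Algebra.FormallySmooth k C] (i : B →ₐ[k] C) (r : C →ₐ[k] B)
    (h : r.comp i = AlgHom.id k B) : Algebra.FormallySmooth k B := by
  refine Algebra.FormallySmooth.of_comp_surjective fun T _ _ I hI f => ?_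
  obtain ⟨g, hg⟩ := Algebra.FormallySmooth.comp_surjective k C I hI (f.comp r)
  refine ⟨g.comp i, ?_⟩
  rw [← AlgHom.comp_assoc, hg, AlgHom.comp_assoc, h, AlgHom.comp_id]

section Homog

variable {k : Type u} [CommRing k] {σ : Type*} [Fintype σ] {C : Type*} [CommRing C] [Algebra k C]

/-- evaluating a homogeneous polynomial at a rescaled point -/
theorem aeval_mul_of_isHomogeneous (p : MvPolynomial σ k) (e : ℕ) (hp : p.IsHomogeneous e)
    (a : σ → C) (c : C) :
    aeval (fun i => a i * c) p = aeval a p * c ^ e := by
  classical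
  rw [aeval_def, aeval_def, eval₂_eq', eval₂_eq', Finset.sum_mul]
  refine Finset.sum_congr rfl fun d hd => ?_
  have hdeg : ∑ i, d i = e := by
    have := hp (mem_support_iff.1 hd)
    rw [← this, ← Finsupp.degree_eq_sum d, Finsupp.degree_eq_weight_one]
    rfl
  simp only [mul_pow]
  rw [Finset.prod_mul_distrib, Finset.prod_pow_eq_pow_sum, hdeg, mul_assoc]

end Homog

section Base

variable (k : Type u) [Field k] (N : ℕ)

/-- the ideal of the `l`-th affine chart of the cone of `I` -/
noncomputable def chartI (I : Ideal (MvPolynomial (Fin N) k)) (l : Fin N) :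
    Ideal (MvPolynomial (Fin N) k) :=
  I ⊔ Ideal.span {X l - 1}

theorem X_sub_one_mem (I : Ideal (MvPolynomial (Fin N) k)) (l : Fin N) :
    (X l - 1 : MvPolynomial (Fin N) k) ∈ chartI k N I l :=
  Ideal.mem_sup_right (Ideal.subset_span rfl)

theorem le_chartI (I : Ideal (MvPolynomial (Fin N) k)) (l : Fin N) : I ≤ chartI k N I l :=
  le_sup_left

theorem mk_X_eq_one (I : Ideal (MvPolynomial (Fin N) k)) (l : Fin N) :
    Ideal.Quotient.mk (chartI k N I l) (X l) = 1 := by
  have := Ideal.Quotient.eq_zero_iff_mem.2 (X_sub_one_mem k N I l)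
  rw [map_sub, map_one, sub_eq_zero] at this
  exact this

instance finitePresentation_quot (I : Ideal (MvPolynomial (Fin N) k)) :
    Algebra.FinitePresentation k (MvPolynomial (Fin N) k ⧸ I) :=
  Algebra.FinitePresentation.quotient (IsNoetherian.noetherian I)

/-- the chart of the whole affine space is smooth -/
theorem smooth_chart_bot (l : Fin N) :
    Algebra.Smooth k (MvPolynomial (Fin N) k ⧸ chartI k N ⊥ l) := by
  classical
  let e : MvPolynomial (Fin N) k →ₐ[k] MvPolynomial (Fin N) k :=
    aeval (fun a => if a = l then 1 else X a)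
  have he : ∀ a ∈ chartI k N ⊥ l, e a = 0 := by
    intro a ha
    have hle : chartI k N ⊥ l ≤ RingHom.ker e.toRingHom := by
      rw [chartI, bot_sup_eq, Ideal.span_le, Set.singleton_subset_iff]
      change e (X l - 1) = 0
      simp [e]
    exact hle ha
  let i : (MvPolynomial (Fin N) k ⧸ chartI k N ⊥ l) →ₐ[k] MvPolynomial (Fin N) k :=
    Ideal.Quotient.liftₐ _ e he
  let r : MvPolynomial (Fin N) k →ₐ[k] (MvPolynomial (Fin N) k ⧸ chartI k N ⊥ l) :=
    Ideal.Quotient.mkₐ k _
  have h : r.comp i = AlgHom.id k _ := by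
    apply Ideal.Quotient.algHom_ext
    apply MvPolynomial.algHom_ext
    intro a
    change r (i (Ideal.Quotient.mk _ (X a))) = Ideal.Quotient.mk _ (X a)
    have : i (Ideal.Quotient.mk _ (X a)) = e (X a) := rfl
    rw [this]
    simp only [e, aeval_X]
    by_cases hal : a = l
    · subst hal
      rw [if_pos rfl, map_one]
      exact (mk_X_eq_one k N ⊥ a).symm
    · rw [if_neg hal]; rfl
  haveI := formallySmooth_of_retract i r h
  exact ⟨inferInstance, inferInstance⟩

end Base

end Groth.Agent.Lib.Helper19.CIntA
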