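import Groth.Agent.Lib.helper19.JetsCore

set_option autoImplicit false
set_option linter.unusedVariables false
universe u

namespace Groth.Agent.Lib.Helper19.JetsCore2

open TensorProduct KaehlerDifferential MvPolynomial Groth.Agent.Lib.Helper19.JetsCore

variable (k : Type u) [Field k] {A : Type u} [CommRing A] [Algebra k A] [Algebra.Smooth k A]
  {m : ℕ} (f₀ : A) (g : Fin m → A)

/-- Bertini for a linear system whose members together with their differentials generate
`A × Ω[A⁄k]` -/
theorem exists_poly_of_surj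
    (hΦ : ∀ (a : A) (ω : Ω[A⁄k]), ∃ c : Fin m → A,
      ∑ i, c i * g i = a ∧ ∑ i, c i • D k A (g i) = ω) :
    ∃ p : MvPolynomial (Fin m) k, p ≠ 0 ∧ ∀ c : Fin m → k, MvPolynomial.eval c p ≠ 0 →
      Algebra.Smooth k (A ⧸ Ideal.span {f₀ + ∑ i, c i • g i}) := by
  have h1 := comap_J_ne_bot k f₀ g hΦ
  obtain ⟨p, hpJ, hp0⟩ := Submodule.exists_mem_ne_zero_of_ne_bot h1
  exact ⟨p, hp0, fun c hc => smooth_fibre k f₀ g p hpJ c hc⟩

end Groth.Agent.Lib.Helper19.JetsCore2
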