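import Mathlib
import Groth.Agent.Lib.helper19.CIntA
import Groth.Agent.Lib.helper19.JetsCore2
import Groth.Agent.Lib.helper19.AffBertC

set_option autoImplicit false
set_option linter.unusedVariables false
set_option linter.style.haveILetI false
universe u

namespace Groth.Agent.Lib.Helper19.CIntB

open MvPolynomial KaehlerDifferential Groth.Agent.Lib.Helper19.CIntA

variable (k : Type u) [Field k] (N : ℕ)

/-- the generators `X_a X_b^(d-1)` of our linear system of forms of degree `d` -/
noncomputable def gen (d : ℕ) (i : Fin (N * N)) : MvPolynomial (Fin N) k :=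
  X (finProdFinEquiv.symm i).1 * X (finProdFinEquiv.symm i).2 ^ (d - 1)

/-- the member of the linear system with coefficient vector `c` -/
noncomputable def form (d : ℕ) (c : Fin (N * N) → k) : MvPolynomial (Fin N) k :=
  ∑ i, c i • gen k N d i

theorem gen_isHomogeneous (d : ℕ) (hd : 0 < d) (i : Fin (N * N)) :
    (gen k N d i).IsHomogeneous d := by
  have h1 : (X (finProdFinEquiv.symm i).1 : MvPolynomial (Fin N) k).IsHomogeneous 1 :=
    isHomogeneous_X k _
  have h2 : ((X (finProdFinEquiv.symm i).2 : MvPolynomial (Fin N) k) ^ (d - 1)).IsHomogeneous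
      (1 * (d - 1)) := (isHomogeneous_X k _).pow _
  have h3 := h1.mul h2
  have e : 1 + 1 * (d - 1) = d := by omega
  rw [e] at h3
  exact h3

theorem form_isHomogeneous (d : ℕ) (hd : 0 < d) (c : Fin (N * N) → k) :
    (form k N d c).IsHomogeneous d := by
  unfold form
  refine IsHomogeneous.sum _ _ _ fun i _ => ?_
  rw [smul_eq_C_mul]
  have := (isHomogeneous_C (Fin N) (c i)).mul (gen_isHomogeneous k N d hd i)
  rwa [zero_add] at this

variable {k N}

set_option maxHeartbeats 1600000 in
theorem hΦ_aux {A : Type u} [CommRing A] [Algebra k A] (x : Fin N → A)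
    (hx : Function.Surjective (MvPolynomial.aeval x : MvPolynomial (Fin N) k →ₐ[k] A))
    (l : Fin N) (hxl : x l = 1) (d : ℕ) (a : A) (ω : Ω[A⁄k]) :
    ∃ c : Fin (N * N) → A,
      ∑ i, c i * (x (finProdFinEquiv.symm i).1 * x (finProdFinEquiv.symm i).2 ^ (d - 1)) = a ∧
      ∑ i, c i • D k A (x (finProdFinEquiv.symm i).1 * x (finProdFinEquiv.symm i).2 ^ (d - 1))
        = ω := by
  classical
  haveI : IsLocalization.Away (1 : A) A :=
    IsLocalization.of_le_isUnit (by
      rintro s ⟨n, rfl⟩
      simp)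
  obtain ⟨c', hc1, hc2⟩ := Groth.Agent.Lib.Helper19.AffBertC.surj k N x hx (1 : A) A a ω
  simp only [Groth.Agent.Lib.Helper19.AffBertC.gB, Algebra.algebraMap_self_apply] at hc1 hc2
  rw [Fin.sum_univ_succ] at hc1 hc2
  simp only [Fin.cons_zero, Fin.cons_succ, mul_one, Derivation.map_one_eq_zero, smul_zero,
    zero_add] at hc1 hc2
  let cc : Fin N × Fin N → A := fun p =>
    if p.2 = l then (c' p.1.succ + if p.1 = l then c' 0 else 0) else 0
  refine ⟨fun i => cc (finProdFinEquiv.symm i), ?_, ?_⟩
  · rw [Fintype.sum_equiv finProdFinEquiv.symm _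
      (fun p : Fin N × Fin N => cc p * (x p.1 * x p.2 ^ (d - 1))) (fun _ => rfl),
      Fintype.sum_prod_type]
    simp only [cc, ite_mul, zero_mul, Finset.sum_ite_eq', Finset.mem_univ, if_true, hxl, one_pow,
      mul_one, add_mul, Finset.sum_add_distrib]
    rw [← hc1]
    ring
  · have hterm : ∀ a b : Fin N, cc (a, b) • D k A (x a * x b ^ (d - 1)) =
        if b = l then (c' a.succ + if a = l then c' 0 else 0) • D k A (x a) else 0 := by
      intro a b
      by_cases hb : b = l
      · subst hb
        simp only [cc, if_true, hxl, one_pow, mul_one]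
      · simp only [cc, if_neg hb]
        exact zero_smul A (D k A (x a * x b ^ (d - 1)))
    rw [Fintype.sum_equiv finProdFinEquiv.symm _
      (fun p : Fin N × Fin N => cc p • D k A (x p.1 * x p.2 ^ (d - 1))) (fun _ => rfl),
      Fintype.sum_prod_type]
    dsimp only
    simp only [hterm, Finset.sum_ite_eq', Finset.mem_univ, if_true]
    have h5 : ∀ a : Fin N, (c' a.succ + if a = l then c' 0 else 0) • D k A (x a) =
        c' a.succ • D k A (x a) + if a = l then c' 0 • D k A (x a) else 0 := by
      intro a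
      rw [add_smul]
      split_ifs
      · rfl
      · rw [zero_smul]
    simp only [h5, Finset.sum_add_distrib, Finset.sum_ite_eq', Finset.mem_univ, if_true, hxl,
      Derivation.map_one_eq_zero, smul_zero, add_zero]
    exact hc2

/-- the linear system generates 1-jets on every chart -/
theorem hΦ (I : Ideal (MvPolynomial (Fin N) k)) (l : Fin N) (d : ℕ) :
    ∀ (a : MvPolynomial (Fin N) k ⧸ chartI k N I l)
      (ω : Ω[(MvPolynomial (Fin N) k ⧸ chartI k N I l)⁄k]),
      ∃ c : Fin (N * N) → (MvPolynomial (Fin N) k ⧸ chartI k N I l),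
        ∑ i, c i * Ideal.Quotient.mk (chartI k N I l) (gen k N d i) = a ∧
        ∑ i, c i • D k _ (Ideal.Quotient.mk (chartI k N I l) (gen k N d i)) = ω := by
  intro a ω
  have hx : Function.Surjective (MvPolynomial.aeval
      (fun a => Ideal.Quotient.mk (chartI k N I l) (X a)) :
      MvPolynomial (Fin N) k →ₐ[k] (MvPolynomial (Fin N) k ⧸ chartI k N I l)) := by
    have : (MvPolynomial.aeval (fun a => Ideal.Quotient.mk (chartI k N I l) (X a)) :
        MvPolynomial (Fin N) k →ₐ[k] (MvPolynomial (Fin N) k ⧸ chartI k N I l)) =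
        Ideal.Quotient.mkₐ k (chartI k N I l) := by
      apply MvPolynomial.algHom_ext
      intro i
      rw [aeval_X]
      rfl
    rw [this]
    exact Ideal.Quotient.mkₐ_surjective k _
  obtain ⟨c, h1, h2⟩ := hΦ_aux (k := k) (fun a => Ideal.Quotient.mk (chartI k N I l) (X a)) hx l
    (mk_X_eq_one k N I l) d a ω
  refine ⟨c, ?_, ?_⟩
  · simpa only [gen, map_mul, map_pow] using h1
  · simpa only [gen, map_mul, map_pow] using h2

variable (k N)

/-- Bertini on the `l`-th chart -/
theorem bertini_chart (I : Ideal (MvPolynomial (Fin N) k)) (l : Fin N)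
    [Algebra.Smooth k (MvPolynomial (Fin N) k ⧸ chartI k N I l)] (d : ℕ) :
    ∃ p : MvPolynomial (Fin (N * N)) k, p ≠ 0 ∧ ∀ c : Fin (N * N) → k,
      MvPolynomial.eval c p ≠ 0 →
      Algebra.Smooth k
        (MvPolynomial (Fin N) k ⧸ chartI k N (I ⊔ Ideal.span {form k N d c}) l) := by
  classical
  obtain ⟨p, hp0, hp⟩ := Groth.Agent.Lib.Helper19.JetsCore2.exists_poly_of_surj k
    (A := MvPolynomial (Fin N) k ⧸ chartI k N I l) (0 : MvPolynomial (Fin N) k ⧸ chartI k N I l)
    (fun i => Ideal.Quotient.mk (chartI k N I l) (gen k N d i)) (hΦ I l d)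
  refine ⟨p, hp0, fun c hc => ?_⟩
  haveI := hp c hc
  have h1 : (0 : MvPolynomial (Fin N) k ⧸ chartI k N I l) +
      ∑ i, c i • Ideal.Quotient.mk (chartI k N I l) (gen k N d i) =
      Ideal.Quotient.mk (chartI k N I l) (form k N d c) := by
    rw [zero_add, form, map_sum]
    refine Finset.sum_congr rfl fun i _ => ?_
    exact (map_smul (Ideal.Quotient.mkₐ k (chartI k N I l)) (c i) (gen k N d i)).symm
  have h2 : (Ideal.span {form k N d c}).map (Ideal.Quotient.mk (chartI k N I l)) =
      Ideal.span {(0 : MvPolynomial (Fin N) k ⧸ chartI k N I l) +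
        ∑ i, c i • Ideal.Quotient.mk (chartI k N I l) (gen k N d i)} := by
    rw [Ideal.map_span, Set.image_singleton, h1]
  have h3 : chartI k N I l ⊔ Ideal.span {form k N d c} =
      chartI k N (I ⊔ Ideal.span {form k N d c}) l := by
    unfold chartI
    exact sup_right_comm _ _ _
  let e1 := Ideal.quotientEquivAlgOfEq k h2.symm
  let e2 := DoubleQuot.quotQuotEquivQuotSupₐ k (chartI k N I l) (Ideal.span {form k N d c})
  let e3 := Ideal.quotientEquivAlgOfEq k h3
  let e : ((MvPolynomial (Fin N) k ⧸ chartI k N I l) ⧸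
      Ideal.span {(0 : MvPolynomial (Fin N) k ⧸ chartI k N I l) +
        ∑ i, c i • Ideal.Quotient.mk (chartI k N I l) (gen k N d i)}) ≃ₐ[k]
      (MvPolynomial (Fin N) k ⧸ chartI k N (I ⊔ Ideal.span {form k N d c}) l) :=
    (e1.trans e2).trans e3
  exact Algebra.Smooth.of_equiv (A := ((MvPolynomial (Fin N) k ⧸ chartI k N I l) ⧸
      Ideal.span {(0 : MvPolynomial (Fin N) k ⧸ chartI k N I l) +
        ∑ i, c i • Ideal.Quotient.mk (chartI k N I l) (gen k N d i)}))
    (B := (MvPolynomial (Fin N) k ⧸ chartI k N (I ⊔ Ideal.span {form k N d c}) l)) e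

end Groth.Agent.Lib.Helper19.CIntB
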