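import Mathlib
import Groth.Agent.Lib.helper19.CIntA

set_option autoImplicit false
set_option linter.unusedVariables false
set_option linter.style.haveILetI false
universe u

namespace Groth.Agent.Lib.Helper19.CIntC

open MvPolynomial Groth.Agent.Lib.Helper19.CIntA

variable (k : Type u) [Field k] (N : ℕ)

/-- the coordinate ring of the `l`-th chart -/
abbrev ChartRing (J : Ideal (MvPolynomial (Fin N) k)) (l : Fin N) : Type u :=
  MvPolynomial (Fin N) k ⧸ chartI k N J l

/-- the coordinate ring of chart × line -/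
abbrev PolyChart (J : Ideal (MvPolynomial (Fin N) k)) (l : Fin N) : Type u :=
  Polynomial (ChartRing k N J l)

/-- the coordinate ring of chart × punctured line -/
abbrev Cyl (J : Ideal (MvPolynomial (Fin N) k)) (l : Fin N) : Type u :=
  Localization.Away (Polynomial.X : PolyChart k N J l)

set_option maxHeartbeats 1600000 in
/-- The open subset `x_l ≠ 0` of the affine cone of a homogeneous ideal is a retract of the
product of the `l`-th affine chart with the punctured line; hence it is smooth when the chart is. -/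
theorem smooth_away (J : Ideal (MvPolynomial (Fin N) k)) (T : Set (MvPolynomial (Fin N) k))
    (hJ : J = Ideal.span T) (hT : ∀ t ∈ T, ∃ e : ℕ, t.IsHomogeneous e) (l : Fin N)
    [Algebra.Smooth k (ChartRing k N J l)] :
    Algebra.Smooth k (Localization.Away (Ideal.Quotient.mk J (X l))) := by
  classical
  -- abbreviations
  let mkA := Ideal.Quotient.mkₐ k (chartI k N J l)
  let mkR := Ideal.Quotient.mkₐ k J
  -- the target of the retraction
  haveI : Algebra.Smooth (ChartRing k N J l)
      (PolyChart k N J l) := ⟨inferInstance, inferInstance⟩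
  haveI : Algebra.Smooth (PolyChart k N J l)
      (Cyl k N J l) :=
    Algebra.Smooth.of_isLocalization_Away Polynomial.X
  haveI : Algebra.Smooth k (PolyChart k N J l) :=
    Algebra.Smooth.comp k (ChartRing k N J l) (PolyChart k N J l)
  haveI hCsm : Algebra.Smooth k
      (Cyl k N J l) :=
    Algebra.Smooth.comp k (PolyChart k N J l) (Cyl k N J l)
  -- `Tc`, the coordinate of the punctured line
  let Tc : Cyl k N J l :=
    Algebra.ofId (PolyChart k N J l) (Cyl k N J l) Polynomial.X
  have hTc : IsUnit Tc := IsLocalization.Away.algebraMap_isUnit _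
  -- the structure map `S → C` through the chart
  let ψ₁ : MvPolynomial (Fin N) k →ₐ[k] Cyl k N J l :=
    (IsScalarTower.toAlgHom k (ChartRing k N J l) _).comp mkA
  have hψ₁ : ∀ t ∈ J, ψ₁ t = 0 := by
    intro t ht
    change algebraMap (ChartRing k N J l) (Cyl k N J l)
      (Ideal.Quotient.mk (chartI k N J l) t) = 0
    rw [Ideal.Quotient.eq_zero_iff_mem.2 (le_chartI k N J l ht), map_zero]
  have hψ₁l : ψ₁ (X l) = 1 := by
    change algebraMap (ChartRing k N J l) (Cyl k N J l)
      (Ideal.Quotient.mk (chartI k N J l) (X l)) = 1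
    rw [mk_X_eq_one, map_one]
  -- the map `S → C`, `x_a ↦ x̄_a T`
  let φ₀ : MvPolynomial (Fin N) k →ₐ[k] Cyl k N J l :=
    aeval (fun a => ψ₁ (X a) * Tc)
  have hφ₀hom : ∀ (t : MvPolynomial (Fin N) k) (e : ℕ), t.IsHomogeneous e →
      φ₀ t = ψ₁ t * Tc ^ e := by
    intro t e ht
    have h1 := aeval_mul_of_isHomogeneous t e ht (fun a => ψ₁ (X a)) Tc
    have h2 : (aeval (fun a => ψ₁ (X a)) : MvPolynomial (Fin N) k →ₐ[k] _) = ψ₁ :=
      (MvPolynomial.aeval_unique ψ₁).symm
    rw [h2] at h1
    exact h1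
  have hφ₀ : ∀ t ∈ J, φ₀ t = 0 := by
    have hle' : Ideal.span T ≤ RingHom.ker φ₀.toRingHom := by
      rw [Ideal.span_le]
      intro t ht
      obtain ⟨e, he⟩ := hT t ht
      change φ₀ t = 0
      rw [hφ₀hom t e he, hψ₁ t (hJ.ge (Ideal.subset_span ht)), zero_mul]
    exact fun t ht => hle' (hJ.le ht)
  let φ₁ : (MvPolynomial (Fin N) k ⧸ J) →ₐ[k] Cyl k N J l :=
    Ideal.Quotient.liftₐ J φ₀ hφ₀
  have hφ₁mk : ∀ p, φ₁ (Ideal.Quotient.mk J p) = φ₀ p := fun p => rfl
  have hφ₁l : φ₁ (Ideal.Quotient.mk J (X l)) = Tc := by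
    rw [hφ₁mk]
    change aeval (fun a => ψ₁ (X a) * Tc) (X l) = Tc
    rw [aeval_X, hψ₁l, one_mul]
  have hunit : ∀ y : Submonoid.powers (Ideal.Quotient.mk J (X l)), IsUnit (φ₁ y) := by
    rintro ⟨_, n, rfl⟩
    rw [map_pow, hφ₁l]
    exact hTc.pow n
  let φ₂ : Localization.Away (Ideal.Quotient.mk J (X l)) →ₐ[k] Cyl k N J l :=
    IsLocalization.liftAlgHom (M := Submonoid.powers (Ideal.Quotient.mk J (X l))) (f := φ₁) hunit
  -- the retraction
  let xl : Localization.Away (Ideal.Quotient.mk J (X l)) :=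
    algebraMap (MvPolynomial (Fin N) k ⧸ J) _ (Ideal.Quotient.mk J (X l))
  let u : Localization.Away (Ideal.Quotient.mk J (X l)) :=
    IsLocalization.Away.invSelf (Ideal.Quotient.mk J (X l))
  have hxu : xl * u = 1 := IsLocalization.Away.mul_invSelf _
  let σ₁ : MvPolynomial (Fin N) k →ₐ[k] Localization.Away (Ideal.Quotient.mk J (X l)) :=
    (IsScalarTower.toAlgHom k (MvPolynomial (Fin N) k ⧸ J) _).comp mkR
  have hσ₁ : ∀ t ∈ J, σ₁ t = 0 := by
    intro t ht
    change algebraMap (MvPolynomial (Fin N) k ⧸ J)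
      (Localization.Away (Ideal.Quotient.mk J (X l))) (Ideal.Quotient.mk J t) = 0
    rw [Ideal.Quotient.eq_zero_iff_mem.2 ht, map_zero]
  let ρ₀ : MvPolynomial (Fin N) k →ₐ[k] Localization.Away (Ideal.Quotient.mk J (X l)) :=
    aeval (fun a => σ₁ (X a) * u)
  have hρ₀hom : ∀ (t : MvPolynomial (Fin N) k) (e : ℕ), t.IsHomogeneous e →
      ρ₀ t = σ₁ t * u ^ e := by
    intro t e ht
    have h1 := aeval_mul_of_isHomogeneous t e ht (fun a => σ₁ (X a)) u
    have h2 : (aeval (fun a => σ₁ (X a)) : MvPolynomial (Fin N) k →ₐ[k] _) = σ₁ :=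
      (MvPolynomial.aeval_unique σ₁).symm
    rw [h2] at h1
    exact h1
  have hρ₀ : ∀ t ∈ chartI k N J l, ρ₀ t = 0 := by
    have hle : chartI k N J l ≤ RingHom.ker ρ₀.toRingHom := by
      have hc : chartI k N J l = Ideal.span (T ∪ {X l - 1}) := by
        rw [chartI, Ideal.span_union, ← hJ]
      rw [hc, Ideal.span_le]
      rintro t (ht | ht)
      · obtain ⟨e, he⟩ := hT t ht
        change ρ₀ t = 0
        rw [hρ₀hom t e he, hσ₁ t (hJ.ge (Ideal.subset_span ht)), zero_mul]
      · rw [Set.mem_singleton_iff] at ht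
        subst ht
        change ρ₀ (X l - 1) = 0
        rw [map_sub, map_one]
        change aeval (fun a => σ₁ (X a) * u) (X l) - 1 = 0
        rw [aeval_X, sub_eq_zero]
        exact hxu
    exact fun t ht => hle ht
  let ρ₁ : (ChartRing k N J l) →ₐ[k]
      Localization.Away (Ideal.Quotient.mk J (X l)) :=
    Ideal.Quotient.liftₐ _ ρ₀ hρ₀
  have hρ₁mk : ∀ p, ρ₁ (Ideal.Quotient.mk _ p) = ρ₀ p := fun p => rfl
  let ρ₂ : PolyChart k N J l →ₐ[k]
      Localization.Away (Ideal.Quotient.mk J (X l)) :=
    Polynomial.aevalTower ρ₁ xl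
  have hunit2 : ∀ y : Submonoid.powers
      (Polynomial.X : PolyChart k N J l), IsUnit (ρ₂ y) := by
    rintro ⟨_, n, rfl⟩
    rw [map_pow]
    change IsUnit (Polynomial.aevalTower ρ₁ xl Polynomial.X ^ n)
    rw [Polynomial.aevalTower_X]
    exact (IsLocalization.Away.algebraMap_isUnit _).pow n
  let ρ₃ : Cyl k N J l →ₐ[k]
      Localization.Away (Ideal.Quotient.mk J (X l)) :=
    IsLocalization.liftAlgHom (M := Submonoid.powers
      (Polynomial.X : PolyChart k N J l)) (f := ρ₂) hunit2
  -- the composite is the identity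
  have hcomp : ρ₃.comp φ₂ = AlgHom.id k _ := by
    apply AlgHom.coe_ringHom_injective
    apply IsLocalization.ringHom_ext (Submonoid.powers (Ideal.Quotient.mk J (X l)))
    apply Ideal.Quotient.ringHom_ext
    apply MvPolynomial.ringHom_ext
    · intro c
      change ρ₃ (φ₂ (algebraMap _ _ (Ideal.Quotient.mk J (C c)))) =
        algebraMap _ _ (Ideal.Quotient.mk J (C c))
      have h1 : algebraMap (MvPolynomial (Fin N) k ⧸ J)
          (Localization.Away (Ideal.Quotient.mk J (X l))) (Ideal.Quotient.mk J (C c)) =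
          algebraMap k _ c := by
        rw [IsScalarTower.algebraMap_apply k (MvPolynomial (Fin N) k ⧸ J)
          (Localization.Away (Ideal.Quotient.mk J (X l)))]
        rfl
      rw [h1, AlgHom.commutes, AlgHom.commutes]
    · intro a
      change ρ₃ (φ₂ (algebraMap _ _ (Ideal.Quotient.mk J (X a)))) =
        algebraMap _ _ (Ideal.Quotient.mk J (X a))
      have h1 : φ₂ (algebraMap _ _ (Ideal.Quotient.mk J (X a))) = ψ₁ (X a) * Tc := by
        change IsLocalization.lift hunit (algebraMap _ _ (Ideal.Quotient.mk J (X a))) = _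
        rw [IsLocalization.lift_eq]
        change φ₁ (Ideal.Quotient.mk J (X a)) = _
        rw [hφ₁mk]
        change aeval (fun a => ψ₁ (X a) * Tc) (X a) = _
        rw [aeval_X]
      rw [h1, map_mul]
      have h2 : ρ₃ Tc = xl := by
        change IsLocalization.lift hunit2 (algebraMap _ _ Polynomial.X) = _
        rw [IsLocalization.lift_eq]
        change Polynomial.aevalTower ρ₁ xl Polynomial.X = _
        rw [Polynomial.aevalTower_X]
      have h3 : ρ₃ (ψ₁ (X a)) = σ₁ (X a) * u := by
        change ρ₃ (algebraMap (ChartRing k N J l) _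
          (Ideal.Quotient.mk _ (X a))) = _
        rw [IsScalarTower.algebraMap_apply (ChartRing k N J l)
          (PolyChart k N J l)
          (Cyl k N J l)]
        change IsLocalization.lift hunit2 (algebraMap _ _ _) = _
        rw [IsLocalization.lift_eq]
        change Polynomial.aevalTower ρ₁ xl (Polynomial.C (Ideal.Quotient.mk _ (X a))) = _
        rw [Polynomial.aevalTower_C, hρ₁mk]
        change aeval (fun a => σ₁ (X a) * u) (X a) = _
        rw [aeval_X]
      rw [h2, h3, mul_assoc, mul_comm u xl, hxu, mul_one]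
      rfl
  haveI : Algebra.FormallySmooth k (Localization.Away (Ideal.Quotient.mk J (X l))) :=
    formallySmooth_of_retract φ₂ ρ₃ hcomp
  haveI : Algebra.FinitePresentation (MvPolynomial (Fin N) k ⧸ J)
      (Localization.Away (Ideal.Quotient.mk J (X l))) :=
    IsLocalization.Away.finitePresentation (Ideal.Quotient.mk J (X l))
  haveI : Algebra.FinitePresentation k (Localization.Away (Ideal.Quotient.mk J (X l))) :=
    Algebra.FinitePresentation.trans k (MvPolynomial (Fin N) k ⧸ J) _
  exact ⟨inferInstance, inferInstance⟩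

end Groth.Agent.Lib.Helper19.CIntC
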