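import Mathlib
import Groth.Agent.Lib.helper19.CIntB
import Groth.Agent.Lib.helper19.CIntC
import Groth.Agent.S10918
import Groth.Agent.Lib.Helper17.SmoothNormal
import Groth.Agent.Lib.Helper5.RegSmooth

set_option autoImplicit false
set_option linter.unusedVariables false
set_option linter.style.haveILetI false
universe u

namespace Groth.Agent.Lib.Helper19.CIntD

open MvPolynomial Groth.Agent.Lib.Helper19.CIntA Groth.Agent.Lib.Helper19.CIntB Groth.Agent.Lib.Helper19.CIntC

section Transfer

variable {k R : Type u} [Field k] [CommRing R] [Algebra k R]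

theorem normal_of_smooth_away (x : R) [Algebra.Smooth k (Localization.Away x)]
    (Q : Ideal R) [Q.IsPrime] (hx : x ∉ Q) :
    IsDomain (Localization.AtPrime Q) ∧ IsIntegrallyClosed (Localization.AtPrime Q) := by
  refine Groth.Agent.Lib.Helper17.SmoothNormal.transfer (Submonoid.powers x)
    (Localization.Away x) Q ((Ideal.disjoint_powers_iff_notMem_of_isPrime _).mpr hx) ?_
  intro q' _
  exact Groth.Agent.Lib.Helper17.SmoothNormal.isDomain_and_isIntegrallyClosed_atPrime_of_smooth k q'

theorem regular_of_smooth_away (x : R) [Algebra.Smooth k (Localization.Away x)]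
    (Q : Ideal R) [hQ : Q.IsPrime] (hx : x ∉ Q) :
    IsRegularLocalRing (Localization.AtPrime Q) := by
  haveI : IsRegularRing (Localization.Away x) :=
    Groth.Agent.Lib.Helper5.RegSmooth.isRegularRing_of_smooth k _
  have hdisj : Disjoint (Submonoid.powers x : Set R) (Q : Set R) :=
    (Ideal.disjoint_powers_iff_notMem_of_isPrime _).mpr hx
  haveI hq' : (Q.map (algebraMap R (Localization.Away x))).IsPrime :=
    IsLocalization.isPrime_of_isPrime_disjoint (Submonoid.powers x) _ _ hQ hdisj
  have hcomap : (Q.map (algebraMap R (Localization.Away x))).comap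
      (algebraMap R (Localization.Away x)) = Q :=
    IsLocalization.comap_map_of_isPrime_disjoint (Submonoid.powers x) _ hQ hdisj
  haveI : IsLocalization.AtPrime
      (Localization.AtPrime (Q.map (algebraMap R (Localization.Away x))))
      ((Q.map (algebraMap R (Localization.Away x))).comap
        (algebraMap R (Localization.Away x))) :=
    IsLocalization.isLocalization_isLocalization_atPrime_isLocalization (Submonoid.powers x) _ _
  haveI : IsLocalization.AtPrime
      (Localization.AtPrime (Q.map (algebraMap R (Localization.Away x)))) Q := by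
    convert this
    exact hcomap.symm
  let e : Localization.AtPrime Q ≃ₐ[R]
      Localization.AtPrime (Q.map (algebraMap R (Localization.Away x))) :=
    IsLocalization.algEquiv Q.primeCompl _ _
  haveI : IsRegularLocalRing
      (Localization.AtPrime (Q.map (algebraMap R (Localization.Away x)))) :=
    IsRegularRing.isRegularLocalRing_localization _
  exact IsRegularLocalRing.of_ringEquiv e.symm.toRingEquiv

end Transfer

section Height

theorem height_sup_span {R : Type*} [CommRing R] (I : Ideal R) [hI : I.IsPrime] (f : R)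
    (hf : f ∉ I) : I.height + 1 ≤ (I ⊔ Ideal.span {f}).height := by
  rw [Ideal.height_eq_inf_minimalPrimes (I ⊔ Ideal.span {f})]
  refine le_iInf₂ fun p hp => ?_
  haveI := hp.1.1
  have hlt : I < p := by
    refine lt_of_le_of_ne (le_sup_left.trans hp.1.2) ?_
    rintro rfl
    exact hf (hp.1.2 (Ideal.mem_sup_right (Ideal.mem_span_singleton_self f)))
  exact Ideal.height_add_one_le_of_lt_of_isPrime hlt

end Height

section Main

variable (k : Type u) [Field k] [Infinite k] (n : ℕ)

/-- a coefficient vector avoiding a prime ideal not containing the irrelevant ideal -/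
theorem exists_poly_notMem (I : Ideal (MvPolynomial (Fin (n + 1)) k)) [hI : I.IsPrime]
    (a : Fin (n + 1)) (ha : (X a : MvPolynomial (Fin (n + 1)) k) ∉ I) (d : ℕ) :
    ∃ p : MvPolynomial (Fin ((n + 1) * (n + 1))) k, p ≠ 0 ∧
      ∀ c, MvPolynomial.eval c p ≠ 0 → form k (n + 1) d c ∉ I := by
  classical
  set i₀ : Fin ((n + 1) * (n + 1)) := finProdFinEquiv (a, a) with hi₀
  have hgen : Ideal.Quotient.mk I (gen k (n + 1) d i₀) ≠ 0 := by
    rw [Ne, Ideal.Quotient.eq_zero_iff_mem, gen, hi₀, Equiv.symm_apply_apply]
    intro h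
    rcases hI.mem_or_mem h with h | h
    · exact ha h
    · exact ha (hI.mem_of_pow_mem _ h)
  obtain ⟨φ, hφ⟩ : ∃ φ : Module.Dual k (MvPolynomial (Fin (n + 1)) k ⧸ I),
      φ (Ideal.Quotient.mk I (gen k (n + 1) d i₀)) ≠ 0 := by
    by_contra hcon
    push_neg at hcon
    exact hgen ((Module.forall_dual_apply_eq_zero_iff k _).1 hcon)
  have heval : ∀ c : Fin ((n + 1) * (n + 1)) → k,
      MvPolynomial.eval c (∑ i, C (φ (Ideal.Quotient.mk I (gen k (n + 1) d i))) * X i) =
        φ (Ideal.Quotient.mk I (form k (n + 1) d c)) := by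
    intro c
    rw [map_sum, form, map_sum, map_sum]
    refine Finset.sum_congr rfl fun i _ => ?_
    rw [map_mul, eval_C, eval_X]
    have : Ideal.Quotient.mk I (c i • gen k (n + 1) d i) =
        c i • Ideal.Quotient.mk I (gen k (n + 1) d i) :=
      map_smul (Ideal.Quotient.mkₐ k I) (c i) (gen k (n + 1) d i)
    rw [this, map_smul, smul_eq_mul, mul_comm]
  refine ⟨∑ i, C (φ (Ideal.Quotient.mk I (gen k (n + 1) d i))) * X i, ?_, ?_⟩
  · intro h0
    have h1 := heval (Pi.single i₀ 1)
    rw [h0, map_zero] at h1
    have h2 : form k (n + 1) d (Pi.single i₀ 1) = gen k (n + 1) d i₀ := by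
      rw [form, Finset.sum_eq_single i₀]
      · rw [Pi.single_eq_same, one_smul]
      · intro b _ hb
        rw [Pi.single_eq_of_ne hb, zero_smul]
      · intro h; exact absurd (Finset.mem_univ _) h
    rw [h2] at h1
    exact hφ h1.symm
  · intro c hc hmem
    apply hc
    rw [heval, Ideal.Quotient.eq_zero_iff_mem.2 hmem, map_zero]

end Main

end Groth.Agent.Lib.Helper19.CIntD
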