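import Mathlib
import Groth.Agent.Lib.helper19.CIntD

set_option autoImplicit false
set_option linter.unusedVariables false
set_option linter.style.haveILetI false
universe u

namespace Groth.Agent.Lib.Helper19.CIntE

open MvPolynomial Groth.Agent.Lib.Helper19.CIntA Groth.Agent.Lib.Helper19.CIntB Groth.Agent.Lib.Helper19.CIntC
  Groth.Agent.Lib.Helper19.CIntD

variable (k : Type u) [Field k] (n : ℕ)

/-- a proper ideal: forms of positive degree have no constant term -/
theorem span_range_ne_top {r : ℕ} (f : Fin r → MvPolynomial (Fin (n + 1)) k) (d : Fin r → ℕ)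
    (hf : ∀ i, (f i).IsHomogeneous (d i)) (hd : ∀ i, 0 < d i) :
    Ideal.span (Set.range f) ≠ ⊤ := by
  intro h
  have hle : Ideal.span (Set.range f) ≤
      RingHom.ker (constantCoeff : MvPolynomial (Fin (n + 1)) k →+* k) := by
    rw [Ideal.span_le]
    rintro _ ⟨i, rfl⟩
    change constantCoeff (f i) = 0
    rw [constantCoeff_eq]
    apply (hf i).coeff_eq_zero
    rw [map_zero]
    exact (hd i).ne
  rw [h, top_le_iff] at hle
  have : (1 : MvPolynomial (Fin (n + 1)) k) ∈
      RingHom.ker (constantCoeff : MvPolynomial (Fin (n + 1)) k →+* k) := by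
    rw [hle]; trivial
  rw [RingHom.mem_ker, map_one] at this
  exact one_ne_zero this

theorem height_span_range_le {r : ℕ} (f : Fin r → MvPolynomial (Fin (n + 1)) k)
    (hne : Ideal.span (Set.range f) ≠ ⊤) : (Ideal.span (Set.range f)).height ≤ r := by
  classical
  have h1 := Ideal.height_le_spanFinrank (Ideal.span (Set.range f)) hne
  have h2 : (Ideal.span (Set.range f)).spanFinrank ≤ (Set.range f).ncard :=
    Submodule.spanFinrank_span_le_ncard_of_finite (Set.finite_range f)
  have h3 : (Set.range f).ncard ≤ r := by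
    rw [Set.ncard_eq_toFinset_card', Set.toFinset_range]
    exact Finset.card_image_le.trans (by simp)
  exact h1.trans (by exact_mod_cast h2.trans h3)

variable [Infinite k]

set_option maxHeartbeats 1600000 in
theorem exists_family : ∀ (r : ℕ) (hr : r < n) (d : Fin r → ℕ) (hd : ∀ i, 0 < d i),
    ∃ f : Fin r → MvPolynomial (Fin (n + 1)) k,
      (∀ i, (f i).IsHomogeneous (d i)) ∧
      (∀ i l, Algebra.Smooth k
        (MvPolynomial (Fin (n + 1)) k ⧸ chartI k (n + 1) (Ideal.span {f i}) l)) ∧
      (∀ l, Algebra.Smooth k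
        (MvPolynomial (Fin (n + 1)) k ⧸ chartI k (n + 1) (Ideal.span (Set.range f)) l)) ∧
      IsDomain (MvPolynomial (Fin (n + 1)) k ⧸ Ideal.span (Set.range f)) ∧
      (Ideal.span (Set.range f)).height = r := by
  classical
  intro r
  induction r with
  | zero =>
    intro hr d hd
    refine ⟨fun i => i.elim0, fun i => i.elim0, fun i => i.elim0, ?_, ?_, ?_⟩
    · intro l
      have h0 : Ideal.span (Set.range (fun i : Fin 0 => (i.elim0 : MvPolynomial (Fin (n + 1)) k)))
          = ⊥ := by
        rw [Set.range_eq_empty, Ideal.span_empty]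
      rw [h0]
      exact smooth_chart_bot k (n + 1) l
    · have h0 : Ideal.span (Set.range (fun i : Fin 0 => (i.elim0 : MvPolynomial (Fin (n + 1)) k)))
          = ⊥ := by
        rw [Set.range_eq_empty, Ideal.span_empty]
      rw [h0]
      exact Ideal.Quotient.isDomain ⊥
    · have h0 : Ideal.span (Set.range (fun i : Fin 0 => (i.elim0 : MvPolynomial (Fin (n + 1)) k)))
          = ⊥ := by
        rw [Set.range_eq_empty, Ideal.span_empty]
      rw [h0, Ideal.height_bot]
      rfl
  | succ r ih =>
    intro hr d hd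
    obtain ⟨f', hf', hs', hS', hdom', hht'⟩ := ih (by omega) (fun i => d i.castSucc)
      (fun i => hd _)
    set I := Ideal.span (Set.range f') with hI
    haveI hIp : I.IsPrime := (Ideal.Quotient.isDomain_iff_prime I).1 hdom'
    set dd := d (Fin.last r) with hdd
    -- some variable is not in `I`
    obtain ⟨a, ha⟩ : ∃ a, (X a : MvPolynomial (Fin (n + 1)) k) ∉ I := by
      by_contra hcon
      push_neg at hcon
      have h1 := Groth.Agent.S10918.le_height_of_X_mem I hcon
      rw [hht'] at h1
      have : n + 1 ≤ r := by exact_mod_cast h1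
      omega
    -- the three polynomial conditions
    choose p₁ hp₁0 hp₁ using fun l : Fin (n + 1) =>
      (haveI := hS' l; bertini_chart k (n + 1) I l dd)
    choose p₂ hp₂0 hp₂ using fun l : Fin (n + 1) =>
      (haveI := smooth_chart_bot k (n + 1) l; bertini_chart k (n + 1) ⊥ l dd)
    obtain ⟨p₃, hp₃0, hp₃⟩ := exists_poly_notMem k n I a ha dd
    have hP : (∏ l, p₁ l) * (∏ l, p₂ l) * p₃ ≠ 0 :=
      mul_ne_zero (mul_ne_zero (Finset.prod_ne_zero_iff.2 fun l _ => hp₁0 l)
        (Finset.prod_ne_zero_iff.2 fun l _ => hp₂0 l)) hp₃0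
    obtain ⟨c, hc⟩ : ∃ c, MvPolynomial.eval c ((∏ l, p₁ l) * (∏ l, p₂ l) * p₃) ≠ 0 := by
      by_contra hcon
      push_neg at hcon
      exact hP (MvPolynomial.funext fun x => by rw [hcon x, map_zero])
    rw [map_mul, map_mul, map_prod, map_prod] at hc
    have hc₃ : MvPolynomial.eval c p₃ ≠ 0 := right_ne_zero_of_mul hc
    have hc₁ : ∀ l, MvPolynomial.eval c (p₁ l) ≠ 0 := fun l =>
      Finset.prod_ne_zero_iff.1 (left_ne_zero_of_mul (left_ne_zero_of_mul hc)) l (Finset.mem_univ l)
    have hc₂ : ∀ l, MvPolynomial.eval c (p₂ l) ≠ 0 := fun l =>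
      Finset.prod_ne_zero_iff.1 (right_ne_zero_of_mul (left_ne_zero_of_mul hc)) l
        (Finset.mem_univ l)
    set fn := form k (n + 1) dd c with hfn
    have hfnI : fn ∉ I := hp₃ c hc₃
    have hfnh : fn.IsHomogeneous dd := form_isHomogeneous k (n + 1) dd (hd _) c
    have hsingle : ∀ i l, Algebra.Smooth k (MvPolynomial (Fin (n + 1)) k ⧸
        chartI k (n + 1) (Ideal.span {(Fin.snoc f' fn : Fin (r + 1) → _) i}) l) := by
      intro i l
      refine Fin.lastCases ?_ (fun i => ?_) i
      · rw [Fin.snoc_last]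
        have := hp₂ l c (hc₂ l)
        rwa [bot_sup_eq] at this
      · rw [Fin.snoc_castSucc]; exact hs' i l
    have hspan : Ideal.span (Set.range (Fin.snoc f' fn : Fin (r + 1) → _)) =
        I ⊔ Ideal.span {fn} := by
      rw [Fin.range_snoc, Ideal.span_insert, sup_comm]
    have hS : ∀ l, Algebra.Smooth k (MvPolynomial (Fin (n + 1)) k ⧸
        chartI k (n + 1) (Ideal.span (Set.range (Fin.snoc f' fn : Fin (r + 1) → _))) l) := by
      intro l
      rw [hspan]
      exact hp₁ l c (hc₁ l)
    have hfall : ∀ i, ((Fin.snoc f' fn : Fin (r + 1) → _) i).IsHomogeneous (d i) := by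
      intro i
      refine Fin.lastCases ?_ (fun i => ?_) i
      · rw [Fin.snoc_last]; exact hfnh
      · rw [Fin.snoc_castSucc]; exact hf' i
    have hne := span_range_ne_top k n (Fin.snoc f' fn : Fin (r + 1) → _) d hfall hd
    have hht : (Ideal.span (Set.range (Fin.snoc f' fn : Fin (r + 1) → _))).height =
        ((r + 1 : ℕ) : ℕ∞) := by
      apply le_antisymm (height_span_range_le k n _ hne)
      rw [hspan]
      have := height_sup_span I fn hfnI
      rw [hht'] at this
      exact_mod_cast this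
    refine ⟨Fin.snoc f' fn, hfall, hsingle, hS, ?_, hht⟩
    refine (Groth.Agent.S10918.result k n (r + 1) hr (Fin.snoc f' fn) d hfall hd hht ?_).1
    intro Q hQ ⟨i, hi⟩
    haveI := hS i
    haveI := smooth_away k (n + 1) (Ideal.span (Set.range (Fin.snoc f' fn : Fin (r + 1) → _)))
      (Set.range (Fin.snoc f' fn : Fin (r + 1) → _)) rfl
      (by rintro _ ⟨j, rfl⟩; exact ⟨d j, hfall j⟩) i
    exact normal_of_smooth_away (k := k) _ Q hi

theorem main (r : ℕ) (hr : r < n) (d : Fin r → ℕ) (hd : ∀ i, 0 < d i) :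
    ∃ f : Fin r → MvPolynomial (Fin (n + 1)) k,
      (∀ i, (f i).IsHomogeneous (d i)) ∧
      (∀ (i : Fin r) (Q : Ideal (MvPolynomial (Fin (n + 1)) k ⧸ Ideal.span {f i})) [Q.IsPrime],
        (∃ j, Ideal.Quotient.mk (Ideal.span {f i}) (MvPolynomial.X j) ∉ Q) →
          IsRegularLocalRing (Localization.AtPrime Q)) ∧
      IsDomain (MvPolynomial (Fin (n + 1)) k ⧸ Ideal.span (Set.range f)) ∧
      (Ideal.span (Set.range f)).height = r ∧
      ∀ (Q : Ideal (MvPolynomial (Fin (n + 1)) k ⧸ Ideal.span (Set.range f))) [Q.IsPrime],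
        (∃ j, Ideal.Quotient.mk (Ideal.span (Set.range f)) (MvPolynomial.X j) ∉ Q) →
          IsRegularLocalRing (Localization.AtPrime Q) := by
  obtain ⟨f, hf, hs, hS, hdom, hht⟩ := exists_family k n r hr d hd
  refine ⟨f, hf, ?_, hdom, hht, ?_⟩
  · intro i Q hQ ⟨j, hj⟩
    haveI := hs i j
    haveI := smooth_away k (n + 1) (Ideal.span {f i}) {f i} rfl
      (by rintro _ rfl; exact ⟨d i, hf i⟩) j
    exact regular_of_smooth_away (k := k) _ Q hj
  · intro Q hQ ⟨j, hj⟩
    haveI := hS j
    haveI := smooth_away k (n + 1) (Ideal.span (Set.range f)) (Set.range f) rfl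
      (by rintro _ ⟨i, rfl⟩; exact ⟨d i, hf i⟩) j
    exact regular_of_smooth_away (k := k) _ Q hj

end Groth.Agent.Lib.Helper19.CIntE
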