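import Mathlib

/-!
# Speiser's theorem (Hilbert 90 for `GL_n`), instance-free matrix form

For a finite-dimensional field extension `K/k` (no Galois hypothesis needed) and a map
`a : (K ≃ₐ[k] K) → Matrix (Fin n) (Fin n) K` with `a 1 = 1` and
`a (σ * τ) = a σ * (a τ).map σ`, there is an invertible matrix `B` with `a σ * B.map σ = B`.
-/

set_option autoImplicit false

namespace Groth.Agent.Lib.helper19

open Matrix

variable {k K : Type*} [Field k] [Field K] [Algebra k K] [FiniteDimensional k K] {n : ℕ}

/-- Dedekind independence of the automorphisms, in pointwise form. -/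
theorem dedekind_aut (g : (K ≃ₐ[k] K) → K)
    (h : ∀ x : K, ∑ τ : K ≃ₐ[k] K, g τ * τ x = 0) : ∀ τ, g τ = 0 := by
  classical
  have hli : LinearIndependent K (fun τ : K ≃ₐ[k] K => ((τ : K →* K) : K → K)) := by
    have := (linearIndependent_monoidHom K K).comp (fun τ : K ≃ₐ[k] K => (τ : K →* K))
      (fun τ τ' hh => by
        ext x
        exact DFunLike.congr_fun hh x)
    exact this
  rw [Fintype.linearIndependent_iff] at hli
  apply hli g
  funext x
  have := h x
  simpa [Finset.sum_apply] using this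

/-- The Poincaré series matrix `∑ τ, a τ * C.map τ`. -/
noncomputable def poincare (a : (K ≃ₐ[k] K) → Matrix (Fin n) (Fin n) K)
    (C : Matrix (Fin n) (Fin n) K) : Matrix (Fin n) (Fin n) K :=
  ∑ τ : K ≃ₐ[k] K, a τ * C.map τ

theorem poincare_twist (a : (K ≃ₐ[k] K) → Matrix (Fin n) (Fin n) K)
    (ha : ∀ σ τ, a (σ * τ) = a σ * (a τ).map σ)
    (C : Matrix (Fin n) (Fin n) K) (σ : K ≃ₐ[k] K) :
    a σ * (poincare a C).map σ = poincare a C := by
  unfold poincare
  have hmap : ∀ M : Matrix (Fin n) (Fin n) K, M.map σ = (σ : K →+* K).mapMatrix M := fun M => rfl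
  rw [hmap, map_sum, Finset.mul_sum]
  refine Fintype.sum_equiv (Equiv.mulLeft σ) _ _ fun τ => ?_
  rw [map_mul, ← mul_assoc, Equiv.coe_mulLeft, ha σ τ]
  congr 1

/-- The columns of the Poincaré matrix. -/
theorem poincare_col (a : (K ≃ₐ[k] K) → Matrix (Fin n) (Fin n) K)
    (C : Matrix (Fin n) (Fin n) K) (j : Fin n) :
    (fun i => poincare a C i j) = ∑ τ : K ≃ₐ[k] K, a τ *ᵥ (fun l => τ (C l j)) := by
  funext i
  unfold poincare
  rw [Matrix.sum_apply, Finset.sum_apply]
  rfl

theorem speiser (a : (K ≃ₐ[k] K) → Matrix (Fin n) (Fin n) K) (ha1 : a 1 = 1)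
    (ha : ∀ σ τ, a (σ * τ) = a σ * (a τ).map σ) :
    ∃ B : Matrix (Fin n) (Fin n) K, IsUnit B ∧ ∀ σ : K ≃ₐ[k] K, a σ * B.map σ = B := by
  classical
  -- the semilinear averaging operator on vectors
  let b : (Fin n → K) → (Fin n → K) := fun x => ∑ τ : K ≃ₐ[k] K, a τ *ᵥ (fun l => τ (x l))
  have hspan : Submodule.span K (Set.range b) = ⊤ := by
    by_contra hne
    obtain ⟨u, hu0, hu⟩ := Submodule.exists_dual_map_eq_bot_of_lt_top (lt_top_iff_ne_top.mpr hne)
      inferInstance
    apply hu0
    have hvan : ∀ x, u (b x) = 0 := by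
      intro x
      have : u (b x) ∈ (Submodule.span K (Set.range b)).map u :=
        Submodule.mem_map_of_mem (Submodule.subset_span ⟨x, rfl⟩)
      rw [hu] at this
      exact (Submodule.mem_bot K).mp this
    refine LinearMap.ext fun x => ?_
    have key : ∀ lam : K, ∑ τ : K ≃ₐ[k] K, u (a τ *ᵥ (fun l => τ (x l))) * τ lam = 0 := by
      intro lam
      have h1 := hvan (lam • x)
      have h2 : b (lam • x) = ∑ τ : K ≃ₐ[k] K, τ lam • (a τ *ᵥ (fun l => τ (x l))) := by
        refine Finset.sum_congr rfl fun τ _ => ?_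
        rw [← Matrix.mulVec_smul]
        congr 1
        funext l
        simp
      rw [h2, map_sum] at h1
      rw [← h1]
      refine Finset.sum_congr rfl fun τ _ => ?_
      rw [map_smul, smul_eq_mul, mul_comm]
    have := dedekind_aut (fun τ => u (a τ *ᵥ (fun l => τ (x l)))) key 1
    simpa [ha1] using this
  obtain ⟨f, hfS, -, hfli⟩ := Submodule.exists_fun_fin_finrank_span_eq K (Set.range b)
  have hn : Module.finrank K (Submodule.span K (Set.range b)) = n := by
    rw [hspan, finrank_top, Module.finrank_fin_fun]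
  let f' : Fin n → (Fin n → K) := f ∘ Fin.cast hn.symm
  have hf'li : LinearIndependent K f' := hfli.comp _ (Fin.cast_injective _)
  have hf'S : ∀ j, ∃ x, b x = f' j := fun j => hfS _
  choose x hx using hf'S
  let C : Matrix (Fin n) (Fin n) K := Matrix.of fun l j => x j l
  refine ⟨poincare a C, ?_, poincare_twist a ha C⟩
  rw [← Matrix.linearIndependent_cols_iff_isUnit]
  have : (poincare a C).col = f' := by
    funext j
    have := poincare_col a C j
    rw [← hx j]
    exact this
  rw [this]
  exact hf'li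

end Groth.Agent.Lib.helper19
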