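import Mathlib
import Groth.Agent.Lib.helper19.SpeiserGL

/-!
# Galois descent for semilinear actions (Speiser's lemma), general form

`K/k` finite Galois with group `Γ = K ≃ₐ[k] K`, `M` a `K`-vector space (possibly infinite
dimensional) with a semilinear action `ρ` of `Γ`.  If `ι : W → M` is an injective `k`-linear map
whose range is the set of invariants, then `K ⊗[k] W → M`, `c ⊗ w ↦ c • ι w`, is bijective.
-/

set_option autoImplicit false

namespace Groth.Agent.Lib.helper19.Descent

open TensorProduct

/-- A semilinear action of the Galois group on `M`, given by bare functions. -/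
structure SemiAct (k K M : Type*) [Field k] [Field K] [Algebra k K] [AddCommGroup M]
    [Module K M] where
  /-- the action -/
  ρ : (K ≃ₐ[k] K) → M → M
  map_add' : ∀ σ x y, ρ σ (x + y) = ρ σ x + ρ σ y
  map_smul' : ∀ σ (c : K) x, ρ σ (c • x) = σ c • ρ σ x
  one' : ∀ x, ρ 1 x = x
  mul' : ∀ σ τ x, ρ (σ * τ) x = ρ σ (ρ τ x)

variable {k K : Type*} [Field k] [Field K] [Algebra k K]
variable {M : Type*} [AddCommGroup M] [Module K M]

namespace SemiAct

variable (A : SemiAct k K M)

/-- the action of `σ` as an additive map. -/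
def toAddHom (σ : K ≃ₐ[k] K) : M →+ M where
  toFun := A.ρ σ
  map_zero' := by
    have := A.map_add' σ 0 0
    rw [add_zero] at this
    exact left_eq_add.mp this
  map_add' := A.map_add' σ

@[simp] lemma toAddHom_apply (σ : K ≃ₐ[k] K) (x : M) : A.toAddHom σ x = A.ρ σ x := rfl

lemma map_zero (σ : K ≃ₐ[k] K) : A.ρ σ 0 = 0 := (A.toAddHom σ).map_zero

lemma map_sum {ι : Type*} (σ : K ≃ₐ[k] K) (s : Finset ι) (f : ι → M) :
    A.ρ σ (∑ i ∈ s, f i) = ∑ i ∈ s, A.ρ σ (f i) := _root_.map_sum (A.toAddHom σ) f s

variable [FiniteDimensional k K]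

/-- the averaging operator `x ↦ Σ_σ ρ σ x`. -/
noncomputable def T (x : M) : M := ∑ σ : K ≃ₐ[k] K, A.ρ σ x

lemma ρ_T (τ : K ≃ₐ[k] K) (x : M) : A.ρ τ (A.T x) = A.T x := by
  unfold T
  rw [A.map_sum]
  simp_rw [← A.mul']
  exact Fintype.sum_equiv (Equiv.mulLeft τ) _ _ fun σ => rfl

lemma T_add (x y : M) : A.T (x + y) = A.T x + A.T y := by
  unfold T
  simp_rw [A.map_add']
  exact Finset.sum_add_distrib

lemma T_sum {ι : Type*} (s : Finset ι) (f : ι → M) : A.T (∑ i ∈ s, f i) = ∑ i ∈ s, A.T (f i) := by
  unfold T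
  simp_rw [A.map_sum]
  exact Finset.sum_comm

end SemiAct

variable [FiniteDimensional k K]

/-- A "dual family": finitely many pairs `(b, d)` with `Σ d σ(b) = δ_{σ,1}`. -/
theorem exists_dual_family :
    ∃ c : K →₀ K, (c.sum fun b d => d * b) = 1 ∧
      ∀ σ : K ≃ₐ[k] K, σ ≠ 1 → (c.sum fun b d => d * σ b) = 0 := by
  classical
  let v : K → ((K ≃ₐ[k] K) → K) := fun b σ => σ b
  have hspan : Submodule.span K (Set.range v) = ⊤ := by
    by_contra hne
    obtain ⟨u, hu0, hu⟩ := Submodule.exists_dual_map_eq_bot_of_lt_top (lt_top_iff_ne_top.mpr hne)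
      inferInstance
    apply hu0
    have hvan : ∀ b, u (v b) = 0 := by
      intro b
      have : u (v b) ∈ (Submodule.span K (Set.range v)).map u :=
        Submodule.mem_map_of_mem (Submodule.subset_span ⟨b, rfl⟩)
      rw [hu] at this
      exact (Submodule.mem_bot K).mp this
    have hcoef : ∀ σ : K ≃ₐ[k] K, u (fun j => if σ = j then 1 else 0) = 0 := by
      apply dedekind_aut (k := k)
      intro b
      have h := hvan b
      rw [LinearMap.pi_apply_eq_sum_univ] at h
      refine Eq.trans ?_ h
      refine Finset.sum_congr rfl fun σ _ => ?_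
      rw [smul_eq_mul, mul_comm]
    refine LinearMap.ext fun x => ?_
    rw [LinearMap.pi_apply_eq_sum_univ]
    simp [hcoef]
  have hmem : (Pi.single 1 1 : (K ≃ₐ[k] K) → K) ∈ Submodule.span K (Set.range v) := by
    rw [hspan]; trivial
  obtain ⟨c, hc⟩ := Finsupp.mem_span_range_iff_exists_finsupp.mp hmem
  have key : ∀ σ : K ≃ₐ[k] K, (c.sum fun b d => d * σ b) = (Pi.single 1 1 : (K ≃ₐ[k] K) → K) σ := by
    intro σ
    have := congr_fun hc σ
    rw [Finsupp.sum, Finset.sum_apply] at this
    rw [Finsupp.sum]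
    simp only [Pi.smul_apply, smul_eq_mul, v] at this
    exact this
  refine ⟨c, ?_, fun σ hσ => ?_⟩
  · have := key 1
    simpa using this
  · rw [key σ, Pi.single_apply, if_neg hσ]

variable [Module k M] [IsScalarTower k K M]

/-- Reconstruction of `x` from traces. -/
theorem eq_sum_smul_T (A : SemiAct k K M) (c : K →₀ K)
    (hc1 : (c.sum fun b d => d * b) = 1)
    (hc : ∀ σ : K ≃ₐ[k] K, σ ≠ 1 → (c.sum fun b d => d * σ b) = 0) (x : M) :
    x = c.sum fun b d => d • A.T (b • x) := by
  classical
  unfold SemiAct.T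
  simp_rw [A.map_smul', Finsupp.sum, Finset.smul_sum, smul_smul]
  rw [Finset.sum_comm]
  simp_rw [← Finset.sum_smul]
  rw [Finset.sum_eq_single (1 : K ≃ₐ[k] K)]
  · have : (∑ b ∈ c.support, c b * (1 : K ≃ₐ[k] K) b) = 1 := hc1
    rw [this, one_smul, A.one']
  · intro σ _ hσ
    have : (∑ b ∈ c.support, c b * σ b) = 0 := hc σ hσ
    rw [this, zero_smul]
  · intro h
    exact absurd (Finset.mem_univ _) h

variable [IsGalois k K]

/-- trace of a scalar multiple of an invariant vector. -/
theorem T_smul_invariant (A : SemiAct k K M) (c : K) (w : M) (hw : ∀ σ, A.ρ σ w = w) :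
    A.T (c • w) = Algebra.trace k K c • w := by
  unfold SemiAct.T
  simp_rw [A.map_smul', hw, ← Finset.sum_smul, ← trace_eq_sum_automorphisms, algebraMap_smul]

/-- **Galois descent**: if `ι : W → M` is injective `k`-linear with range the invariants, then
`K ⊗[k] W → M` is bijective. -/
theorem descent_bijective (A : SemiAct k K M) {W : Type*} [AddCommGroup W] [Module k W]
    (ι : W →ₗ[k] M) (hι : Function.Injective ι)
    (hW : ∀ x : M, x ∈ LinearMap.range ι ↔ ∀ σ, A.ρ σ x = x) :
    Function.Bijective (ι.liftBaseChange K) := by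
  classical
  constructor
  · -- injectivity
    rw [← LinearMap.ker_eq_bot, LinearMap.ker_eq_bot']
    intro y hy
    let β := Module.Free.chooseBasis k W
    let B := Algebra.TensorProduct.basis K β
    have hy' : y = ∑ i ∈ (B.repr y).support, (B.repr y i) • B i := by
      conv_lhs => rw [← B.linearCombination_repr y]
      rfl
    have hdesc : ∑ i ∈ (B.repr y).support, (B.repr y i) • ι (β i) = 0 := by
      rw [hy', map_sum] at hy
      simp_rw [map_smul, B, Algebra.TensorProduct.basis_apply,
        LinearMap.liftBaseChange_one_tmul] at hy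
      exact hy
    have hinv : ∀ i σ, A.ρ σ (ι (β i)) = ι (β i) := fun i => (hW _).mp ⟨β i, rfl⟩
    have hzero : ∀ i, B.repr y i = 0 := by
      intro i
      -- for every b, trace (b * c_i) = 0
      have htr : ∀ b : K, ∀ j, Algebra.trace k K (b * B.repr y j) = 0 := by
        intro b
        have h1 : A.T (b • ∑ i ∈ (B.repr y).support, (B.repr y i) • ι (β i)) = 0 := by
          rw [hdesc, smul_zero]
          unfold SemiAct.T
          simp [A.map_zero]
        rw [Finset.smul_sum, A.T_sum] at h1
        simp_rw [smul_smul, T_smul_invariant A _ _ (hinv _), ← map_smul, ← map_sum] at h1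
        have h2 := hι (h1.trans (map_zero ι).symm)
        intro j
        by_cases hj : j ∈ (B.repr y).support
        · have hli := β.linearIndependent
          rw [linearIndependent_iff'] at hli
          exact hli _ _ h2 j hj
        · rw [Finsupp.notMem_support_iff.mp hj, mul_zero, map_zero]
      have hnd := (traceForm_nondegenerate k K).2
      apply hnd
      intro b
      exact htr b i
    rw [hy']
    simp [hzero]
  · -- surjectivity
    intro x
    obtain ⟨c, hc1, hc⟩ := exists_dual_family (k := k) (K := K)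
    have hx := eq_sum_smul_T A c hc1 hc x
    have hmem : ∀ b : K, ∃ w : W, ι w = A.T (b • x) := fun b =>
      (hW _).mpr (fun σ => A.ρ_T σ _)
    choose w hw using hmem
    refine ⟨c.sum fun b d => d ⊗ₜ[k] w b, ?_⟩
    rw [Finsupp.sum, map_sum]
    simp_rw [LinearMap.liftBaseChange_tmul, hw]
    exact hx.symm

end Groth.Agent.Lib.helper19.Descent
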