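import Mathlib
import Groth.Prelude.Def_GalDesc
import Groth.Agent.Lib.helper19.SemilinearDescent

/-!
# Galois descent for twisted actions, in the language of the prelude's `GalDesc`

* `SemiAct.ofCocycle`: a function-level 1-cocycle `α` twists a semilinear action.
* `exists_desc`: the descent isomorphism `K ⊗[k] W ≃ₗ[K] M` for `W ≅` the twisted invariants,
  intertwining the standard action on the left factor with the twisted action.
* `exists_of_invariant`, `mk_one_injective`: invariants of `K ⊗[k] W` are `1 ⊗ W`.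
* `exists_descend_equiv`: a `Γ`-equivariant `K`-linear iso `K ⊗ W ≃ K ⊗ W'` descends to `W ≃ₗ[k] W'`.
* `equivariant_of_cohomologous`.
-/

set_option autoImplicit false

namespace Groth.Agent.Lib.helper19.Descent

open TensorProduct

variable {k K : Type*} [Field k] [Field K] [Algebra k K]
variable {M : Type*} [AddCommGroup M] [Module K M] [DistribMulAction (K ≃ₐ[k] K) M]
  [SMulDistribClass (K ≃ₐ[k] K) K M]

/-- Twisting the given semilinear action by a function-level 1-cocycle. -/
def SemiAct.ofCocycle (α : (K ≃ₐ[k] K) → M → M)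
    (hadd : ∀ σ x y, α σ (x + y) = α σ x + α σ y)
    (hsmul : ∀ σ (c : K) x, α σ (c • x) = c • α σ x)
    (h1 : ∀ x, α 1 x = x)
    (hmul : ∀ σ τ x, α (σ * τ) x = α σ (σ • α τ (σ⁻¹ • x))) : SemiAct k K M where
  ρ σ x := α σ (σ • x)
  map_add' σ x y := by rw [smul_add, hadd]
  map_smul' σ c x := by rw [smul_distrib_smul, hsmul]; rfl
  one' x := by rw [one_smul, h1]
  mul' σ τ x := by rw [hmul, mul_smul, inv_smul_smul]

/-- The value at `1` of a 1-cocycle is `1`. -/
theorem cocycle_one {G A : Type*} [Group G] [Group A] [MulDistribMulAction G A]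
    (a : GpH1.OneCocycle G A) : a 1 = 1 := by
  have h := a.2 1 1
  rw [one_smul, mul_one] at h
  exact (mul_eq_left.mp h.symm)

section Desc

variable [FiniteDimensional k K] [IsGalois k K] [Module k M] [IsScalarTower k K M]

/-- **Twisted Galois descent.**  If `ι : W → M` is injective `k`-linear with range the invariants of
the action twisted by `α`, there is a `K`-linear isomorphism `K ⊗[k] W ≃ M`, `c ⊗ w ↦ c • ι w`,
carrying the standard action to the twisted one. -/
theorem exists_desc (α : (K ≃ₐ[k] K) → M → M)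
    (hadd : ∀ σ x y, α σ (x + y) = α σ x + α σ y)
    (hsmul : ∀ σ (c : K) x, α σ (c • x) = c • α σ x)
    (h1 : ∀ x, α 1 x = x)
    (hmul : ∀ σ τ x, α (σ * τ) x = α σ (σ • α τ (σ⁻¹ • x)))
    {W : Type*} [AddCommGroup W] [Module k W]
    (ι : W →ₗ[k] M) (hι : Function.Injective ι)
    (hW : ∀ x : M, x ∈ LinearMap.range ι ↔ ∀ σ, α σ (σ • x) = x) :
    ∃ desc : K ⊗[k] W ≃ₗ[K] M, (∀ (c : K) (w : W), desc (c ⊗ₜ[k] w) = c • ι w) ∧
      (∀ (σ : K ≃ₐ[k] K) (y : K ⊗[k] W), desc (σ • y) = α σ (σ • desc y)) ∧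
      (∀ (σ : K ≃ₐ[k] K) (x : M), desc (σ • desc.symm (σ⁻¹ • x)) = α σ x) := by
  have hbij := descent_bijective (SemiAct.ofCocycle α hadd hsmul h1 hmul) ι hι hW
  let desc : K ⊗[k] W ≃ₗ[K] M := LinearEquiv.ofBijective (ι.liftBaseChange K) hbij
  have hdesc : ∀ (c : K) (w : W), desc (c ⊗ₜ[k] w) = c • ι w := fun c w => by
    change (ι.liftBaseChange K) (c ⊗ₜ[k] w) = c • ι w
    rw [LinearMap.liftBaseChange_tmul]
  have hα0 : ∀ σ, α σ 0 = 0 := by
    intro σ
    have := hadd σ 0 0
    rw [add_zero] at this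
    exact left_eq_add.mp this
  have hint : ∀ (σ : K ≃ₐ[k] K) (y : K ⊗[k] W), desc (σ • y) = α σ (σ • desc y) := by
    intro σ y
    induction y using TensorProduct.induction_on with
    | zero => rw [smul_zero, map_zero, smul_zero, hα0]
    | tmul c w =>
      rw [TensorProduct.smul_tmul', hdesc, hdesc, smul_distrib_smul, hsmul,
        (hW (ι w)).mp ⟨w, rfl⟩ σ]
    | add x y hx hy => rw [smul_add, map_add, hx, hy, map_add, smul_add, hadd]
  refine ⟨desc, hdesc, hint, fun σ x => ?_⟩
  rw [hint, LinearEquiv.apply_symm_apply, smul_inv_smul]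

end Desc

/-! ### Invariants of the standard action on `K ⊗[k] W` -/

section Std

variable {W : Type*} [AddCommGroup W] [Module k W]

theorem basis_repr_smul {ι : Type*} (β : Module.Basis ι k W) (σ : K ≃ₐ[k] K) (x : K ⊗[k] W)
    (i : ι) :
    (Algebra.TensorProduct.basis K β).repr (σ • x) i
      = σ ((Algebra.TensorProduct.basis K β).repr x i) := by
  induction x using TensorProduct.induction_on with
  | zero => simp
  | tmul c w =>
    rw [TensorProduct.smul_tmul', Algebra.TensorProduct.basis_repr_tmul,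
      Algebra.TensorProduct.basis_repr_tmul]
    simp only [Finsupp.smul_apply, Finsupp.mapRange_apply, smul_eq_mul, map_mul,
      AlgEquiv.commutes, AlgEquiv.smul_def]
  | add x y hx hy => simp only [smul_add, map_add, Finsupp.add_apply, hx, hy]

theorem mk_one_injective :
    Function.Injective (fun w : W => (1 : K) ⊗ₜ[k] w) := by
  intro w w' h
  let β := Module.Free.chooseBasis k W
  have h2 := congrArg (Algebra.TensorProduct.basis K β).repr h
  simp only [Algebra.TensorProduct.basis_repr_tmul, one_smul] at h2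
  apply β.repr.injective
  ext i
  have h3 := DFunLike.congr_fun h2 i
  simp only [Finsupp.mapRange_apply] at h3
  exact (algebraMap k K).injective h3

variable [FiniteDimensional k K] [IsGalois k K]

theorem exists_of_invariant (x : K ⊗[k] W) (hx : ∀ σ : K ≃ₐ[k] K, σ • x = x) :
    ∃ w : W, (1 : K) ⊗ₜ[k] w = x := by
  classical
  let β := Module.Free.chooseBasis k W
  let B := Algebra.TensorProduct.basis K β
  have hfix : ∀ i, ∃ r : k, algebraMap k K r = B.repr x i := by
    intro i
    have : B.repr x i ∈ Set.range (algebraMap k K) := by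
      rw [IsGalois.mem_range_algebraMap_iff_fixed]
      intro σ
      have := basis_repr_smul β σ x i
      rw [hx σ] at this
      exact this.symm
    exact this
  choose r hr using hfix
  refine ⟨∑ i ∈ (B.repr x).support, r i • β i, ?_⟩
  have hx' : x = ∑ i ∈ (B.repr x).support, (B.repr x i) • B i := by
    conv_lhs => rw [← B.linearCombination_repr x]
    rfl
  conv_rhs => rw [hx']
  rw [TensorProduct.tmul_sum]
  refine Finset.sum_congr rfl fun i _ => ?_
  rw [← hr i, Algebra.TensorProduct.basis_apply, TensorProduct.tmul_smul,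
    algebraMap_smul]

omit [FiniteDimensional k K] [IsGalois k K] in
theorem smul_one_tmul (σ : K ≃ₐ[k] K) (u : W) :
    σ • ((1 : K) ⊗ₜ[k] u) = (1 : K) ⊗ₜ[k] u := by
  rw [TensorProduct.smul_tmul', smul_one]

/-- A `Γ`-equivariant `K`-linear isomorphism between base changes descends. -/
theorem exists_descend_equiv {W' : Type*} [AddCommGroup W'] [Module k W']
    (θ : K ⊗[k] W ≃ₗ[K] K ⊗[k] W')
    (hθ : ∀ (σ : K ≃ₐ[k] K) (x : K ⊗[k] W), θ (σ • x) = σ • θ x) :
    ∃ e : W ≃ₗ[k] W', ∀ w, θ ((1 : K) ⊗ₜ[k] w) = (1 : K) ⊗ₜ[k] e w := by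
  have hθ' : ∀ (σ : K ≃ₐ[k] K) (y : K ⊗[k] W'), θ.symm (σ • y) = σ • θ.symm y := by
    intro σ y
    apply θ.injective
    rw [hθ, θ.apply_symm_apply, θ.apply_symm_apply]
  have hf : ∀ w : W, ∃ w' : W', (1 : K) ⊗ₜ[k] w' = θ ((1 : K) ⊗ₜ[k] w) := fun w =>
    exists_of_invariant _ fun σ => by rw [← hθ, smul_one_tmul]
  have hf' : ∀ w' : W', ∃ w : W, (1 : K) ⊗ₜ[k] w = θ.symm ((1 : K) ⊗ₜ[k] w') := fun w' =>
    exists_of_invariant _ fun σ => by rw [← hθ', smul_one_tmul]
  choose f hf using hf
  choose f' hf' using hf'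
  have inj := mk_one_injective (k := k) (K := K) (W := W)
  have inj' := mk_one_injective (k := k) (K := K) (W := W')
  refine ⟨{ toFun := f
            invFun := f'
            map_add' := fun x y => inj' ?_
            map_smul' := fun c x => inj' ?_
            left_inv := fun x => inj ?_
            right_inv := fun y => inj' ?_ }, fun w => (hf w).symm⟩
  · simp only [hf, TensorProduct.tmul_add, map_add]
  · simp only [hf, RingHom.id_apply, TensorProduct.tmul_smul]
    rw [← algebraMap_smul K c, map_smul, algebraMap_smul]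
  · simp only [hf', hf, LinearEquiv.symm_apply_apply]
  · simp only [hf', hf, LinearEquiv.apply_symm_apply]

end Std

/-! ### Cohomologous cocycles give an equivariant comparison map -/

section Coh

variable {N N' : Type*}
  [AddCommGroup N] [Module K N] [DistribMulAction (K ≃ₐ[k] K) N] [SMulDistribClass (K ≃ₐ[k] K) K N]
  [AddCommGroup N'] [Module K N'] [DistribMulAction (K ≃ₐ[k] K) N']
  [SMulDistribClass (K ≃ₐ[k] K) K N']

theorem equivariant_of_cohomologous (g : M ≃ₗ[K] N) (g' : M ≃ₗ[K] N') (c : M ≃ₗ[K] M)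
    (h : ∀ σ : K ≃ₐ[k] K, GalDesc.cocycle k g σ = c⁻¹ * GalDesc.cocycle k g' σ * σ • c)
    (σ : K ≃ₐ[k] K) (y : N) :
    g' (c (g.symm (σ • y))) = σ • g' (c (g.symm y)) := by
  have h2 := LinearEquiv.congr_fun (h σ) (σ • g.symm y)
  rw [GalDesc.cocycle_apply, inv_smul_smul, LinearEquiv.apply_symm_apply] at h2
  change g.symm (σ • y) = c.symm (GalDesc.cocycle k g' σ ((σ • c) (σ • g.symm y))) at h2
  rw [GalDesc.conj_smul_apply, inv_smul_smul, GalDesc.cocycle_apply, inv_smul_smul] at h2
  rw [h2, LinearEquiv.apply_symm_apply, LinearEquiv.apply_symm_apply]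

end Coh

end Groth.Agent.Lib.helper19.Descent
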