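import Mathlib
import Groth.Agent.Lib.helper19.GalDescTwist

/-!
# Descent of central simplicity along a field extension
-/

set_option autoImplicit false

namespace Groth.Agent.Lib.helper19.Descent

open TensorProduct

variable {k K : Type*} [Field k] [Field K] [Algebra k K]
variable {A : Type*} [Ring A] [Algebra k A]

theorem isSimpleRing_of_baseChange (h : IsSimpleRing (K ⊗[k] A)) : IsSimpleRing A := by
  have hnt : Nontrivial A := by
    by_contra hA
    rw [not_nontrivial_iff_subsingleton] at hA
    have : Subsingleton (K ⊗[k] A) := by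
      refine ⟨fun x y => ?_⟩
      have h0 : ∀ z : K ⊗[k] A, z = 0 := by
        intro z
        induction z using TensorProduct.induction_on with
        | zero => rfl
        | tmul c a => rw [Subsingleton.elim a 0, TensorProduct.tmul_zero]
        | add x y hx hy => rw [hx, hy, add_zero]
      rw [h0 x, h0 y]
    exact not_subsingleton (K ⊗[k] A) this
  rw [isSimpleRing_iff_isTwoSided_imp]
  refine ⟨hnt, fun I hI => ?_⟩
  let π : A →ₐ[k] A ⧸ I := Ideal.Quotient.mkₐ k I
  let F : K ⊗[k] A →ₐ[K] K ⊗[k] (A ⧸ I) := Algebra.TensorProduct.map (AlgHom.id K K) π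
  rcases IsSimpleRing.injective_ringHom_or_subsingleton_codomain F.toRingHom with hF | hF
  · left
    rw [eq_bot_iff]
    intro x hx
    have h1 : F ((1 : K) ⊗ₜ[k] x) = 0 := by
      change Algebra.TensorProduct.map (AlgHom.id K K) π ((1 : K) ⊗ₜ[k] x) = 0
      rw [Algebra.TensorProduct.map_tmul]
      have : π x = 0 := Ideal.Quotient.eq_zero_iff_mem.mpr hx
      rw [this, TensorProduct.tmul_zero]
    have h2 : (1 : K) ⊗ₜ[k] x = 0 := hF (h1.trans (map_zero F).symm)
    have h3 := mk_one_injective (k := k) (K := K) (W := A) (h2.trans (TensorProduct.tmul_zero A (1 : K)).symm)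
    exact (Submodule.mem_bot A).mpr h3
  · right
    have : Subsingleton (A ⧸ I) := by
      refine ⟨fun x y => ?_⟩
      apply mk_one_injective (k := k) (K := K) (W := A ⧸ I)
      exact Subsingleton.elim _ _
    exact Ideal.Quotient.subsingleton_iff.mp this

theorem isCentral_of_baseChange (h : Algebra.IsCentral K (K ⊗[k] A)) : Algebra.IsCentral k A := by
  classical
  refine ⟨fun z hz => ?_⟩
  rw [Subalgebra.mem_center_iff] at hz
  have hz' : (1 : K) ⊗ₜ[k] z ∈ Subalgebra.center K (K ⊗[k] A) := by
    rw [Subalgebra.mem_center_iff]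
    intro y
    induction y using TensorProduct.induction_on with
    | zero => simp
    | tmul c a =>
      rw [Algebra.TensorProduct.tmul_mul_tmul, Algebra.TensorProduct.tmul_mul_tmul, hz a, mul_one,
        one_mul]
    | add x y hx hy => rw [add_mul, mul_add, hx, hy]
  obtain ⟨l, hl⟩ := h.out hz'
  -- hl : algebraMap K _ l = 1 ⊗ z
  have hl' : l ⊗ₜ[k] (1 : A) = (1 : K) ⊗ₜ[k] z := by
    rw [← hl]; rfl
  by_contra hzk
  -- {1, z} is k-linearly independent
  have hli : LinearIndependent k ![(1 : A), z] := by
    rw [LinearIndependent.pair_iff]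
    intro s t hst
    by_cases ht : t = 0
    · subst ht
      rw [zero_smul, add_zero] at hst
      have h1 : (1 : A) ≠ 0 := by
        intro h10
        apply hzk
        refine ⟨0, ?_⟩
        have : z = z * 1 := (mul_one z).symm
        rw [this, h10, mul_zero]
        exact map_zero _
      have : s = 0 := by
        by_contra hs
        apply h1
        have := congrArg (fun a => s⁻¹ • a) hst
        simpa [smul_smul, inv_mul_cancel₀ hs] using this
      exact ⟨this, rfl⟩
    · exfalso
      apply hzk
      refine ⟨-(t⁻¹ * s), ?_⟩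
      have h2 : t • z = -(s • (1 : A)) := by
        rw [eq_neg_iff_add_eq_zero, add_comm]; exact hst
      have h3 := congrArg (fun a => t⁻¹ • a) h2
      simp only [smul_smul, inv_mul_cancel₀ ht, one_smul, smul_neg] at h3
      rw [h3]
      change algebraMap k A _ = _
      rw [Algebra.algebraMap_eq_smul_one, neg_smul]
  have hli2' := Module.Flat.linearIndependent_one_tmul (S := K) hli
  have hli2 : LinearIndependent K ![(1 : K) ⊗ₜ[k] (1 : A), (1 : K) ⊗ₜ[k] z] := by
    convert hli2' using 1
    funext i
    fin_cases i <;> rfl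
  rw [LinearIndependent.pair_iff] at hli2
  have := hli2 l (-1) (by
    simp only [Matrix.cons_val_zero, Matrix.cons_val_one, neg_smul, one_smul]
    rw [TensorProduct.smul_tmul', smul_eq_mul, mul_one, hl', add_neg_cancel])
  exact one_ne_zero (neg_eq_zero.mp this.2)

end Groth.Agent.Lib.helper19.Descent
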