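import Mathlib

/-!
# Tensor product of a central simple algebra with a simple algebra is simple
-/

set_option autoImplicit false

namespace Groth.Agent.Lib.helper19.CSA

open TensorProduct

variable {k : Type*} [Field k]
variable {A : Type*} [Ring A] [Algebra k A]
variable {B : Type*} [Ring B] [Algebra k B]

section Coord

variable {κ : Type*} [DecidableEq κ] (𝒞 : Module.Basis κ k B)

/-- coordinates of `x : A ⊗ B` w.r.t. a basis of `B`. -/
noncomputable def co (x : A ⊗[k] B) : κ →₀ A := TensorProduct.equivFinsuppOfBasisRight 𝒞 x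

lemma co_add (x y : A ⊗[k] B) : co 𝒞 (x + y) = co 𝒞 x + co 𝒞 y := map_add _ _ _

lemma co_sub (x y : A ⊗[k] B) : co 𝒞 (x - y) = co 𝒞 x - co 𝒞 y := map_sub _ _ _

lemma co_zero : co 𝒞 (0 : A ⊗[k] B) = 0 := map_zero _

lemma co_eq_zero_iff (x : A ⊗[k] B) : co 𝒞 x = 0 ↔ x = 0 :=
  (TensorProduct.equivFinsuppOfBasisRight 𝒞).map_eq_zero_iff

lemma co_tmul (a : A) (b : B) (i : κ) : co 𝒞 (a ⊗ₜ[k] b) i = 𝒞.repr b i • a :=
  TensorProduct.equivFinsuppOfBasisRight_apply_tmul_apply 𝒞 a b i

lemma co_left_mul (a : A) (x : A ⊗[k] B) (i : κ) :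
    co 𝒞 ((a ⊗ₜ[k] (1 : B)) * x) i = a * co 𝒞 x i := by
  induction x using TensorProduct.induction_on with
  | zero => simp [co_zero]
  | tmul a' b' =>
    rw [Algebra.TensorProduct.tmul_mul_tmul, one_mul, co_tmul, co_tmul, mul_smul_comm]
  | add x y hx hy => rw [mul_add, co_add, Finsupp.add_apply, hx, hy, co_add, Finsupp.add_apply, mul_add]

lemma co_right_mul (a : A) (x : A ⊗[k] B) (i : κ) :
    co 𝒞 (x * (a ⊗ₜ[k] (1 : B))) i = co 𝒞 x i * a := by
  induction x using TensorProduct.induction_on with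
  | zero => simp [co_zero]
  | tmul a' b' =>
    rw [Algebra.TensorProduct.tmul_mul_tmul, mul_one, co_tmul, co_tmul, smul_mul_assoc]
  | add x y hx hy => rw [add_mul, co_add, Finsupp.add_apply, hx, hy, co_add, Finsupp.add_apply, add_mul]

lemma eq_sum_co (x : A ⊗[k] B) : x = (co 𝒞 x).sum fun i a => a ⊗ₜ[k] 𝒞 i := by
  have := (TensorProduct.equivFinsuppOfBasisRight 𝒞).symm_apply_apply x
  rw [TensorProduct.equivFinsuppOfBasisRight_symm_apply] at this
  exact this.symm

end Coord

/-- **Fundamental lemma**: `A` central simple, `B` simple ⟹ `A ⊗ B` simple. -/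
theorem isSimpleRing_tensor [Algebra.IsCentral k A] [IsSimpleRing A] [IsSimpleRing B] :
    IsSimpleRing (A ⊗[k] B) := by
  classical
  let 𝒞 := Module.Free.chooseBasis k B
  have hA := (isSimpleRing_iff_isTwoSided_imp (R := A)).mp inferInstance
  have hB := (isSimpleRing_iff_isTwoSided_imp (R := B)).mp inferInstance
  have h11 : (1 : A) ⊗ₜ[k] (1 : B) ≠ 0 := by
    intro h
    have h2 := congrArg (co 𝒞) h
    rw [co_zero] at h2
    have h3 : 𝒞.repr (1 : B) ≠ 0 := by
      intro h4
      exact one_ne_zero (𝒞.repr.map_eq_zero_iff.mp h4)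
    obtain ⟨i, hi⟩ := Finsupp.ne_iff.mp h3
    have h5 := DFunLike.congr_fun h2 i
    rw [co_tmul] at h5
    simp only [Finsupp.coe_zero, Pi.zero_apply] at h5 hi
    rcases smul_eq_zero.mp h5 with h6 | h6
    · exact hi h6
    · exact one_ne_zero h6
  rw [isSimpleRing_iff_isTwoSided_imp]
  refine ⟨⟨⟨1, 0, by rw [Algebra.TensorProduct.one_def]; exact h11⟩⟩, fun I hI => ?_⟩
  by_cases hbot : I = ⊥
  · exact Or.inl hbot
  right
  -- minimal support element
  have hex : ∃ n : ℕ, ∃ x ∈ I, x ≠ 0 ∧ (co 𝒞 x).support.card = n := by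
    obtain ⟨x, hx, hx0⟩ := Submodule.exists_mem_ne_zero_of_ne_bot hbot
    exact ⟨_, x, hx, hx0, rfl⟩
  obtain ⟨x, hxI, hx0, hxn⟩ := Nat.find_spec hex
  have hmin : ∀ z ∈ I, z ≠ 0 → (co 𝒞 x).support.card ≤ (co 𝒞 z).support.card := by
    intro z hz hz0
    rw [hxn]
    exact Nat.find_min' hex ⟨z, hz, hz0, rfl⟩
  have hsupp_ne : (co 𝒞 x).support.Nonempty := by
    rw [Finsupp.support_nonempty_iff]
    intro h
    exact hx0 ((co_eq_zero_iff 𝒞 x).mp h)
  obtain ⟨i0, hi0⟩ := hsupp_ne
  -- the ideal J of possible i0-coordinates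
  let J : Ideal A :=
    { carrier := {a | ∃ z ∈ I, (co 𝒞 z).support ⊆ (co 𝒞 x).support ∧ co 𝒞 z i0 = a}
      zero_mem' := ⟨0, I.zero_mem, by simp [co_zero], by simp [co_zero]⟩
      add_mem' := by
        rintro a a' ⟨z, hz, hzs, rfl⟩ ⟨z', hz', hzs', rfl⟩
        refine ⟨z + z', I.add_mem hz hz', ?_, by rw [co_add, Finsupp.add_apply]⟩
        rw [co_add]
        exact (Finsupp.support_add).trans (Finset.union_subset hzs hzs')
      smul_mem' := by
        rintro c a ⟨z, hz, hzs, rfl⟩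
        refine ⟨(c ⊗ₜ[k] (1 : B)) * z, I.mul_mem_left _ hz, ?_, co_left_mul 𝒞 c z i0⟩
        intro i hi
        apply hzs
        rw [Finsupp.mem_support_iff] at hi ⊢
        intro h
        apply hi
        rw [co_left_mul, h, mul_zero] }
  have hJ2 : J.IsTwoSided := ⟨by
    rintro a c ⟨z, hz, hzs, rfl⟩
    refine ⟨z * (c ⊗ₜ[k] (1 : B)), I.mul_mem_right _ hz, ?_, co_right_mul 𝒞 c z i0⟩
    intro i hi
    apply hzs
    rw [Finsupp.mem_support_iff] at hi ⊢
    intro h
    apply hi
    rw [co_right_mul, h, zero_mul]⟩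
  have hJtop : J = ⊤ := by
    rcases hA.2 J hJ2 with h | h
    · exfalso
      have : co 𝒞 x i0 ∈ J := ⟨x, hxI, subset_rfl, rfl⟩
      rw [h] at this
      exact (Finsupp.mem_support_iff.mp hi0) ((Submodule.mem_bot A).mp this)
    · exact h
  obtain ⟨z, hzI, hzs, hz1⟩ : (1 : A) ∈ J := by rw [hJtop]; trivial
  have hz0 : z ≠ 0 := by
    intro h
    rw [h, co_zero] at hz1
    exact zero_ne_one hz1
  -- all coordinates of z are central
  have hcentral : ∀ (a : A) (i : Module.Free.ChooseBasisIndex k B), a * co 𝒞 z i = co 𝒞 z i * a := by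
    intro a i
    set w := (a ⊗ₜ[k] (1 : B)) * z - z * (a ⊗ₜ[k] (1 : B)) with hw
    have hwI : w ∈ I := I.sub_mem (I.mul_mem_left _ hzI) (I.mul_mem_right _ hzI)
    have hwco : ∀ j, co 𝒞 w j = a * co 𝒞 z j - co 𝒞 z j * a := by
      intro j
      rw [hw, co_sub, Finsupp.sub_apply, co_left_mul, co_right_mul]
    have hw0 : w = 0 := by
      by_contra hne
      have h1 := hmin w hwI hne
      have h2 : (co 𝒞 w).support ⊆ (co 𝒞 x).support.erase i0 := by
        intro j hj
        rw [Finset.mem_erase]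
        rw [Finsupp.mem_support_iff, hwco] at hj
        constructor
        · rintro rfl
          apply hj
          rw [hz1, mul_one, one_mul, sub_self]
        · apply hzs
          rw [Finsupp.mem_support_iff]
          intro h
          apply hj
          rw [h, mul_zero, zero_mul, sub_self]
      have h3 := Finset.card_le_card h2
      rw [Finset.card_erase_of_mem hi0] at h3
      have h4 : 0 < (co 𝒞 x).support.card := Finset.card_pos.mpr ⟨i0, hi0⟩
      omega
    have := hwco i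
    rw [hw0, co_zero] at this
    simp only [Finsupp.coe_zero, Pi.zero_apply] at this
    exact sub_eq_zero.mp this.symm
  have hscalar : ∀ i, ∃ r : k, algebraMap k A r = co 𝒞 z i := by
    intro i
    have : co 𝒞 z i ∈ Subalgebra.center k A := by
      rw [Subalgebra.mem_center_iff]
      intro a
      exact hcentral a i
    rw [Algebra.IsCentral.center_eq_bot] at this
    exact this
  choose r hr using hscalar
  -- z = 1 ⊗ b0
  set b0 : B := (co 𝒞 z).sum fun i _ => r i • 𝒞 i with hb0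
  have hz : z = (1 : A) ⊗ₜ[k] b0 := by
    conv_lhs => rw [eq_sum_co 𝒞 z]
    rw [hb0, Finsupp.sum, Finsupp.sum, TensorProduct.tmul_sum]
    refine Finset.sum_congr rfl fun i _ => ?_
    rw [← hr i, Algebra.algebraMap_eq_smul_one, TensorProduct.smul_tmul]
  -- ideal of B
  let J' : Ideal B :=
    { carrier := {b | (1 : A) ⊗ₜ[k] b ∈ I}
      zero_mem' := by simp
      add_mem' := by
        intro b b' hb hb'
        change (1 : A) ⊗ₜ[k] (b + b') ∈ I
        rw [TensorProduct.tmul_add]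
        exact I.add_mem hb hb'
      smul_mem' := by
        intro c b hb
        change (1 : A) ⊗ₜ[k] (c * b) ∈ I
        have : (1 : A) ⊗ₜ[k] (c * b) = ((1 : A) ⊗ₜ[k] c) * ((1 : A) ⊗ₜ[k] b) := by
          rw [Algebra.TensorProduct.tmul_mul_tmul, one_mul]
        rw [this]
        exact I.mul_mem_left _ hb }
  have hJ'2 : J'.IsTwoSided := ⟨by
    intro b c hb
    change (1 : A) ⊗ₜ[k] (b * c) ∈ I
    have : (1 : A) ⊗ₜ[k] (b * c) = ((1 : A) ⊗ₜ[k] b) * ((1 : A) ⊗ₜ[k] c) := by
      rw [Algebra.TensorProduct.tmul_mul_tmul, one_mul]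
    rw [this]
    exact I.mul_mem_right _ hb⟩
  have hb0mem : b0 ∈ J' := by
    change (1 : A) ⊗ₜ[k] b0 ∈ I
    rw [← hz]; exact hzI
  have hb0ne : b0 ≠ 0 := by
    intro h
    apply hz0
    rw [hz, h, TensorProduct.tmul_zero]
  have hJ'top : J' = ⊤ := by
    rcases hB.2 J' hJ'2 with h | h
    · exfalso
      rw [h] at hb0mem
      exact hb0ne ((Submodule.mem_bot B).mp hb0mem)
    · exact h
  have h1 : (1 : B) ∈ J' := by rw [hJ'top]; trivial
  rw [Ideal.eq_top_iff_one, Algebra.TensorProduct.one_def]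
  exact h1

end Groth.Agent.Lib.helper19.CSA
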