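import Mathlib
import Groth.Agent.Lib.helper19.CSATensor
import Groth.Agent.Lib.helper19.CSADescent

/-!
# Base change of central simple algebras (ascent)
-/

set_option autoImplicit false

namespace Groth.Agent.Lib.helper19.CSA

open TensorProduct

variable {k K : Type*} [Field k] [Field K] [Algebra k K]
variable {A : Type*} [Ring A] [Algebra k A]

theorem isCentral_baseChange [Algebra.IsCentral k A] : Algebra.IsCentral K (K ⊗[k] A) := by
  refine ⟨fun z hz => ?_⟩
  rw [Subalgebra.mem_center_iff] at hz
  have h1 : z ∈ Subalgebra.centralizer k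
      ((Algebra.TensorProduct.includeRight : A →ₐ[k] K ⊗[k] A).range : Set (K ⊗[k] A)) := by
    rw [Subalgebra.mem_centralizer_iff]
    rintro _ ⟨a, rfl⟩
    exact hz _
  rw [Subalgebra.centralizer_range_includeRight_eq_center_tensorProduct] at h1
  obtain ⟨w, rfl⟩ := h1
  clear hz
  induction w using TensorProduct.induction_on with
  | zero => rw [map_zero]; exact Subalgebra.zero_mem _
  | tmul c a =>
    obtain ⟨a, ha⟩ := a
    rw [Algebra.IsCentral.center_eq_bot] at ha
    obtain ⟨r, rfl⟩ := ha
    refine ⟨r • c, ?_⟩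
    change (r • c) ⊗ₜ[k] (1 : A) = c ⊗ₜ[k] (algebraMap k A r)
    rw [Algebra.algebraMap_eq_smul_one, TensorProduct.smul_tmul]
  | add x y hx hy => rw [map_add]; exact Subalgebra.add_mem _ hx hy

theorem isSimpleRing_baseChange [Algebra.IsCentral k A] [IsSimpleRing A] :
    IsSimpleRing (K ⊗[k] A) := by
  haveI : IsSimpleRing (A ⊗[k] K) := isSimpleRing_tensor
  exact IsSimpleRing.of_ringEquiv (Algebra.TensorProduct.comm k A K).toRingEquiv inferInstance

end Groth.Agent.Lib.helper19.CSA
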