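import Mathlib
import Groth.Prelude.Def_Curves
import Groth.Agent.Lib.helper19.CSABaseChange

/-!
# A splitting criterion

`A` central simple of dimension `n²`, `K/k` a field extension, `V` a `K`-vector space of
dimension `n` on which `A` acts `K`-linearly.  Then `K ⊗ A ≃ End_K V ≃ M_n(K)`.
-/

set_option autoImplicit false

namespace Groth.Agent.Lib.helper19.CSA

open TensorProduct

variable {k : Type*} [Field k] {A : Type*} [Ring A] [Algebra k A]
variable {K : Type*} [Field K] [Algebra k K]
variable {V : Type*} [AddCommGroup V] [Module K V]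

theorem splits_of_rep [Algebra.IsCentral k A] [IsSimpleRing A] [FiniteDimensional k A]
    [Module.Finite K V]
    (ρ : A →+* Module.End K V)
    (hρ : ∀ r : k, ρ (algebraMap k A r) = algebraMap K (Module.End K V) (algebraMap k K r))
    (n : ℕ) (hn : n ≠ 0) (hV : Module.finrank K V = n) (hA : Module.finrank k A = n ^ 2) :
    Curves.Splits k A K := by
  classical
  letI : Module k V := Module.compHom V (algebraMap k K)
  haveI : IsScalarTower k K V := ⟨fun r z v => by
    change (r • z) • v = (algebraMap k K r) • (z • v)
    rw [Algebra.smul_def, mul_smul]⟩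
  let ρ' : A →ₐ[k] Module.End K V :=
    { ρ with
      commutes' := fun r => by
        change ρ (algebraMap k A r) = _
        rw [hρ]
        ext v
        simp only [Module.algebraMap_end_apply]
        rfl }
  let Φ : K ⊗[k] A →ₐ[K] Module.End K V :=
    Algebra.TensorProduct.lift (Algebra.ofId K (Module.End K V)) ρ'
      (fun z a => Algebra.commutes z (ρ' a))
  haveI : Nontrivial V := by
    apply Module.nontrivial_of_finrank_pos (R := K)
    rw [hV]; exact Nat.pos_of_ne_zero hn
  haveI : IsSimpleRing (K ⊗[k] A) := isSimpleRing_baseChange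
  have hinj : Function.Injective Φ := Φ.toRingHom.injective
  have hdim : Module.finrank K (K ⊗[k] A) = Module.finrank K (Module.End K V) := by
    rw [Module.finrank_baseChange, hA, Module.finrank_linearMap, hV, sq]
  have hbij : Function.Bijective Φ :=
    ⟨hinj, (LinearMap.injective_iff_surjective_of_finrank_eq_finrank
      (f := Φ.toLinearMap) hdim).mp hinj⟩
  let e1 : K ⊗[k] A ≃ₐ[K] Module.End K V := AlgEquiv.ofBijective Φ hbij
  let b := Module.finBasisOfFinrankEq K V hV
  exact ⟨n, hn, ⟨e1.trans (algEquivMatrix b)⟩⟩

end Groth.Agent.Lib.helper19.CSA
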