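import Mathlib

set_option autoImplicit false
universe u

namespace Groth.Agent.Lib.helper19.Char0RegA

open IsLocalRing

variable {k : Type u} [Field k] [CharZero k] {R : Type u} [CommRing R] [Algebra k R]

theorem isUnit_natCast_succ (k : Type u) [Field k] [CharZero k] {R : Type u} [CommRing R]
    [Algebra k R] (n : ℕ) : IsUnit (((n + 1 : ℕ) : R)) := by
  have h : ((n + 1 : ℕ) : R) = algebraMap k R ((n + 1 : ℕ) : k) := by
    rw [map_natCast]
  rw [h]
  exact (IsUnit.mk0 _ (Nat.cast_ne_zero.mpr (Nat.succ_ne_zero n))).map _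

/-- Step A: `f^n x = 0 → x ∈ (f)` when `D f` is a unit. -/
theorem mem_span_of_pow_mul_eq_zero (D : Derivation k R R) {f : R} (hD : IsUnit (D f)) :
    ∀ (n : ℕ) (x : R), f ^ n * x = 0 → x ∈ Ideal.span ({f} : Set R) := by
  intro n
  induction n with
  | zero =>
    intro x hx
    rw [pow_zero, one_mul] at hx
    rw [hx]; exact Submodule.zero_mem _
  | succ n ih =>
    intro x hx
    have h1 : D (f ^ (n + 1) * x) = 0 := by rw [hx, map_zero]
    rw [Derivation.leibniz, Derivation.leibniz_pow] at h1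
    simp only [Nat.add_sub_cancel, smul_eq_mul, nsmul_eq_mul] at h1
    have h2 : f ^ n * (f * D x + ((n + 1 : ℕ) : R) * D f * x) = 0 := by
      rw [← h1]; push_cast; ring
    have h3 := ih _ h2
    have h4 : ((n + 1 : ℕ) : R) * D f * x ∈ Ideal.span ({f} : Set R) := by
      have h5 : f * D x ∈ Ideal.span ({f} : Set R) :=
        Ideal.mul_mem_right _ _ (Ideal.mem_span_singleton_self f)
      have := Submodule.sub_mem _ h3 h5
      rwa [add_sub_cancel_left] at this
    have hu : IsUnit (((n + 1 : ℕ) : R) * D f) := (isUnit_natCast_succ k n).mul hD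
    obtain ⟨u, hu'⟩ := hu
    have : x = (↑u⁻¹ : R) * (((n + 1 : ℕ) : R) * D f * x) := by
      rw [← hu', ← mul_assoc, Units.inv_mul, one_mul]
    rw [this]
    exact Ideal.mul_mem_left _ _ h4

/-- Step B. -/
theorem mem_span_pow_of_pow_mul_eq_zero (D : Derivation k R R) {f : R} (hD : IsUnit (D f)) :
    ∀ (m n : ℕ) (x : R), f ^ n * x = 0 → x ∈ Ideal.span ({f ^ m} : Set R) := by
  intro m
  induction m with
  | zero =>
    intro n x _
    rw [pow_zero, Ideal.span_singleton_one]; trivial
  | succ m ih =>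
    intro n x hx
    obtain ⟨y, rfl⟩ := Ideal.mem_span_singleton'.mp (mem_span_of_pow_mul_eq_zero D hD n x hx)
    have hy : f ^ (n + 1) * y = 0 := by
      rw [← hx]; ring
    obtain ⟨z, rfl⟩ := Ideal.mem_span_singleton'.mp (ih (n + 1) y hy)
    apply Ideal.mem_span_singleton'.mpr
    exact ⟨z, by ring⟩

theorem isSMulRegular_of_derivation [IsLocalRing R] [IsNoetherianRing R]
    (D : Derivation k R R) {f : R} (hf : f ∈ maximalIdeal R) (hD : IsUnit (D f)) :
    IsSMulRegular R f := by
  rw [isSMulRegular_iff_right_eq_zero_of_smul]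
  intro x hx
  have hx' : f ^ 1 * x = 0 := by rwa [pow_one]
  have hne : Ideal.span ({f} : Set R) ≠ ⊤ := by
    intro h
    have : Ideal.span ({f} : Set R) ≤ maximalIdeal R := (Ideal.span_singleton_le_iff_mem _).mpr hf
    rw [h] at this
    exact (maximalIdeal.isMaximal R).ne_top (top_le_iff.mp this)
  have hbot := Ideal.iInf_pow_eq_bot_of_isLocalRing (Ideal.span ({f} : Set R)) hne
  have : x ∈ (⨅ i, Ideal.span ({f} : Set R) ^ i : Ideal R) := by
    rw [Ideal.mem_iInf]
    intro i
    rw [Ideal.span_singleton_pow]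
    exact mem_span_pow_of_pow_mul_eq_zero D hD i 1 x hx'
  rw [hbot] at this
  exact this

end Groth.Agent.Lib.helper19.Char0RegA
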