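import Groth.Agent.Lib.helper19.Char0RegA

set_option autoImplicit false
universe u

namespace Groth.Agent.Lib.helper19.Char0RegB

open IsLocalRing TensorProduct KaehlerDifferential

section Inj

variable (k B K : Type u) [CommRing k] [CommRing B] [Algebra k B] [CommRing K] [Algebra k K]
  [Algebra B K] [IsScalarTower k B K]

theorem kerCotangentToTensor_injective [Algebra.FormallySmooth k K]
    (hf : Function.Surjective (algebraMap B K)) :
    Function.Injective (kerCotangentToTensor k B K) := by
  let F := (IsScalarTower.toAlgHom k B K).kerSquareLift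
  have surj : Function.Surjective F :=
    Ideal.Quotient.lift_surjective_of_surjective _ _ hf
  have nil : IsNilpotent (RingHom.ker
      (F : (B ⧸ RingHom.ker (IsScalarTower.toAlgHom k B K).toRingHom ^ 2) →+* K)) := by
    have sqz : RingHom.ker (IsScalarTower.toAlgHom k B K).kerSquareLift.toRingHom ^ 2 = ⊥ := by
      rw [AlgHom.ker_kerSquareLift, Ideal.cotangentIdeal_square]
    exact ⟨2, sqz⟩
  let g := Algebra.FormallySmooth.liftOfSurjective (AlgHom.id k K) F surj nil
  have hg : F.comp g = AlgHom.id k K := Algebra.FormallySmooth.comp_liftOfSurjective _ _ _ _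
  obtain ⟨l, hl⟩ := (retractionKerCotangentToTensorEquivSection (R := k) hf).symm ⟨g, hg⟩
  exact Function.LeftInverse.injective (g := l) (fun x => LinearMap.congr_fun hl x)

end Inj

section Local

variable (k R : Type u) [Field k] [CommRing R] [IsLocalRing R] [Algebra k R]

theorem one_tmul_D_ne_zero [Algebra.FormallySmooth k (ResidueField R)] {f : R}
    (hf : f ∈ maximalIdeal R) (hf2 : f ∉ maximalIdeal R ^ 2) :
    (1 : ResidueField R) ⊗ₜ[R] KaehlerDifferential.D k R f ≠ 0 := by
  intro h
  have hker : RingHom.ker (algebraMap R (ResidueField R)) = maximalIdeal R := ker_residue (R := R)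
  have hf' : f ∈ RingHom.ker (algebraMap R (ResidueField R)) := by rw [hker]; exact hf
  have h1 : kerCotangentToTensor k R (ResidueField R) (Ideal.toCotangent _ ⟨f, hf'⟩) = 0 := by
    rw [kerCotangentToTensor_toCotangent]; exact h
  have h2 := kerCotangentToTensor_injective k R (ResidueField R)
    IsLocalRing.residue_surjective (h1.trans (map_zero _).symm)
  have h3 : f ∈ RingHom.ker (algebraMap R (ResidueField R)) ^ 2 :=
    (Ideal.toCotangent_eq_zero _ _).mp h2
  rw [hker] at h3
  exact hf2 h3

end Local

section Func

variable {R : Type u} [CommRing R] [IsLocalRing R] {M : Type u} [AddCommGroup M] [Module R M]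
  [Module.Free R M] [Module.Finite R M]

theorem exists_functional {x : M} (hx : (1 : ResidueField R) ⊗ₜ[R] x ≠ 0) :
    ∃ φ : M →ₗ[R] R, φ x = 1 := by
  classical
  let b := Module.Free.chooseBasis R M
  by_cases h : ∀ i, b.repr x i ∈ maximalIdeal R
  · exfalso
    apply hx
    have hsum : x = ∑ i, b.repr x i • b i := (b.sum_repr x).symm
    rw [hsum, TensorProduct.tmul_sum]
    apply Finset.sum_eq_zero
    intro i _
    rw [TensorProduct.tmul_smul, TensorProduct.smul_tmul', Algebra.smul_def, mul_one]
    have : algebraMap R (ResidueField R) (b.repr x i) = 0 :=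
      (IsLocalRing.residue_eq_zero_iff _).mpr (h i)
    rw [this, TensorProduct.zero_tmul]
  · push Not at h
    obtain ⟨i, hi⟩ := h
    have hu : IsUnit (b.repr x i) := by
      by_contra hnu
      exact hi ((IsLocalRing.mem_maximalIdeal _).mpr hnu)
    obtain ⟨u, hu'⟩ := hu
    refine ⟨(↑u⁻¹ : R) • b.coord i, ?_⟩
    rw [LinearMap.smul_apply, Module.Basis.coord_apply, ← hu', smul_eq_mul, Units.inv_mul]

end Func

end Groth.Agent.Lib.helper19.Char0RegB
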