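import Groth.Agent.Lib.helper19.Char0RegB

set_option autoImplicit false
universe u

namespace Groth.Agent.Lib.helper19.Char0RegC

open IsLocalRing TensorProduct KaehlerDifferential

variable (k : Type u) [CommRing k] {R : Type u} [CommRing R] [Algebra k R]

/-- If `φ (D f) = 1` for a functional `φ` on `Ω[R/k]` and `Ω[R/k]` is projective, then
`Ω[(R/f)/k]` is projective over `R/f`. -/
theorem projective_quotient [Module.Projective R Ω[R⁄k]] (f : R) (φ : Ω[R⁄k] →ₗ[R] R)
    (hφ : φ (D k R f) = 1) :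
    Module.Projective (R ⧸ Ideal.span ({f} : Set R)) Ω[(R ⧸ Ideal.span ({f} : Set R))⁄k] := by
  set R' := R ⧸ Ideal.span ({f} : Set R) with hR'
  have hsurj : Function.Surjective (algebraMap R R') := Ideal.Quotient.mk_surjective
  let g : R' ⊗[R] Ω[R⁄k] →ₗ[R'] Ω[R'⁄k] := KaehlerDifferential.mapBaseChange k R R'
  have hg : Function.Surjective g := KaehlerDifferential.mapBaseChange_surjective k R R' hsurj
  let e : R' ⊗[R] Ω[R⁄k] := (1 : R') ⊗ₜ[R] D k R f
  let ψ : R' ⊗[R] Ω[R⁄k] →ₗ[R'] R' :=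
    (TensorProduct.AlgebraTensorModule.rid R R' R').toLinearMap ∘ₗ (LinearMap.baseChange R' φ)
  have hψe : ψ e = 1 := by
    change (TensorProduct.AlgebraTensorModule.rid R R' R') (LinearMap.baseChange R' φ e) = 1
    rw [show LinearMap.baseChange R' φ e = (1 : R') ⊗ₜ[R] φ (D k R f) from
      LinearMap.baseChange_tmul _ _ _, hφ, TensorProduct.AlgebraTensorModule.rid_tmul, one_smul]
  let s₀ : R' ⊗[R] Ω[R⁄k] →ₗ[R'] R' ⊗[R] Ω[R⁄k] :=
    LinearMap.id - (LinearMap.toSpanSingleton R' _ e) ∘ₗ ψ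
  have hs₀ : ∀ x, s₀ x = x - ψ x • e := fun x => rfl
  have hker : ∀ x, g x = 0 → ∃ c : R', x = c • e := by
    intro x hx
    have hx' : x ∈ (LinearMap.ker (KaehlerDifferential.mapBaseChange k R R')).restrictScalars R :=
      hx
    rw [← KaehlerDifferential.range_kerCotangentToTensor k R R' hsurj] at hx'
    obtain ⟨c, rfl⟩ := hx'
    obtain ⟨⟨y, hy⟩, rfl⟩ := Ideal.toCotangent_surjective _ c
    have hy' : y ∈ Ideal.span ({f} : Set R) := by
      have : RingHom.ker (algebraMap R R') = Ideal.span ({f} : Set R) := Ideal.mk_ker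
      rwa [this] at hy
    obtain ⟨a, rfl⟩ := Ideal.mem_span_singleton'.mp hy'
    refine ⟨algebraMap R R' a, ?_⟩
    rw [kerCotangentToTensor_toCotangent]
    change (1 : R') ⊗ₜ[R] D k R (a * f) = _
    rw [Derivation.leibniz, TensorProduct.tmul_add, TensorProduct.tmul_smul,
      TensorProduct.tmul_smul]
    have hf0 : f • ((1 : R') ⊗ₜ[R] D k R a) = 0 := by
      rw [TensorProduct.smul_tmul', Algebra.smul_def, mul_one]
      have : algebraMap R R' f = 0 :=
        Ideal.Quotient.eq_zero_iff_mem.mpr (Ideal.mem_span_singleton_self f)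
      rw [this, TensorProduct.zero_tmul]
    rw [hf0, add_zero, algebraMap_smul]
  have hge : g e = 0 := by
    have hfker : f ∈ RingHom.ker (algebraMap R R') := by
      rw [show RingHom.ker (algebraMap R R') = Ideal.span ({f} : Set R) from Ideal.mk_ker]
      exact Ideal.mem_span_singleton_self f
    have hmem : e ∈ LinearMap.range (kerCotangentToTensor k R R') :=
      ⟨Ideal.toCotangent _ ⟨f, hfker⟩, kerCotangentToTensor_toCotangent _ _ _ _⟩
    rw [KaehlerDifferential.range_kerCotangentToTensor k R R' hsurj] at hmem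
    exact hmem
  have hle : LinearMap.ker g ≤ LinearMap.ker s₀ := by
    intro x hx
    obtain ⟨c, rfl⟩ := hker x hx
    rw [LinearMap.mem_ker, hs₀, map_smul, hψe, smul_eq_mul, mul_one, sub_self]
  let i : Ω[R'⁄k] →ₗ[R'] R' ⊗[R] Ω[R⁄k] :=
    ((LinearMap.ker g).liftQ s₀ hle) ∘ₗ (g.quotKerEquivOfSurjective hg).symm.toLinearMap
  have hgi : g.comp i = LinearMap.id := by
    refine LinearMap.ext fun y => ?_
    obtain ⟨x, rfl⟩ := hg y
    have h1 : (g.quotKerEquivOfSurjective hg).symm (g x) = (LinearMap.ker g).mkQ x := by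
      rw [LinearEquiv.symm_apply_eq]; rfl
    change g (((LinearMap.ker g).liftQ s₀ hle) ((g.quotKerEquivOfSurjective hg).symm (g x))) = g x
    rw [h1, Submodule.mkQ_apply, Submodule.liftQ_apply, hs₀, map_sub, map_smul, hge, smul_zero,
      sub_zero]
  exact Module.Projective.of_split i g hgi

end Groth.Agent.Lib.helper19.Char0RegC
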