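import Groth.Agent.Lib.helper19.Char0RegC
import Groth.Agent.Lib.Helper5.RegQuot
import Groth.Agent.Lib.Helper5.RegSmoothPerfect

set_option autoImplicit false
universe u

namespace Groth.Agent.Lib.helper19.Char0RegD

open IsLocalRing TensorProduct KaehlerDifferential

theorem exists_notMem_sq {R : Type u} [CommRing R] [IsLocalRing R] [IsNoetherianRing R]
    (hm : maximalIdeal R ≠ ⊥) : ∃ f ∈ maximalIdeal R, f ∉ maximalIdeal R ^ 2 := by
  by_contra hcon
  push Not at hcon
  apply hm
  refine Submodule.eq_bot_of_le_smul_of_le_jacobson_bot (maximalIdeal R) (maximalIdeal R)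
    (IsNoetherian.noetherian _) ?_ ?_
  · intro x hx
    have := hcon x hx
    rwa [sq, ← smul_eq_mul] at this
  · exact (IsLocalRing.jacobson_eq_maximalIdeal ⊥ bot_ne_top).ge

theorem regular_of_bot {R : Type u} [CommRing R] [IsLocalRing R] [IsNoetherianRing R]
    (hm : maximalIdeal R = ⊥) : IsRegularLocalRing R := by
  apply IsRegularLocalRing.of_spanFinrank_maximalIdeal_le
  rw [hm, Submodule.spanFinrank_bot]
  exact ringKrullDim_nonneg_of_nontrivial

variable (k : Type u) [Field k] [CharZero k]

theorem exists_step (R : Type u) [CommRing R] [IsLocalRing R] [IsNoetherianRing R]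
    [Algebra k R] [Algebra.EssFiniteType k R] [Module.Projective R Ω[R⁄k]]
    (hm : maximalIdeal R ≠ ⊥) :
    ∃ f ∈ maximalIdeal R, f ∉ maximalIdeal R ^ 2 ∧ IsSMulRegular R f ∧
      Module.Projective (R ⧸ Ideal.span ({f} : Set R)) Ω[(R ⧸ Ideal.span ({f} : Set R))⁄k] := by
  obtain ⟨f, hf, hf2⟩ := exists_notMem_sq hm
  haveI : Algebra.EssFiniteType k (ResidueField R) :=
    inferInstanceAs (Algebra.EssFiniteType k (R ⧸ maximalIdeal R))
  haveI : Algebra.FormallySmooth k (ResidueField R) := inferInstance
  have hne := Char0RegB.one_tmul_D_ne_zero k R hf hf2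
  haveI : Module.Free R Ω[R⁄k] := Module.free_of_flat_of_isLocalRing
  obtain ⟨φ, hφ⟩ := Char0RegB.exists_functional hne
  let D' : Derivation k R R := φ.compDer (D k R)
  have hD' : D' f = 1 := hφ
  refine ⟨f, hf, hf2, ?_, ?_⟩
  · exact Char0RegA.isSMulRegular_of_derivation D' hf (by rw [hD']; exact isUnit_one)
  · exact Char0RegC.projective_quotient k f φ hφ

theorem regular_aux : ∀ (n : ℕ) (R : Type u) [CommRing R] [IsLocalRing R] [IsNoetherianRing R]
    [Algebra k R] [Algebra.EssFiniteType k R] [Module.Projective R Ω[R⁄k]],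
    (maximalIdeal R).spanFinrank ≤ n → IsRegularLocalRing R := by
  intro n
  induction n with
  | zero =>
    intro R _ _ _ _ _ _ hn
    by_cases hm : maximalIdeal R = ⊥
    · exact regular_of_bot hm
    · obtain ⟨f, hf, hf2, hreg, hproj⟩ := exists_step k R hm
      haveI := Groth.Agent.Lib.helper19.isLocalRing_quotient _
        (Groth.Agent.Lib.helper19.span_singleton_ne_top hf)
      have := Groth.Agent.Lib.helper19.spanFinrank_maximalIdeal_quotient_succ_le hf hf2
      omega
  | succ n ih =>
    intro R _ _ _ _ _ _ hn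
    by_cases hm : maximalIdeal R = ⊥
    · exact regular_of_bot hm
    · obtain ⟨f, hf, hf2, hreg, hproj⟩ := exists_step k R hm
      haveI := Groth.Agent.Lib.helper19.isLocalRing_quotient _
        (Groth.Agent.Lib.helper19.span_singleton_ne_top hf)
      have h1 := Groth.Agent.Lib.helper19.spanFinrank_maximalIdeal_quotient_succ_le hf hf2
      haveI : IsRegularLocalRing (R ⧸ Ideal.span ({f} : Set R)) := ih _ (by omega)
      exact Groth.Agent.Lib.Helper5.RegQuot.isRegularLocalRing_of_quotient hf hreg

theorem main (A : Type u) [CommRing A] [Algebra k A] [Algebra.FiniteType k A]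
    (q : Ideal A) [q.IsPrime] :
    Algebra.IsSmoothAt k q ↔
      Module.Free (Localization.AtPrime q) (KaehlerDifferential k (Localization.AtPrime q)) := by
  constructor
  · intro h
    haveI : Algebra.FormallySmooth k (Localization.AtPrime q) := h
    exact Module.free_of_flat_of_isLocalRing
  · intro h
    haveI : IsNoetherianRing A := Algebra.FiniteType.isNoetherianRing k A
    haveI : IsNoetherianRing (Localization.AtPrime q) :=
      IsLocalization.isNoetherianRing q.primeCompl _ inferInstance
    haveI : IsRegularLocalRing (Localization.AtPrime q) :=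
      regular_aux k _ (Localization.AtPrime q) le_rfl
    exact (Groth.Agent.Lib.Helper5.RegSmoothCore.regular_iff_isSmoothAt k A q).mp inferInstance

end Groth.Agent.Lib.helper19.Char0RegD
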