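import Mathlib

set_option autoImplicit false
set_option linter.unusedVariables false
universe u

namespace Groth.Agent.Lib.Helper19.ClImmA

open scoped Pointwise

/-- a finite ring map which is surjective modulo every maximal ideal of the source is surjective -/
theorem surjective_of_forall_maximal {B A : Type*} [CommRing B] [CommRing A] (φ : B →+* A)
    (hfin : φ.Finite)
    (h : ∀ 𝔪 : Ideal B, 𝔪.IsMaximal → ∀ a : A, ∃ b : B, a - φ b ∈ Ideal.map φ 𝔪) :
    Function.Surjective φ := by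
  algebraize [φ]
  haveI : Module.Finite B A := hfin
  set N : Submodule B A := LinearMap.range (Algebra.linearMap B A) with hN
  by_contra hns
  have hns' : ∃ a₀ : A, a₀ ∉ N := by
    by_contra hcon
    push Not at hcon
    apply hns
    intro a
    obtain ⟨b, hb⟩ := hcon a
    exact ⟨b, hb⟩
  obtain ⟨a₀, ha₀⟩ := hns'
  set I : Ideal B := N.colon ⊤ with hI
  have hIne : I ≠ ⊤ := by
    intro htop
    have h1 : (1 : B) ∈ I := by rw [htop]; trivial
    rw [hI, Submodule.mem_colon] at h1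
    have := h1 a₀ trivial
    rw [one_smul] at this
    exact ha₀ this
  obtain ⟨𝔪, hmax, hle⟩ := Ideal.exists_le_maximal I hIne
  have hsup : (⊤ : Submodule B A) ≤ N ⊔ 𝔪 • (⊤ : Submodule B A) := by
    intro a _
    obtain ⟨b, hb⟩ := h 𝔪 hmax a
    have h1 : a = algebraMap B A b + (a - algebraMap B A b) := by ring
    rw [h1]
    refine Submodule.add_mem_sup ⟨b, rfl⟩ ?_
    rw [Ideal.smul_top_eq_map]
    exact hb
  obtain ⟨r, hr1, hr2⟩ := Submodule.exists_sub_one_mem_and_smul_le_of_fg_of_le_sup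
    (I := 𝔪) (N := N) (N' := ⊤) (P := ⊤) Module.Finite.fg_top le_rfl hsup
  have hrI : r ∈ I := by
    rw [hI, Submodule.mem_colon]
    intro p _
    exact hr2 (Submodule.smul_mem_pointwise_smul p r ⊤ trivial)
  have h1 : (1 : B) ∈ 𝔪 := by
    have : (1 : B) = r - (r - 1) := by ring
    rw [this]
    exact 𝔪.sub_mem (hle hrI) hr1
  exact hmax.ne_top ((Ideal.eq_top_iff_one _).2 h1)

/-- if `𝔫` is the only maximal ideal above `I` and `𝔫 = I` after localising at `𝔫`, then `𝔫 ≤ I` -/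
theorem le_of_unique_maximal {A : Type*} [CommRing A] (I 𝔫 : Ideal A) [𝔫.IsMaximal]
    (huniq : ∀ 𝔫' : Ideal A, 𝔫'.IsMaximal → I ≤ 𝔫' → 𝔫' = 𝔫)
    (S : Type*) [CommRing S] [Algebra A S] [IsLocalization.AtPrime S 𝔫]
    (hloc : ∀ x ∈ 𝔫, algebraMap A S x ∈ Ideal.map (algebraMap A S) I) :
    𝔫 ≤ I := by
  intro x hx
  by_contra hxI
  have h1 := hloc x hx
  rw [IsLocalization.mem_map_algebraMap_iff 𝔫.primeCompl S] at h1
  obtain ⟨⟨i, s⟩, h2⟩ := h1
  rw [← map_mul, IsLocalization.eq_iff_exists 𝔫.primeCompl S] at h2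
  obtain ⟨t, ht⟩ := h2
  -- (t s) x ∈ I
  have h3 : (t : A) * (s : A) * x ∈ I := by
    have : (t : A) * (s : A) * x = t * (x * s) := by ring
    rw [this, ht]
    exact I.mul_mem_left _ i.2
  set J : Ideal A := I.colon (Ideal.span {x}) with hJ
  have hJne : J ≠ ⊤ := by
    intro htop
    have h4 : (1 : A) ∈ J := by rw [htop]; trivial
    rw [hJ, Submodule.mem_colon] at h4
    have := h4 x (Ideal.subset_span rfl)
    rw [smul_eq_mul, one_mul] at this
    exact hxI this
  obtain ⟨𝔫', hmax, hle⟩ := Ideal.exists_le_maximal J hJne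
  have hIJ : I ≤ J := by
    intro b hb
    rw [hJ, Submodule.mem_colon]
    intro p _
    exact I.mul_mem_right _ hb
  have h5 := huniq 𝔫' hmax (hIJ.trans hle)
  have h6 : (t : A) * (s : A) ∈ J := by
    rw [hJ, Submodule.mem_colon]
    intro p hp
    obtain ⟨c, rfl⟩ := Ideal.mem_span_singleton'.1 hp
    have : ((t : A) * (s : A)) • (c * x) = c * ((t : A) * (s : A) * x) := by
      rw [smul_eq_mul]; ring
    rw [this]
    exact I.mul_mem_left _ h3
  have h7 : (t : A) * (s : A) ∈ 𝔫 := h5.le (hle h6)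
  rcases (Ideal.IsMaximal.isPrime ‹_›).mem_or_mem h7 with h | h
  · exact t.2 h
  · exact s.2 h

/-- the residue field at a maximal ideal of a finitely generated algebra over an algebraically
closed field is the ground field -/
theorem exists_sub_algebraMap_mem {k A : Type*} [Field k] [IsAlgClosed k] [CommRing A] [Algebra k A]
    [Algebra.FiniteType k A] (𝔫 : Ideal A) [𝔫.IsMaximal] (a : A) :
    ∃ c : k, a - algebraMap k A c ∈ 𝔫 := by
  letI : Field (A ⧸ 𝔫) := Ideal.Quotient.field 𝔫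
  haveI : Algebra.FiniteType k (A ⧸ 𝔫) :=
    Algebra.FiniteType.of_surjective (Ideal.Quotient.mkₐ k 𝔫) (Ideal.Quotient.mkₐ_surjective k 𝔫)
  haveI : Module.Finite k (A ⧸ 𝔫) := finite_of_finite_type_of_isJacobsonRing k (A ⧸ 𝔫)
  haveI : Algebra.IsIntegral k (A ⧸ 𝔫) := Algebra.IsIntegral.of_finite k (A ⧸ 𝔫)
  obtain ⟨c, hc⟩ := (IsAlgClosed.algebraMap_bijective_of_isIntegral (k := k) (K := A ⧸ 𝔫)).2
    (Ideal.Quotient.mk 𝔫 a)
  refine ⟨c, ?_⟩
  rw [← Ideal.Quotient.eq_zero_iff_mem, map_sub, ← hc, sub_eq_zero]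
  rfl

/-- the chart lemma: a finite map of finitely generated algebras over an algebraically closed field
which is injective on maximal ideals and unramified at them is surjective -/
theorem chart_surjective {k G A : Type*} [Field k] [IsAlgClosed k] [CommRing G] [CommRing A]
    [Algebra k G] [Algebra k A] [Algebra.FiniteType k A] (φ : G →+* A)
    (hφk : ∀ c : k, φ (algebraMap k G c) = algebraMap k A c)
    (hfin : φ.Finite)
    (H : ∀ (𝔫 : Ideal A) [𝔫.IsMaximal],
        (∀ 𝔫' : Ideal A, 𝔫'.IsMaximal → Ideal.map φ (Ideal.comap φ 𝔫) ≤ 𝔫' → 𝔫' = 𝔫) ∧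
        ∃ (S : Type u) (_ : CommRing S) (_ : Algebra A S), IsLocalization.AtPrime S 𝔫 ∧
          ∀ x ∈ 𝔫, algebraMap A S x ∈ Ideal.map (algebraMap A S) (Ideal.map φ (Ideal.comap φ 𝔫))) :
    Function.Surjective φ := by
  apply surjective_of_forall_maximal φ hfin
  intro 𝔪 hmax a
  by_cases hmap : Ideal.map φ 𝔪 = ⊤
  · exact ⟨0, by rw [hmap]; trivial⟩
  obtain ⟨𝔫, hnmax, hle⟩ := Ideal.exists_le_maximal _ hmap
  haveI := hnmax
  have h1 : 𝔪 ≤ Ideal.comap φ 𝔫 := Ideal.map_le_iff_le_comap.1 hle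
  have h2 : 𝔪 = Ideal.comap φ 𝔫 :=
    hmax.eq_of_le (Ideal.comap_ne_top φ hnmax.ne_top) h1
  obtain ⟨huniq, S, _, _, hS, hloc⟩ := H 𝔫
  rw [← h2] at huniq hloc
  have h3 : 𝔫 ≤ Ideal.map φ 𝔪 := le_of_unique_maximal (Ideal.map φ 𝔪) 𝔫 huniq S hloc
  obtain ⟨c, hc⟩ := exists_sub_algebraMap_mem (k := k) 𝔫 a
  refine ⟨algebraMap k G c, ?_⟩
  rw [hφk]
  exact h3 hc

section FreeRk1

variable {R M : Type*} [CommRing R] [AddCommGroup M] [Module R M] (e : M)

theorem smul_top_eq_map (hsurj : ∀ t : M, ∃ a : R, t = a • e) (I : Ideal R) :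
    (I • ⊤ : Submodule R M) = Submodule.map (LinearMap.toSpanSingleton R M e) I := by
  have h1 : Submodule.map (LinearMap.toSpanSingleton R M e) (⊤ : Ideal R) = ⊤ := by
    rw [Submodule.map_top, LinearMap.range_eq_top]
    intro t
    obtain ⟨a, ha⟩ := hsurj t
    exact ⟨a, ha.symm⟩
  have h2 : (I • (⊤ : Ideal R) : Submodule R R) = I := by
    rw [smul_eq_mul, Ideal.mul_top]
  conv_rhs => rw [← h2]
  rw [Submodule.map_smul'', h1]

theorem toSpanSingleton_injective (hinj : ∀ a : R, a • e = 0 → a = 0) :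
    Function.Injective (LinearMap.toSpanSingleton R M e) := by
  rw [← LinearMap.ker_eq_bot, LinearMap.ker_eq_bot']
  intro a ha
  exact hinj a ha

theorem smul_mem_smul_top_iff (hsurj : ∀ t : M, ∃ a : R, t = a • e)
    (hinj : ∀ a : R, a • e = 0 → a = 0) (I : Ideal R) (a : R) :
    a • e ∈ (I • ⊤ : Submodule R M) ↔ a ∈ I := by
  rw [smul_top_eq_map e hsurj]
  constructor
  · rintro ⟨b, hb, hbe⟩
    have : b = a := toSpanSingleton_injective e hinj hbe
    rw [← this]; exact hb
  · intro ha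
    exact ⟨a, ha, rfl⟩

theorem sep_tangent_iff (hsurj : ∀ t : M, ∃ a : R, t = a • e)
    (hinj : ∀ a : R, a • e = 0 → a = 0) {ι : Type*} (u : ι → R) (I J K : Ideal R) :
    (I • ⊤ : Submodule R M) ≤
        Submodule.span R {v | ∃ c, v = u c • e ∧ v ∈ (K • ⊤ : Submodule R M)} ⊔ J • ⊤ ↔
      I ≤ Ideal.span {a | ∃ c, a = u c ∧ a ∈ K} ⊔ J := by
  have hset : {v | ∃ c, v = u c • e ∧ v ∈ (K • ⊤ : Submodule R M)} =
      (LinearMap.toSpanSingleton R M e) '' {a | ∃ c, a = u c ∧ a ∈ K} := by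
    ext v
    constructor
    · rintro ⟨c, rfl, hv⟩
      exact ⟨u c, ⟨c, rfl, (smul_mem_smul_top_iff e hsurj hinj K (u c)).1 hv⟩, rfl⟩
    · rintro ⟨a, ⟨c, rfl, ha⟩, rfl⟩
      exact ⟨c, rfl, (smul_mem_smul_top_iff e hsurj hinj K (u c)).2 ha⟩
  rw [hset, smul_top_eq_map e hsurj I, smul_top_eq_map e hsurj J, ← Submodule.map_span,
    ← Submodule.map_sup]
  exact Submodule.map_le_map_iff_of_injective (toSpanSingleton_injective e hinj) _ _

end FreeRk1

/-- Nakayama: in a noetherian local ring, `m ≤ I + m²` implies `m ≤ I` -/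
theorem maximalIdeal_le_of_le_sup_sq {R : Type*} [CommRing R] [IsLocalRing R] [IsNoetherianRing R]
    (I : Ideal R) (h : IsLocalRing.maximalIdeal R ≤ I ⊔ IsLocalRing.maximalIdeal R ^ 2) :
    IsLocalRing.maximalIdeal R ≤ I := by
  refine Submodule.le_of_le_smul_of_le_jacobson_bot (I := IsLocalRing.maximalIdeal R)
    (IsNoetherian.noetherian _) ?_ ?_
  · rw [IsLocalRing.jacobson_eq_maximalIdeal ⊥ bot_ne_top]
  · rw [smul_eq_mul, ← pow_two]
    exact h

section RatPt

variable {k G : Type*} [Field k] [IsAlgClosed k] [CommRing G] [Algebra k G] {ι : Type*} [Finite ι]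
  (g : ι → G) (hgen : Algebra.adjoin k (Set.range g) = ⊤)

omit [IsAlgClosed k] in
include hgen in
theorem finiteType_of_adjoin : Algebra.FiniteType k G := by
  refine ⟨⟨(Set.finite_range g).toFinset, ?_⟩⟩
  rw [Set.Finite.coe_toFinset]
  exact hgen

include hgen in
/-- maximal ideals of an algebra generated by `g i` over an algebraically closed field are
of the form `(g i - a i)` -/
theorem maximal_eq_span (𝔪 : Ideal G) [𝔪.IsMaximal] :
    ∃ a : ι → k, (∀ i, g i - algebraMap k G (a i) ∈ 𝔪) ∧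
      𝔪 = Ideal.span (Set.range fun i => g i - algebraMap k G (a i)) := by
  haveI := finiteType_of_adjoin g hgen
  choose a ha using fun i => exists_sub_algebraMap_mem (k := k) 𝔪 (g i)
  refine ⟨a, ha, ?_⟩
  set J : Ideal G := Ideal.span (Set.range fun i => g i - algebraMap k G (a i)) with hJ
  have hJle : J ≤ 𝔪 := by
    rw [hJ, Ideal.span_le]
    rintro _ ⟨i, rfl⟩
    exact ha i
  have hall : ∀ x : G, ∃ c : k, x - algebraMap k G c ∈ J := by
    intro x
    have hx : x ∈ Algebra.adjoin k (Set.range g) := by rw [hgen]; trivial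
    induction hx using Algebra.adjoin_induction with
    | mem x hx =>
      obtain ⟨i, rfl⟩ := hx
      exact ⟨a i, Ideal.subset_span ⟨i, rfl⟩⟩
    | algebraMap c => exact ⟨c, by rw [sub_self]; exact J.zero_mem⟩
    | add x y _ _ hx hy =>
      obtain ⟨c, hc⟩ := hx
      obtain ⟨d, hd⟩ := hy
      refine ⟨c + d, ?_⟩
      have : x + y - algebraMap k G (c + d) = (x - algebraMap k G c) + (y - algebraMap k G d) := by
        rw [map_add]; ring
      rw [this]
      exact J.add_mem hc hd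
    | mul x y _ _ hx hy =>
      obtain ⟨c, hc⟩ := hx
      obtain ⟨d, hd⟩ := hy
      refine ⟨c * d, ?_⟩
      have : x * y - algebraMap k G (c * d) =
          (x - algebraMap k G c) * y + algebraMap k G c * (y - algebraMap k G d) := by
        rw [map_mul]; ring
      rw [this]
      exact J.add_mem (J.mul_mem_right _ hc) (J.mul_mem_left _ hd)
  apply le_antisymm _ hJle
  intro x hx
  obtain ⟨c, hc⟩ := hall x
  have h1 : algebraMap k G c ∈ 𝔪 := by
    have : algebraMap k G c = x - (x - algebraMap k G c) := by ring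
    rw [this]
    exact 𝔪.sub_mem hx (hJle hc)
  have h2 : c = 0 := by
    by_contra hne
    have hu : IsUnit (algebraMap k G c) := (IsUnit.mk0 c hne).map _
    exact (Ideal.IsMaximal.ne_top ‹_›) (Ideal.eq_top_of_isUnit_mem _ h1 hu)
  rw [h2, map_zero, sub_zero] at hc
  exact hc

end RatPt

end Groth.Agent.Lib.Helper19.ClImmA
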