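import Mathlib

set_option autoImplicit false
set_option linter.unusedVariables false
set_option linter.style.haveILetI false
universe u

namespace Groth.Agent.Lib.Helper19.ProjBertR

/-- the quotient of a localisation of `A` at `𝔪` by an element of `𝔪` is regular when the
quotient of `A` is a regular ring -/
theorem regular_quotient_of_isLocalization {A : Type u} [CommRing A] (𝔪 : Ideal A) [𝔪.IsPrime]
    (S : Type u) [CommRing S] [Algebra A S] [IsLocalization.AtPrime S 𝔪] (φ : A) (hφ : φ ∈ 𝔪)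
    [IsRegularRing (A ⧸ Ideal.span {φ})] :
    IsRegularLocalRing (S ⧸ Ideal.span {algebraMap A S φ}) := by
  set I : Ideal A := Ideal.span {φ} with hI
  have hI𝔪 : I ≤ 𝔪 := (Ideal.span_singleton_le_iff_mem _).2 hφ
  let 𝔫 : Ideal (A ⧸ I) := 𝔪.map (Ideal.Quotient.mk I)
  haveI h𝔫 : 𝔫.IsPrime := by
    apply Ideal.map_isPrime_of_surjective Ideal.Quotient.mk_surjective
    rw [Ideal.mk_ker]
    exact hI𝔪
  have hcomap : 𝔫.comap (Ideal.Quotient.mk I) = 𝔪 := by
    rw [Ideal.comap_map_of_surjective _ Ideal.Quotient.mk_surjective, ← RingHom.ker_eq_comap_bot,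
      Ideal.mk_ker, sup_eq_left.2 hI𝔪]
  have hsub : Algebra.algebraMapSubmonoid (A ⧸ I) 𝔪.primeCompl = 𝔫.primeCompl := by
    ext y
    constructor
    · rintro ⟨a, ha, rfl⟩ hmem
      apply ha
      rw [← hcomap]
      exact hmem
    · intro hy
      obtain ⟨a, rfl⟩ := Ideal.Quotient.mk_surjective y
      refine ⟨a, ?_, rfl⟩
      intro ha
      exact hy (Ideal.mem_map_of_mem _ ha)
  haveI : IsLocalization.AtPrime (S ⧸ I.map (algebraMap A S)) 𝔫 := by
    change IsLocalization 𝔫.primeCompl _
    rw [← hsub]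
    infer_instance
  let e1 : Localization.AtPrime 𝔫 ≃+* (S ⧸ I.map (algebraMap A S)) :=
    (IsLocalization.algEquiv 𝔫.primeCompl (Localization.AtPrime 𝔫)
      (S ⧸ I.map (algebraMap A S))).toRingEquiv
  have hreg1 : IsRegularLocalRing (S ⧸ I.map (algebraMap A S)) :=
    IsRegularLocalRing.of_ringEquiv e1
  have hmap : I.map (algebraMap A S) = Ideal.span {algebraMap A S φ} := by
    rw [hI, Ideal.map_span, Set.image_singleton]
  exact IsRegularLocalRing.of_ringEquiv (Ideal.quotEquivOfEq hmap)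

end Groth.Agent.Lib.Helper19.ProjBertR
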