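import Groth.Agent.Lib.helper19.ProjBertB
import Groth.Agent.Lib.helper19.ProjBertR
import Groth.Agent.Lib.helper19.JetsCore2
import Groth.Agent.Lib.Helper5.RegSmooth

set_option autoImplicit false
set_option linter.unusedVariables false
set_option linter.style.haveILetI false
universe u

namespace Groth.Agent.Lib.Helper19.ProjBertC

open CategoryTheory AlgebraicGeometry MvPolynomial HomogeneousLocalization KaehlerDifferential
open Groth.Agent.Lib.Helper28.ProjClosed Groth.Agent.Lib.Helper19.ProjBertA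
  Groth.Agent.Lib.Helper19.ProjBertB

variable {k : Type u} [Field k] {n : ℕ} {Z : Scheme.{u}}

/-- a form of degree one is the sum of its monomials -/
theorem eq_sum_of_mem_one (h : (MvPolynomial (Fin (n + 1)) k)) (hh : h ∈ (CohB1.polyGrading n k) 1) :
    h = ∑ i, coeff (Finsupp.single i 1) h • (X i : (MvPolynomial (Fin (n + 1)) k)) := by
  classical
  ext m
  rw [coeff_sum]
  simp only [coeff_smul, coeff_X', smul_eq_mul, mul_ite, mul_one, mul_zero]
  by_cases hm : ∃ i, m = Finsupp.single i 1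
  · obtain ⟨i₀, rfl⟩ := hm
    rw [Finset.sum_eq_single i₀]
    · rw [if_pos rfl]
    · intro b _ hb
      rw [if_neg]
      intro heq
      exact hb ((Finsupp.single_left_inj one_ne_zero).1 heq)
    · intro h0
      exact absurd (Finset.mem_univ i₀) h0
  · have h0 : coeff m h = 0 := by
      by_contra hne
      have h1 : Finsupp.weight (1 : Fin (n + 1) → ℕ) m = 1 := hh hne
      have h2 : m.degree = 1 := by
        rw [Finsupp.degree_eq_weight_one]
        exact h1
      have h3 : m ∈ {d : Fin (n + 1) →₀ ℕ | d.degree = 1} := h2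
      rw [← Finsupp.range_single_one] at h3
      obtain ⟨a, ha⟩ := h3
      exact hm ⟨a, ha.symm⟩
    rw [h0]
    symm
    apply Finset.sum_eq_zero
    intro i _
    rw [if_neg]
    intro heq
    exact hm ⟨i, heq.symm⟩

theorem π_eq_sum (ι : Z ⟶ Proj (CohB1.polyGrading n k)) (j : Fin (n + 1)) (h : (MvPolynomial (Fin (n + 1)) k)) (hh : h ∈ (CohB1.polyGrading n k) 1) :
    letI := algK ι j
    π ι j h = ∑ i, coeff (Finsupp.single i 1) h • π ι j (X i) := by
  letI := algK ι j
  conv_lhs => rw [eq_sum_of_mem_one h hh]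
  rw [map_sum]
  refine Finset.sum_congr rfl fun i _ => ?_
  rw [MvPolynomial.smul_eq_C_mul, map_mul, Algebra.smul_def]
  rfl

/-- a form of degree one vanishing at `x` gives a function in the prime of `x` -/
theorem mem_prime_of_mem (ι : Z ⟶ Proj (CohB1.polyGrading n k)) [IsClosedImmersion ι] (j : Fin (n + 1)) (x : Z)
    (hj : (X j : (MvPolynomial (Fin (n + 1)) k)) ∉ (ι.base x).asHomogeneousIdeal) (h : (MvPolynomial (Fin (n + 1)) k)) (hh : h ∈ (CohB1.polyGrading n k) 1)
    (hx : h ∈ (ι.base x).asHomogeneousIdeal) :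
    π ι j h ∈ ((isAffineOpen_W ι j).primeIdealOf ⟨x, hj⟩).asIdeal := by
  by_contra hnot
  have hW := isAffineOpen_W ι j
  letI := Z.presheaf.algebra_section_stalk (⟨x, hj⟩ : W ι j)
  haveI : IsLocalization.AtPrime (Z.presheaf.stalk x) (hW.primeIdealOf ⟨x, hj⟩).asIdeal :=
    hW.isLocalization_stalk ⟨x, hj⟩
  have hu : IsUnit (algebraMap Γ(Z, W ι j) (Z.presheaf.stalk x) (π ι j h)) :=
    IsLocalization.map_units (Z.presheaf.stalk x)
      (⟨π ι j h, hnot⟩ : (hW.primeIdealOf ⟨x, hj⟩).asIdeal.primeCompl)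
  have hu1 : IsUnit (Z.presheaf.germ (W ι j) x hj (π ι j h)) := hu
  rw [germ_π ι j x hj h hh] at hu1
  have hu2 := isUnit_of_map_unit (ι.stalkMap x).hom _ hu1
  have hu3 : IsUnit (HomogeneousLocalization.mk
      (⟨1, ⟨h, hh⟩, ⟨X j, hX k n j⟩, hj⟩ : HomogeneousLocalization.NumDenSameDeg (CohB1.polyGrading n k)
        (ι.base x).asHomogeneousIdeal.toIdeal.primeCompl)) := by
    exact (isUnit_map_iff (Proj.stalkIso' (CohB1.polyGrading n k) (ι.base x)).symm _).1 hu2
  have hu4 := (HomogeneousLocalization.isUnit_iff_isUnit_val _ _ _).2 hu3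
  rw [HomogeneousLocalization.val_mk, Localization.mk_eq_mk',
    IsLocalization.AtPrime.isUnit_mk'_iff] at hu4
  exact hu4 hx

theorem regular_chart (ι : Z ⟶ Proj (CohB1.polyGrading n k)) [IsClosedImmersion ι] (j : Fin (n + 1)) (x : Z)
    (hj : (X j : (MvPolynomial (Fin (n + 1)) k)) ∉ (ι.base x).asHomogeneousIdeal) (h : (MvPolynomial (Fin (n + 1)) k)) (hh : h ∈ (CohB1.polyGrading n k) 1)
    (hx : h ∈ (ι.base x).asHomogeneousIdeal)
    (hsm : IsRegularRing (Γ(Z, W ι j) ⧸ Ideal.span {π ι j h})) :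
    IsRegularLocalRing (Z.presheaf.stalk x ⧸ Ideal.span
      {(ι.stalkMap x).hom ((Proj.stalkIso' (CohB1.polyGrading n k) (ι.base x)).symm
        (HomogeneousLocalization.mk ⟨1, ⟨h, hh⟩, ⟨X j, hX k n j⟩, hj⟩))}) := by
  rw [← germ_π ι j x hj h hh]
  have hW := isAffineOpen_W ι j
  letI := Z.presheaf.algebra_section_stalk (⟨x, hj⟩ : W ι j)
  haveI : IsLocalization.AtPrime (Z.presheaf.stalk x) (hW.primeIdealOf ⟨x, hj⟩).asIdeal :=
    hW.isLocalization_stalk ⟨x, hj⟩
  exact Groth.Agent.Lib.Helper19.ProjBertR.regular_quotient_of_isLocalization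
    (hW.primeIdealOf ⟨x, hj⟩).asIdeal (Z.presheaf.stalk x) (π ι j h)
    (mem_prime_of_mem ι j x hj h hh hx)

/-- a linear polynomial vanishing on the coefficient vectors of the linear forms in an ideal not
containing some variable -/
theorem exists_linear (I : Ideal (MvPolynomial (Fin (n + 1)) k)) (j₀ : Fin (n + 1)) (hj₀ : (X j₀ : (MvPolynomial (Fin (n + 1)) k)) ∉ I) :
    ∃ ℓ : (MvPolynomial (Fin (n + 1)) k), ℓ ≠ 0 ∧ ∀ h ∈ (CohB1.polyGrading n k) 1, h ∈ I →
      MvPolynomial.eval (fun i => coeff (Finsupp.single i 1) h) ℓ = 0 := by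
  classical
  let L : (Fin (n + 1) → k) →ₗ[k] (MvPolynomial (Fin (n + 1)) k) := Fintype.linearCombination k (X : Fin (n + 1) → (MvPolynomial (Fin (n + 1)) k))
  have hL : ∀ a, L a = ∑ i, a i • (X i : (MvPolynomial (Fin (n + 1)) k)) := fun a => Fintype.linearCombination_apply k _ a
  let V : Submodule k (Fin (n + 1) → k) := Submodule.comap L (I.restrictScalars k)
  have hV : V < ⊤ := by
    rw [lt_top_iff_ne_top]
    intro htop
    have h1 : (Pi.single j₀ 1 : Fin (n + 1) → k) ∈ V := htop ▸ Submodule.mem_top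
    have h2 : L (Pi.single j₀ 1) = X j₀ := by
      rw [hL, Finset.sum_eq_single j₀ (fun b _ hb => by rw [Pi.single_eq_of_ne hb, zero_smul])
        (fun h => absurd (Finset.mem_univ j₀) h), Pi.single_eq_same, one_smul]
    apply hj₀
    rw [← h2]
    exact h1
  obtain ⟨f, hf0, hf⟩ := Submodule.exists_dual_map_eq_bot_of_lt_top hV inferInstance
  let ℓ : (MvPolynomial (Fin (n + 1)) k) := ∑ i, C (f (fun j => if i = j then 1 else 0)) * X i
  have hℓ : ∀ a : Fin (n + 1) → k, MvPolynomial.eval a ℓ = f a := by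
    intro a
    rw [LinearMap.pi_apply_eq_sum_univ f a]
    simp only [ℓ, map_sum, map_mul, eval_C, eval_X, smul_eq_mul]
    refine Finset.sum_congr rfl fun i _ => ?_
    ring
  refine ⟨ℓ, ?_, ?_⟩
  · intro h0
    apply hf0
    apply LinearMap.ext
    intro a
    rw [← hℓ a, h0, map_zero]
    rfl
  · intro h hh hI
    rw [hℓ]
    have h1 : (fun i => coeff (Finsupp.single i 1) h) ∈ V := by
      change L _ ∈ I.restrictScalars k
      rw [hL, ← eq_sum_of_mem_one h hh]
      exact hI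
    have h2 : f (fun i => coeff (Finsupp.single i 1) h) ∈ V.map f := Submodule.mem_map_of_mem h1
    rw [hf] at h2
    exact (Submodule.mem_bot k).1 h2

theorem adjoin_X_eq_top :
    Algebra.adjoin ((CohB1.polyGrading n k) 0) (Set.range (X : Fin (n + 1) → (MvPolynomial (Fin (n + 1)) k))) = ⊤ := by
  rw [eq_top_iff]
  intro p hp
  clear hp
  induction p using MvPolynomial.induction_on with
  | C c =>
    have hc : (C c : (MvPolynomial (Fin (n + 1)) k)) ∈ (CohB1.polyGrading n k) 0 := MvPolynomial.isHomogeneous_C _ c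
    exact Subalgebra.algebraMap_mem _ (⟨C c, hc⟩ : (CohB1.polyGrading n k) 0)
  | add p q hp hq => exact Subalgebra.add_mem _ hp hq
  | mul_X p i hp => exact Subalgebra.mul_mem _ hp (Algebra.subset_adjoin ⟨i, rfl⟩)

theorem exists_chart (y : Proj (CohB1.polyGrading n k)) : ∃ j : Fin (n + 1), (X j : (MvPolynomial (Fin (n + 1)) k)) ∉ y.asHomogeneousIdeal := by
  have h1 := Proj.iSup_basicOpen_eq_top' (CohB1.polyGrading n k) (X : Fin (n + 1) → (MvPolynomial (Fin (n + 1)) k))
    (fun i => ⟨1, hX k n i⟩) adjoin_X_eq_top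
  have h2 : y ∈ (⊤ : (Proj (CohB1.polyGrading n k)).Opens) := trivial
  rw [← h1, TopologicalSpace.Opens.mem_iSup] at h2
  obtain ⟨j, hj⟩ := h2
  exact ⟨j, hj⟩

set_option maxHeartbeats 1600000 in
theorem main [PerfectField k] [Nonempty Z] (ι : Z ⟶ Proj (CohB1.polyGrading n k)) [IsClosedImmersion ι]
    (hreg : ∀ x : Z, IsRegularLocalRing (Z.presheaf.stalk x)) :
    ∃ g : (MvPolynomial (Fin (n + 1)) k), g ≠ 0 ∧ ∀ (h : (MvPolynomial (Fin (n + 1)) k)) (hh : h ∈ (CohB1.polyGrading n k) 1),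
      MvPolynomial.eval (fun i => coeff (Finsupp.single i 1) h) g ≠ 0 →
        (∃ x : Z, h ∉ (ι.base x).asHomogeneousIdeal) ∧
        ∀ x : Z, h ∈ (ι.base x).asHomogeneousIdeal →
          ∀ (j : Fin (n + 1)) (hj : (X j : (MvPolynomial (Fin (n + 1)) k)) ∉ (ι.base x).asHomogeneousIdeal),
            IsRegularLocalRing (Z.presheaf.stalk x ⧸ Ideal.span
              {(ι.stalkMap x).hom ((Proj.stalkIso' (CohB1.polyGrading n k) (ι.base x)).symm
                (HomogeneousLocalization.mk ⟨1, ⟨h, hh⟩, ⟨X j, hX k n j⟩, hj⟩))}) := by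
  classical
  have H : ∀ j : Fin (n + 1), ∃ p : (MvPolynomial (Fin (n + 1)) k), p ≠ 0 ∧ ∀ (h : (MvPolynomial (Fin (n + 1)) k)) (hh : h ∈ (CohB1.polyGrading n k) 1),
      MvPolynomial.eval (fun i => coeff (Finsupp.single i 1) h) p ≠ 0 →
        IsRegularRing (Γ(Z, W ι j) ⧸ Ideal.span {π ι j h}) := by
    intro j
    letI := algK ι j
    haveI := smooth ι hreg j
    obtain ⟨p, hp0, hp⟩ := Groth.Agent.Lib.Helper19.JetsCore2.exists_poly_of_surj k
      (0 : Γ(Z, W ι j)) (fun i => π ι j (X i)) (surj ι j)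
    refine ⟨p, hp0, fun h hh hc => ?_⟩
    have hsm := hp _ hc
    rw [zero_add, ← π_eq_sum ι j h hh] at hsm
    haveI := hsm
    exact Groth.Agent.Lib.Helper5.RegSmooth.isRegularRing_of_smooth k _
  choose p hp0 hp using H
  obtain ⟨x₀⟩ := ‹Nonempty Z›
  obtain ⟨j₀, hj₀⟩ := exists_chart (ι.base x₀)
  obtain ⟨ℓ, hℓ0, hℓ⟩ := exists_linear (ι.base x₀).asHomogeneousIdeal.toIdeal j₀ hj₀
  refine ⟨ℓ * ∏ j, p j, mul_ne_zero hℓ0 (Finset.prod_ne_zero_iff.2 fun j _ => hp0 j), ?_⟩
  intro h hh hg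
  rw [map_mul, map_prod, mul_ne_zero_iff, Finset.prod_ne_zero_iff] at hg
  refine ⟨⟨x₀, fun hmem => hg.1 (hℓ h hh hmem)⟩, ?_⟩
  intro x hx j hj
  exact regular_chart ι j x hj h hh hx (hp j h hh (hg.2 j (Finset.mem_univ j)))

end Groth.Agent.Lib.Helper19.ProjBertC
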