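import Groth.Agent.Lib.Helper28.ProjUPUniq2
import Groth.Agent.Lib.helper19.ProjBertC
import Groth.Agent.Lib.helper19.ClImmA

set_option autoImplicit false
set_option linter.unusedVariables false
set_option linter.style.haveILetI false
universe u

namespace Groth.Agent.Lib.Helper19.ClImmB

open CategoryTheory AlgebraicGeometry MvPolynomial HomogeneousLocalization Opposite TopologicalSpace
open Groth.Agent.Lib.Helper28 Groth.Agent.Lib.Helper28.QCohLoc Groth.Agent.Lib.Helper28.GenLocus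
  Groth.Agent.Lib.Helper28.PullbackInv Groth.Agent.Lib.Helper28.ProjUPGeom

section general

variable {R A : Type u} [CommRing R] [CommRing A] [Algebra R A] (𝒜 : ℕ → Submodule R A) [GradedAlgebra 𝒜]

/-- the germ of `a / f` at `y ∈ D₊(f)` is a unit iff `a ∉ 𝔭_y` -/
theorem isUnit_germ_fr_iff {f : A} (hf : f ∈ 𝒜 1) (a : A) (ha : a ∈ 𝒜 1) (y : Proj 𝒜)
    (hy : y ∈ Proj.basicOpen 𝒜 f) :
    IsUnit ((Proj 𝒜).presheaf.germ (Proj.basicOpen 𝒜 f) y hy (ProjFrac.fr 𝒜 hf 1 a ha)) ↔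
      a ∉ y.asHomogeneousIdeal := by
  have h1 : Proj.stalkIso' 𝒜 y ((Proj 𝒜).presheaf.germ (Proj.basicOpen 𝒜 f) y hy
      (ProjFrac.fr 𝒜 hf 1 a ha)) = GrTildeQC.valO 𝒜 (ProjFrac.fr 𝒜 hf 1 a ha) ⟨y, hy⟩ :=
    Proj.stalkIso'_germ (𝒜 := 𝒜) (Proj.basicOpen 𝒜 f) y hy (ProjFrac.fr 𝒜 hf 1 a ha)
  have key : IsUnit ((Proj 𝒜).presheaf.germ (Proj.basicOpen 𝒜 f) y hy (ProjFrac.fr 𝒜 hf 1 a ha)) ↔
      IsUnit (GrTildeQC.valO 𝒜 (ProjFrac.fr 𝒜 hf 1 a ha) ⟨y, hy⟩) := by
    constructor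
    · intro hu
      rw [← h1]
      exact hu.map (Proj.stalkIso' 𝒜 y)
    · intro hu
      rw [← h1] at hu
      exact (isUnit_map_iff (Proj.stalkIso' 𝒜 y) _).1 hu
  rw [key, ← HomogeneousLocalization.isUnit_iff_isUnit_val,
    ProjFrac.val_fr, Localization.mk_eq_mk', IsLocalization.AtPrime.isUnit_mk'_iff]
  rfl

end general

section generator

variable {X : Scheme.{u}}

/-- a local generator generates the stalk -/
theorem stalk_eq_smul_gen {L : X.Modules} {W : X.Opens} {g : Γ(L, W)} (hg : IsGen L W g) (x : X)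
    (hx : x ∈ W) (t : L.presheaf.stalk x) :
    ∃ a : X.presheaf.stalk x, t = a • L.presheaf.germ W x hx g := by
  obtain ⟨U, hxU, s, rfl⟩ := TopCat.Presheaf.exists_germ_eq L.presheaf t
  have hxUW : x ∈ U ⊓ W := ⟨hxU, hx⟩
  obtain ⟨c, hc⟩ := (hg (U ⊓ W) inf_le_right).2 (res L (inf_le_left : U ⊓ W ≤ U) s)
  refine ⟨X.presheaf.germ (U ⊓ W) x hxUW c, ?_⟩
  have h1 : L.presheaf.germ U x hxU s = L.presheaf.germ (U ⊓ W) x hxUW (res L inf_le_left s) :=
    (germ_res_L L x inf_le_left hxUW s).symm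
  have h2 : L.presheaf.germ W x hx g = L.presheaf.germ (U ⊓ W) x hxUW (res L inf_le_right g) :=
    (germ_res_L L x inf_le_right hxUW g).symm
  rw [h1, h2, ← germ_smul_L]
  exact congrArg _ hc.symm

theorem res_sum (M : X.Modules) {U V : X.Opens} (h : V ≤ U) {ι : Type*} (s : Finset ι)
    (x : ι → Γ(M, U)) : res M h (∑ i ∈ s, x i) = ∑ i ∈ s, res M h (x i) :=
  map_sum _ _ _

end generator

section poly

variable {k : Type u} [Field k] {n : ℕ}

local notation "𝒮" => CohB1.polyGrading n k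

theorem hX (j : Fin (n + 1)) : (X j : MvPolynomial (Fin (n + 1)) k) ∈ (CohB1.polyGrading n k) 1 :=
  Groth.Agent.Lib.Helper19.ProjBertA.hX k n j

/-- the linear form with coefficients `c` -/
noncomputable def lin (c : Fin (n + 1) → k) : MvPolynomial (Fin (n + 1)) k := ∑ i, C (c i) * X i

theorem C_mul_X_mem (a : k) (i : Fin (n + 1)) :
    (C a * X i : MvPolynomial (Fin (n + 1)) k) ∈ (CohB1.polyGrading n k) 1 := by
  have h0 : (C a : MvPolynomial (Fin (n + 1)) k) ∈ (CohB1.polyGrading n k) 0 :=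
    MvPolynomial.isHomogeneous_C _ a
  have := SetLike.mul_mem_graded h0 (hX (k := k) i)
  rwa [zero_add] at this

theorem lin_mem (c : Fin (n + 1) → k) : lin c ∈ (CohB1.polyGrading n k) 1 :=
  Submodule.sum_mem _ fun i _ => C_mul_X_mem (c i) i

/-- the function `ℓ_c / X_j` on `D₊(X_j)` -/
noncomputable def frs (j : Fin (n + 1)) (c : Fin (n + 1) → k) :
    Γ(Proj 𝒮, Proj.basicOpen 𝒮 (X j : MvPolynomial (Fin (n + 1)) k)) :=
  ProjFrac.fr 𝒮 (hX j) 1 (lin c) (lin_mem c)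

theorem awayToSection_fr (j : Fin (n + 1)) (a : MvPolynomial (Fin (n + 1)) k) (ha : a ∈ 𝒮 1) :
    (Proj.awayToSection 𝒮 (X j : MvPolynomial (Fin (n + 1)) k)).hom (ProjClosed.fr 𝒮 (hX j) 1 a) =
      ProjFrac.fr 𝒮 (hX j) 1 a ha := by
  rw [ProjClosed.fr_of_mem 𝒮 (hX j) ha]
  rfl

theorem fr_lin (j : Fin (n + 1)) (c : Fin (n + 1) → k) :
    ProjClosed.fr 𝒮 (hX j) 1 (lin c) =
      ∑ i, algebraMap k (Away 𝒮 (X j : MvPolynomial (Fin (n + 1)) k)) (c i) *
        ProjClosed.fr 𝒮 (hX j) 1 (X i) := by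
  unfold lin
  rw [Segre5.fr_sum]
  refine Finset.sum_congr rfl fun i _ => ?_
  have h0 : (C (c i) : MvPolynomial (Fin (n + 1)) k) ∈ (CohB1.polyGrading n k) 0 :=
    MvPolynomial.isHomogeneous_C _ (c i)
  have h1 := ProjClosed.fr_mul_of_mem 𝒮 (hX j) h0 (hX (k := k) i)
  rw [zero_add] at h1
  rw [h1]
  congr 1
  exact Segre5.fr_algebraMap 𝒮 (hX j) (c i)

theorem frs_eq_sum (j : Fin (n + 1)) (c : Fin (n + 1) → k) :
    frs j c = ∑ i, (Proj.awayToSection 𝒮 (X j : MvPolynomial (Fin (n + 1)) k)).hom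
        (algebraMap k (Away 𝒮 (X j : MvPolynomial (Fin (n + 1)) k)) (c i)) *
      ProjFrac.fr 𝒮 (hX j) 1 (X i) (hX i) := by
  unfold frs
  rw [← awayToSection_fr j (lin c) (lin_mem c), fr_lin, map_sum]
  refine Finset.sum_congr rfl fun i _ => ?_
  rw [map_mul, awayToSection_fr j (X i) (hX i)]

section scheme

variable {Z : Scheme.{u}} (f : Z ⟶ Proj (CohB1.polyGrading n k))
  (pX : Z ⟶ Spec (CommRingCat.of k)) (hf : f ≫ CohB1.ProjSpace.toSpec n k = pX)

/-- `f^* O(1)` -/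
noncomputable abbrev LL : Z.Modules := (Scheme.Modules.pullback f).obj (Twist.twist 𝒮 ((1 : ℕ) : ℤ))

/-- the chart `f⁻¹ D₊(X_j)` -/
noncomputable abbrev WW (j : Fin (n + 1)) : Z.Opens :=
  f ⁻¹ᵁ Proj.basicOpen 𝒮 (X j : MvPolynomial (Fin (n + 1)) k)

/-- the comorphism on the chart -/
noncomputable abbrev φφ (j : Fin (n + 1)) :
    Γ(Proj 𝒮, Proj.basicOpen 𝒮 (X j : MvPolynomial (Fin (n + 1)) k)) ⟶ Γ(Z, WW f j) :=
  f.appLE (Proj.basicOpen 𝒮 (X j : MvPolynomial (Fin (n + 1)) k)) (WW f j) le_rfl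

/-- the pulled back coordinate sections -/
noncomputable def sec (i : Fin (n + 1)) : Γ(LL f, ⊤) :=
  pbs f (Twist.twist 𝒮 ((1 : ℕ) : ℤ)) ⊤ (TwistGen.gsec 𝒮 (X i) (hX i))

/-- the generator of `f^*O(1)` on the chart -/
noncomputable def gen (j : Fin (n + 1)) : Γ(LL f, WW f j) :=
  res (LL f) (le_top : WW f j ≤ ⊤) (sec f j)

theorem isGen_gen (j : Fin (n + 1)) : IsGen (LL f) (WW f j) (gen f j) :=
  ProjUPUniq.isGen_pbs_gsec 𝒮 f (hX j) (WW f j) le_rfl

/-- the sections of `V` -/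
noncomputable def σ (c : Fin (n + 1) → k) : Γ(LL f, ⊤) :=
  ∑ i, (ProjUP.toGlobal pX (c i) • sec f i : Γ(LL f, ⊤))

include hf in
theorem res_toGlobal (j : Fin (n + 1)) (a : k) :
    resO (le_top : WW f j ≤ ⊤) (ProjUP.toGlobal pX a) =
      (φφ f j).hom ((Proj.awayToSection 𝒮 (X j : MvPolynomial (Fin (n + 1)) k)).hom
        (algebraMap k (Away 𝒮 (X j : MvPolynomial (Fin (n + 1)) k)) a)) := by
  have h1 := congrArg (fun ψ => ψ.hom a)
    (ProjUPUniq.algebraMap_comp_appLE 𝒮 f (hX j) (WW f j) le_rfl)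
  have h2 : (f ≫ Segre2.str 𝒮) = pX := hf
  have h3 : (f ≫ Segre2.str 𝒮).appLE ⊤ (WW f j) le_top = pX.appLE ⊤ (WW f j) le_top :=
    ProjUPUniq.appLE_congr_hom' h2 _ _ _ _
  rw [h3] at h1
  exact h1.symm

include hf in
theorem res_σ (j : Fin (n + 1)) (c : Fin (n + 1) → k) :
    res (LL f) (le_top : WW f j ≤ ⊤) (σ f pX c) =
      ((φφ f j).hom (frs j c) • gen f j : Γ(LL f, WW f j)) := by
  unfold σ
  rw [res_sum, frs_eq_sum, map_sum, Finset.sum_smul]
  refine Finset.sum_congr rfl fun i _ => ?_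
  rw [res_smul, res_toGlobal f pX hf j (c i), map_mul, mul_smul]
  congr 1
  exact ProjUPUniq.pbs_gsec_coef 𝒮 f (hX i) (hX j) (WW f j) le_rfl

include hf in
theorem germ_σ (j : Fin (n + 1)) (c : Fin (n + 1) → k) (P : Z) (hP : P ∈ WW f j) :
    ((LL f).presheaf.germ ⊤ P trivial).hom (σ f pX c) =
      Z.presheaf.germ (WW f j) P hP ((φφ f j).hom (frs j c)) •
        (LL f).presheaf.germ (WW f j) P hP (gen f j) := by
  rw [← germ_smul_L, ← res_σ f pX hf j c, germ_res_L]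

/-- the local function of `ℓ_c` at `P` -/
noncomputable def uu (j : Fin (n + 1)) (c : Fin (n + 1) → k) (P : Z) (hP : P ∈ WW f j) :
    Z.presheaf.stalk P :=
  Z.presheaf.germ (WW f j) P hP ((φφ f j).hom (frs j c))

theorem uu_eq_stalkMap (j : Fin (n + 1)) (c : Fin (n + 1) → k) (P : Z) (hP : P ∈ WW f j) :
    uu f j c P hP = (f.stalkMap P).hom ((Proj 𝒮).presheaf.germ
      (Proj.basicOpen 𝒮 (X j : MvPolynomial (Fin (n + 1)) k)) (f P) hP (frs j c)) := by
  unfold uu φφ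
  rw [Scheme.Hom.appLE_eq_app]
  exact (Scheme.Hom.germ_stalkMap_apply f _ P hP (frs j c)).symm

theorem uu_mem_iff (j : Fin (n + 1)) (c : Fin (n + 1) → k) (P : Z) (hP : P ∈ WW f j) :
    uu f j c P hP ∈ IsLocalRing.maximalIdeal (Z.presheaf.stalk P) ↔
      lin c ∈ (f P).asHomogeneousIdeal := by
  rw [uu_eq_stalkMap, IsLocalRing.mem_maximalIdeal, mem_nonunits_iff,
    isUnit_map_iff (f.stalkMap P).hom]
  unfold frs
  rw [isUnit_germ_fr_iff, not_not]

include hf in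
theorem germ_σ_eq (j : Fin (n + 1)) (c : Fin (n + 1) → k) (P : Z) (hP : P ∈ WW f j) :
    ((LL f).presheaf.germ ⊤ P trivial).hom (σ f pX c) =
      uu f j c P hP • (LL f).presheaf.germ (WW f j) P hP (gen f j) :=
  germ_σ f pX hf j c P hP

include hf in
/-- the germ of `σ_c` at `P` vanishes iff `ℓ_c` vanishes at `f P` -/
theorem germ_σ_mem_iff (j : Fin (n + 1)) (c : Fin (n + 1) → k) (P : Z) (hP : P ∈ WW f j) :
    ((LL f).presheaf.germ ⊤ P trivial).hom (σ f pX c) ∈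
        (IsLocalRing.maximalIdeal (Z.presheaf.stalk P) •
          (⊤ : Submodule (Z.presheaf.stalk P) ((LL f).presheaf.stalk P))) ↔
      lin c ∈ (f P).asHomogeneousIdeal := by
  rw [germ_σ_eq f pX hf j c P hP, ← uu_mem_iff f j c P hP]
  exact ClImmA.smul_mem_smul_top_iff _ (stalk_eq_smul_gen (isGen_gen f j) P hP)
    (stalk_smul_gen_injective (isGen_gen f j) P hP) _ _

include hf in
/-- the tangent condition in terms of the local functions -/
theorem tangent_iff (j : Fin (n + 1)) (P : Z) (hP : P ∈ WW f j) :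
    ((IsLocalRing.maximalIdeal (Z.presheaf.stalk P) •
          (⊤ : Submodule (Z.presheaf.stalk P) ((LL f).presheaf.stalk P))) ≤
        Submodule.span (Z.presheaf.stalk P)
            {v | ∃ c : Fin (n + 1) → k,
              v = ((LL f).presheaf.germ ⊤ P trivial).hom (σ f pX c) ∧
              v ∈ (IsLocalRing.maximalIdeal (Z.presheaf.stalk P) •
                (⊤ : Submodule (Z.presheaf.stalk P) ((LL f).presheaf.stalk P)))} ⊔
          (IsLocalRing.maximalIdeal (Z.presheaf.stalk P) ^ 2 •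
            (⊤ : Submodule (Z.presheaf.stalk P) ((LL f).presheaf.stalk P)))) ↔
      IsLocalRing.maximalIdeal (Z.presheaf.stalk P) ≤
        Ideal.span {a | ∃ c : Fin (n + 1) → k, a = uu f j c P hP ∧
          a ∈ IsLocalRing.maximalIdeal (Z.presheaf.stalk P)} ⊔
        IsLocalRing.maximalIdeal (Z.presheaf.stalk P) ^ 2 := by
  have hset : {v | ∃ c : Fin (n + 1) → k,
        v = ((LL f).presheaf.germ ⊤ P trivial).hom (σ f pX c) ∧
        v ∈ (IsLocalRing.maximalIdeal (Z.presheaf.stalk P) •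
          (⊤ : Submodule (Z.presheaf.stalk P) ((LL f).presheaf.stalk P)))} =
      {v | ∃ c : Fin (n + 1) → k,
        v = uu f j c P hP • (LL f).presheaf.germ (WW f j) P hP (gen f j) ∧
        v ∈ (IsLocalRing.maximalIdeal (Z.presheaf.stalk P) •
          (⊤ : Submodule (Z.presheaf.stalk P) ((LL f).presheaf.stalk P)))} := by
    ext v
    constructor
    · rintro ⟨c, hc, hv⟩
      exact ⟨c, hc.trans (germ_σ_eq f pX hf j c P hP), hv⟩
    · rintro ⟨c, hc, hv⟩
      exact ⟨c, hc.trans (germ_σ_eq f pX hf j c P hP).symm, hv⟩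
  rw [hset]
  exact ClImmA.sep_tangent_iff _ (stalk_eq_smul_gen (isGen_gen f j) P hP)
    (stalk_smul_gen_injective (isGen_gen f j) P hP) (fun c => uu f j c P hP) _ _ _

end scheme

end poly

end Groth.Agent.Lib.Helper19.ClImmB
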