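import Groth.Agent.Lib.helper19.ClImmA

set_option autoImplicit false
set_option linter.unusedVariables false
set_option linter.style.haveILetI false
universe u

namespace Groth.Agent.Lib.Helper19.ClImmC

open CategoryTheory AlgebraicGeometry Opposite TopologicalSpace

/-- a section of an affine open lies in the prime of a point iff its germ is a nonunit -/
theorem mem_asIdeal_iff_germ_mem {Z : Scheme.{u}} {V : Z.Opens} (hV : IsAffineOpen V)
    (y : PrimeSpectrum Γ(Z, V)) (hy : hV.fromSpec y ∈ V) (s : Γ(Z, V)) :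
    Z.presheaf.germ V (hV.fromSpec y) hy s ∈ IsLocalRing.maximalIdeal (Z.presheaf.stalk (hV.fromSpec y)) ↔
      s ∈ y.asIdeal := by
  letI alg : Algebra Γ(Z, V) (Z.presheaf.stalk (hV.fromSpec y)) :=
    TopCat.Presheaf.algebra_section_stalk Z.presheaf ⟨hV.fromSpec y, hy⟩
  have h : @IsLocalization.AtPrime Γ(Z, V) _ (Z.presheaf.stalk (hV.fromSpec y)) _ alg y.asIdeal _ :=
    hV.isLocalization_stalk' y hy
  exact @IsLocalization.AtPrime.to_map_mem_maximal_iff _ _ _ _ alg _ _ h s inferInstance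

theorem mem_primeIdealOf_iff_germ_mem {Y : Scheme.{u}} {U : Y.Opens} (hU : IsAffineOpen U)
    (y : Y) (hy : y ∈ U) (s : Γ(Y, U)) :
    Y.presheaf.germ U y hy s ∈ IsLocalRing.maximalIdeal (Y.presheaf.stalk y) ↔
      s ∈ (hU.primeIdealOf ⟨y, hy⟩).asIdeal := by
  letI := TopCat.Presheaf.algebra_section_stalk Y.presheaf ⟨y, hy⟩
  haveI := hU.isLocalization_stalk ⟨y, hy⟩
  exact IsLocalization.AtPrime.to_map_mem_maximal_iff (Y.presheaf.stalk y)
    (hU.primeIdealOf ⟨y, hy⟩).asIdeal s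

theorem maximalIdeal_eq_map_germ {Y : Scheme.{u}} {U : Y.Opens} (hU : IsAffineOpen U)
    (y : Y) (hy : y ∈ U) :
    IsLocalRing.maximalIdeal (Y.presheaf.stalk y) =
      Ideal.map (Y.presheaf.germ U y hy).hom (hU.primeIdealOf ⟨y, hy⟩).asIdeal := by
  letI := TopCat.Presheaf.algebra_section_stalk Y.presheaf ⟨y, hy⟩
  haveI := hU.isLocalization_stalk ⟨y, hy⟩
  exact (IsLocalization.AtPrime.map_eq_maximalIdeal (hU.primeIdealOf ⟨y, hy⟩).asIdeal
    (Y.presheaf.stalk y)).symm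

theorem fromSpec_mem {Z : Scheme.{u}} {V : Z.Opens} (hV : IsAffineOpen V)
    (y : PrimeSpectrum Γ(Z, V)) : hV.fromSpec y ∈ V := by
  have h : hV.fromSpec y ∈ Set.range hV.fromSpec := ⟨y, rfl⟩
  rw [hV.range_fromSpec] at h
  exact h

theorem isClosed_fromSpec {Z : Scheme.{u}} [JacobsonSpace Z] {V : Z.Opens} (hV : IsAffineOpen V)
    (y : PrimeSpectrum Γ(Z, V)) (hy : y.asIdeal.IsMaximal) : IsClosed ({hV.fromSpec y} : Set Z) := by
  have h1 : y ∈ closedPoints (Spec Γ(Z, V)) :=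
    (PrimeSpectrum.isClosed_singleton_iff_isMaximal y).2 hy
  have h2 := hV.fromSpec.isOpenEmbedding.preimage_closedPoints
  rw [← h2] at h1
  exact h1

/-- a finite morphism of schemes locally of finite type over an algebraically closed field which
is injective on closed points and unramified at closed points is a closed immersion -/
theorem isClosedImmersion_of_finite {k : Type u} [Field k] [IsAlgClosed k] {Z Y : Scheme.{u}}
    (pZ : Z ⟶ Spec (CommRingCat.of k)) (pY : Y ⟶ Spec (CommRingCat.of k))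
    [LocallyOfFiniteType pZ] (f : Z ⟶ Y) (hf : f ≫ pY = pZ) [IsFinite f]
    (hinj : ∀ P Q : Z, IsClosed ({P} : Set Z) → IsClosed ({Q} : Set Z) → f P = f Q → P = Q)
    (hunr : ∀ P : Z, IsClosed ({P} : Set Z) → IsLocalRing.maximalIdeal (Z.presheaf.stalk P) ≤
        Ideal.map (f.stalkMap P).hom (IsLocalRing.maximalIdeal (Y.presheaf.stalk (f P)))) :
    IsClosedImmersion f := by
  rw [isClosedImmersion_iff_isAffineHom]
  refine ⟨inferInstance, fun U hU => ?_⟩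
  have hV : IsAffineOpen (f ⁻¹ᵁ U) := hU.preimage f
  haveI : JacobsonSpace Z := LocallyOfFiniteType.jacobsonSpace pZ
  let aY : k →+* Γ(Y, U) :=
    (pY.appLE ⊤ U le_top).hom.comp (Scheme.ΓSpecIso (CommRingCat.of k)).inv.hom
  let aZ : k →+* Γ(Z, f ⁻¹ᵁ U) :=
    (pZ.appLE ⊤ (f ⁻¹ᵁ U) le_top).hom.comp (Scheme.ΓSpecIso (CommRingCat.of k)).inv.hom
  letI := aY.toAlgebra
  letI := aZ.toAlgebra
  haveI : Algebra.FiniteType k Γ(Z, f ⁻¹ᵁ U) := by
    show aZ.FiniteType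
    refine RingHom.FiniteType.comp (Scheme.Hom.finiteType_appLE pZ (isAffineOpen_top _) hV le_top) ?_
    apply RingHom.FiniteType.of_surjective
    exact (ConcreteCategory.bijective_of_isIso (Scheme.ΓSpecIso (CommRingCat.of k)).inv).2
  have hφ : f.appLE U (f ⁻¹ᵁ U) le_rfl = f.app U := Scheme.Hom.appLE_eq_app f
  refine ClImmA.chart_surjective (k := k) (f.app U).hom ?_ (IsFinite.finite_app f U hU) ?_
  · intro c
    show (f.app U).hom (aY c) = aZ c
    have h1 : pY.appLE ⊤ U le_top ≫ f.appLE U (f ⁻¹ᵁ U) le_rfl = (f ≫ pY).appLE ⊤ (f ⁻¹ᵁ U) le_top :=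
      Scheme.Hom.appLE_comp_appLE f pY ⊤ U (f ⁻¹ᵁ U) le_top le_rfl
    rw [hφ] at h1
    have h2 : (f ≫ pY).appLE ⊤ (f ⁻¹ᵁ U) le_top = pZ.appLE ⊤ (f ⁻¹ᵁ U) le_top := by
      subst hf; rfl
    rw [h2] at h1
    exact congrArg (fun ψ => ψ.hom ((Scheme.ΓSpecIso (CommRingCat.of k)).inv.hom c)) h1
  · intro 𝔫 hn
    set 𝔫p : PrimeSpectrum Γ(Z, f ⁻¹ᵁ U) := ⟨𝔫, inferInstance⟩ with h𝔫p
    have hPV : hV.fromSpec 𝔫p ∈ f ⁻¹ᵁ U := fromSpec_mem hV 𝔫p
    have hPcl : IsClosed ({hV.fromSpec 𝔫p} : Set Z) := isClosed_fromSpec hV 𝔫p hn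
    have hnat := IsAffineOpen.SpecMap_appLE_fromSpec f hU hV le_rfl
    rw [hφ] at hnat
    have hint : (f.app U).hom.IsIntegral := (IsFinite.finite_app f U hU).to_isIntegral
    refine ⟨?_, ?_⟩
    · intro 𝔫' hn' hle
      haveI := hn'
      set 𝔫p' : PrimeSpectrum Γ(Z, f ⁻¹ᵁ U) := ⟨𝔫', inferInstance⟩ with h𝔫p'
      have hcl' : IsClosed ({hV.fromSpec 𝔫p'} : Set Z) := isClosed_fromSpec hV 𝔫p' hn'
      have hmax : (Ideal.comap (f.app U).hom 𝔫).IsMaximal :=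
        Ideal.isMaximal_comap_of_isIntegral_of_isMaximal' (f.app U).hom hint 𝔫
      have hc : Ideal.comap (f.app U).hom 𝔫 = Ideal.comap (f.app U).hom 𝔫' :=
        hmax.eq_of_le (Ideal.comap_ne_top _ hn'.ne_top) (Ideal.map_le_iff_le_comap.1 hle)
      have hpt : Spec.map (f.app U) 𝔫p = Spec.map (f.app U) 𝔫p' := PrimeSpectrum.ext hc
      have e1 : f (hV.fromSpec 𝔫p) = f (hV.fromSpec 𝔫p') := by
        have h1 := congrArg (fun g => g 𝔫p) hnat
        have h2 := congrArg (fun g => g 𝔫p') hnat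
        simp only [Scheme.Hom.comp_apply] at h1 h2
        rw [← h1, ← h2, hpt]
      have e2 : hV.fromSpec 𝔫p = hV.fromSpec 𝔫p' := hinj _ _ hPcl hcl' e1
      have e3 : 𝔫p = 𝔫p' := hV.fromSpec.isOpenEmbedding.injective e2
      exact (congrArg PrimeSpectrum.asIdeal e3).symm
    · letI alg : Algebra Γ(Z, f ⁻¹ᵁ U) (Z.presheaf.stalk (hV.fromSpec 𝔫p)) :=
        TopCat.Presheaf.algebra_section_stalk Z.presheaf ⟨hV.fromSpec 𝔫p, hPV⟩
      have hloc : @IsLocalization.AtPrime Γ(Z, f ⁻¹ᵁ U) _ (Z.presheaf.stalk (hV.fromSpec 𝔫p)) _ alg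
          𝔫 _ := hV.isLocalization_stalk' 𝔫p hPV
      refine ⟨Z.presheaf.stalk (hV.fromSpec 𝔫p), inferInstance, alg, hloc, ?_⟩
      intro x hx
      have h1 : Z.presheaf.germ (f ⁻¹ᵁ U) (hV.fromSpec 𝔫p) hPV x ∈
          IsLocalRing.maximalIdeal (Z.presheaf.stalk (hV.fromSpec 𝔫p)) :=
        (mem_asIdeal_iff_germ_mem hV 𝔫p hPV x).2 hx
      have h2 := hunr _ hPcl h1
      have hfP : f (hV.fromSpec 𝔫p) ∈ U := hPV
      rw [maximalIdeal_eq_map_germ hU _ hfP, Ideal.map_map] at h2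
      refine (Ideal.map_le_iff_le_comap.2 ?_) h2
      intro g hg
      rw [Ideal.mem_comap]
      have h3 : ((f.stalkMap (hV.fromSpec 𝔫p)).hom.comp (Y.presheaf.germ U _ hfP).hom) g =
          Z.presheaf.germ (f ⁻¹ᵁ U) (hV.fromSpec 𝔫p) hPV ((f.app U).hom g) :=
        Scheme.Hom.germ_stalkMap_apply f U (hV.fromSpec 𝔫p) hfP g
      rw [h3]
      have h4 : Y.presheaf.germ U _ hfP g ∈ IsLocalRing.maximalIdeal (Y.presheaf.stalk _) :=
        (mem_primeIdealOf_iff_germ_mem hU _ hfP g).2 hg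
      have h5 : Z.presheaf.germ (f ⁻¹ᵁ U) (hV.fromSpec 𝔫p) hPV ((f.app U).hom g) ∈
          IsLocalRing.maximalIdeal (Z.presheaf.stalk (hV.fromSpec 𝔫p)) := by
        rw [← h3]
        intro hu
        exact h4 ((isUnit_map_iff (f.stalkMap (hV.fromSpec 𝔫p)).hom _).1 hu)
      have h6 : (f.app U).hom g ∈ 𝔫 := (mem_asIdeal_iff_germ_mem hV 𝔫p hPV _).1 h5
      exact Ideal.mem_map_of_mem _ (Ideal.mem_map_of_mem _ (Ideal.mem_comap.2 h6))

end Groth.Agent.Lib.Helper19.ClImmC
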