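import Groth.Agent.Lib.helper19.ClImmC

set_option autoImplicit false
set_option linter.unusedVariables false
set_option linter.style.haveILetI false
universe u

namespace Groth.Agent.Lib.Helper19.ClImmD

open CategoryTheory AlgebraicGeometry Opposite TopologicalSpace

/-- a proper morphism from a quasi-compact Jacobson scheme which is injective on closed points
is finite -/
theorem isFinite_of_injOn_closedPoints {Z Y : Scheme.{u}} (f : Z ⟶ Y) [IsProper f] [JacobsonSpace Z]
    [CompactSpace Z]
    (hinj : ∀ P Q : Z, IsClosed ({P} : Set Z) → IsClosed ({Q} : Set Z) → f P = f Q → P = Q) :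
    IsFinite f := by
  have hqf : ∀ x : Z, IsClosed ({x} : Set Z) → f.QuasiFiniteAt x := by
    intro x hx
    have hcl : IsClosed (f ⁻¹' {f x}) := by
      have h1 : IsClosed (f '' {x}) := f.isClosedMap {x} hx
      rw [Set.image_singleton] at h1
      exact h1.preimage f.continuous
    have hsub : f ⁻¹' {f x} ⊆ {x} := by
      have h1 := JacobsonSpace.closure_inter_closedPoints_eq_closure hcl.isLocallyClosed
      have h2 : f ⁻¹' {f x} ∩ closedPoints Z ⊆ {x} := fun z hz => hinj z x hz.2 hx hz.1
      calc f ⁻¹' {f x} ⊆ closure (f ⁻¹' {f x}) := subset_closure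
        _ = closure (f ⁻¹' {f x} ∩ closedPoints Z) := h1.symm
        _ ⊆ closure {x} := closure_mono h2
        _ = {x} := hx.closure_eq
    have hfin : (f ⁻¹' {f x}).Finite := (Set.finite_singleton x).subset hsub
    have : Finite (f.fiber (f x)) := (f.fiberHomeo (f x)).finite_iff.mpr hfin
    exact Scheme.Hom.quasiFiniteAt_iff_isOpen_singleton_asFiber.mpr (isOpen_discrete _)
  have htop : f.quasiFiniteLocus = ⊤ := by
    by_contra hne
    have hc : IsClosed ((f.quasiFiniteLocus : Set Z)ᶜ) := f.quasiFiniteLocus.isOpen.isClosed_compl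
    have hne' : ((f.quasiFiniteLocus : Set Z)ᶜ).Nonempty := by
      rw [Set.nonempty_compl]
      intro h
      apply hne
      ext z
      simp [h]
    obtain ⟨x, hx1, hx2⟩ := hc.exists_closed_singleton hne'
    exact hx1 (hqf x hx2)
  haveI : LocallyQuasiFinite f := (Scheme.Hom.quasiFiniteLocus_eq_top_iff f).1 htop
  exact IsFinite.of_isProper_of_locallyQuasiFinite f

end Groth.Agent.Lib.Helper19.ClImmD
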