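import Groth.Agent.Lib.helper19.ClImmB
import Groth.Agent.Lib.helper19.ClImmD
import Groth.Agent.Lib.Helper28.ProjSpaceBasic

set_option autoImplicit false
set_option linter.unusedVariables false
set_option linter.style.haveILetI false
universe u

namespace Groth.Agent.Lib.Helper19.ClImmE

open CategoryTheory AlgebraicGeometry MvPolynomial HomogeneousLocalization Opposite TopologicalSpace
open Groth.Agent.Lib.Helper28 Groth.Agent.Lib.Helper28.QCohLoc Groth.Agent.Lib.Helper28.GenLocus
  Groth.Agent.Lib.Helper28.PullbackInv Groth.Agent.Lib.Helper28.ProjUPGeom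
open Groth.Agent.Lib.Helper19.ClImmB

variable {k : Type u} [Field k] [IsAlgClosed k] {n : ℕ}

local notation "𝒮" => CohB1.polyGrading n k

variable {Z : Scheme.{u}} (f : Z ⟶ Proj (CohB1.polyGrading n k))
  (pX : Z ⟶ Spec (CommRingCat.of k)) (hf : f ≫ CohB1.ProjSpace.toSpec n k = pX)

theorem exists_chart (P : Z) : ∃ j : Fin (n + 1), P ∈ WW f j := by
  obtain ⟨j, hj⟩ := Groth.Agent.Lib.Helper19.ProjBertC.exists_chart (f P)
  exact ⟨j, hj⟩

include hf in
/-- separating points and tangent vectors implies closed immersion -/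
theorem isClosedImmersion_of_sep [IsProper pX]
    (H1 : ∀ P Q : Z, IsClosed ({P} : Set Z) → IsClosed ({Q} : Set Z) → P ≠ Q →
      ∃ c : Fin (n + 1) → k,
        (((LL f).presheaf.germ ⊤ P trivial).hom (σ f pX c) ∈
            (IsLocalRing.maximalIdeal (Z.presheaf.stalk P) •
              (⊤ : Submodule (Z.presheaf.stalk P) ((LL f).presheaf.stalk P))) ∧
          ((LL f).presheaf.germ ⊤ Q trivial).hom (σ f pX c) ∉
            (IsLocalRing.maximalIdeal (Z.presheaf.stalk Q) •
              (⊤ : Submodule (Z.presheaf.stalk Q) ((LL f).presheaf.stalk Q)))) ∨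
        (((LL f).presheaf.germ ⊤ Q trivial).hom (σ f pX c) ∈
            (IsLocalRing.maximalIdeal (Z.presheaf.stalk Q) •
              (⊤ : Submodule (Z.presheaf.stalk Q) ((LL f).presheaf.stalk Q))) ∧
          ((LL f).presheaf.germ ⊤ P trivial).hom (σ f pX c) ∉
            (IsLocalRing.maximalIdeal (Z.presheaf.stalk P) •
              (⊤ : Submodule (Z.presheaf.stalk P) ((LL f).presheaf.stalk P)))))
    (H2 : ∀ P : Z, IsClosed ({P} : Set Z) →
      (IsLocalRing.maximalIdeal (Z.presheaf.stalk P) •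
          (⊤ : Submodule (Z.presheaf.stalk P) ((LL f).presheaf.stalk P))) ≤
        Submodule.span (Z.presheaf.stalk P)
            {v | ∃ c : Fin (n + 1) → k,
              v = ((LL f).presheaf.germ ⊤ P trivial).hom (σ f pX c) ∧
              v ∈ (IsLocalRing.maximalIdeal (Z.presheaf.stalk P) •
                (⊤ : Submodule (Z.presheaf.stalk P) ((LL f).presheaf.stalk P)))} ⊔
          (IsLocalRing.maximalIdeal (Z.presheaf.stalk P) ^ 2 •
            (⊤ : Submodule (Z.presheaf.stalk P) ((LL f).presheaf.stalk P)))) :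
    IsClosedImmersion f := by
  haveI hp : IsProper (CohB1.ProjSpace.toSpec n k) := ProjSpaceBasic.isProper_toSpec n k
  haveI : IsProper (f ≫ CohB1.ProjSpace.toSpec n k) := by rw [hf]; infer_instance
  haveI : IsProper f := IsProper.of_comp f (CohB1.ProjSpace.toSpec n k)
  haveI : JacobsonSpace Z := LocallyOfFiniteType.jacobsonSpace pX
  haveI : CompactSpace Z := QuasiCompact.compactSpace_of_compactSpace pX
  haveI : IsLocallyNoetherian Z := LocallyOfFiniteType.isLocallyNoetherian pX
  have hinj : ∀ P Q : Z, IsClosed ({P} : Set Z) → IsClosed ({Q} : Set Z) → f P = f Q → P = Q := by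
    intro P Q hP hQ hPQ
    by_contra hne
    obtain ⟨jP, hjP⟩ := exists_chart f P
    obtain ⟨jQ, hjQ⟩ := exists_chart f Q
    obtain ⟨c, hc⟩ := H1 P Q hP hQ hne
    rw [germ_σ_mem_iff f pX hf jP c P hjP, germ_σ_mem_iff f pX hf jQ c Q hjQ, hPQ] at hc
    tauto
  haveI : IsFinite f := ClImmD.isFinite_of_injOn_closedPoints f hinj
  refine ClImmC.isClosedImmersion_of_finite (Y := Proj (CohB1.polyGrading n k)) pX
    (CohB1.ProjSpace.toSpec n k) f hf hinj ?_
  intro P hP
  obtain ⟨j, hj⟩ := exists_chart f P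
  have h1 := (tangent_iff f pX hf j P hj).1 (H2 P hP)
  have h2 := ClImmA.maximalIdeal_le_of_le_sup_sq _ h1
  refine h2.trans ?_
  rw [Ideal.span_le]
  rintro _ ⟨c, rfl, hc⟩
  rw [uu_eq_stalkMap] at hc ⊢
  apply Ideal.mem_map_of_mem
  rw [IsLocalRing.mem_maximalIdeal, mem_nonunits_iff] at hc ⊢
  intro hu
  exact hc (hu.map _)

end Groth.Agent.Lib.Helper19.ClImmE
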