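import Groth.Agent.Lib.helper19.ClImmB
import Groth.Agent.Lib.helper19.ClImmC

set_option autoImplicit false
set_option linter.unusedVariables false
set_option linter.style.haveILetI false
universe u

namespace Groth.Agent.Lib.Helper19.ClImmF

open CategoryTheory AlgebraicGeometry MvPolynomial HomogeneousLocalization Opposite TopologicalSpace
open Groth.Agent.Lib.Helper28 Groth.Agent.Lib.Helper28.QCohLoc Groth.Agent.Lib.Helper28.GenLocus
  Groth.Agent.Lib.Helper28.PullbackInv Groth.Agent.Lib.Helper28.ProjUPGeom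
open Groth.Agent.Lib.Helper19.ClImmB

variable {k : Type u} [Field k] {n : ℕ}

local notation "𝒮" => CohB1.polyGrading n k

theorem lin_single (i : Fin (n + 1)) (a : k) :
    lin (Pi.single i a : Fin (n + 1) → k) = C a * X i := by
  unfold lin
  rw [Finset.sum_eq_single i]
  · rw [Pi.single_eq_same]
  · intro b _ hb
    rw [Pi.single_eq_of_ne hb, map_zero, zero_mul]
  · intro h; exact absurd (Finset.mem_univ i) h

theorem lin_sub (c c' : Fin (n + 1) → k) : lin (c - c') = lin c - lin c' := by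
  unfold lin
  rw [← Finset.sum_sub_distrib]
  refine Finset.sum_congr rfl fun i _ => ?_
  rw [Pi.sub_apply, map_sub, sub_mul]

theorem lin_smul (a : k) (c : Fin (n + 1) → k) : lin (a • c) = C a * lin c := by
  unfold lin
  rw [Finset.mul_sum]
  refine Finset.sum_congr rfl fun i _ => ?_
  rw [Pi.smul_apply, smul_eq_mul, map_mul, mul_assoc]

/-- the coefficient vector of `X_i - a X_j` -/
def cc (j i : Fin (n + 1)) (a : k) : Fin (n + 1) → k := Pi.single i 1 - a • Pi.single j 1

theorem lin_cc (j i : Fin (n + 1)) (a : k) :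
    lin (cc j i a) = (X i - C a * X j : MvPolynomial (Fin (n + 1)) k) := by
  unfold cc
  rw [lin_sub, lin_smul, lin_single, lin_single, map_one, one_mul, one_mul]

theorem isAffineOpen_D (j : Fin (n + 1)) :
    IsAffineOpen (Proj.basicOpen 𝒮 (X j : MvPolynomial (Fin (n + 1)) k)) :=
  Proj.isAffineOpen_basicOpen 𝒮 (X j) (hX j) Nat.one_pos

/-- the constant functions on the chart -/
noncomputable def cst (j : Fin (n + 1)) :
    k →+* Γ(Proj 𝒮, Proj.basicOpen 𝒮 (X j : MvPolynomial (Fin (n + 1)) k)) :=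
  (Proj.awayToSection 𝒮 (X j : MvPolynomial (Fin (n + 1)) k)).hom.comp
    (algebraMap k (Away 𝒮 (X j : MvPolynomial (Fin (n + 1)) k)))

theorem frs_eq_sum' (j : Fin (n + 1)) (c : Fin (n + 1) → k) :
    frs j c = ∑ i, cst j (c i) * ProjFrac.fr 𝒮 (hX j) 1 (X i) (hX i) :=
  frs_eq_sum j c

theorem frs_cc (j i : Fin (n + 1)) (a : k) :
    frs j (cc j i a) = ProjFrac.fr 𝒮 (hX j) 1 (X i) (hX i) - cst j a := by
  classical
  rw [frs_eq_sum']
  unfold cc
  simp only [Pi.sub_apply, Pi.smul_apply, smul_eq_mul, map_sub, map_mul, sub_mul,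
    Finset.sum_sub_distrib, Pi.single_apply, apply_ite (cst j), map_one, map_zero, ite_mul,
    one_mul, zero_mul, mul_ite, mul_one, mul_zero, Finset.sum_ite_eq', Finset.mem_univ, if_true]
  rw [ProjFrac.fr_self, mul_one]

theorem frs_mem_primeIdealOf_iff (j : Fin (n + 1)) (c : Fin (n + 1) → k) (y : Proj 𝒮)
    (hy : y ∈ Proj.basicOpen 𝒮 (X j : MvPolynomial (Fin (n + 1)) k)) :
    frs j c ∈ ((isAffineOpen_D j).primeIdealOf ⟨y, hy⟩).asIdeal ↔
      lin c ∈ y.asHomogeneousIdeal := by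
  rw [← ClImmC.mem_primeIdealOf_iff_germ_mem, IsLocalRing.mem_maximalIdeal, mem_nonunits_iff]
  unfold frs
  rw [isUnit_germ_fr_iff, not_not]

theorem adjoin_eq_top_of_surjective {R A B : Type*} [CommRing R] [CommRing A] [CommRing B]
    [Algebra R A] [Algebra R B] (φ : A →ₐ[R] B) (hφ : Function.Surjective φ) {ι : Type*} (g : ι → A)
    (h : Algebra.adjoin R (Set.range g) = ⊤) :
    Algebra.adjoin R (Set.range fun i => φ (g i)) = ⊤ := by
  have h1 : (Set.range fun i => φ (g i)) = φ '' Set.range g := by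
    rw [← Set.range_comp]; rfl
  rw [h1, ← AlgHom.map_adjoin, h, Algebra.map_top, AlgHom.range_eq_top]
  exact hφ

/-- the maximal ideal of a closed point of projective space over an algebraically closed field is
generated by linear functions -/
theorem exists_coeff [IsAlgClosed k] (j : Fin (n + 1)) (y : Proj 𝒮)
    (hy : y ∈ Proj.basicOpen 𝒮 (X j : MvPolynomial (Fin (n + 1)) k))
    (hcl : IsClosed ({y} : Set (Proj 𝒮))) :
    ∃ a : Fin (n + 1) → k,
      ((isAffineOpen_D j).primeIdealOf ⟨y, hy⟩).asIdeal =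
        Ideal.span (Set.range fun i => frs j (cc j i (a i))) := by
  letI : Algebra k Γ(Proj 𝒮, Proj.basicOpen 𝒮 (X j : MvPolynomial (Fin (n + 1)) k)) :=
    (cst j).toAlgebra
  let φ : Away 𝒮 (X j : MvPolynomial (Fin (n + 1)) k) →ₐ[k]
      Γ(Proj 𝒮, Proj.basicOpen 𝒮 (X j : MvPolynomial (Fin (n + 1)) k)) :=
    { toRingHom := (Proj.awayToSection 𝒮 (X j : MvPolynomial (Fin (n + 1)) k)).hom
      commutes' := fun _ => rfl }
  have hφ : Function.Surjective φ :=
    (ConcreteCategory.bijective_of_isIso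
      (Proj.basicOpenIsoAway 𝒮 (X j : MvPolynomial (Fin (n + 1)) k) (hX j) Nat.one_pos).hom).2
  have hgen0 := Segre5.adjoin_fr_eq_top 𝒮 (hX j) (X : Fin (n + 1) → MvPolynomial (Fin (n + 1)) k)
    (fun i => hX i) MvPolynomial.adjoin_range_X
  have hgen := adjoin_eq_top_of_surjective φ hφ _ hgen0
  have hg : (fun i => φ (ProjClosed.fr 𝒮 (hX j) 1 (X i))) =
      fun i => ProjFrac.fr 𝒮 (hX j) 1 (X i) (hX i) := by
    funext i
    exact awayToSection_fr j (X i) (hX i)
  rw [hg] at hgen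
  haveI hmax : ((isAffineOpen_D j).primeIdealOf ⟨y, hy⟩).asIdeal.IsMaximal :=
    (isAffineOpen_D j).primeIdealOf_isMaximal_of_isClosed ⟨y, hy⟩ hcl
  obtain ⟨a, -, ha⟩ := ClImmA.maximal_eq_span (k := k)
    (fun i => ProjFrac.fr 𝒮 (hX j) 1 (X i) (hX i)) hgen
    ((isAffineOpen_D j).primeIdealOf ⟨y, hy⟩).asIdeal
  refine ⟨a, ?_⟩
  rw [ha]
  congr 1
  congr 1
  funext i
  rw [frs_cc]
  rfl

end Groth.Agent.Lib.Helper19.ClImmF
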