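import Groth.Agent.Lib.helper19.ClImmF
import Groth.Agent.Lib.helper19.ClImmE

set_option autoImplicit false
set_option linter.unusedVariables false
set_option linter.style.haveILetI false
universe u

namespace Groth.Agent.Lib.Helper19.ClImmG

open CategoryTheory AlgebraicGeometry MvPolynomial HomogeneousLocalization Opposite TopologicalSpace
open Groth.Agent.Lib.Helper28 Groth.Agent.Lib.Helper28.QCohLoc Groth.Agent.Lib.Helper28.GenLocus
  Groth.Agent.Lib.Helper28.PullbackInv Groth.Agent.Lib.Helper28.ProjUPGeom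
open Groth.Agent.Lib.Helper19.ClImmB Groth.Agent.Lib.Helper19.ClImmF

variable {k : Type u} [Field k] [IsAlgClosed k] {n : ℕ}

local notation "𝒮" => CohB1.polyGrading n k

/-- closed points of projective space over an algebraically closed field are separated by
linear forms -/
theorem exists_lin_sep (y y' : Proj 𝒮) (hy : IsClosed ({y} : Set (Proj 𝒮))) (hne : y ≠ y') :
    ∃ c : Fin (n + 1) → k, lin c ∈ y.asHomogeneousIdeal ∧ lin c ∉ y'.asHomogeneousIdeal := by
  by_contra hcon
  push Not at hcon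
  apply hne
  obtain ⟨j, hj⟩ := Groth.Agent.Lib.Helper19.ProjBertC.exists_chart y
  have hjD : y ∈ Proj.basicOpen 𝒮 (X j : MvPolynomial (Fin (n + 1)) k) := hj
  obtain ⟨a, ha⟩ := exists_coeff j y hjD hy
  have h1 : ∀ i, lin (cc j i (a i)) ∈ y.asHomogeneousIdeal := by
    intro i
    rw [← frs_mem_primeIdealOf_iff j _ y hjD, ha]
    exact Ideal.subset_span ⟨i, rfl⟩
  have h2 : ∀ i, lin (cc j i (a i)) ∈ y'.asHomogeneousIdeal := fun i => hcon _ (h1 i)
  have hj' : y' ∈ Proj.basicOpen 𝒮 (X j : MvPolynomial (Fin (n + 1)) k) := by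
    rw [Proj.mem_basicOpen]
    intro hXj
    obtain ⟨i, hi⟩ := Groth.Agent.Lib.Helper19.ProjBertC.exists_chart y'
    apply hi
    have h3 := h2 i
    rw [lin_cc] at h3
    have h4 : (X i : MvPolynomial (Fin (n + 1)) k) = (X i - C (a i) * X j) + C (a i) * X j := by ring
    rw [h4]
    exact Ideal.add_mem _ h3 (Ideal.mul_mem_left _ _ hXj)
  have h5 : ((isAffineOpen_D j).primeIdealOf ⟨y, hjD⟩).asIdeal ≤
      ((isAffineOpen_D j).primeIdealOf ⟨y', hj'⟩).asIdeal := by
    rw [ha, Ideal.span_le]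
    rintro _ ⟨i, rfl⟩
    exact (frs_mem_primeIdealOf_iff j _ y' hj').2 (h2 i)
  haveI hmax : ((isAffineOpen_D j).primeIdealOf ⟨y, hjD⟩).asIdeal.IsMaximal :=
    (isAffineOpen_D j).primeIdealOf_isMaximal_of_isClosed ⟨y, hjD⟩ hy
  have h6 : ((isAffineOpen_D j).primeIdealOf ⟨y, hjD⟩).asIdeal =
      ((isAffineOpen_D j).primeIdealOf ⟨y', hj'⟩).asIdeal :=
    hmax.eq_of_le ((isAffineOpen_D j).primeIdealOf ⟨y', hj'⟩).isPrime.ne_top h5
  have h7 : (isAffineOpen_D j).primeIdealOf ⟨y, hjD⟩ = (isAffineOpen_D j).primeIdealOf ⟨y', hj'⟩ :=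
    PrimeSpectrum.ext h6
  have h8 := congrArg (fun p => (isAffineOpen_D j).fromSpec p) h7
  simp only [IsAffineOpen.fromSpec_primeIdealOf] at h8
  exact h8

variable {Z : Scheme.{u}} (f : Z ⟶ Proj (CohB1.polyGrading n k))
  (pX : Z ⟶ Spec (CommRingCat.of k)) (hf : f ≫ CohB1.ProjSpace.toSpec n k = pX)

include hf in
/-- a closed immersion separates points and tangent vectors -/
theorem sep_of_isClosedImmersion [IsClosedImmersion f] :
    (∀ P Q : Z, IsClosed ({P} : Set Z) → IsClosed ({Q} : Set Z) → P ≠ Q →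
      ∃ c : Fin (n + 1) → k,
        ((LL f).presheaf.germ ⊤ P trivial).hom (σ f pX c) ∈
            (IsLocalRing.maximalIdeal (Z.presheaf.stalk P) •
              (⊤ : Submodule (Z.presheaf.stalk P) ((LL f).presheaf.stalk P))) ∧
          ((LL f).presheaf.germ ⊤ Q trivial).hom (σ f pX c) ∉
            (IsLocalRing.maximalIdeal (Z.presheaf.stalk Q) •
              (⊤ : Submodule (Z.presheaf.stalk Q) ((LL f).presheaf.stalk Q)))) ∧
    (∀ P : Z, IsClosed ({P} : Set Z) →
      (IsLocalRing.maximalIdeal (Z.presheaf.stalk P) •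
          (⊤ : Submodule (Z.presheaf.stalk P) ((LL f).presheaf.stalk P))) ≤
        Submodule.span (Z.presheaf.stalk P)
            {v | ∃ c : Fin (n + 1) → k,
              v = ((LL f).presheaf.germ ⊤ P trivial).hom (σ f pX c) ∧
              v ∈ (IsLocalRing.maximalIdeal (Z.presheaf.stalk P) •
                (⊤ : Submodule (Z.presheaf.stalk P) ((LL f).presheaf.stalk P)))} ⊔
          (IsLocalRing.maximalIdeal (Z.presheaf.stalk P) ^ 2 •
            (⊤ : Submodule (Z.presheaf.stalk P) ((LL f).presheaf.stalk P)))) := by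
  have hclosed : ∀ P : Z, IsClosed ({P} : Set Z) → IsClosed ({f P} : Set (Proj 𝒮)) := by
    intro P hP
    have := f.isClosedEmbedding.isClosedMap {P} hP
    rwa [Set.image_singleton] at this
  refine ⟨?_, ?_⟩
  · intro P Q hP hQ hne
    have hne' : f P ≠ f Q := fun h => hne (f.isClosedEmbedding.injective h)
    obtain ⟨c, hc1, hc2⟩ := exists_lin_sep (f P) (f Q) (hclosed P hP) hne'
    obtain ⟨jP, hjP⟩ := ClImmE.exists_chart f P
    obtain ⟨jQ, hjQ⟩ := ClImmE.exists_chart f Q
    refine ⟨c, ?_, ?_⟩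
    · rw [germ_σ_mem_iff f pX hf jP c P hjP]; exact hc1
    · rw [germ_σ_mem_iff f pX hf jQ c Q hjQ]; exact hc2
  · intro P hP
    obtain ⟨j, hj⟩ := ClImmE.exists_chart f P
    rw [tangent_iff f pX hf j P hj]
    refine le_trans ?_ le_sup_left
    have hjD : f P ∈ Proj.basicOpen 𝒮 (X j : MvPolynomial (Fin (n + 1)) k) := hj
    obtain ⟨a, ha⟩ := exists_coeff j (f P) hjD (hclosed P hP)
    have h1 : ∀ i, lin (cc j i (a i)) ∈ (f P).asHomogeneousIdeal := by
      intro i
      rw [← frs_mem_primeIdealOf_iff j _ (f P) hjD, ha]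
      exact Ideal.subset_span ⟨i, rfl⟩
    intro x hx
    obtain ⟨z, rfl⟩ := f.stalkMap_surjective P x
    have hz : z ∈ IsLocalRing.maximalIdeal ((Proj 𝒮).presheaf.stalk (f P)) := by
      rw [IsLocalRing.mem_maximalIdeal, mem_nonunits_iff] at hx ⊢
      intro hu
      exact hx (hu.map _)
    rw [ClImmC.maximalIdeal_eq_map_germ (isAffineOpen_D j) (f P) hjD, ha, Ideal.map_span] at hz
    have hz2 : (f.stalkMap P).hom z ∈ Ideal.map (f.stalkMap P).hom (Ideal.span
        (((Proj 𝒮).presheaf.germ (Proj.basicOpen 𝒮 (X j : MvPolynomial (Fin (n + 1)) k))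
          (f P) hjD).hom '' Set.range fun i => frs j (cc j i (a i)))) :=
      Ideal.mem_map_of_mem _ hz
    rw [Ideal.map_span] at hz2
    refine (Ideal.span_mono ?_) hz2
    rintro _ ⟨_, ⟨_, ⟨i, rfl⟩, rfl⟩, rfl⟩
    refine ⟨cc j i (a i), (uu_eq_stalkMap f j _ P hj).symm, ?_⟩
    rw [← uu_eq_stalkMap f j _ P hj, uu_mem_iff]
    exact h1 i

end Groth.Agent.Lib.Helper19.ClImmG
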