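import Mathlib
import Groth.Prelude.Def_CInt
import Groth.Agent.Lib.helper19.Adapt8
import Groth.Agent.Lib.Helper5.StalkKer
import Groth.Agent.Lib.Helper7.FibreDepthDimScheme
import Groth.Agent.Lib.Helper24.Unibranch.Top

set_option autoImplicit false
set_option linter.style.haveILetI false
universe u
open CategoryTheory CategoryTheory.Limits AlgebraicGeometry Topology TopologicalSpace

namespace Groth.Agent.Lib.Helper19.CodimSm1

open Groth.Agent.Lib.Helper19 Groth.Agent.Lib.Helper5 Groth.Agent.Lib.Helper7
  Groth.Agent.Lib.Helper24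

/-- dimension drop along a closed immersion cut out by a regular sequence on an affine open. -/
theorem dim_stalk_add {X Z : Scheme.{u}} [IsLocallyNoetherian X] (i : Z ⟶ X)
    [IsClosedImmersion i] {U : X.Opens} (hU : IsAffineOpen U)
    (z : Z) (hz : i z ∈ U) (rs : List Γ(X, U))
    (hrs : RingTheory.Sequence.IsWeaklyRegular Γ(X, U) rs)
    (hker : RingHom.ker (i.app U).hom = Ideal.ofList rs) :
    ringKrullDim (Z.presheaf.stalk z) + (rs.length : ℕ) = ringKrullDim (X.presheaf.stalk (i z)) := by
  haveI : IsClosedImmersion (i ∣_ U) := inferInstance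
  obtain ⟨hreg, hk⟩ := StalkKer.isRegular_germ i hU z hz rs hrs hker
  have h1 := ringKrullDim_add_length_eq_ringKrullDim_of_isRegular _ hreg
  rw [List.length_map, ← hk] at h1
  rw [← h1]
  congr 1
  exact (ringKrullDim_eq_of_ringEquiv
    (RingHom.quotientKerEquivOfSurjective (i.stalkMap_surjective z))).symm

theorem dim_stalk_eq_zero_of_isMaxPt {Y : Scheme.{u}} (η : Y) (h : Unibranch.IsMaxPt η) :
    ringKrullDim (Y.presheaf.stalk η) = 0 := by
  rw [ringKrullDim_stalk_eq_coheight]
  have : Order.coheight η = 0 := by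
    rw [Order.coheight_eq_zero]
    intro b hb
    have : b ⤳ η := hb
    rw [h b this]
  rw [this]
  rfl

end Groth.Agent.Lib.Helper19.CodimSm1
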