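import Mathlib
import Groth.Prelude.Def_CInt
import Groth.Agent.Lib.helper19.CodimSm1

set_option autoImplicit false
set_option linter.style.haveILetI false
universe u
open CategoryTheory CategoryTheory.Limits AlgebraicGeometry Topology TopologicalSpace

namespace Groth.Agent.Lib.Helper19.CodimSm2

open Groth.Agent.Lib.Helper19 Groth.Agent.Lib.Helper5 Groth.Agent.Lib.Helper7
  Groth.Agent.Lib.Helper24

theorem arith (D F G E G' : WithBot ℕ∞) (n : ℕ) (hD0 : 0 ≤ D) (hDtop : D < ⊤) (hF : 0 ≤ F)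
    (hG : 0 ≤ G) (h2 : G' + (n : ℕ) = E) (h3 : E = D + F) (h4 : G' = D + G) :
    ((n : ℕ) : WithBot ℕ∞) ≤ F := by
  subst h4
  subst h3
  lift D to ℕ∞ using (ne_bot_of_le_ne_bot (by simp) hD0)
  lift F to ℕ∞ using (ne_bot_of_le_ne_bot (by simp) hF)
  lift G to ℕ∞ using (ne_bot_of_le_ne_bot (by simp) hG)
  have hD : D ≠ ⊤ := by
    rintro rfl
    exact (lt_irrefl _ hDtop)
  lift D to ℕ using hD
  have h : ((D : ℕ∞) + G + n : ℕ∞) = (D : ℕ∞) + F := by
    exact_mod_cast h2
  rw [add_assoc] at h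
  have h' := ENat.add_right_injective_of_ne_top (ENat.coe_ne_top D) h
  have : (n : ℕ∞) ≤ F := by
    rw [← h']
    exact le_add_self
  exact_mod_cast this

theorem main {X Y S : Scheme.{u}} [IsLocallyNoetherian X]
    [IsLocallyNoetherian S] (f : X ⟶ S) [Smooth f] (i : Y ⟶ X) [IsClosedImmersion i]
    [Smooth (i ≫ f)] :
    (⨅ y : Set.range i.base, ringKrullDim ↑(CInt.fiberStalk f y.1)) =
      ⨅ y : Set.range i.base, ringKrullDim ↑(X.presheaf.stalk y.1) := by
  haveI : LocallyOfFiniteType (i ≫ f) := inferInstance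
  haveI : IsLocallyNoetherian Y := LocallyOfFiniteType.isLocallyNoetherian (i ≫ f)
  apply le_antisymm
  · refine le_iInf fun y => (iInf_le _ y).trans ?_
    rw [FibreDepthDimScheme.dim_eq_add f y.1 (Flat.stalkMap f y.1)]
    exact le_add_of_nonneg_left ringKrullDim_nonneg_of_nontrivial
  · refine le_iInf fun y => ?_
    obtain ⟨y, y', rfl⟩ := y
    obtain ⟨V, U, hV, hU, e, m, n, a, b, hx, hker, hét⟩ := Adapt7.exists_adapted_chart f i y'
    have hwr : RingTheory.Sequence.IsWeaklyRegular Γ(X, U) (List.ofFn b) := by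
      letI alg : Algebra (MvPolynomial (Fin m ⊕ Fin n) Γ(S, V)) Γ(X, U) :=
        (MvPolynomial.eval₂Hom (f.appLE V U e).hom (Sum.elim a b)).toAlgebra
      haveI : Module.Flat (MvPolynomial (Fin m ⊕ Fin n) Γ(S, V)) Γ(X, U) :=
        (RingHom.Etale.iff_flat_and_formallyUnramified.mp hét).1
      have h1 := (Adapt6.isWeaklyRegular_X_inr Γ(S, V) m n).of_flat (S := Γ(X, U))
      have h2 : (List.ofFn fun l : Fin n =>
          (MvPolynomial.X (Sum.inr l) : MvPolynomial (Fin m ⊕ Fin n) Γ(S, V))).map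
            (algebraMap (MvPolynomial (Fin m ⊕ Fin n) Γ(S, V)) Γ(X, U)) = List.ofFn b := by
        rw [List.map_ofFn]
        congr 1
        funext l
        simp [RingHom.algebraMap_toAlgebra]
      rw [h2] at h1
      exact h1
    have hker' : RingHom.ker (i.app U).hom = Ideal.ofList (List.ofFn b) := by
      have hk := Scheme.Hom.ker_apply i ⟨U, hU⟩
      rw [hker] at hk
      rw [← hk]
      unfold Ideal.ofList
      congr 1
      ext r
      simp [List.mem_ofFn]
    obtain ⟨η, hη, hmax⟩ := Unibranch.exists_maxPt y'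
    have hηU : i η ∈ U := (hη.map i.continuous).mem_open U.2 hx
    have h1 := CodimSm1.dim_stalk_add i hU η hηU (List.ofFn b) hwr hker'
    rw [CodimSm1.dim_stalk_eq_zero_of_isMaxPt η hmax, zero_add, List.length_ofFn] at h1
    have h2 := CodimSm1.dim_stalk_add i hU y' hx (List.ofFn b) hwr hker'
    rw [List.length_ofFn] at h2
    have h3 := FibreDepthDimScheme.dim_eq_add f (i y') (Flat.stalkMap f _)
    have h4 := FibreDepthDimScheme.dim_eq_add (i ≫ f) y' (Flat.stalkMap _ _)
    refine (iInf_le _ ⟨i η, η, rfl⟩).trans ?_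
    show ringKrullDim (X.presheaf.stalk (i η)) ≤ _
    rw [← h1]
    exact arith _ _ _ _ _ n ringKrullDim_nonneg_of_nontrivial ringKrullDim_lt_top
      ringKrullDim_nonneg_of_nontrivial ringKrullDim_nonneg_of_nontrivial h2 h3 h4

end Groth.Agent.Lib.Helper19.CodimSm2
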