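import Mathlib
import Groth.Agent.Lib.Helper5.CoeffField

namespace Groth.Agent.Lib.helper19.CohenSm
universe u
open IsLocalRing TensorProduct

section Flat
variable (Λ : Type u) [CommRing Λ]

/-- a ring hom `ZMod M → S` when `M = 0` in `S`. -/
noncomputable def zmodHom (M : ℕ) (S : Type*) [CommRing S] (h : (M : S) = 0) : ZMod M →+* S :=
  (Ideal.Quotient.lift (Ideal.span {(M : ℤ)}) (Int.castRingHom S) (by
    intro a ha
    rw [Ideal.mem_span_singleton] at ha
    obtain ⟨b, rfl⟩ := ha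
    simp [h])).comp (Int.quotientSpanNatEquivZMod M).symm.toRingHom

theorem flat_zmod [Module.Flat ℤ Λ] (M : ℕ) (x : Λ) (hx : x = (M : Λ))
    (f : ZMod M →+* Λ ⧸ Ideal.span {x}) : f.Flat := by
  algebraize [f]
  change Module.Flat (ZMod M) (Λ ⧸ Ideal.span {x})
  let φ : ZMod M ⊗[ℤ] Λ →ₐ[ZMod M] Λ ⧸ Ideal.span {x} :=
    Algebra.TensorProduct.lift (Algebra.ofId _ _) (Ideal.Quotient.mkₐ ℤ _)
      (fun _ _ => Commute.all _ _)
  let ψ : Λ ⧸ Ideal.span {x} →+* ZMod M ⊗[ℤ] Λ :=
    Ideal.Quotient.lift _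
      (Algebra.TensorProduct.includeRight : Λ →ₐ[ℤ] ZMod M ⊗[ℤ] Λ).toRingHom (by
        intro a ha
        rw [Ideal.mem_span_singleton] at ha
        obtain ⟨b, rfl⟩ := ha
        change (1 : ZMod M) ⊗ₜ[ℤ] (x * b) = 0
        rw [hx, ← nsmul_eq_mul, ← TensorProduct.smul_tmul, nsmul_eq_mul, mul_one,
          ZMod.natCast_self, TensorProduct.zero_tmul])
  have h1 : ∀ t, ψ (φ t) = t := by
    intro t
    induction t using TensorProduct.induction_on with
    | zero => simp
    | tmul a y =>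
      obtain ⟨k, rfl⟩ := ZMod.intCast_surjective a
      have : φ ((k : ZMod M) ⊗ₜ y) = Ideal.Quotient.mk _ (k • y) := by
        simp [φ, Algebra.ofId_apply]
      rw [this]
      change (1 : ZMod M) ⊗ₜ[ℤ] (k • y) = _
      rw [← TensorProduct.smul_tmul, zsmul_eq_mul, mul_one]
    | add a b ha hb => rw [map_add, map_add, ha, hb]
  have h2 : ∀ s, φ (ψ s) = s := by
    intro s
    obtain ⟨y, rfl⟩ := Ideal.Quotient.mk_surjective s
    change φ ((1 : ZMod M) ⊗ₜ[ℤ] y) = _
    simp [φ]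
  let e : ZMod M ⊗[ℤ] Λ ≃ₗ[ZMod M] Λ ⧸ Ideal.span {x} :=
    LinearEquiv.ofBijective φ.toLinearMap
      ⟨Function.LeftInverse.injective h1, Function.RightInverse.surjective h2⟩
  exact Module.Flat.of_linearEquiv e.symm

end Flat


section Cohen
variable (Λ : Type u) [CommRing Λ] [IsDomain Λ] [IsDiscreteValuationRing Λ] (p : ℕ)
  (hp : p.Prime) (hm : maximalIdeal Λ = Ideal.span {(p : Λ)})

include hp hm in
theorem charZero : CharZero Λ := by
  obtain ⟨c, hc⟩ := CharP.exists Λ
  rcases CharP.char_is_prime_or_zero Λ c with h | h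
  · exfalso
    have hcΛ : (c : Λ) = 0 := CharP.cast_eq_zero Λ c
    by_cases hcp : c = p
    · subst hcp
      apply IsDiscreteValuationRing.not_a_field Λ
      rw [hm, hcΛ, Ideal.span_singleton_eq_bot]
    · have hcop : Nat.Coprime c p := (Nat.coprime_primes h hp).mpr hcp
      have h1 : (1 : Λ) ∈ maximalIdeal Λ := by
        have hgcd := Nat.gcd_eq_gcd_ab c p
        rw [hcop.gcd_eq_one] at hgcd
        have : ((1 : ℕ) : ℤ) = (c : ℤ) * Nat.gcdA c p + (p : ℤ) * Nat.gcdB c p := hgcd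
        have h2 : (1 : Λ) = (c : Λ) * (Nat.gcdA c p : Λ) + (p : Λ) * (Nat.gcdB c p : Λ) := by
          have := congrArg (Int.cast : ℤ → Λ) this
          push_cast at this
          exact this
        rw [h2, hcΛ, zero_mul, zero_add, hm]
        exact Ideal.mul_mem_right _ _ (Ideal.mem_span_singleton_self _)
      exact (Ideal.ne_top_iff_one _).mp (IsLocalRing.maximalIdeal.isMaximal Λ).ne_top h1
  · subst h
    exact CharP.charP_to_charZero Λ

include hp hm in
theorem flat_int : Module.Flat ℤ Λ := by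
  haveI := charZero Λ p hp hm
  infer_instance


omit [IsDomain Λ] [IsDiscreteValuationRing Λ] in
include hp in
theorem base [IsLocalRing Λ] (m : ℕ) (hmp : m = p) (I : Ideal Λ) (hI : I = maximalIdeal Λ)
    (f : ZMod m →+* Λ ⧸ I) : f.FormallySmooth := by
  subst hmp hI
  haveI : Fact m.Prime := ⟨hp⟩
  letI : Field (Λ ⧸ maximalIdeal Λ) := Ideal.Quotient.field _
  algebraize [f]
  change Algebra.FormallySmooth (ZMod m) (Λ ⧸ maximalIdeal Λ)
  have hpk : ((m : ℕ) : ZMod m) = 0 := ZMod.natCast_self m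
  have hperf : ∀ c : ZMod m, ∃ a : ZMod m, a ^ m = c := fun c => ⟨c, ZMod.pow_card c⟩
  haveI := Groth.Agent.Lib.Helper5.CoeffField.geomReduced_of_perfect (k := ZMod m)
    (K := Λ ⧸ maximalIdeal Λ) m hp hpk hperf
  exact Groth.Agent.Lib.Helper5.SepSmooth.formallySmooth_of_geomReduced_charP m hp hpk

theorem ker_castHom (n : ℕ) :
    RingHom.ker (ZMod.castHom (pow_dvd_pow p (Nat.le_succ n)) (ZMod (p ^ n))) =
      Ideal.span {((p ^ n : ℕ) : ZMod (p ^ (n + 1)))} := by
  apply le_antisymm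
  · intro x hx
    obtain ⟨k, rfl⟩ := ZMod.intCast_surjective x
    rw [RingHom.mem_ker, map_intCast, ZMod.intCast_zmod_eq_zero_iff_dvd] at hx
    obtain ⟨j, rfl⟩ := hx
    rw [Ideal.mem_span_singleton]
    exact ⟨(j : ZMod (p ^ (n + 1))), by push_cast; ring⟩
  · rw [Ideal.span_le, Set.singleton_subset_iff]
    change _ ∈ RingHom.ker _
    rw [RingHom.mem_ker, map_natCast, ZMod.natCast_self]


include hp hm in
theorem main (n : ℕ) (hn : 1 ≤ n) :
    ∀ f : ZMod (p ^ n) →+* Λ ⧸ Ideal.span {(p : Λ) ^ n}, f.FormallySmooth := by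
  induction n, hn using Nat.le_induction with
  | base =>
    intro f
    exact base Λ p hp (p ^ 1) (pow_one p) _ (by rw [pow_one, hm]) f
  | succ n hn ih =>
    intro f
    haveI := flat_int Λ p hp hm
    have hle : Ideal.span {(p : Λ) ^ (n + 1)} ≤ Ideal.span {(p : Λ) ^ n} := by
      rw [Ideal.span_singleton_le_span_singleton]
      exact pow_dvd_pow _ (Nat.le_succ n)
    have h0 : ((p ^ n : ℕ) : Λ ⧸ Ideal.span {(p : Λ) ^ n}) = 0 := by
      rw [← map_natCast (Ideal.Quotient.mk (Ideal.span {(p : Λ) ^ n})),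
        Ideal.Quotient.eq_zero_iff_mem, Nat.cast_pow]
      exact Ideal.mem_span_singleton_self _
    let g : ZMod (p ^ n) →+* Λ ⧸ Ideal.span {(p : Λ) ^ n} := zmodHom (p ^ n) _ h0
    let qR := ZMod.castHom (pow_dvd_pow p (Nat.le_succ n)) (ZMod (p ^ n))
    let qS : Λ ⧸ Ideal.span {(p : Λ) ^ (n + 1)} →+* Λ ⧸ Ideal.span {(p : Λ) ^ n} :=
      Ideal.Quotient.factor hle
    have hkerS : RingHom.ker qS =
        (Ideal.span {(p : Λ) ^ n}).map (Ideal.Quotient.mk (Ideal.span {(p : Λ) ^ (n + 1)})) := by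
      apply le_antisymm
      · intro x hx
        obtain ⟨a, rfl⟩ := Ideal.Quotient.mk_surjective x
        have h0 : Ideal.Quotient.mk (Ideal.span {(p : Λ) ^ n}) a = 0 := hx
        rw [Ideal.Quotient.eq_zero_iff_mem] at h0
        exact Ideal.mem_map_of_mem _ h0
      · rw [Ideal.map_le_iff_le_comap]
        intro a ha
        change Ideal.Quotient.mk (Ideal.span {(p : Λ) ^ n}) a = 0
        exact Ideal.Quotient.eq_zero_iff_mem.mpr ha
    refine RingHom.FormallySmooth.of_flat_of_ker_eq_map_of_square_zero f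
      (flat_zmod Λ (p ^ (n + 1)) _ (by rw [Nat.cast_pow]) f) qR qS g
      (ZMod.castHom_surjective _) (Ideal.Quotient.factor_surjective hle)
      (RingHom.ext_zmod _ _) ?_ ?_ (ih g)
    · rw [ker_castHom, Ideal.span_singleton_pow, Ideal.span_singleton_eq_bot, ← Nat.cast_pow,
        ZMod.natCast_eq_zero_iff, ← pow_mul]
      exact pow_dvd_pow _ (by omega)
    · rw [hkerS, ker_castHom, Ideal.map_span, Ideal.map_span, Set.image_singleton,
        Set.image_singleton, map_natCast, Nat.cast_pow, map_pow, map_natCast]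

end Cohen

end Groth.Agent.Lib.helper19.CohenSm
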