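import Mathlib

set_option linter.style.haveILetI false

set_option autoImplicit false
universe u
open CategoryTheory CategoryTheory.Limits TensorProduct

namespace Groth.Agent.Lib.helper19.ColimSm

/-- ring homs out of `ULift ℤ` are unique -/
theorem ulift_int_hom_ext {X : Type*} [Semiring X] (f g : ULift.{u} ℤ →+* X) : f = g := by
  have : f.comp (ULift.ringEquiv (R := ℤ)).symm.toRingHom = g.comp (ULift.ringEquiv (R := ℤ)).symm.toRingHom :=
    RingHom.ext_int _ _
  ext x
  exact congr($this x.down)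

theorem main {I : Type u} [SmallCategory I] [IsFiltered I]
    (D : I ⥤ CommRingCat.{u}) (c : Cocone D) (hc : IsColimit c) (B : Type u) [CommRing B]
    [Algebra c.pt B] [Algebra.Smooth c.pt B] :
    ∃ (i : I) (Bi : Type u) (_ : CommRing Bi) (_ : Algebra (D.obj i) Bi),
      Algebra.Smooth (D.obj i) Bi ∧
      (letI : Algebra (D.obj i) c.pt := (c.ι.app i).hom.toAlgebra
       Nonempty (B ≃ₐ[c.pt] (c.pt ⊗[D.obj i] Bi))) := by
  classical
  let Z : CommRingCat.{u} := CommRingCat.of (ULift.{u} ℤ)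
  let toZ : ∀ X : CommRingCat.{u}, Z ⟶ X := fun X =>
    CommRingCat.ofHom ((Int.castRingHom X).comp (ULift.ringEquiv (R := ℤ)).toRingHom)
  have hZ : ∀ {X : CommRingCat.{u}} (a b : Z ⟶ X), a = b := fun a b => by
    ext1; exact ulift_int_hom_ext _ _
  let α : (Functor.const I).obj Z ⟶ D := { app := fun i => toZ (D.obj i), naturality := fun _ _ _ => hZ _ _ }
  letI : Algebra (ULift.{u} ℤ) c.pt := (toZ c.pt).hom.toAlgebra
  obtain ⟨A₀, B₀, _, _, hfg, hsm, ⟨e⟩⟩ := Algebra.Smooth.exists_subalgebra_fg (ULift.{u} ℤ) c.pt B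
  let S : CommRingCat.{u} := CommRingCat.of A₀
  let f : Z ⟶ S := CommRingCat.ofHom (algebraMap (ULift.{u} ℤ) A₀)
  have hf : f.hom.FinitePresentation := by
    haveI : IsNoetherianRing (ULift.{u} ℤ) :=
      isNoetherianRing_of_ringEquiv ℤ (ULift.ringEquiv (R := ℤ)).symm
    haveI : Algebra.FiniteType (ULift.{u} ℤ) A₀ := (Subalgebra.fg_iff_finiteType A₀).mp hfg
    have : Algebra.FinitePresentation (ULift.{u} ℤ) A₀ :=
      Algebra.FinitePresentation.of_finiteType.mp inferInstance
    exact RingHom.finitePresentation_algebraMap.mpr this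
  let g : S ⟶ c.pt := CommRingCat.ofHom A₀.val.toRingHom
  obtain ⟨i, g', -, hg'⟩ := RingHom.EssFiniteType.exists_eq_comp_ι_app_of_isColimit Z D α f c hc hf g
    (fun i => hZ _ _)
  letI : Algebra A₀ (D.obj i) := g'.hom.toAlgebra
  letI : Algebra (D.obj i) c.pt := (c.ι.app i).hom.toAlgebra
  haveI : IsScalarTower A₀ (D.obj i) c.pt := IsScalarTower.of_algebraMap_eq' (by
    exact congr($(hg').hom))
  refine ⟨i, (D.obj i) ⊗[A₀] B₀, inferInstance, inferInstance, inferInstance, ⟨?_⟩⟩
  exact e.trans (Algebra.TensorProduct.cancelBaseChange A₀ (D.obj i) c.pt c.pt B₀).symm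

end Groth.Agent.Lib.helper19.ColimSm
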