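import Mathlib
import Groth.Agent.Lib.helper19.FlatDesc

set_option autoImplicit false
set_option linter.style.haveILetI false
universe u

namespace Groth.Agent.Lib.Helper19.ComplIso

open IsLocalRing

theorem map_maximalIdeal_of_bijective {R S : Type*} [CommRing R] [CommRing S] [IsLocalRing R]
    [IsLocalRing S] (ψ : R →+* S) (hψ : Function.Bijective ψ) :
    (maximalIdeal R).map ψ = maximalIdeal S := by
  let e : R ≃+* S := RingEquiv.ofBijective ψ hψ
  haveI : IsLocalHom ψ := ⟨fun a ha => by
    have h1 : IsUnit (e.symm (ψ a)) := ha.map e.symm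
    have h2 : e.symm (ψ a) = a := e.symm_apply_apply a
    rwa [h2] at h1⟩
  refine le_antisymm (IsLocalRing.map_maximalIdeal_le ψ) fun x hx => ?_
  have hy : e.symm x ∈ maximalIdeal R := by
    rw [mem_maximalIdeal, mem_nonunits_iff] at hx ⊢
    intro hu
    apply hx
    have := hu.map e
    rwa [e.apply_symm_apply] at this
  have : ψ (e.symm x) = x := e.apply_symm_apply x
  rw [← this]
  exact Ideal.mem_map_of_mem _ hy

/-- S19461. -/
theorem main (A B : Type u) [CommRing A]
    [CommRing B] [IsLocalRing A] [IsLocalRing B] [IsNoetherianRing A] [IsNoetherianRing B]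
    [Algebra A B] [IsLocalHom (algebraMap A B)]
    (ψ : AdicCompletion (IsLocalRing.maximalIdeal A) A →+*
      AdicCompletion (IsLocalRing.maximalIdeal B) B)
    (hψ : ψ.comp (algebraMap A (AdicCompletion (IsLocalRing.maximalIdeal A) A)) =
      (algebraMap B (AdicCompletion (IsLocalRing.maximalIdeal B) B)).comp (algebraMap A B))
    (hbij : Function.Bijective ψ) :
    Module.Flat A B ∧
      Ideal.map (algebraMap A B) (IsLocalRing.maximalIdeal A) = IsLocalRing.maximalIdeal B := by
  let Ah := AdicCompletion (maximalIdeal A) A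
  let Bh := AdicCompletion (maximalIdeal B) B
  haveI : Module.FaithfullyFlat B Bh := Module.FaithfullyFlat.of_flat_of_isLocalHom
  haveI : IsScalarTower A B Bh := .of_algebraMap_eq (fun _ => rfl)
  have hψ' : ∀ a : A, ψ (algebraMap A Ah a) = algebraMap A Bh a := fun a => RingHom.congr_fun hψ a
  let e : Ah ≃ₗ[A] Bh :=
    { RingEquiv.ofBijective ψ hbij with
      map_smul' := fun a x => by
        show ψ (a • x) = a • ψ x
        rw [Algebra.smul_def, map_mul, Algebra.smul_def, hψ'] }
  haveI : Module.Flat A Bh := Module.Flat.of_linearEquiv e.symm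
  refine ⟨Helper19.FlatDesc.flat_of_faithfullyFlat_of_flat A B Bh, ?_⟩
  have h1 : (maximalIdeal A).map (algebraMap A Bh) = maximalIdeal Bh := by
    have : algebraMap A Bh = ψ.comp (algebraMap A Ah) := hψ.symm
    rw [this, ← Ideal.map_map, ← AdicCompletion.maximalIdeal_eq_map,
      map_maximalIdeal_of_bijective ψ hbij]
  have h2 : ((maximalIdeal A).map (algebraMap A B)).map (algebraMap B Bh) =
      (maximalIdeal B).map (algebraMap B Bh) := by
    rw [Ideal.map_map, ← IsScalarTower.algebraMap_eq, h1, AdicCompletion.maximalIdeal_eq_map]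
  exact Ideal.map_injective_of_faithfullyFlat (B := Bh) h2

end Groth.Agent.Lib.Helper19.ComplIso
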