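import Mathlib
import Groth.Agent.Lib.helper19.ComplMap1
import Groth.Agent.Lib.helper19.ComplUnram6
import Groth.Agent.Lib.Helper12.EtaleReduced

set_option autoImplicit false
set_option linter.style.haveILetI false
universe u

namespace Groth.Agent.Lib.Helper19.ComplMap

open IsLocalRing

section FlatAt

variable (A C : Type u) [CommRing A] [CommRing C] [Algebra A C] [Algebra.FinitePresentation A C]
  (q : Ideal C) [q.IsPrime]

theorem flat_localization_of_isEtaleAt [Algebra.IsEtaleAt A q] :
    Module.Flat A (Localization.AtPrime q) := by
  obtain ⟨f, hf, hfet⟩ := Algebra.exists_etale_of_isEtaleAt (R := A) q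
  have hdisj : Disjoint (Submonoid.powers f : Set C) (q : Set C) := by
    rwa [Ideal.disjoint_powers_iff_notMem_of_isPrime]
  let q' : Ideal (Localization.Away f) := q.map (algebraMap C (Localization.Away f))
  haveI hq' : q'.IsPrime :=
    IsLocalization.isPrime_of_isPrime_disjoint (Submonoid.powers f) _ q inferInstance hdisj
  have hcomap : q'.comap (algebraMap C (Localization.Away f)) = q :=
    IsLocalization.comap_map_of_isPrime_disjoint (Submonoid.powers f) _ inferInstance hdisj
  have h1 : IsLocalization.AtPrime (Localization.AtPrime q')
      (q'.comap (algebraMap C (Localization.Away f))) :=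
    IsLocalization.isLocalization_isLocalization_atPrime_isLocalization (Submonoid.powers f) _ q'
  have h2 : IsLocalization q.primeCompl (Localization.AtPrime q') := by
    have : q.primeCompl = (q'.comap (algebraMap C (Localization.Away f))).primeCompl := by
      simp only [hcomap]
    rw [this]
    exact h1
  let e : Localization.AtPrime q ≃ₐ[C] Localization.AtPrime q' :=
    IsLocalization.algEquiv q.primeCompl _ _
  haveI : Module.Flat A (Localization.AtPrime q') :=
    Module.Flat.trans A (Localization.Away f) (Localization.AtPrime q')
  exact Module.Flat.of_linearEquiv (e.restrictScalars A).toLinearEquiv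

end FlatAt

/-- S6001. -/
theorem main (A C : Type u) [CommRing A] [IsLocalRing A]
    [IsNoetherianRing A] [CommRing C] [Algebra A C] [Algebra.FiniteType A C] (q : Ideal C)
    [q.IsPrime]
    (hq : Ideal.comap (algebraMap A C) q = IsLocalRing.maximalIdeal A)
    (hC : Algebra.IsEtaleAt A q)
    (hA : IsReduced (AdicCompletion (IsLocalRing.maximalIdeal A) A)) :
    IsReduced (AdicCompletion (IsLocalRing.maximalIdeal (Localization.AtPrime q))
      (Localization.AtPrime q)) ∧
      IsReduced (Localization.AtPrime q) := by
  haveI : IsNoetherianRing C := Algebra.FiniteType.isNoetherianRing A C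
  haveI : IsNoetherianRing (Localization.AtPrime q) :=
    IsLocalization.isNoetherianRing q.primeCompl _ inferInstance
  haveI : Algebra.FinitePresentation A C := Algebra.FinitePresentation.of_finiteType.mp inferInstance
  haveI : IsLocalHom (algebraMap A (Localization.AtPrime q)) := by
    constructor
    intro a ha
    rw [IsScalarTower.algebraMap_apply A C (Localization.AtPrime q),
      IsLocalization.AtPrime.isUnit_to_map_iff _ q] at ha
    by_contra hu
    have : a ∈ maximalIdeal A := hu
    rw [← hq] at this
    exact ha this
  haveI : Module.Flat A (Localization.AtPrime q) := flat_localization_of_isEtaleAt A C q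
  haveI : Algebra.FormallyEtale A (Localization.AtPrime q) := hC
  haveI : Algebra.EssFiniteType A (Localization.AtPrime q) :=
    Algebra.EssFiniteType.comp A C (Localization.AtPrime q)
  have hm := Algebra.FormallyUnramified.map_maximalIdeal (R := A) (S := Localization.AtPrime q)
  have hψ := complMap_comp A (Localization.AtPrime q)
  have het := (Groth.Agent.Lib.Helper19.ComplUnram.main_etale A (Localization.AtPrime q)
    (complMap A (Localization.AtPrime q)) hψ).1.mp ⟨inferInstance, hm, inferInstance, inferInstance⟩
  letI : Algebra (AdicCompletion (maximalIdeal A) A)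
      (AdicCompletion (maximalIdeal (Localization.AtPrime q)) (Localization.AtPrime q)) :=
    (complMap A (Localization.AtPrime q)).toAlgebra
  haveI : Algebra.Etale (AdicCompletion (maximalIdeal A) A)
      (AdicCompletion (maximalIdeal (Localization.AtPrime q)) (Localization.AtPrime q)) := het
  have hred : IsReduced
      (AdicCompletion (maximalIdeal (Localization.AtPrime q)) (Localization.AtPrime q)) :=
    Groth.Agent.Lib.Helper12.isReduced_of_etale (AdicCompletion (maximalIdeal A) A) _
  refine ⟨hred, ?_⟩
  haveI : Module.FaithfullyFlat (Localization.AtPrime q)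
      (AdicCompletion (maximalIdeal (Localization.AtPrime q)) (Localization.AtPrime q)) :=
    Module.FaithfullyFlat.of_flat_of_isLocalHom
  exact isReduced_of_injective (algebraMap (Localization.AtPrime q)
    (AdicCompletion (maximalIdeal (Localization.AtPrime q)) (Localization.AtPrime q)))
    (FaithfulSMul.algebraMap_injective _ _)

end Groth.Agent.Lib.Helper19.ComplMap
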