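import Mathlib

/-!
# The image of `Proj S → Proj S[z]` is `V₊(z)` (helper19)
-/

set_option autoImplicit false
universe u
open CategoryTheory AlgebraicGeometry HomogeneousLocalization
open scoped HomogeneousIdeal

namespace Groth.Agent.Lib.helper19.ConeInf

variable {R A : Type u} [CommRing R] [CommRing A] [Algebra R A] (𝒜 : ℕ → Submodule R A) [GradedAlgebra 𝒜]
    {B : Type u} [CommRing B] [Algebra R B] (ℬ : ℕ → Submodule R B) [GradedAlgebra ℬ]
    [Algebra A B] [IsScalarTower R A B] (φ : 𝒜 →+*ᵍ ℬ) (hφ : ∀ a : A, φ a = algebraMap A B a)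
    (z : B) (hhat : Function.Bijective (Polynomial.aeval (R := A) z))
    (ψ : ℬ →+*ᵍ 𝒜) (hψφ : ∀ a : A, ψ (φ a) = a) (hψz : ψ z = 0)

include hφ hhat hψφ hψz in
/-- every element differs from the image of its retraction by a multiple of `z` -/
theorem sub_mem_span (b : B) : b - φ (ψ b) ∈ Ideal.span {z} := by
  obtain ⟨P, rfl⟩ := hhat.2 b
  have h1 : Polynomial.aeval z P =
      Polynomial.aeval z P.divX * z + algebraMap A B (P.coeff 0) := by
    conv_lhs => rw [← Polynomial.divX_mul_X_add P]
    rw [map_add, map_mul, Polynomial.aeval_X, Polynomial.aeval_C]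
  have h2 : ψ (Polynomial.aeval z P) = P.coeff 0 := by
    rw [h1, map_add, map_mul, hψz, mul_zero, zero_add, ← hφ, hψφ]
  rw [h2, hφ]
  rw [Ideal.mem_span_singleton]
  refine ⟨Polynomial.aeval z P.divX, ?_⟩
  rw [h1]
  ring

include hφ hhat hψφ hψz in
theorem range_eq (hψ : 𝒜₊ ≤ (ℬ₊).map ψ) :
    Set.range (Proj.map ψ hψ).base = ((Proj.basicOpen ℬ z : Set (Proj ℬ)))ᶜ := by
  ext q
  constructor
  · rintro ⟨p, rfl⟩
    show (Proj.map ψ hψ).base p ∉ Proj.basicOpen ℬ z
    rw [Proj.mem_basicOpen, not_not]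
    show ψ z ∈ p.asHomogeneousIdeal
    rw [hψz]
    exact zero_mem _
  · intro hq
    have hzq : z ∈ q.asHomogeneousIdeal := by
      have h1 : q ∉ Proj.basicOpen ℬ z := hq
      rwa [Proj.mem_basicOpen, not_not] at h1
    have hspan : Ideal.span {z} ≤ q.asHomogeneousIdeal.toIdeal :=
      (Ideal.span_singleton_le_iff_mem _).2 hzq
    have key : ∀ b : B, φ (ψ b) ∈ q.asHomogeneousIdeal ↔ b ∈ q.asHomogeneousIdeal := by
      intro b
      have h1 : b - φ (ψ b) ∈ q.asHomogeneousIdeal.toIdeal :=
        hspan (sub_mem_span 𝒜 ℬ φ hφ z hhat ψ hψφ hψz b)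
      constructor
      · intro h2
        have h2' : φ (ψ b) ∈ q.asHomogeneousIdeal.toIdeal := h2
        have h3 := add_mem h1 h2'
        rwa [sub_add_cancel] at h3
      · intro h2
        have h2' : b ∈ q.asHomogeneousIdeal.toIdeal := h2
        have h3 := sub_mem h2' h1
        rwa [sub_sub_cancel] at h3
    let p : ProjectiveSpectrum 𝒜 :=
      { asHomogeneousIdeal := q.asHomogeneousIdeal.comap φ
        isPrime := q.isPrime.comap φ
        not_irrelevant_le := by
          intro hle
          apply q.not_irrelevant_le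
          rw [HomogeneousIdeal.irrelevant_le]
          intro i hi b hb
          have hb' : b ∈ ℬ i := hb
          show b ∈ q.asHomogeneousIdeal
          rw [← key b]
          have h1 : ψ b ∈ 𝒜₊ := HomogeneousIdeal.mem_irrelevant_of_mem _ hi (ψ.map_mem hb')
          exact hle h1 }
    refine ⟨p, ?_⟩
    apply ProjectiveSpectrum.ext
    apply HomogeneousIdeal.ext
    ext b
    show ψ b ∈ p.asHomogeneousIdeal ↔ b ∈ q.asHomogeneousIdeal
    exact key b

end Groth.Agent.Lib.helper19.ConeInf
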