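import Groth.Agent.Lib.Helper28.ProjMapG
import Groth.Agent.Lib.Helper17.ProjSpaceGamma
import Groth.Prelude.Def_CohB1

/-!
# Coordinate linear embeddings `P^n ⟶ P^N` (helper19)
-/

set_option autoImplicit false
universe u
open CategoryTheory CategoryTheory.Limits AlgebraicGeometry Opposite TopologicalSpace HomogeneousLocalization
open MvPolynomial
open scoped HomogeneousIdeal
noncomputable section

namespace Groth.Agent.Lib.helper19.CoordProj

open Groth.Agent.Lib.Helper28 Groth.Agent.Lib.Helper17

variable (k : Type u) [Field k] {n N : ℕ}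
  (σ : Fin (N + 1) → Option (Fin (n + 1))) (τ : Fin (n + 1) → Fin (N + 1))

/-- the images of the variables -/
def img (i : Fin (N + 1)) : MvPolynomial (Fin (n + 1)) k := (σ i).elim 0 X

theorem img_isHomogeneous (i : Fin (N + 1)) : (img k σ i).IsHomogeneous 1 := by
  unfold img
  cases σ i with
  | none => exact isHomogeneous_zero _ _ _
  | some j => exact isHomogeneous_X k j

/-- the coordinate projection of polynomial rings -/
def pa : MvPolynomial (Fin (N + 1)) k →ₐ[k] MvPolynomial (Fin (n + 1)) k := aeval (img k σ)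

theorem pa_X (i : Fin (N + 1)) : pa k σ (X i) = img k σ i := aeval_X _ _

theorem pa_X_none {i : Fin (N + 1)} (h : σ i = none) : pa k σ (X i) = 0 := by
  rw [pa_X]; unfold img; rw [h]; rfl

theorem pa_X_some {i : Fin (N + 1)} {j : Fin (n + 1)} (h : σ i = some j) : pa k σ (X i) = X j := by
  rw [pa_X]; unfold img; rw [h]; rfl

theorem pa_mem {d : ℕ} {F : MvPolynomial (Fin (N + 1)) k} (hF : F ∈ CohB1.polyGrading N k d) :
    pa k σ F ∈ CohB1.polyGrading n k d := by
  have h := MvPolynomial.IsHomogeneous.aeval ((mem_homogeneousSubmodule d F).1 hF) (img k σ)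
    (img_isHomogeneous k σ)
  rw [one_mul] at h
  exact (mem_homogeneousSubmodule d _).2 h

/-- the coordinate projection as a graded ring homomorphism -/
def pg : CohB1.polyGrading N k →+*ᵍ CohB1.polyGrading n k where
  toRingHom := (pa k σ).toRingHom
  map_mem := fun hx => pa_mem k σ hx

theorem pg_apply (F : MvPolynomial (Fin (N + 1)) k) : pg k σ F = pa k σ F := rfl

variable {σ τ} (hστ : ∀ j, σ (τ j) = some j)

include hστ in
theorem pa_rename (F : MvPolynomial (Fin (n + 1)) k) : pa k σ (rename τ F) = F := by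
  have h : (pa k σ).comp (rename τ) = AlgHom.id k _ := by
    apply MvPolynomial.algHom_ext
    intro j
    rw [AlgHom.comp_apply, rename_X, pa_X_some k σ (hστ j)]
    rfl
  exact congrArg (fun f => f F) h

include hστ in
theorem surjective : Function.Surjective (pg k σ) := fun F => ⟨rename τ F, pa_rename k hστ F⟩

include hστ in
theorem irrelevant_le : (CohB1.polyGrading n k)₊ ≤ ((CohB1.polyGrading N k)₊).map (pg k σ) := by
  rw [HomogeneousIdeal.irrelevant_le]
  intro i hi x hx
  have hx' : x ∈ CohB1.polyGrading n k i := hx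
  have h1 : pg k σ (rename τ x) = x := pa_rename k hστ x
  have h0 : rename τ x ∈ CohB1.polyGrading N k i := by
    rw [mem_homogeneousSubmodule] at hx' ⊢
    exact hx'.rename_isHomogeneous
  have h2 : rename τ x ∈ ((CohB1.polyGrading N k)₊).toIdeal :=
    HomogeneousIdeal.mem_irrelevant_of_mem _ hi h0
  show x ∈ (((CohB1.polyGrading N k)₊).map (pg k σ)).toIdeal
  rw [HomogeneousIdeal.toIdeal_map, ← h1]
  exact Ideal.mem_map_of_mem _ h2

/-- the coordinate linear embedding `P^n ⟶ P^N` -/
def pj : Proj (CohB1.polyGrading n k) ⟶ Proj (CohB1.polyGrading N k) :=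
  Proj.map (pg k σ) (irrelevant_le k hστ)

instance : IsClosedImmersion (pj k hστ) :=
  ProjMapG.isClosedImmersion_map (pg k σ) (irrelevant_le k hστ) (surjective k hστ)

set_option backward.isDefEq.respectTransparency false in
theorem pj_toSpec :
    pj k hστ ≫ (show Proj (CohB1.polyGrading N k) ⟶ Spec (CommRingCat.of k) from
      CohB1.ProjSpace.toSpec N k) =
      (show Proj (CohB1.polyGrading n k) ⟶ Spec (CommRingCat.of k) from
        CohB1.ProjSpace.toSpec n k) := by
  unfold pj CohB1.ProjSpace.toSpec
  rw [ProjMapG.map_toSpecZero_assoc, ← Spec.map_comp, ← CommRingCat.ofHom_comp]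
  congr 3
  refine RingHom.ext fun c => Subtype.ext ?_
  show pa k σ (algebraMap k _ c) = algebraMap k _ c
  exact (pa k σ).commutes c

theorem pj_notMem {i : Fin (N + 1)} (h : σ i = none) (a : Proj (CohB1.polyGrading n k)) :
    (pj k hστ) a ∉ Proj.basicOpen (CohB1.polyGrading N k) (X i) := by
  intro hmem
  have h1 : a ∈ (pj k hστ) ⁻¹ᵁ Proj.basicOpen (CohB1.polyGrading N k) (X i) := hmem
  have h2 : (pj k hστ) ⁻¹ᵁ Proj.basicOpen (CohB1.polyGrading N k) (X i) =
      Proj.basicOpen (CohB1.polyGrading n k) (pg k σ (X i)) := rfl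
  rw [h2, pg_apply, pa_X_none k σ h, Proj.basicOpen_zero] at h1
  exact h1

end Groth.Agent.Lib.helper19.CoordProj
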