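import Groth.Agent.Lib.helper19.CoordProj
import Groth.Agent.Lib.Helper28.CoprodBundle

set_option autoImplicit false
universe u
open CategoryTheory CategoryTheory.Limits AlgebraicGeometry Opposite TopologicalSpace
open MvPolynomial
noncomputable section

namespace Groth.Agent.Lib.helper19.CoprodPn

open Groth.Agent.Lib.Helper28 Groth.Agent.Lib.Helper17 Groth.Agent.Lib.helper19.CoordProj

variable (n m : ℕ)

def σ₁ (i : Fin (n + m + 1 + 1)) : Option (Fin (n + 1)) :=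
  if h : i.val < n + 1 then some ⟨i.val, h⟩ else none

def τ₁ (j : Fin (n + 1)) : Fin (n + m + 1 + 1) := ⟨j.val, by omega⟩

theorem h₁ (j : Fin (n + 1)) : σ₁ n m (τ₁ n m j) = some j := by
  unfold σ₁ τ₁
  rw [dif_pos j.2]

def σ₂ (i : Fin (n + m + 1 + 1)) : Option (Fin (m + 1)) :=
  if h : n + 1 ≤ i.val then some ⟨i.val - (n + 1), by omega⟩ else none

def τ₂ (j : Fin (m + 1)) : Fin (n + m + 1 + 1) := ⟨j.val + (n + 1), by omega⟩

theorem h₂ (j : Fin (m + 1)) : σ₂ n m (τ₂ n m j) = some j := by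
  unfold σ₂ τ₂
  rw [dif_pos (by simp)]
  congr 1
  ext
  simp

theorem none_or (i : Fin (n + m + 1 + 1)) : σ₁ n m i = none ∨ σ₂ n m i = none := by
  unfold σ₁ σ₂
  by_cases h : i.val < n + 1
  · right; rw [dif_neg (by omega)]
  · left; rw [dif_neg h]

variable (k : Type u) [Field k]

theorem main (X₁ X₂ : Scheme.{u}) [X₁.Over (Spec (CommRingCat.of k))] [X₂.Over (Spec (CommRingCat.of k))]
    (i₁ : X₁ ⟶ CohB1.ProjSpace n k) [IsClosedImmersion i₁]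
    (hi₁ : i₁ ≫ CohB1.ProjSpace.toSpec n k = X₁ ↘ (Spec (CommRingCat.of k)))
    (i₂ : X₂ ⟶ CohB1.ProjSpace m k) [IsClosedImmersion i₂]
    (hi₂ : i₂ ≫ CohB1.ProjSpace.toSpec m k = X₂ ↘ (Spec (CommRingCat.of k))) :
    ∃ j : X₁ ⨿ X₂ ⟶ CohB1.ProjSpace (n + m + 1) k, IsClosedImmersion j ∧
      j ≫ CohB1.ProjSpace.toSpec (n + m + 1) k =
        coprod.desc (X₁ ↘ (Spec (CommRingCat.of k))) (X₂ ↘ (Spec (CommRingCat.of k))) := by
  let J₁ : CohB1.ProjSpace n k ⟶ CohB1.ProjSpace (n + m + 1) k := pj k (h₁ n m)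
  let J₂ : CohB1.ProjSpace m k ⟶ CohB1.ProjSpace (n + m + 1) k := pj k (h₂ n m)
  haveI : IsClosedImmersion J₁ := inferInstanceAs (IsClosedImmersion (pj k (h₁ n m)))
  haveI : IsClosedImmersion J₂ := inferInstanceAs (IsClosedImmersion (pj k (h₂ n m)))
  have hJ₁ : J₁ ≫ CohB1.ProjSpace.toSpec (n + m + 1) k = CohB1.ProjSpace.toSpec n k :=
    pj_toSpec k (h₁ n m)
  have hJ₂ : J₂ ≫ CohB1.ProjSpace.toSpec (n + m + 1) k = CohB1.ProjSpace.toSpec m k :=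
    pj_toSpec k (h₂ n m)
  have hdisj : ∀ (a : X₁) (b : X₂), (i₁ ≫ J₁) a ≠ (i₂ ≫ J₂) b := by
    intro a b hab
    have hx : (i₁ ≫ J₁) a ∈ (⨆ i, ProjSpaceGamma.U (n + m + 1) k i) := by
      rw [ProjSpaceGamma.iSup_U]; trivial
    obtain ⟨i, hi⟩ := TopologicalSpace.Opens.mem_iSup.1 hx
    rcases none_or n m i with h | h
    · exact pj_notMem k (h₁ n m) h (i₁ a) hi
    · rw [hab] at hi
      exact pj_notMem k (h₂ n m) h (i₂ b) hi
  refine ⟨coprod.desc (i₁ ≫ J₁) (i₂ ≫ J₂),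
    CoprodBundle.isClosedImmersion_coprodDesc _ _ hdisj, ?_⟩
  apply coprod.hom_ext
  · rw [coprod.inl_desc_assoc, coprod.inl_desc, Category.assoc, hJ₁, hi₁]
  · rw [coprod.inr_desc_assoc, coprod.inr_desc, Category.assoc, hJ₂, hi₂]

end Groth.Agent.Lib.helper19.CoprodPn
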