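import Mathlib

set_option autoImplicit false
universe u
open TensorProduct KaehlerDifferential IsLocalRing

namespace Groth.Agent.Lib.Helper19.CotSmooth

section Bij

variable (k B K : Type u) [Field k] [CommRing B] [Algebra k B] [CommRing K] [Algebra k K]
  [Algebra B K] [IsScalarTower k B K]

theorem kerCotangentToTensor_injective (hf : Function.Surjective (algebraMap B K))
    (hres : Function.Bijective (algebraMap k K)) :
    Function.Injective (kerCotangentToTensor k B K) := by
  let e : k ≃ₐ[k] K := AlgEquiv.ofBijective (Algebra.ofId k K) hres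
  let g : K →ₐ[k] B ⧸ (RingHom.ker (IsScalarTower.toAlgHom k B K).toRingHom ^ 2) :=
    (Algebra.ofId k _).comp e.symm.toAlgHom
  have hg : (IsScalarTower.toAlgHom k B K).kerSquareLift.comp g = AlgHom.id k K := by
    ext a
    obtain ⟨c, rfl⟩ := hres.2 a
    have h1 : g (algebraMap k _ c) = algebraMap k _ c := AlgHom.commutes g c
    rw [AlgHom.comp_apply, h1, AlgHom.commutes, AlgHom.id_apply]
  obtain ⟨l, hl⟩ := (retractionKerCotangentToTensorEquivSection (R := k) hf).symm ⟨g, hg⟩
  exact Function.LeftInverse.injective (g := l) (fun x => LinearMap.congr_fun hl x)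

theorem kerCotangentToTensor_surjective (hf : Function.Surjective (algebraMap B K))
    (hres : Function.Bijective (algebraMap k K)) :
    Function.Surjective (kerCotangentToTensor k B K) := by
  have hex := exact_kerCotangentToTensor_mapBaseChange k B K hf
  have hsub : Subsingleton (Ω[K⁄k]) :=
    KaehlerDifferential.subsingleton_of_surjective k K hres.2
  intro y
  exact (hex y).1 (Subsingleton.elim _ _)

end Bij

section Split

variable (k R T : Type u) [CommRing k] [CommRing R] [CommRing T] [Algebra k R] [Algebra k T]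
  [Algebra R T] [IsScalarTower k R T]

theorem exists_retraction_of_formallySmooth [Algebra.FormallySmooth R T] :
    ∃ l' : Ω[T⁄k] →ₗ[T] T ⊗[R] Ω[R⁄k], l' ∘ₗ mapBaseChange k R T = LinearMap.id := by
  have h2 := Algebra.H1Cotangent.exact_δ_mapBaseChange k R T
  have hex := exact_mapBaseChange_map k R T
  haveI : Subsingleton (Algebra.H1Cotangent R T) := Algebra.FormallySmooth.subsingleton_h1Cotangent
  have hinj : Function.Injective (mapBaseChange k R T) := by
    rw [injective_iff_map_eq_zero]
    intro x hx
    obtain ⟨z, rfl⟩ := (h2 x).1 hx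
    rw [Subsingleton.elim z 0, map_zero]
  haveI : Module.Projective T Ω[T⁄R] := inferInstance
  obtain ⟨s, hs⟩ := Module.projective_lifting_property (map k R T T) LinearMap.id
    (map_surjective k R T)
  obtain ⟨e, he1, he2⟩ := hex.splitSurjectiveEquiv hinj ⟨s, hs⟩
  refine ⟨LinearMap.fst T _ _ ∘ₗ e.toLinearMap, ?_⟩
  rw [he1]
  ext x
  simp

theorem formallySmooth_of_retraction [Algebra.FormallySmooth k T]
    (l' : Ω[T⁄k] →ₗ[T] T ⊗[R] Ω[R⁄k]) (hl' : l' ∘ₗ mapBaseChange k R T = LinearMap.id) :
    Algebra.FormallySmooth R T := by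
  have h1 := Algebra.H1Cotangent.exact_map_δ k R T
  have h2 := Algebra.H1Cotangent.exact_δ_mapBaseChange k R T
  have hex := exact_mapBaseChange_map k R T
  have hinj : Function.Injective (mapBaseChange k R T) :=
    Function.LeftInverse.injective (g := l') (fun x => LinearMap.congr_fun hl' x)
  obtain ⟨e, he1, he2⟩ := hex.splitInjectiveEquiv (map_surjective k R T) ⟨l', hl'⟩
  haveI : Module.Projective T Ω[T⁄k] := inferInstance
  have hproj : Module.Projective T Ω[T⁄R] := by
    refine Module.Projective.of_split (e.symm.toLinearMap ∘ₗ LinearMap.inr T _ _) (map k R T T) ?_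
    rw [he2]
    ext x
    simp
  refine ⟨hproj, ?_⟩
  haveI : Subsingleton (Algebra.H1Cotangent k T) := Algebra.FormallySmooth.subsingleton_h1Cotangent
  refine ⟨fun x y => ?_⟩
  have hδ : ∀ z, Algebra.H1Cotangent.δ k R T z = 0 := fun z =>
    hinj (by rw [h2.apply_apply_eq_zero, map_zero])
  have hz : ∀ z : Algebra.H1Cotangent R T, z = 0 := fun z => by
    obtain ⟨w, rfl⟩ := (h1 z).1 (hδ z)
    rw [Subsingleton.elim w 0, map_zero]
  rw [hz x, hz y]

end Split

section Local

variable (k R T : Type u) [Field k] [CommRing R] [CommRing T] [IsLocalRing R] [IsLocalRing T]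
  [Algebra k R] [Algebra k T] [Algebra R T] [IsScalarTower k R T] [IsLocalHom (algebraMap R T)]

theorem ker_algebraMap_residueField :
    RingHom.ker (algebraMap R (ResidueField T)) = maximalIdeal R := by
  ext r
  rw [RingHom.mem_ker, IsScalarTower.algebraMap_apply R T (ResidueField T),
    ResidueField.algebraMap_eq, residue_eq_zero_iff, mem_maximalIdeal, mem_maximalIdeal,
    mem_nonunits_iff, mem_nonunits_iff, isUnit_map_iff]

theorem injective_cot_iff (hT : Function.Bijective (algebraMap k (ResidueField T)))
    (c : CotangentSpace R → CotangentSpace T)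
    (hc : ∀ (r : R) (hr : r ∈ maximalIdeal R) (hr' : algebraMap R T r ∈ maximalIdeal T),
      c ((maximalIdeal R).toCotangent ⟨r, hr⟩) =
        (maximalIdeal T).toCotangent ⟨algebraMap R T r, hr'⟩) :
    Function.Injective c ↔
      Function.Injective ((mapBaseChange k R T).lTensor (ResidueField T)) := by
  let K := ResidueField T
  have hsT : Function.Surjective (algebraMap T K) := residue_surjective
  have hsR : Function.Surjective (algebraMap R K) := by
    intro a
    obtain ⟨c, rfl⟩ := hT.2 a
    exact ⟨algebraMap k R c, (IsScalarTower.algebraMap_apply k R K c).symm⟩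
  have hkR : RingHom.ker (algebraMap R K) = maximalIdeal R := ker_algebraMap_residueField R T
  have hkT : RingHom.ker (algebraMap T K) = maximalIdeal T := ker_residue (R := T)
  let φR : CotangentSpace R → K ⊗[R] Ω[R⁄k] := fun a =>
    kerCotangentToTensor k R K (Ideal.Cotangent.equivOfEq _ _ hkR.symm a)
  let φT : CotangentSpace T → K ⊗[T] Ω[T⁄k] := fun a =>
    kerCotangentToTensor k T K (Ideal.Cotangent.equivOfEq _ _ hkT.symm a)
  have hφR : Function.Bijective φR :=
    ⟨(kerCotangentToTensor_injective k R K hsR hT).comp (LinearEquiv.injective _),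
      (kerCotangentToTensor_surjective k R K hsR hT).comp (LinearEquiv.surjective _)⟩
  have hφT : Function.Bijective φT :=
    ⟨(kerCotangentToTensor_injective k T K hsT hT).comp (LinearEquiv.injective _),
      (kerCotangentToTensor_surjective k T K hsT hT).comp (LinearEquiv.surjective _)⟩
  let E := AlgebraTensorModule.cancelBaseChange R T K K Ω[R⁄k]
  let ψ : K ⊗[R] Ω[R⁄k] → K ⊗[T] Ω[T⁄k] := fun z =>
    (mapBaseChange k R T).lTensor K (E.symm z)
  have hsq : ∀ a, ψ (φR a) = φT (c a) := by
    intro a
    obtain ⟨⟨r, hr⟩, rfl⟩ := (maximalIdeal R).toCotangent_surjective a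
    have hr' : algebraMap R T r ∈ maximalIdeal T := by
      rw [mem_maximalIdeal, mem_nonunits_iff, isUnit_map_iff]
      exact hr
    rw [hc r hr hr']
    show (mapBaseChange k R T).lTensor K (E.symm ((1 : K) ⊗ₜ[R] D k R r)) =
      (1 : K) ⊗ₜ[T] D k T (algebraMap R T r)
    rw [AlgebraTensorModule.cancelBaseChange_symm_tmul, LinearMap.lTensor_tmul,
      mapBaseChange_tmul, one_smul, map_D]
  have h1 : Function.Injective c ↔ Function.Injective ψ := by
    constructor
    · intro h x y hxy
      obtain ⟨a, rfl⟩ := hφR.2 x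
      obtain ⟨b, rfl⟩ := hφR.2 y
      rw [hsq, hsq] at hxy
      rw [h (hφT.1 hxy)]
    · intro h a b hab
      apply hφR.1
      apply h
      rw [hsq, hsq, hab]
  rw [h1]
  exact Function.Injective.of_comp_iff' _ E.symm.bijective

theorem formallySmooth_iff_injective_cot [Algebra.FormallySmooth k T]
    [Module.Finite R Ω[R⁄k]] [Module.Finite T Ω[T⁄k]]
    (hT : Function.Bijective (algebraMap k (ResidueField T)))
    (c : CotangentSpace R → CotangentSpace T)
    (hc : ∀ (r : R) (hr : r ∈ maximalIdeal R) (hr' : algebraMap R T r ∈ maximalIdeal T),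
      c ((maximalIdeal R).toCotangent ⟨r, hr⟩) =
        (maximalIdeal T).toCotangent ⟨algebraMap R T r, hr'⟩) :
    Algebra.FormallySmooth R T ↔ Function.Injective c := by
  haveI : Module.Projective T Ω[T⁄k] := inferInstance
  haveI : Module.Free T Ω[T⁄k] := Module.free_of_flat_of_isLocalRing
  rw [injective_cot_iff k R T hT c hc,
    ← IsLocalRing.split_injective_iff_lTensor_residueField_injective]
  constructor
  · intro h
    exact exists_retraction_of_formallySmooth k R T
  · rintro ⟨l', hl'⟩
    exact formallySmooth_of_retraction k R T l' hl'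

end Local

end Groth.Agent.Lib.Helper19.CotSmooth
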