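import Groth.Agent.Lib.helper19.CotSmooth
import Groth.Prelude.Def_FixPt
import Groth.Prelude.Def_CurvBase
import Groth.Agent.Lib.Helper18.Curve.Points
import Groth.Agent.Lib.Helper7.ResFieldTrdeg

set_option autoImplicit false
universe u
open CategoryTheory CategoryTheory.Limits AlgebraicGeometry Opposite TensorProduct

namespace Groth.Agent.Lib.Helper19.CotSmoothGeo

open Groth.Agent.Lib.Helper7

section Stalk

variable (k : Type u) [Field k] (X : Scheme.{u}) [X.Over (Spec (CommRingCat.of k))]
  [LocallyOfFiniteType (X ↘ Spec (CommRingCat.of k))]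

theorem essFiniteType_stalk (x : X) :
    letI := Curv2.stalkAlgebra k X x
    Algebra.EssFiniteType k (X.presheaf.stalk x) := by
  letI := Curv2.stalkAlgebra k X x
  obtain ⟨U, hU, hxU, -⟩ := exists_isAffineOpen_mem_and_subset (x := x) (U := ⊤) trivial
  letI algA : Algebra k Γ(X, U) := (ResTrdeg.kToΓ k X U).toAlgebra
  haveI ftA : Algebra.FiniteType k Γ(X, U) := ResTrdeg.finiteType_kToΓ k X hU
  letI := TopCat.Presheaf.algebra_section_stalk X.presheaf ⟨x, hxU⟩
  haveI := hU.isLocalization_stalk ⟨x, hxU⟩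
  haveI : IsScalarTower k Γ(X, U) (X.presheaf.stalk x) :=
    IsScalarTower.of_algebraMap_eq (fun c => (ResTrdeg.germ_kToΓ k X U x hxU c).symm)
  haveI : Algebra.EssFiniteType Γ(X, U) (X.presheaf.stalk x) :=
    .of_isLocalization _ (hU.primeIdealOf ⟨x, hxU⟩).asIdeal.primeCompl
  exact Algebra.EssFiniteType.comp k Γ(X, U) _

theorem formallySmooth_stalk [Smooth (X ↘ Spec (CommRingCat.of k))] (x : X) :
    letI := Curv2.stalkAlgebra k X x
    Algebra.FormallySmooth k (X.presheaf.stalk x) := by
  letI := Curv2.stalkAlgebra k X x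
  obtain ⟨U, hU, hxU, -⟩ := exists_isAffineOpen_mem_and_subset (x := x) (U := ⊤) trivial
  letI algA : Algebra k Γ(X, U) := (ResTrdeg.kToΓ k X U).toAlgebra
  letI := TopCat.Presheaf.algebra_section_stalk X.presheaf ⟨x, hxU⟩
  haveI := hU.isLocalization_stalk ⟨x, hxU⟩
  haveI : IsScalarTower k Γ(X, U) (X.presheaf.stalk x) :=
    IsScalarTower.of_algebraMap_eq (fun c => (ResTrdeg.germ_kToΓ k X U x hxU c).symm)
  haveI : Algebra.FormallySmooth k Γ(X, U) := by
    have h1 : ((X ↘ Spec (CommRingCat.of k)).appLE ⊤ U le_top).hom.Smooth :=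
      (X ↘ Spec (CommRingCat.of k)).smooth_appLE (isAffineOpen_top _) hU le_top
    have h2 : (Scheme.ΓSpecIso (CommRingCat.of k)).inv.hom.Smooth :=
      RingHom.Smooth.of_bijective (ConcreteCategory.bijective_of_isIso _)
    have h3 : (ResTrdeg.kToΓ k X U).Smooth := h2.comp h1
    exact (RingHom.Smooth.toAlgebra h3).formallySmooth
  haveI : Algebra.FormallySmooth Γ(X, U) (X.presheaf.stalk x) :=
    Algebra.FormallySmooth.of_isLocalization (hU.primeIdealOf ⟨x, hxU⟩).asIdeal.primeCompl
  exact Algebra.FormallySmooth.comp k Γ(X, U) _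

theorem bijective_algebraMap_residueField [IsAlgClosed k] (x : X) (hx : IsClosed ({x} : Set X)) :
    letI := Curv2.stalkAlgebra k X x
    Function.Bijective (algebraMap k (IsLocalRing.ResidueField (X.presheaf.stalk x))) := by
  letI := Curv2.stalkAlgebra k X x
  let p := X ↘ Spec (CommRingCat.of k)
  haveI : JacobsonSpace X := LocallyOfFiniteType.jacobsonSpace p
  have hfin : IsFinite (X.fromSpecResidueField x ≫ p) := by
    rw [isClosed_singleton_iff_isClosedImmersion] at hx
    rw [isFinite_iff_locallyOfFiniteType_of_jacobsonSpace]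
    infer_instance
  rw [Groth.Agent.Lib.Helper18.Curve.fromSpecResidueField_comp p x] at hfin
  have hint : (Groth.Agent.Lib.Helper18.Curve.resMapF p x).IsIntegral := by
    have : IsIntegralHom (Spec.map (CommRingCat.ofHom (Groth.Agent.Lib.Helper18.Curve.resMapF p x))) :=
      inferInstance
    exact (IsIntegralHom.SpecMap_iff).1 this
  have heq : algebraMap k (IsLocalRing.ResidueField (X.presheaf.stalk x)) =
      Groth.Agent.Lib.Helper18.Curve.resMapF p x := rfl
  haveI : Algebra.IsIntegral k (IsLocalRing.ResidueField (X.presheaf.stalk x)) := ⟨by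
    intro z
    exact hint z⟩
  exact IsAlgClosed.algebraMap_bijective_of_isIntegral

end Stalk

section Main

variable (k : Type u) [Field k] [IsAlgClosed k] {X Y : Scheme.{u}}

theorem stalkMapAt_rfl (f : X ⟶ Y) (x : X) (r : Y.presheaf.stalk (f x)) :
    FixPt.stalkMapAt f x (f x) rfl r = (f.stalkMap x).hom r := by
  unfold FixPt.stalkMapAt
  have : (Y.presheaf.stalkCongr (Inseparable.of_eq (rfl : f x = f x))).inv = 𝟙 _ :=
    Y.presheaf.stalkSpecializes_refl (f x)
  rw [this, Category.id_comp]

theorem formallySmooth_stalkMap_iff (qX : X ⟶ Spec (CommRingCat.of k))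
    (qY : Y ⟶ Spec (CommRingCat.of k))
    [LocallyOfFiniteType qX] [Smooth qX] [LocallyOfFiniteType qY]
    (f : X ⟶ Y) (hf : f ≫ qY = qX) (x : X) (hx : IsClosed ({x} : Set X)) :
    (f.stalkMap x).hom.FormallySmooth ↔
      Function.Injective (FixPt.cotangentMapAt f x (f x) rfl) := by
  subst hf
  letI : Y.Over (Spec (CommRingCat.of k)) := ⟨qY⟩
  letI : X.Over (Spec (CommRingCat.of k)) := ⟨f ≫ qY⟩
  haveI : LocallyOfFiniteType (Y ↘ Spec (CommRingCat.of k)) := ‹LocallyOfFiniteType qY›
  haveI : LocallyOfFiniteType (X ↘ Spec (CommRingCat.of k)) := ‹LocallyOfFiniteType (f ≫ qY)›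
  haveI : Smooth (X ↘ Spec (CommRingCat.of k)) := ‹Smooth (f ≫ qY)›
  letI algR : Algebra k (Y.presheaf.stalk (f x)) := Curv2.stalkAlgebra k Y (f x)
  letI algT : Algebra k (X.presheaf.stalk x) := Curv2.stalkAlgebra k X x
  letI algRT : Algebra (Y.presheaf.stalk (f x)) (X.presheaf.stalk x) := (f.stalkMap x).hom.toAlgebra
  haveI tower : IsScalarTower k (Y.presheaf.stalk (f x)) (X.presheaf.stalk x) := by
    apply IsScalarTower.of_algebraMap_eq
    intro c
    show (X.presheaf.germ ⊤ x trivial).hom ((f ≫ qY).appTop.hom _) =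
      (f.stalkMap x).hom ((Y.presheaf.germ ⊤ (f x) trivial).hom (qY.appTop.hom _))
    rw [Scheme.Hom.germ_stalkMap_apply, Scheme.Hom.comp_appTop]
    rfl
  haveI : IsLocalHom (algebraMap (Y.presheaf.stalk (f x)) (X.presheaf.stalk x)) :=
    (inferInstance : IsLocalHom (f.stalkMap x).hom)
  haveI := essFiniteType_stalk k X x
  haveI := essFiniteType_stalk k Y (f x)
  haveI := formallySmooth_stalk k X x
  have hT := bijective_algebraMap_residueField k X x hx
  exact Groth.Agent.Lib.Helper19.CotSmooth.formallySmooth_iff_injective_cot k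
    (Y.presheaf.stalk (f x)) (X.presheaf.stalk x) hT
    (FixPt.cotangentMapAt f x (f x) rfl) (fun r hr hr' => by
      unfold FixPt.cotangentMapAt
      rw [Ideal.mapCotangent_toCotangent]
      congr 1
      exact Subtype.ext (stalkMapAt_rfl f x r))

theorem smooth_iff (qX : X ⟶ Spec (CommRingCat.of k)) (qY : Y ⟶ Spec (CommRingCat.of k))
    [LocallyOfFiniteType qX] [Smooth qX] [LocallyOfFiniteType qY]
    (f : X ⟶ Y) (hf : f ≫ qY = qX) :
    Smooth f ↔ ∀ x : X, IsClosed ({x} : Set X) →
      Function.Injective (FixPt.cotangentMapAt f x (f x) rfl) := by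
  haveI : LocallyOfFiniteType (f ≫ qY) := hf ▸ ‹LocallyOfFiniteType qX›
  haveI : LocallyOfFiniteType f := locallyOfFiniteType_of_comp f qY
  haveI : IsLocallyNoetherian Y := LocallyOfFiniteType.isLocallyNoetherian qY
  haveI : LocallyOfFinitePresentation f :=
    LocallyOfFinitePresentation.iff_locallyOfFiniteType.2 inferInstance
  haveI : JacobsonSpace X := LocallyOfFiniteType.jacobsonSpace qX
  constructor
  · intro h x hx
    have hmem : x ∈ f.smoothLocus := by rw [f.smoothLocus_eq_top]; trivial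
    exact (formallySmooth_stalkMap_iff k qX qY f hf x hx).1 (Scheme.Hom.mem_smoothLocus.1 hmem)
  · intro h
    rw [← Scheme.Hom.smoothLocus_eq_top_iff, ← TopologicalSpace.Opens.coe_eq_univ, ← not_ne_iff,
      ← Set.nonempty_compl]
    intro H
    obtain ⟨x, hx, hxc⟩ :=
      nonempty_inter_closedPoints H f.smoothLocus.2.isClosed_compl.isLocallyClosed
    exact hx ((formallySmooth_stalkMap_iff k qX qY f hf x hxc).2 (h x hxc))

end Main

end Groth.Agent.Lib.Helper19.CotSmoothGeo
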