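import Groth.Agent.Lib.helper19.CotSmoothGeo
import Groth.Agent.Lib.helper19.SmoothOmega
import Groth.Agent.Lib.lead.SmoothDimSp
import Groth.Agent.Lib.lead.FlatEquidim

set_option autoImplicit false
universe u
open CategoryTheory CategoryTheory.Limits AlgebraicGeometry Opposite TensorProduct

namespace Groth.Agent.Lib.Helper19.CotSmoothMain

open Groth.Agent.Lib.lead

variable (k : Type u) [Field k] {X Y : Scheme.{u}}

theorem smoothOfRelativeDimension_of_smooth (qX : X ⟶ Spec (CommRingCat.of k))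
    (qY : Y ⟶ Spec (CommRingCat.of k))
    [IrreducibleSpace ↥X] [LocallyOfFiniteType qX] [IrreducibleSpace ↥Y] [LocallyOfFiniteType qY]
    (f : X ⟶ Y) (hf : f ≫ qY = qX) [Smooth f] (n dY : ℕ)
    (hY : topologicalKrullDim ↥Y = dY)
    (hX : topologicalKrullDim ↥X = ((dY + n : ℕ) : WithBot ℕ∞)) :
    SmoothOfRelativeDimension n f := by
  subst hf
  letI : Y.Over (Spec (CommRingCat.of k)) := ⟨qY⟩
  letI : X.Over (Spec (CommRingCat.of k)) := ⟨f ≫ qY⟩
  haveI : LocallyOfFiniteType (Y ↘ Spec (CommRingCat.of k)) := ‹LocallyOfFiniteType qY›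
  haveI : LocallyOfFiniteType (X ↘ Spec (CommRingCat.of k)) := ‹LocallyOfFiniteType (f ≫ qY)›
  haveI : IsLocallyNoetherian Y := LocallyOfFiniteType.isLocallyNoetherian qY
  haveI : IsLocallyNoetherian X := LocallyOfFiniteType.isLocallyNoetherian (f ≫ qY)
  refine ⟨fun x => ?_⟩
  obtain ⟨V', hV', W, hW, hxW, e, hφ⟩ := Smooth.exists_isStandardSmooth f x
  obtain ⟨m, hm⟩ : ∃ m, (f.appLE V' W e).hom.IsStandardSmoothOfRelativeDimension m := by
    obtain ⟨ι, σ, hσ, hι, ⟨P⟩⟩ := hφ
    letI := (f.appLE V' W e).hom.toAlgebra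
    exact ⟨P.dimension, ⟨ι, σ, hσ, hι, P, rfl⟩⟩
  have hfd : FlatMor.fibreDimAt f x = (m : WithBot ℕ∞) := by
    haveI : LocallyOfFiniteType f := inferInstance
    have hxr : x ∈ Set.range hW.fromSpec := by rw [hW.range_fromSpec]; exact hxW
    obtain ⟨w, rfl⟩ := hxr
    have comm := IsAffineOpen.SpecMap_appLE_fromSpec f hV' hW e
    have hfp : (f.appLE V' W e).hom.FinitePresentation :=
      HasRingHomProperty.appLE (P := @LocallyOfFinitePresentation) f inferInstance ⟨V', hV'⟩
        ⟨W, hW⟩ e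
    haveI : LocallyOfFiniteType (Spec.map (f.appLE V' W e)) := by
      rw [HasRingHomProperty.Spec_iff (P := @LocallyOfFiniteType)]
      exact RingHom.FiniteType.of_finitePresentation hfp
    rw [Groth.Agent.Lib.Helper18.Chev.fibreDimAt_eq_of_openImmersion_square _ hV'.fromSpec hW.fromSpec f comm w]
    exact SmoothRelDim.fibreDimAt_of_isStandardSmoothOfRelativeDimension (f.appLE V' W e).hom m hm w
  have hdim := SmoothDimSp.localDim_of_smooth f x
  rw [Groth.Agent.Lib.Helper19.SmoothOmega.localDim_eq k X x,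
    Groth.Agent.Lib.Helper19.SmoothOmega.localDim_eq k Y (f x), hX, hY, hfd] at hdim
  have h3 : dY + n = dY + m := by exact_mod_cast hdim
  have : m = n := by omega
  subst this
  exact ⟨V', hV', W, hW, hxW, e, hm⟩

theorem eq_sub_of_add_eq {a : WithBot ℕ∞} {m n : ℕ}
    (h : a + (m : WithBot ℕ∞) = (n : WithBot ℕ∞)) : a = ((n - m : ℕ) : WithBot ℕ∞) := by
  induction a using WithBot.recBotCoe with
  | bot => simp at h
  | coe a =>
    induction a using ENat.recTopCoe with
    | top =>
      exfalso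
      have h' : ((⊤ + (m : ℕ∞) : ℕ∞) : WithBot ℕ∞) = ((n : ℕ∞) : WithBot ℕ∞) := by exact_mod_cast h
      rw [top_add] at h'
      have := WithBot.coe_injective h'
      exact ENat.top_ne_coe n this
    | coe a =>
      have h' : a + m = n := by exact_mod_cast h
      have : a = n - m := by omega
      rw [this]
      rfl

section Closed

variable [IsAlgClosed k]

theorem S10936 (qX : X ⟶ Spec (CommRingCat.of k)) (qY : Y ⟶ Spec (CommRingCat.of k))
    [IsIntegral X] [LocallyOfFiniteType qX] [Smooth qX]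
    [IsIntegral Y] [LocallyOfFiniteType qY]
    (f : X ⟶ Y) (hf : f ≫ qY = qX) (n dY : ℕ) (hY : topologicalKrullDim ↥Y = dY)
    (hX : topologicalKrullDim ↥X = ((dY + n : ℕ) : WithBot ℕ∞)) :
    SmoothOfRelativeDimension n f ↔
      ∀ x : X, IsClosed ({x} : Set ↥X) →
        Function.Injective (FixPt.cotangentMapAt f x (f.base x) rfl) := by
  rw [← Groth.Agent.Lib.Helper19.CotSmoothGeo.smooth_iff k qX qY f hf]
  constructor
  · intro h
    exact SmoothOfRelativeDimension.smooth n f
  · intro h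
    exact smoothOfRelativeDimension_of_smooth k qX qY f hf n dY hY hX

theorem S19460 (qX : X ⟶ Spec (CommRingCat.of k)) (qY : Y ⟶ Spec (CommRingCat.of k))
    [IsIntegral X] [LocallyOfFiniteType qX] [QuasiCompact qX] [Smooth qX]
    [IsIntegral Y] [LocallyOfFiniteType qY] [QuasiCompact qY]
    (f : X ⟶ Y) (hf : f ≫ qY = qX) (dX dY : ℕ) (hX : topologicalKrullDim ↥X = dX)
    (hY : topologicalKrullDim ↥Y = dY)
    (hT : ∀ x : X, IsClosed ({x} : Set ↥X) →
      Function.Injective (FixPt.cotangentMapAt f x (f.base x) rfl)) :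
    DenseRange f.base ∧ dY ≤ dX ∧
      ∀ y : Y, IsClosed ({y} : Set ↥Y) → y ∈ Set.range f.base →
        Smooth (f.fiberToSpecResidueField y) ∧
          ∀ Z ∈ irreducibleComponents ↥(f.fiber y),
            topologicalKrullDim ↥Z = ((dX - dY : ℕ) : WithBot ℕ∞) := by
  haveI : Smooth f := (Groth.Agent.Lib.Helper19.CotSmoothGeo.smooth_iff k qX qY f hf).2 hT
  haveI : Flat f := inferInstance
  obtain ⟨h1, h2⟩ := FlatEquidim.S14404 k qX qY f hf
  refine ⟨?_, ?_, ?_⟩
  · have hopen : IsOpen (Set.range f.base) := f.isOpenMap.isOpen_range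
    exact hopen.dense (Set.range_nonempty _)
  · rw [hX, hY] at h1
    exact_mod_cast h1
  · intro y _ _
    refine ⟨?_, fun Z hZ => ?_⟩
    · show Smooth (pullback.snd f (Y.fromSpecResidueField y))
      infer_instance
    · have h3 := h2 y Z hZ
      rw [hX, hY] at h3
      exact eq_sub_of_add_eq h3

end Closed

end Groth.Agent.Lib.Helper19.CotSmoothMain
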