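import Groth.Agent.Lib.helper19.CotSmoothGeo

set_option autoImplicit false
universe u
open CategoryTheory CategoryTheory.Limits AlgebraicGeometry Opposite TensorProduct IsLocalRing

namespace Groth.Agent.Lib.Helper19.CotSmoothPt

open Groth.Agent.Lib.Helper19.CotSmoothGeo Groth.Agent.Lib.Helper19

variable (k : Type u) [Field k] [IsAlgClosed k] {X Y : Scheme.{u}}

/-- pointwise criterion: `X` formally smooth over `k` at the closed point `x`. -/
theorem formallySmooth_stalkMap_iff_elem (qX : X ⟶ Spec (CommRingCat.of k))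
    (qY : Y ⟶ Spec (CommRingCat.of k)) [LocallyOfFiniteType qX] [LocallyOfFiniteType qY]
    (f : X ⟶ Y) (hf : f ≫ qY = qX) (x : X) (hx : IsClosed ({x} : Set X))
    (hsm : letI : X.Over (Spec (CommRingCat.of k)) := ⟨qX⟩
      letI := Curv2.stalkAlgebra k X x
      Algebra.FormallySmooth k (X.presheaf.stalk x)) :
    (f.stalkMap x).hom.FormallySmooth ↔
      ∀ a ∈ maximalIdeal (Y.presheaf.stalk (f x)),
        (f.stalkMap x).hom a ∈ maximalIdeal (X.presheaf.stalk x) ^ 2 →
          a ∈ maximalIdeal (Y.presheaf.stalk (f x)) ^ 2 := by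
  subst hf
  letI : Y.Over (Spec (CommRingCat.of k)) := ⟨qY⟩
  letI : X.Over (Spec (CommRingCat.of k)) := ⟨f ≫ qY⟩
  haveI : LocallyOfFiniteType (Y ↘ Spec (CommRingCat.of k)) := ‹LocallyOfFiniteType qY›
  haveI : LocallyOfFiniteType (X ↘ Spec (CommRingCat.of k)) := ‹LocallyOfFiniteType (f ≫ qY)›
  letI algR : Algebra k (Y.presheaf.stalk (f x)) := Curv2.stalkAlgebra k Y (f x)
  letI algT : Algebra k (X.presheaf.stalk x) := Curv2.stalkAlgebra k X x
  letI algRT : Algebra (Y.presheaf.stalk (f x)) (X.presheaf.stalk x) := (f.stalkMap x).hom.toAlgebra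
  haveI tower : IsScalarTower k (Y.presheaf.stalk (f x)) (X.presheaf.stalk x) := by
    apply IsScalarTower.of_algebraMap_eq
    intro c
    show (X.presheaf.germ ⊤ x trivial).hom ((f ≫ qY).appTop.hom _) =
      (f.stalkMap x).hom ((Y.presheaf.germ ⊤ (f x) trivial).hom (qY.appTop.hom _))
    rw [Scheme.Hom.germ_stalkMap_apply, Scheme.Hom.comp_appTop]
    rfl
  haveI : IsLocalHom (algebraMap (Y.presheaf.stalk (f x)) (X.presheaf.stalk x)) :=
    (inferInstance : IsLocalHom (f.stalkMap x).hom)
  haveI := essFiniteType_stalk k X x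
  haveI := essFiniteType_stalk k Y (f x)
  haveI : Algebra.FormallySmooth k (X.presheaf.stalk x) := hsm
  have hT := bijective_algebraMap_residueField k X x hx
  have hle : maximalIdeal (Y.presheaf.stalk (f x)) ≤
      (maximalIdeal (X.presheaf.stalk x)).comap
        (IsScalarTower.toAlgHom k (Y.presheaf.stalk (f x)) (X.presheaf.stalk x)) := by
    intro a ha
    rw [Ideal.mem_comap, mem_maximalIdeal, mem_nonunits_iff]
    rw [mem_maximalIdeal, mem_nonunits_iff] at ha
    intro h
    exact ha ((isUnit_map_iff (algebraMap (Y.presheaf.stalk (f x)) (X.presheaf.stalk x)) a).1 h)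
  let c := Ideal.mapCotangent (maximalIdeal (Y.presheaf.stalk (f x)))
    (maximalIdeal (X.presheaf.stalk x))
    (IsScalarTower.toAlgHom k (Y.presheaf.stalk (f x)) (X.presheaf.stalk x)) hle
  have key := CotSmooth.formallySmooth_iff_injective_cot k
    (Y.presheaf.stalk (f x)) (X.presheaf.stalk x) hT c (fun r hr hr' => rfl)
  show Algebra.FormallySmooth (Y.presheaf.stalk (f x)) (X.presheaf.stalk x) ↔ _
  rw [key]
  constructor
  · intro hinj a ha h2
    have h0 : c ((maximalIdeal _).toCotangent ⟨a, ha⟩) = 0 := by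
      show (maximalIdeal (X.presheaf.stalk x)).toCotangent ⟨_, hle ha⟩ = 0
      rw [Ideal.toCotangent_eq_zero]
      exact h2
    have h1 : (maximalIdeal _).toCotangent ⟨a, ha⟩ = 0 := hinj (h0.trans (map_zero c).symm)
    rw [Ideal.toCotangent_eq_zero] at h1
    exact h1
  · intro h
    rw [injective_iff_map_eq_zero]
    intro z hz
    obtain ⟨⟨a, ha⟩, rfl⟩ := (maximalIdeal (Y.presheaf.stalk (f x))).toCotangent_surjective z
    have h2 : (maximalIdeal (X.presheaf.stalk x)).toCotangent ⟨_, hle ha⟩ = 0 := hz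
    rw [Ideal.toCotangent_eq_zero] at h2
    rw [Ideal.toCotangent_eq_zero]
    exact h a ha h2

end Groth.Agent.Lib.Helper19.CotSmoothPt
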