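import Mathlib

namespace Helper19.CotSplit
universe u
open KaehlerDifferential TensorProduct

variable (A : Type u) [CommRing A] (B : Type u) [CommRing B] [Algebra A B]
  (C : Type u) [CommRing C] [Algebra B C] [Algebra A C] [IsScalarTower A B C]

lemma hIJ : RingHom.ker (algebraMap A C) ≤
    (RingHom.ker (algebraMap B C)).comap (Algebra.ofId A B) :=
  le_of_eq (congrArg RingHom.ker (IsScalarTower.algebraMap_eq A B C))

lemma surjB (hC : Function.Surjective (algebraMap A C)) : Function.Surjective (algebraMap B C) := by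
  intro c
  obtain ⟨a, rfl⟩ := hC c
  exact ⟨algebraMap A B a, (IsScalarTower.algebraMap_apply A B C a).symm⟩

lemma surj_kappa (hC : Function.Surjective (algebraMap A C)) :
    Function.Surjective (kerCotangentToTensor A B C) := by
  intro y
  have hex := exact_kerCotangentToTensor_mapBaseChange A B C (surjB A B C hC)
  haveI : Subsingleton Ω[C⁄A] := KaehlerDifferential.subsingleton_of_surjective A C hC
  exact (hex y).mp (Subsingleton.elim _ _)

/-- The projection `A/I² → C`. -/
noncomputable def piA : (A ⧸ (RingHom.ker (algebraMap A C)) ^ 2) →ₐ[A] C :=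
  (Algebra.ofId A C).kerSquareLift

lemma piA_mk (a : A) : piA A C (Ideal.Quotient.mk _ a) = algebraMap A C a := rfl

lemma ker_piA : RingHom.ker (piA A C : _ →+* C) = (RingHom.ker (algebraMap A C)).cotangentIdeal :=
  AlgHom.ker_kerSquareLift (Algebra.ofId A C)

variable [Algebra.FormallySmooth A B]

/-- The lift `B → A/I²`. -/
noncomputable def phi (hC : Function.Surjective (algebraMap A C)) :
    B →ₐ[A] (A ⧸ (RingHom.ker (algebraMap A C)) ^ 2) :=
  Algebra.FormallySmooth.liftOfSurjective (IsScalarTower.toAlgHom A B C) (piA A C)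
    (fun c => by obtain ⟨a, rfl⟩ := hC c; exact ⟨Ideal.Quotient.mk _ a, rfl⟩)
    ⟨2, by rw [ker_piA]; exact Ideal.cotangentIdeal_square _⟩

lemma piA_phi (hC : Function.Surjective (algebraMap A C)) (b : B) :
    piA A C (phi A B C hC b) = algebraMap B C b :=
  Algebra.FormallySmooth.liftOfSurjective_apply _ _ _ _ b

lemma phi_mem (hC : Function.Surjective (algebraMap A C)) (x : B)
    (hx : x ∈ RingHom.ker (algebraMap B C)) :
    phi A B C hC x ∈ (RingHom.ker (algebraMap A C)).cotangentIdeal := by
  rw [← ker_piA, RingHom.mem_ker]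
  exact (piA_phi A B C hC x).trans hx

lemma exists_rep (hC : Function.Surjective (algebraMap A C)) (x : B)
    (hx : x ∈ RingHom.ker (algebraMap B C)) :
    ∃ a : A, a ∈ RingHom.ker (algebraMap A C) ∧ Ideal.Quotient.mk _ a = phi A B C hC x := by
  obtain ⟨a, ha, h⟩ := phi_mem A B C hC x hx
  exact ⟨a, ha, h⟩


set_option backward.isDefEq.respectTransparency.types false in
/-- The retraction `J/J² → I/I²`. -/
noncomputable def retr (hC : Function.Surjective (algebraMap A C)) :
    (RingHom.ker (algebraMap B C)).Cotangent →ₗ[A] (RingHom.ker (algebraMap A C)).Cotangent := by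
  refine Submodule.liftQ
    (((RingHom.ker (algebraMap B C)) • ⊤ :
      Submodule B (RingHom.ker (algebraMap B C))).restrictScalars A)
    ((Ideal.cotangentEquivIdeal (RingHom.ker (algebraMap A C))).symm.toLinearMap ∘ₗ
      LinearMap.codRestrict
        ((RingHom.ker (algebraMap A C)).cotangentIdeal.restrictScalars A)
        ((phi A B C hC).toLinearMap ∘ₗ
          ((RingHom.ker (algebraMap B C)).subtype.restrictScalars A))
        (fun x => phi_mem A B C hC x.1 x.2)) ?_
  intro x hx
  have hx2 : (x : B) ∈ (RingHom.ker (algebraMap B C)) ^ 2 := by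
    rw [← Ideal.mem_toCotangent_ker]
    rw [Submodule.restrictScalars_mem] at hx
    rw [LinearMap.mem_ker]
    exact (Submodule.Quotient.mk_eq_zero _).mpr hx
  rw [LinearMap.mem_ker, LinearMap.comp_apply]
  have : LinearMap.codRestrict
        ((RingHom.ker (algebraMap A C)).cotangentIdeal.restrictScalars A)
        ((phi A B C hC).toLinearMap ∘ₗ
          ((RingHom.ker (algebraMap B C)).subtype.restrictScalars A))
        (fun x => phi_mem A B C hC x.1 x.2) x = 0 := by
    apply Subtype.ext
    change phi A B C hC x.1 = 0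
    rw [← Ideal.mem_bot, ← Ideal.cotangentIdeal_square (RingHom.ker (algebraMap A C)),
      pow_two (Ideal.cotangentIdeal _)]
    rw [pow_two] at hx2
    refine Submodule.mul_induction_on hx2 ?_ ?_
    · intro m hm n hn
      rw [map_mul]
      exact Ideal.mul_mem_mul (phi_mem A B C hC m hm) (phi_mem A B C hC n hn)
    · intro m n hm hn
      rw [map_add]
      exact Ideal.add_mem _ hm hn
  exact (congrArg (Ideal.cotangentEquivIdeal (RingHom.ker (algebraMap A C))).symm this).trans
    (map_zero _)

lemma retr_toCotangent (hC : Function.Surjective (algebraMap A C))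
    (x : RingHom.ker (algebraMap B C)) :
    retr A B C hC (Ideal.toCotangent _ x) =
      (Ideal.cotangentEquivIdeal (RingHom.ker (algebraMap A C))).symm
        ⟨phi A B C hC x.1, phi_mem A B C hC x.1 x.2⟩ := rfl


/-- The map `I/I² → J/J²`. -/
noncomputable abbrev iot :
    (RingHom.ker (algebraMap A C)).Cotangent →ₗ[A] (RingHom.ker (algebraMap B C)).Cotangent :=
  Ideal.mapCotangent (RingHom.ker (algebraMap A C)) (RingHom.ker (algebraMap B C))
    (Algebra.ofId A B) (hIJ A B C)

lemma retr_comp (hC : Function.Surjective (algebraMap A C)) :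
    retr A B C hC ∘ₗ iot A B C = LinearMap.id := by
  refine LinearMap.ext fun y => ?_
  obtain ⟨a, rfl⟩ := Ideal.toCotangent_surjective _ y
  rw [LinearMap.comp_apply, Ideal.mapCotangent_toCotangent, retr_toCotangent, LinearMap.id_apply,
    ← Ideal.cotangentEquivIdeal_symm_apply _ a.1 a.2]
  congr 1
  apply Subtype.ext
  change phi A B C hC (algebraMap A B a.1) = Ideal.Quotient.mk _ a.1
  rw [AlgHom.commutes]
  rfl


omit [Algebra.FormallySmooth A B] in
lemma hIJ2 : (RingHom.ker (algebraMap A C)) ^ 2 ≤
    ((RingHom.ker (algebraMap B C)) ^ 2).comap (Algebra.ofId A B) :=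
  (Ideal.pow_right_mono (hIJ A B C) 2).trans (Ideal.le_comap_pow _ 2)

/-- The map `A/I² → B/J²`. -/
noncomputable def theta : (A ⧸ (RingHom.ker (algebraMap A C)) ^ 2) →ₐ[A]
    (B ⧸ (RingHom.ker (algebraMap B C)) ^ 2) :=
  Ideal.quotientMapₐ _ (Algebra.ofId A B) (hIJ2 A B C)

omit [Algebra.FormallySmooth A B] in
lemma theta_mk (a : A) : theta A B C (Ideal.Quotient.mk _ a) =
    Ideal.Quotient.mk _ (algebraMap A B a) := rfl

/-- The projection `B/J² → C`. -/
noncomputable def piB : (B ⧸ (RingHom.ker (algebraMap B C)) ^ 2) →ₐ[A] C :=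
  (IsScalarTower.toAlgHom A B C).kerSquareLift

omit [Algebra.FormallySmooth A B] in
lemma piB_mk (b : B) : piB A B C (Ideal.Quotient.mk _ b) = algebraMap B C b := rfl

omit [Algebra.FormallySmooth A B] in
lemma ker_piB : RingHom.ker (piB A B C : _ →+* C) =
    (RingHom.ker (algebraMap B C)).cotangentIdeal :=
  AlgHom.ker_kerSquareLift (IsScalarTower.toAlgHom A B C)

omit [Algebra.FormallySmooth A B] in
lemma piB_theta (z : A ⧸ (RingHom.ker (algebraMap A C)) ^ 2) :
    piB A B C (theta A B C z) = piA A C z := by
  obtain ⟨a, rfl⟩ := Ideal.Quotient.mk_surjective z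
  rw [theta_mk, piB_mk, piA_mk, ← IsScalarTower.algebraMap_apply]

lemma diff_mem (hC : Function.Surjective (algebraMap A C)) (b : B) :
    theta A B C (phi A B C hC b) - Ideal.Quotient.mk _ b ∈
      (RingHom.ker (algebraMap B C)).cotangentIdeal := by
  rw [← ker_piB A B C, RingHom.mem_ker]
  change piB A B C _ = 0
  rw [map_sub, piB_theta, piA_phi, piB_mk, sub_self]

/-- The derivation `θφ - mk : B → J/J² ⊆ B/J²`. -/
noncomputable def der0 (hC : Function.Surjective (algebraMap A C)) :
    Derivation A B (RingHom.ker (algebraMap B C)).cotangentIdeal :=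
  derivationToSquareZeroOfLift (R := A) (A := B) _ (Ideal.cotangentIdeal_square _)
    ((theta A B C).comp (phi A B C hC)) (by
      ext b
      change Ideal.Quotient.mk _ (theta A B C (phi A B C hC b)) =
        Ideal.Quotient.mk _ (Ideal.Quotient.mk _ b)
      rw [Ideal.Quotient.eq]
      exact diff_mem A B C hC b)

lemma der0_apply (hC : Function.Surjective (algebraMap A C)) (b : B) :
    (der0 A B C hC b : B ⧸ (RingHom.ker (algebraMap B C)) ^ 2) =
      theta A B C (phi A B C hC b) - Ideal.Quotient.mk _ b := rfl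

/-- The derivation `B → J/J²`. -/
noncomputable def der (hC : Function.Surjective (algebraMap A C)) :
    Derivation A B (RingHom.ker (algebraMap B C)).Cotangent :=
  ((Ideal.cotangentEquivIdeal (RingHom.ker (algebraMap B C))).symm.toLinearMap).compDer
    (der0 A B C hC)

lemma der_apply (hC : Function.Surjective (algebraMap A C)) (x : B)
    (hx : x ∈ RingHom.ker (algebraMap B C)) (a : A) (ha : a ∈ RingHom.ker (algebraMap A C))
    (hax : Ideal.Quotient.mk _ a = phi A B C hC x) :
    der A B C hC x = Ideal.toCotangent _ ⟨algebraMap A B a, hIJ A B C ha⟩ -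
      Ideal.toCotangent _ ⟨x, hx⟩ := by
  rw [← map_sub]
  have hm : algebraMap A B a - x ∈ RingHom.ker (algebraMap B C) :=
    Ideal.sub_mem _ (hIJ A B C ha) hx
  change (Ideal.cotangentEquivIdeal (RingHom.ker (algebraMap B C))).symm (der0 A B C hC x) =
    Ideal.toCotangent _ (⟨algebraMap A B a - x, hm⟩ : RingHom.ker (algebraMap B C))
  rw [← Ideal.cotangentEquivIdeal_symm_apply _ _ hm]
  congr 1
  apply Subtype.ext
  rw [der0_apply, ← hax, theta_mk]
  exact (map_sub (Ideal.Quotient.mk _) _ _).symm


lemma der_eq_zero (hC : Function.Surjective (algebraMap A C)) (x : B)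
    (hx : (1 : C) ⊗ₜ[B] KaehlerDifferential.D A B x = 0) : der A B C hC x = 0 := by
  have hB := surjB A B C hC
  let f : C →+* B ⧸ RingHom.ker (algebraMap B C) :=
    (RingHom.quotientKerEquivOfSurjective hB).symm.toRingHom
  have hf : ∀ b : B, f (algebraMap B C b) = Ideal.Quotient.mk _ b := by
    intro b
    change (RingHom.quotientKerEquivOfSurjective hB).symm (algebraMap B C b) = _
    rw [RingEquiv.symm_apply_eq]
    rfl
  letI : Module C (RingHom.ker (algebraMap B C)).Cotangent := Module.compHom _ f
  have hsm : ∀ (c : C) (m : (RingHom.ker (algebraMap B C)).Cotangent), c • m = f c • m :=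
    fun _ _ => rfl
  haveI : IsScalarTower B C (RingHom.ker (algebraMap B C)).Cotangent := by
    refine ⟨fun b c m => ?_⟩
    rw [hsm, hsm, Algebra.smul_def, map_mul, hf, mul_smul]
    rw [← Ideal.Quotient.algebraMap_eq, algebraMap_smul]
  have h := congrArg (LinearMap.liftBaseChange C (der A B C hC).liftKaehlerDifferential) hx
  rw [LinearMap.liftBaseChange_tmul, one_smul, map_zero,
    Derivation.liftKaehlerDifferential_comp_D] at h
  exact h

theorem main (hC : Function.Surjective (algebraMap A C)) :
    Function.Injective (iot A B C) ∧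
    (∃ r : (RingHom.ker (algebraMap B C)).Cotangent →ₗ[A]
        (RingHom.ker (algebraMap A C)).Cotangent, r ∘ₗ iot A B C = LinearMap.id) ∧
    LinearMap.range (iot A B C) =
      LinearMap.ker ((kerCotangentToTensor A B C).restrictScalars A) ∧
    Function.Surjective (kerCotangentToTensor A B C) := by
  refine ⟨?_, ⟨retr A B C hC, retr_comp A B C hC⟩, ?_, surj_kappa A B C hC⟩
  · exact Function.LeftInverse.injective (g := retr A B C hC)
      (fun x => LinearMap.congr_fun (retr_comp A B C hC) x)
  · apply le_antisymm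
    · rintro _ ⟨z, rfl⟩
      obtain ⟨a, rfl⟩ := Ideal.toCotangent_surjective _ z
      rw [LinearMap.mem_ker, LinearMap.restrictScalars_apply, Ideal.mapCotangent_toCotangent,
        kerCotangentToTensor_toCotangent]
      change (1 : C) ⊗ₜ[B] KaehlerDifferential.D A B (algebraMap A B a.1) = 0
      rw [Derivation.map_algebraMap, TensorProduct.tmul_zero]
    · intro y hy
      rw [LinearMap.mem_ker, LinearMap.restrictScalars_apply] at hy
      obtain ⟨x, rfl⟩ := Ideal.toCotangent_surjective _ y
      rw [kerCotangentToTensor_toCotangent] at hy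
      obtain ⟨a, ha, hax⟩ := exists_rep A B C hC x.1 x.2
      refine ⟨Ideal.toCotangent _ ⟨a, ha⟩, ?_⟩
      rw [Ideal.mapCotangent_toCotangent]
      have h1 := der_apply A B C hC x.1 x.2 a ha hax
      rw [der_eq_zero A B C hC x.1 hy] at h1
      exact (sub_eq_zero.mp h1.symm)

end Helper19.CotSplit
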