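import Mathlib

set_option autoImplicit false
universe u
open TensorProduct KaehlerDifferential

namespace Groth.Agent.Lib.Helper19.CotSquare

section Bij

variable (k B K : Type u) [CommRing k] [CommRing B] [Algebra k B] [CommRing K] [Algebra k K]
  [Algebra B K] [IsScalarTower k B K]

theorem kerCotangentToTensor_injective (hf : Function.Surjective (algebraMap B K))
    (hres : Function.Bijective (algebraMap k K)) :
    Function.Injective (kerCotangentToTensor k B K) := by
  let e : k ≃ₐ[k] K := AlgEquiv.ofBijective (Algebra.ofId k K) hres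
  let g : K →ₐ[k] B ⧸ (RingHom.ker (IsScalarTower.toAlgHom k B K).toRingHom ^ 2) :=
    (Algebra.ofId k _).comp e.symm.toAlgHom
  have hg : (IsScalarTower.toAlgHom k B K).kerSquareLift.comp g = AlgHom.id k K := by
    ext a
    obtain ⟨c, rfl⟩ := hres.2 a
    have h1 : g (algebraMap k _ c) = algebraMap k _ c := AlgHom.commutes g c
    rw [AlgHom.comp_apply, h1, AlgHom.commutes, AlgHom.id_apply]
  obtain ⟨l, hl⟩ := (retractionKerCotangentToTensorEquivSection (R := k) hf).symm ⟨g, hg⟩
  exact Function.LeftInverse.injective (g := l) (fun x => LinearMap.congr_fun hl x)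

theorem kerCotangentToTensor_surjective (hf : Function.Surjective (algebraMap B K))
    (hres : Function.Bijective (algebraMap k K)) :
    Function.Surjective (kerCotangentToTensor k B K) := by
  have hex := exact_kerCotangentToTensor_mapBaseChange k B K hf
  have hsub : Subsingleton (Ω[K⁄k]) :=
    KaehlerDifferential.subsingleton_of_surjective k K hres.2
  intro y
  exact (hex y).1 (Subsingleton.elim _ _)

end Bij

section Square

variable (k R T K : Type u) [CommRing k] [CommRing R] [CommRing T] [CommRing K]
  [Algebra k R] [Algebra k T] [Algebra R T] [IsScalarTower k R T]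
  [Algebra k K] [Algebra R K] [Algebra T K] [IsScalarTower k R K] [IsScalarTower k T K]
  [IsScalarTower R T K]

theorem bijective_lTensor_mapBaseChange (hR : Function.Surjective (algebraMap R K))
    (hT : Function.Surjective (algebraMap T K)) (hk : Function.Bijective (algebraMap k K))
    (IR : Ideal R) (IT : Ideal T) (hIR : RingHom.ker (algebraMap R K) = IR)
    (hIT : RingHom.ker (algebraMap T K) = IT)
    (c : IR.Cotangent → IT.Cotangent)
    (hc : ∀ (r : R) (hr : r ∈ IR) (hr' : algebraMap R T r ∈ IT),
      c (IR.toCotangent ⟨r, hr⟩) = IT.toCotangent ⟨algebraMap R T r, hr'⟩)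
    (hcb : Function.Bijective c) :
    Function.Bijective ((mapBaseChange k R T).lTensor K) := by
  let φR : IR.Cotangent → K ⊗[R] Ω[R⁄k] := fun a =>
    kerCotangentToTensor k R K (Ideal.Cotangent.equivOfEq _ _ hIR.symm a)
  let φT : IT.Cotangent → K ⊗[T] Ω[T⁄k] := fun a =>
    kerCotangentToTensor k T K (Ideal.Cotangent.equivOfEq _ _ hIT.symm a)
  have hφR : Function.Bijective φR :=
    ⟨(kerCotangentToTensor_injective k R K hR hk).comp (LinearEquiv.injective _),
      (kerCotangentToTensor_surjective k R K hR hk).comp (LinearEquiv.surjective _)⟩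
  have hφT : Function.Bijective φT :=
    ⟨(kerCotangentToTensor_injective k T K hT hk).comp (LinearEquiv.injective _),
      (kerCotangentToTensor_surjective k T K hT hk).comp (LinearEquiv.surjective _)⟩
  let E := AlgebraTensorModule.cancelBaseChange R T K K Ω[R⁄k]
  let ψ : K ⊗[R] Ω[R⁄k] → K ⊗[T] Ω[T⁄k] := fun z =>
    (mapBaseChange k R T).lTensor K (E.symm z)
  have hsq : ∀ a, ψ (φR a) = φT (c a) := by
    intro a
    obtain ⟨⟨r, hr⟩, rfl⟩ := IR.toCotangent_surjective a
    have hr' : algebraMap R T r ∈ IT := by
      rw [← hIT, RingHom.mem_ker, ← IsScalarTower.algebraMap_apply, ← RingHom.mem_ker, hIR]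
      exact hr
    rw [hc r hr hr']
    show (mapBaseChange k R T).lTensor K (E.symm ((1 : K) ⊗ₜ[R] D k R r)) =
      (1 : K) ⊗ₜ[T] D k T (algebraMap R T r)
    rw [AlgebraTensorModule.cancelBaseChange_symm_tmul, LinearMap.lTensor_tmul,
      mapBaseChange_tmul, one_smul, map_D]
  have h1 : Function.Bijective ψ := by
    constructor
    · intro x y hxy
      obtain ⟨a, rfl⟩ := hφR.2 x
      obtain ⟨b, rfl⟩ := hφR.2 y
      rw [hsq, hsq] at hxy
      rw [hcb.1 (hφT.1 hxy)]
    · intro y
      obtain ⟨b, rfl⟩ := hφT.2 y
      obtain ⟨a, rfl⟩ := hcb.2 b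
      exact ⟨φR a, hsq a⟩
  have h2 : Function.Bijective (fun z => (mapBaseChange k R T).lTensor K z) := by
    have : (fun z => (mapBaseChange k R T).lTensor K z) = ψ ∘ E := by
      funext z
      simp only [ψ, Function.comp_apply, LinearEquiv.symm_apply_apply]
    rw [this]
    exact h1.comp E.bijective
  exact h2

end Square

end Groth.Agent.Lib.Helper19.CotSquare
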