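import Mathlib
import Groth.Prelude.Def_Curves
import Groth.Prelude.Def_GSzCSA
import Groth.Agent.Lib.Helper7.CSASplitting
import Groth.Agent.Lib.Helper7.CSAMatrixUnique
import Groth.Agent.Lib.helper19.BrauerEq
import Groth.Agent.Lib.helper19.Morita

/-!
# Basic index theory of central simple algebras
-/

set_option autoImplicit false

namespace Groth.Agent.Lib.helper19.Idx

open TensorProduct Matrix

universe u v w

section basic

variable {k : Type*} [Field k]

/-- splitting transports along algebra isomorphisms -/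
theorem splits_congr {A B : Type*} [Ring A] [Algebra k A] [Ring B] [Algebra k B]
    (e : A ≃ₐ[k] B) {L : Type*} [Field L] [Algebra k L] (h : Curves.Splits k A L) :
    Curves.Splits k B L := by
  obtain ⟨n, hn, ⟨φ⟩⟩ := h
  exact ⟨n, hn, ⟨(Algebra.TensorProduct.congr (AlgEquiv.refl : L ≃ₐ[L] L) e).symm.trans φ⟩⟩

/-- `L ≃ M_1(L)` -/
noncomputable def oneByOne (L : Type*) [Field L] : L ≃ₐ[L] Matrix Unit Unit L :=
  AlgEquiv.ofBijective (Algebra.ofId L _)
    ⟨(algebraMap L (Matrix Unit Unit L)).injective, fun M => ⟨M () (), by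
      ext ⟨⟩ ⟨⟩
      simp [Algebra.ofId_apply, Matrix.algebraMap_matrix_apply]⟩⟩

/-- `L ⊗ M_m(X) ≃ M_m(L ⊗ X)` over `L` -/
noncomputable def baseChangeMatrix (L : Type*) [Field L] [Algebra k L]
    (X : Type*) [Ring X] [Algebra k X] (m : ℕ) :
    L ⊗[k] Matrix (Fin m) (Fin m) X ≃ₐ[L] Matrix (Unit × Fin m) (Unit × Fin m) (L ⊗[k] X) :=
  (Algebra.TensorProduct.congr (oneByOne L) (AlgEquiv.refl : _ ≃ₐ[k] _)).trans
    (Matrix.kroneckerTMulAlgEquiv Unit (Fin m) k L L X)

theorem splits_matrix {X : Type*} [Ring X] [Algebra k X] {L : Type*} [Field L] [Algebra k L]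
    (m : ℕ) (hm : m ≠ 0) (h : Curves.Splits k X L) :
    Curves.Splits k (Matrix (Fin m) (Fin m) X) L := by
  obtain ⟨r, hr, ⟨φ⟩⟩ := h
  refine ⟨m * r, Nat.mul_ne_zero hm hr, ⟨(baseChangeMatrix L X m).trans
    ((AlgEquiv.mapMatrix φ).trans ((Matrix.compAlgEquiv _ _ L L).trans
      (Matrix.reindexAlgEquiv L L
        ((Equiv.prodCongr (Equiv.punitProd (Fin m)) (Equiv.refl (Fin r))).trans
          finProdFinEquiv))))⟩⟩

/-- cancellation (helper7) -/
theorem splits_of_splits_matrix {D : Type*} [Ring D] [Algebra k D] [Algebra.IsCentral k D]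
    [IsSimpleRing D] [FiniteDimensional k D] {L : Type*} [Field L] [Algebra k L]
    (m : ℕ) (hm : m ≠ 0) (h : Curves.Splits k (Matrix (Fin m) (Fin m) D) L) :
    Curves.Splits k D L := by
  haveI : Nonempty (Fin m) := ⟨⟨0, Nat.pos_of_ne_zero hm⟩⟩
  exact Groth.Agent.Lib.Helper7.CSA.splits_of_splits_matrix k D L (Fin m) h

/-- splitting passes to larger fields (helper7) -/
theorem splits_of_algHom {A : Type*} [Ring A] [Algebra k A] [Algebra.IsCentral k A]
    [IsSimpleRing A] [FiniteDimensional k A] {L L' : Type*} [Field L] [Algebra k L]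
    [Field L'] [Algebra k L'] (φ : L →ₐ[k] L') (h : Curves.Splits k A L) :
    Curves.Splits k A L' :=
  Groth.Agent.Lib.Helper7.CSA.splits_of_algHom k A L L' φ h

/-- degree of a splitting field of a division algebra of degree `d` is divisible by `d` -/
theorem dvd_finrank_of_splits_division (D : Type*) [DivisionRing D] [Algebra k D]
    (d : ℕ) (hd : Module.finrank k D = d ^ 2)
    (L : Type*) [Field L] [Algebra k L] (hs : Curves.Splits k D L) :
    d ∣ Module.finrank k L := by
  classical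
  by_cases hfin : FiniteDimensional k L
  swap
  · rw [Module.finrank_of_not_finite hfin]; exact dvd_zero d
  obtain ⟨n, hn, ⟨e⟩⟩ := hs
  have h1 : Module.finrank L (L ⊗[k] D) = Module.finrank k D := Module.finrank_baseChange
  have h2 : Module.finrank L (L ⊗[k] D) = n * n := by
    rw [e.toLinearEquiv.finrank_eq, Module.finrank_matrix]; simp
  have hnd : n = d := by
    have : n ^ 2 = d ^ 2 := by rw [← hd, ← h1, h2, pow_two]
    exact Nat.pow_left_injective (by norm_num : 2 ≠ 0) this
  subst hnd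
  let ρ : D →ₐ[k] Matrix (Fin n) (Fin n) L :=
    (e.restrictScalars k).toAlgHom.comp Algebra.TensorProduct.includeRight
  let φ : D →+* Module.End L (Fin n → L) :=
    (Matrix.toLinAlgEquiv' (R := L) (n := Fin n)).toRingEquiv.toRingHom.comp ρ.toRingHom
  letI : Module D (Fin n → L) := Module.compHom (Fin n → L) φ
  have hsmul : ∀ (x : D) (v : Fin n → L), x • v = (ρ x).mulVec v := by
    intro x v
    change φ x v = _
    simp [φ]
  haveI : IsScalarTower k D (Fin n → L) := ⟨fun c x v => by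
    rw [hsmul, hsmul, map_smul, Matrix.smul_mulVec]⟩
  have h3 := Module.finrank_mul_finrank k D (Fin n → L)
  have h4 : Module.finrank k (Fin n → L) = n * Module.finrank k L := by
    rw [Module.finrank_pi_fintype]; simp
  rw [h4, hd, pow_two, mul_assoc] at h3
  have h5 : n * Module.finrank D (Fin n → L) = Module.finrank k L :=
    Nat.eq_of_mul_eq_mul_left (Nat.pos_of_ne_zero hn) h3
  exact ⟨_, h5.symm⟩

theorem dvd_finrank_of_splits {A : Type*} [Ring A] [Algebra k A]
    (D : Type*) [DivisionRing D] [Algebra k D] [Algebra.IsCentral k D] [FiniteDimensional k D]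
    (m : ℕ) (hm : m ≠ 0) (e : A ≃ₐ[k] Matrix (Fin m) (Fin m) D)
    (d : ℕ) (hd : Module.finrank k D = d ^ 2)
    (L : Type*) [Field L] [Algebra k L] (hs : Curves.Splits k A L) :
    d ∣ Module.finrank k L :=
  dvd_finrank_of_splits_division D d hd L (splits_of_splits_matrix m hm (splits_congr e hs))

end basic

section structure_

variable (k : Type u) [Field k]

/-- a central division algebra of finite dimension has a separable splitting subfield `L` with
`dim D = [L:k]^2` -/
theorem exists_subfield (D : Type v) [DivisionRing D] [Algebra k D] [Algebra.IsCentral k D]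
    [FiniteDimensional k D] :
    ∃ (L : Type v) (_ : Field L) (_ : Algebra k L), FiniteDimensional k L ∧
      Algebra.IsSeparable k L ∧ Module.finrank k D = Module.finrank k L ^ 2 ∧
      Nonempty (L →ₐ[k] D) := by
  classical
  obtain ⟨L, hL, hC, hsep⟩ :=
    Groth.Agent.Lib.Helper7.CSA.exists_separable_maximal_comm (k := k) (D := D)
  have hdimD : Module.finrank k D = Module.finrank k L ^ 2 := by
    haveI : IsSimpleRing L := Groth.Agent.Lib.Helper7.CSA.isSimpleRing_subalgebra L
    have h := (Groth.Agent.Lib.Helper7.CSA.centralizer_simple_and_finrank k D L).2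
    rw [hC] at h; rw [h, pow_two]
  letI := Groth.Agent.Lib.Helper7.CSA.commField L hL
  haveI : Algebra.IsSeparable k L :=
    ⟨fun l => (Groth.Agent.Lib.Helper7.CSA.isSeparable_coe_iff L l).1 (hsep l l.2)⟩
  exact ⟨L, inferInstance, inferInstance, inferInstance, inferInstance, hdimD, ⟨L.val⟩⟩

/-- the dimension of a central division algebra is a square of a positive number -/
theorem exists_finrank_eq_sq (D : Type v) [DivisionRing D] [Algebra k D] [Algebra.IsCentral k D]
    [FiniteDimensional k D] : ∃ d : ℕ, 0 < d ∧ Module.finrank k D = d ^ 2 := by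
  obtain ⟨L, _, _, _, _, h, _⟩ := exists_subfield k D
  exact ⟨Module.finrank k L, Module.finrank_pos, h⟩

/-- a splitting field of degree the index -/
theorem exists_splitting_field (A : Type w) [Ring A] [Algebra k A] [Algebra.IsCentral k A]
    [IsSimpleRing A] [FiniteDimensional k A]
    (D : Type v) [DivisionRing D] [Algebra k D] [Algebra.IsCentral k D]
    [FiniteDimensional k D] (m : ℕ) (hm : m ≠ 0) (e : A ≃ₐ[k] Matrix (Fin m) (Fin m) D)
    (d : ℕ) (hd : Module.finrank k D = d ^ 2) :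
    ∃ (L : Type v) (_ : Field L) (_ : Algebra k L), FiniteDimensional k L ∧
      Algebra.IsSeparable k L ∧ Module.finrank k L = d ∧ Curves.Splits k A L := by
  obtain ⟨L, _, _, hfin, hsep, h, ⟨ι⟩⟩ := exists_subfield k D
  haveI : Nonempty (Fin m) := ⟨⟨0, Nat.pos_of_ne_zero hm⟩⟩
  refine ⟨L, inferInstance, inferInstance, hfin, hsep, ?_, ?_⟩
  · have : Module.finrank k L ^ 2 = d ^ 2 := by rw [← h, hd]
    exact Nat.pow_left_injective (by norm_num : 2 ≠ 0) this
  · exact Groth.Agent.Lib.Helper7.CSA.splits_matrix_of_subfield k A L ι h (Fin m) e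

/-- Wedderburn, with centrality -/
theorem exists_matrix_division (A : Type v) [Ring A] [Algebra k A] [Algebra.IsCentral k A]
    [IsSimpleRing A] [FiniteDimensional k A] :
    ∃ (m : ℕ) (_ : m ≠ 0) (D : Type v) (_ : DivisionRing D) (_ : Algebra k D)
      (_ : Algebra.IsCentral k D) (_ : FiniteDimensional k D),
      Nonempty (A ≃ₐ[k] Matrix (Fin m) (Fin m) D) := by
  classical
  haveI : IsArtinianRing A := IsArtinianRing.of_finite k A
  obtain ⟨n, hn, D, _, _, _, ⟨e⟩⟩ := IsSimpleRing.exists_algEquiv_matrix_divisionRing_finite k A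
  haveI : Nonempty (Fin n) := ⟨⟨0, Nat.pos_of_ne_zero hn.out⟩⟩
  have hc : Algebra.IsCentral k D := Groth.Agent.Lib.Helper7.CSA.isCentral_of_matrix e
  exact ⟨n, hn.out, D, inferInstance, inferInstance, hc, inferInstance, ⟨e⟩⟩

theorem exists_isIndex (A : Type v) [Ring A] [Algebra k A] [Algebra.IsCentral k A]
    [IsSimpleRing A] [FiniteDimensional k A] : ∃ d : ℕ, CSAGal.IsIndex k A d := by
  obtain ⟨m, hm, D, _, _, _, _, ⟨e⟩⟩ := exists_matrix_division k A
  obtain ⟨d, hd0, hd⟩ := exists_finrank_eq_sq k D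
  exact ⟨d, hd0, m, D, inferInstance, inferInstance, Nat.pos_of_ne_zero hm, hd, ⟨e⟩⟩

end structure_

section unique

variable {k : Type*} [Field k]

/-- Brauer equivalent matrix algebras over division algebras have isomorphic division algebras -/
theorem division_equiv_of_brEq {A B : Type*} [Ring A] [Algebra k A] [Ring B] [Algebra k B]
    (h : CSA.BrEq k A B)
    {D : Type*} [DivisionRing D] [Algebra k D] {D' : Type*} [DivisionRing D'] [Algebra k D']
    (m m' : ℕ) (hm : m ≠ 0) (hm' : m' ≠ 0)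
    (e : A ≃ₐ[k] Matrix (Fin m) (Fin m) D) (e' : B ≃ₐ[k] Matrix (Fin m') (Fin m') D') :
    Nonempty (D ≃ₐ[k] D') := by
  classical
  obtain ⟨n, n', hn, hn', ⟨φ⟩⟩ := h
  haveI : Nonempty (Fin n × Fin m) :=
    ⟨(⟨0, Nat.pos_of_ne_zero hn⟩, ⟨0, Nat.pos_of_ne_zero hm⟩)⟩
  haveI : Nonempty (Fin n' × Fin m') :=
    ⟨(⟨0, Nat.pos_of_ne_zero hn'⟩, ⟨0, Nat.pos_of_ne_zero hm'⟩)⟩
  let ψ : Matrix (Fin n × Fin m) (Fin n × Fin m) D ≃ₐ[k]
      Matrix (Fin n' × Fin m') (Fin n' × Fin m') D' :=
    (Matrix.compAlgEquiv (Fin n) (Fin m) D k).symm.trans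
      ((AlgEquiv.mapMatrix e).symm.trans (φ.trans
        ((AlgEquiv.mapMatrix e').trans (Matrix.compAlgEquiv (Fin n') (Fin m') D' k))))
  exact Groth.Agent.Lib.Helper7.CSA.matrix_divisionRing_algEquiv k ψ

theorem isIndex_unique {A : Type*} [Ring A] [Algebra k A] {d d' : ℕ}
    (h : CSAGal.IsIndex k A d) (h' : CSAGal.IsIndex k A d') : d = d' := by
  obtain ⟨_, m, D, _, _, hm, hd, ⟨e⟩⟩ := h
  obtain ⟨_, m', D', _, _, hm', hd', ⟨e'⟩⟩ := h'
  obtain ⟨ψ⟩ := division_equiv_of_brEq (CSA.BrEq.of_algEquiv (AlgEquiv.refl : A ≃ₐ[k] A))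
    m m' hm.ne' hm'.ne' e e'
  have : d ^ 2 = d' ^ 2 := by rw [← hd, ← hd', ψ.toLinearEquiv.finrank_eq]
  exact Nat.pow_left_injective (by norm_num : 2 ≠ 0) this

/-- Brauer equivalent algebras have the same index -/
theorem isIndex_of_brEq {A B : Type v} [Ring A] [Algebra k A] [Ring B] [Algebra k B]
    [Algebra.IsCentral k B] [IsSimpleRing B] [FiniteDimensional k B]
    (h : CSA.BrEq k A B) {d : ℕ} (hA : CSAGal.IsIndex k A d) : CSAGal.IsIndex k B d := by
  obtain ⟨hd0, m, D, _, _, hm, hd, ⟨e⟩⟩ := hA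
  obtain ⟨m', hm', D', _, _, _, _, ⟨e'⟩⟩ := exists_matrix_division k B
  obtain ⟨ψ⟩ := division_equiv_of_brEq h m m' hm.ne' hm' e e'
  exact ⟨hd0, m', D', inferInstance, inferInstance, Nat.pos_of_ne_zero hm',
    by rw [← ψ.toLinearEquiv.finrank_eq, hd], ⟨e'⟩⟩

/-- splitting is invariant under Brauer equivalence -/
theorem splits_of_brEq {A B : Type*} [Ring A] [Algebra k A] [Algebra.IsCentral k A]
    [IsSimpleRing A] [FiniteDimensional k A] [Ring B] [Algebra k B]
    (h : CSA.BrEq k A B) {L : Type*} [Field L] [Algebra k L] (hB : Curves.Splits k B L) :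
    Curves.Splits k A L := by
  obtain ⟨n, n', hn, hn', ⟨φ⟩⟩ := h
  exact splits_of_splits_matrix n hn (splits_congr φ.symm (splits_matrix n' hn' hB))

/-- index one means split -/
theorem splits_of_finrank_one {A : Type*} [Ring A] [Algebra k A]
    {D : Type*} [DivisionRing D] [Algebra k D] (m : ℕ) (hm : m ≠ 0)
    (e : A ≃ₐ[k] Matrix (Fin m) (Fin m) D) (hD : Module.finrank k D = 1) :
    Curves.Splits k A k := by
  haveI : FiniteDimensional k D := Module.finite_of_finrank_pos (by rw [hD]; exact one_pos)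
  have hbij : Function.Bijective (algebraMap k D) := by
    refine ⟨(algebraMap k D).injective, ?_⟩
    have h2 : (⊥ : Subalgebra k D) = ⊤ := Subalgebra.bot_eq_top_iff_finrank_eq_one.mpr hD
    intro x
    have hx : x ∈ (⊥ : Subalgebra k D) := by rw [h2]; exact Algebra.mem_top
    exact Algebra.mem_bot.mp hx
  let ψ : k ≃ₐ[k] D := AlgEquiv.ofBijective (Algebra.ofId k D) hbij
  exact ⟨m, hm, ⟨(Algebra.TensorProduct.lid k A).trans (e.trans (AlgEquiv.mapMatrix ψ.symm))⟩⟩

end unique

section isIndex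

variable {k : Type u} [Field k] {A : Type v} [Ring A] [Algebra k A] [Algebra.IsCentral k A]
  [IsSimpleRing A] [FiniteDimensional k A]

theorem IsIndex.exists_splitting_field {d : ℕ} (h : CSAGal.IsIndex k A d) :
    ∃ (L : Type v) (_ : Field L) (_ : Algebra k L), FiniteDimensional k L ∧
      Algebra.IsSeparable k L ∧ Module.finrank k L = d ∧ Curves.Splits k A L := by
  obtain ⟨hd0, m, D, _, _, hm, hd, ⟨e⟩⟩ := h
  haveI : FiniteDimensional k D :=
    Module.finite_of_finrank_pos (by rw [hd]; exact pow_pos hd0 2)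
  haveI : Nonempty (Fin m) := ⟨⟨0, hm⟩⟩
  haveI : Algebra.IsCentral k D := Groth.Agent.Lib.Helper7.CSA.isCentral_of_matrix e
  exact Idx.exists_splitting_field k A D m hm.ne' e d hd

theorem IsIndex.dvd_of_splits {d : ℕ} (h : CSAGal.IsIndex k A d)
    {L : Type*} [Field L] [Algebra k L] (hs : Curves.Splits k A L) : d ∣ Module.finrank k L := by
  obtain ⟨hd0, m, D, _, _, hm, hd, ⟨e⟩⟩ := h
  haveI : FiniteDimensional k D :=
    Module.finite_of_finrank_pos (by rw [hd]; exact pow_pos hd0 2)
  haveI : Nonempty (Fin m) := ⟨⟨0, hm⟩⟩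
  haveI : Algebra.IsCentral k D := Groth.Agent.Lib.Helper7.CSA.isCentral_of_matrix e
  exact dvd_finrank_of_splits D m hm.ne' e d hd L hs

theorem IsIndex.splits_of_eq_one (h : CSAGal.IsIndex k A 1) : Curves.Splits k A k := by
  obtain ⟨hd0, m, D, _, _, hm, hd, ⟨e⟩⟩ := h
  exact splits_of_finrank_one m hm.ne' e (by rw [hd, one_pow])

end isIndex

end Groth.Agent.Lib.helper19.Idx
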