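import Mathlib
import Groth.Agent.Lib.Helper7.TsenLangTrdeg
import Groth.Agent.Lib.Helper7.CSAReducedNorm
import Groth.Agent.Lib.Helper29.IntegralDim
import Groth.Agent.Lib.helper19.TrdegOneTsen

/-! The function field of a curve over an algebraically closed field is `C_1`. -/

set_option autoImplicit false
universe u
open AlgebraicGeometry CategoryTheory

namespace Groth.Agent.Lib.helper19.CurveTsen

theorem isCi_one_of_isCi_zero {K : Type*} [Field K] (h : Curves.IsCi K 0) : Curves.IsCi K 1 := by
  intro r n f d hf hd hlt
  refine h r n f d hf hd (lt_of_le_of_lt ?_ hlt)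
  refine Finset.sum_le_sum fun ρ _ => ?_
  rw [pow_zero, pow_one]
  exact hd ρ

/-- Algebraic core: a finitely generated domain of dimension `≤ 1` over an algebraically closed
field has a `C_1` fraction field. -/
theorem isCi_one_of_finiteType (k : Type u) [Field k] [IsAlgClosed k] (R : Type u) [CommRing R]
    [IsDomain R] [Algebra k R] [Algebra.FiniteType k R] (hdim : ringKrullDim R ≤ 1)
    (K : Type u) [Field K] [Algebra R K] [IsFractionRing R K] : Curves.IsCi K 1 := by
  classical
  obtain ⟨s, g, hinj, hfin⟩ := exists_finite_inj_algHom_of_fg k R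
  letI : Algebra (MvPolynomial (Fin s) k) R := g.toRingHom.toAlgebra
  haveI : IsScalarTower k (MvPolynomial (Fin s) k) R :=
    IsScalarTower.of_algebraMap_eq fun c => (g.commutes c).symm
  haveI : Module.Finite (MvPolynomial (Fin s) k) R := hfin
  haveI : Algebra.IsIntegral (MvPolynomial (Fin s) k) R := inferInstance
  have hinj' : Function.Injective (algebraMap (MvPolynomial (Fin s) k) R) := hinj
  -- dimension count
  have hs : s ≤ 1 := by
    have h1 := Groth.Agent.Lib.Helper29.ringKrullDim_le_of_isIntegral_of_injective
      (A := MvPolynomial (Fin s) k) (A' := R) hinj'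
    rw [MvPolynomial.ringKrullDim_of_isNoetherianRing, ringKrullDim_eq_zero_of_field, zero_add,
      Nat.card_fin] at h1
    have h2 : ((s : ℕ) : WithBot ℕ∞) ≤ 1 := h1.trans hdim
    exact_mod_cast h2
  -- algebra structures on K
  letI : Algebra k K := ((algebraMap R K).comp (algebraMap k R)).toAlgebra
  haveI : IsScalarTower k R K := IsScalarTower.of_algebraMap_eq fun _ => rfl
  letI : Algebra (MvPolynomial (Fin s) k) K :=
    ((algebraMap R K).comp (algebraMap (MvPolynomial (Fin s) k) R)).toAlgebra
  haveI : IsScalarTower (MvPolynomial (Fin s) k) R K := IsScalarTower.of_algebraMap_eq fun _ => rfl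
  haveI : IsScalarTower k (MvPolynomial (Fin s) k) K := by
    refine IsScalarTower.of_algebraMap_eq fun c => ?_
    show algebraMap R K (algebraMap k R c) =
      algebraMap R K (algebraMap (MvPolynomial (Fin s) k) R (algebraMap k _ c))
    rw [← IsScalarTower.algebraMap_apply k (MvPolynomial (Fin s) k) R]
  haveI : Algebra.IsAlgebraic R K := IsLocalization.isAlgebraic K (nonZeroDivisors R)
  haveI : Algebra.IsAlgebraic (MvPolynomial (Fin s) k) K :=
    Algebra.IsAlgebraic.trans (MvPolynomial (Fin s) k) R K
  haveI : FaithfulSMul (MvPolynomial (Fin s) k) K :=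
    (faithfulSMul_iff_algebraMap_injective _ _).2
      ((IsFractionRing.injective R K).comp hinj')
  have hx : IsTranscendenceBasis k (algebraMap (MvPolynomial (Fin s) k) K ∘ MvPolynomial.X) :=
    (IsTranscendenceBasis.mvPolynomial (Fin s) k).algebraMap_comp
  have hC := Groth.Agent.Lib.Helper7.TL.isCi_add_of_isTranscendenceBasis k K 0 s _ hx
    (Groth.Agent.Lib.Helper7.TL.isCi_zero_of_isAlgClosed k)
  rw [zero_add] at hC
  interval_cases s
  · exact isCi_one_of_isCi_zero hC
  · exact hC

end Groth.Agent.Lib.helper19.CurveTsen
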