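import Groth.Agent.Lib.helper19.CurveTsen

/-! The function field of a curve over an algebraically closed field is `C_1`: scheme part. -/

set_option autoImplicit false
universe u
open AlgebraicGeometry CategoryTheory

namespace Groth.Agent.Lib.helper19.CurveTsen

theorem isCi_one_functionField (k : Type u) [Field k] [IsAlgClosed k] (C : Scheme.{u})
    (f : C ⟶ Spec (CommRingCat.of k)) [LocallyOfFiniteType f] [IsIntegral C]
    (hdim : topologicalKrullDim ↥C = 1) : Curves.IsCi (↑C.functionField) 1 := by
  obtain ⟨x⟩ : Nonempty C := inferInstance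
  obtain ⟨U, hU, hxU, -⟩ := exists_isAffineOpen_mem_and_subset (x := x) (U := ⊤) trivial
  haveI : Nonempty U := ⟨⟨x, hxU⟩⟩
  have hle : U ≤ f ⁻¹ᵁ ⊤ := by simp
  let φ : k →+* Γ(C, U) :=
    (f.appLE ⊤ U hle).hom.comp (Scheme.ΓSpecIso (CommRingCat.of k)).inv.hom
  have hsurj : Function.Surjective (Scheme.ΓSpecIso (CommRingCat.of k)).inv.hom :=
    (ConcreteCategory.bijective_of_isIso (Scheme.ΓSpecIso (CommRingCat.of k)).inv).2
  have hφ : φ.FiniteType :=
    RingHom.FiniteType.comp (f.finiteType_appLE (isAffineOpen_top _) hU hle)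
      (RingHom.FiniteType.of_surjective _ hsurj)
  letI : Algebra k Γ(C, U) := φ.toAlgebra
  haveI : Algebra.FiniteType k Γ(C, U) := hφ
  haveI := functionField_isFractionRing_of_isAffineOpen C U hU
  refine isCi_one_of_finiteType k Γ(C, U) ?_ C.functionField
  rw [← PrimeSpectrum.topologicalKrullDim_eq_ringKrullDim]
  have h1 : topologicalKrullDim (PrimeSpectrum Γ(C, U)) = topologicalKrullDim U :=
    (IsHomeomorph.topologicalKrullDim_eq _ (Scheme.homeoOfIso hU.isoSpec).isHomeomorph).symm
  rw [h1]
  calc topologicalKrullDim U ≤ topologicalKrullDim C := topologicalKrullDim_subspace_le C U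
    _ = 1 := hdim

theorem main (k : Type u) [Field k] [IsAlgClosed k] (C : Scheme.{u})
    (f : C ⟶ Spec (CommRingCat.of k)) [LocallyOfFiniteType f] [IsIntegral C]
    (hdim : topologicalKrullDim ↥C = 1)
    (D : Type u) [DivisionRing D] [Algebra ↑C.functionField D] [Algebra.IsCentral ↑C.functionField D]
    [FiniteDimensional ↑C.functionField D] : Module.finrank ↑C.functionField D = 1 :=
  Groth.Agent.Lib.Helper7.CSA.finrank_eq_one_of_isCr_one _ D
    (Groth.Agent.Lib.helper19.TrOne.isCr_of_isCi (isCi_one_functionField k C f hdim))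

end Groth.Agent.Lib.helper19.CurveTsen
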