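import Mathlib

set_option autoImplicit false
universe u

namespace Groth.Agent.Lib.Helper19.CycA

section additive

variable {M : Type*} [AddCommGroup M]

theorem aK1 (t f : M) (g N' α' : ℤ) :
    g • (N' • t + (-α') • f) = (g * N') • t + (-(g * α')) • f := by
  module

theorem aK2 (t f : M) (N' α' a bZ : ℤ) (hrel : α' * a - N' * bZ = 1) :
    N' • (a • t + (-bZ) • f) = a • (N' • t + (-α') • f) + f := by
  linear_combination (norm := module) hrel • f

theorem aK3 (t f : M) (N' α' a bZ : ℤ) (hrel : α' * a - N' * bZ = 1) :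
    α' • (a • t + (-bZ) • f) + (-bZ) • (N' • t + (-α') • f) = t := by
  linear_combination (norm := module) hrel • t

theorem aK4 (t f : M) (N' α' a bZ i q : ℤ) (hrel : α' * a - N' * bZ = 1) :
    i • t + (-q) • f = (i * α' - N' * q) • (a • t + (-bZ) • f) +
      (a * q - i * bZ) • (N' • t + (-α') • f) := by
  linear_combination (norm := module) hrel • (-(i • t) + q • f)

theorem aG1 (s w f : M) (N' α' a bZ : ℤ) (hrel : α' * a - N' * bZ = 1)
    (hsf : N' • s = a • w + f) :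
    N' • (α' • s + (-bZ) • w) + (-α') • f = w := by
  linear_combination (norm := module) α' • hsf + hrel • w

theorem aG2 (s w f : M) (N' α' a bZ : ℤ) (hrel : α' * a - N' * bZ = 1)
    (hsf : N' • s = a • w + f) :
    a • (α' • s + (-bZ) • w) + (-bZ) • f = s := by
  linear_combination (norm := module) bZ • hsf + hrel • s

theorem aG3 (s w f u : M) (g N' α' a bZ : ℤ) (hrel : α' * a - N' * bZ = 1)
    (hsf : N' • s = a • w + f) (hwu : g • w = u) :
    (g * N') • (α' • s + (-bZ) • w) = u + (g * α') • f := by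
  linear_combination (norm := module) hwu + (g * α') • hsf + (g * hrel) • w

end additive

section multiplicative

variable {G : Type*} [CommGroup G]

theorem K1 (t f : G) (g N' α' : ℤ) :
    (t ^ N' * f ^ (-α')) ^ g = t ^ (g * N') * f ^ (-(g * α')) :=
  aK1 (M := Additive G) (Additive.ofMul t) (Additive.ofMul f) g N' α'

theorem K2 (t f : G) (N' α' a bZ : ℤ) (hrel : α' * a - N' * bZ = 1) :
    (t ^ a * f ^ (-bZ)) ^ N' = (t ^ N' * f ^ (-α')) ^ a * f :=
  aK2 (M := Additive G) (Additive.ofMul t) (Additive.ofMul f) N' α' a bZ hrel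

theorem K3 (t f : G) (N' α' a bZ : ℤ) (hrel : α' * a - N' * bZ = 1) :
    (t ^ a * f ^ (-bZ)) ^ α' * (t ^ N' * f ^ (-α')) ^ (-bZ) = t :=
  aK3 (M := Additive G) (Additive.ofMul t) (Additive.ofMul f) N' α' a bZ hrel

theorem K4 (t f : G) (N' α' a bZ i q : ℤ) (hrel : α' * a - N' * bZ = 1) :
    t ^ i * f ^ (-q) = (t ^ a * f ^ (-bZ)) ^ (i * α' - N' * q) *
      (t ^ N' * f ^ (-α')) ^ (a * q - i * bZ) :=
  aK4 (M := Additive G) (Additive.ofMul t) (Additive.ofMul f) N' α' a bZ i q hrel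

theorem G1 (s w f : G) (N' α' a bZ : ℤ) (hrel : α' * a - N' * bZ = 1)
    (hsf : s ^ N' = w ^ a * f) :
    (s ^ α' * w ^ (-bZ)) ^ N' * f ^ (-α') = w :=
  aG1 (M := Additive G) (Additive.ofMul s) (Additive.ofMul w) (Additive.ofMul f) N' α' a bZ hrel hsf

theorem G2 (s w f : G) (N' α' a bZ : ℤ) (hrel : α' * a - N' * bZ = 1)
    (hsf : s ^ N' = w ^ a * f) :
    (s ^ α' * w ^ (-bZ)) ^ a * f ^ (-bZ) = s :=
  aG2 (M := Additive G) (Additive.ofMul s) (Additive.ofMul w) (Additive.ofMul f) N' α' a bZ hrel hsf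

theorem G3 (s w f u : G) (g N' α' a bZ : ℤ) (hrel : α' * a - N' * bZ = 1)
    (hsf : s ^ N' = w ^ a * f) (hwu : w ^ g = u) :
    (s ^ α' * w ^ (-bZ)) ^ (g * N') = u * f ^ (g * α') :=
  aG3 (M := Additive G) (Additive.ofMul s) (Additive.ofMul w) (Additive.ofMul f)
    (Additive.ofMul u) g N' α' a bZ hrel hsf hwu

end multiplicative

section arith

/-- The arithmetic data attached to `(N, α)`. -/
theorem exists_data (N α : ℕ) (hN : 0 < N) :
    ∃ (g N' α' a : ℕ) (bZ : ℤ), 0 < g ∧ 0 < N' ∧ N = g * N' ∧ α = g * α' ∧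
      (α' : ℤ) * a - N' * bZ = 1 ∧
      (N' = 1 → a = 0 ∧ bZ = -1) ∧
      (1 < N' → a < N' ∧ 0 ≤ bZ ∧ ((a * α / N : ℕ) : ℤ) = bZ) := by
  set g := Nat.gcd N α with hg
  have hgpos : 0 < g := Nat.gcd_pos_of_pos_left _ hN
  obtain ⟨N', hN'⟩ : g ∣ N := Nat.gcd_dvd_left _ _
  obtain ⟨α', hα'⟩ : g ∣ α := Nat.gcd_dvd_right _ _
  have hN'pos : 0 < N' := by
    rcases Nat.eq_zero_or_pos N' with h | h
    · rw [h, mul_zero] at hN'; omega
    · exact h
  have hcop : Nat.Coprime N' α' := by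
    have h1 : Nat.gcd (g * N') (g * α') = g := by rw [← hN', ← hα']
    rw [Nat.gcd_mul_left] at h1
    have : g * Nat.gcd N' α' = g * 1 := by rw [h1, mul_one]
    exact Nat.eq_of_mul_eq_mul_left hgpos this
  rcases Nat.lt_or_ge 1 N' with h1 | h1
  · obtain ⟨a, haN, ha1⟩ := Nat.exists_mul_mod_eq_one_of_coprime hcop.symm h1
    set b := α' * a / N' with hb
    have hdm : N' * b + 1 = α' * a := by
      have := Nat.div_add_mod (α' * a) N'
      rw [ha1] at this
      exact this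
    refine ⟨g, N', α', a, (b : ℤ), hgpos, hN'pos, hN', hα', ?_, ?_, ?_⟩
    · have : ((α' * a : ℕ) : ℤ) = ((N' * b + 1 : ℕ) : ℤ) := by rw [hdm]
      push_cast at this
      linarith
    · intro h; omega
    · intro _
      refine ⟨haN, Int.natCast_nonneg _, ?_⟩
      congr 1
      rw [hα', hN', hb, ← mul_assoc, mul_comm a g, mul_assoc, Nat.mul_div_mul_left _ _ hgpos,
        mul_comm a α']
  · have hN'1 : N' = 1 := by omega
    refine ⟨g, N', α', 0, -1, hgpos, hN'pos, hN', hα', ?_, ?_, ?_⟩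
    · rw [hN'1]; simp
    · intro _; exact ⟨rfl, rfl⟩
    · intro h; omega

end arith

end Groth.Agent.Lib.Helper19.CycA
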