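import Mathlib
import Groth.Agent.Lib.Helper5.RegAdjoinRoot2

set_option autoImplicit false
universe u

open Polynomial

namespace Groth.Agent.Lib.Helper19.CycB

theorem isRegularRing_of_subsingleton (R : Type*) [CommRing R] [Subsingleton R] :
    IsRegularRing R := by
  haveI : IsNoetherianRing R := inferInstance
  rw [isRegularRing_iff]
  intro p hp
  exact absurd (Subsingleton.elim p ⊤) hp.ne_top

variable (B : Type u) [CommRing B]

/-- the first layer `B[W]/(W^g - u)` -/
abbrev B1 (u : B) (g : ℕ) : Type u := AdjoinRoot (X ^ g - C u : B[X])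

/-- the root `w` -/
noncomputable abbrev w1 (u : B) (g : ℕ) : B1 B u g := AdjoinRoot.root (X ^ g - C u : B[X])

/-- the element `w^a f` of the first layer -/
noncomputable def sElt (u f : B) (g a : ℕ) : B1 B u g :=
  (w1 B u g) ^ a * AdjoinRoot.of (X ^ g - C u : B[X]) f

theorem sElt_def (u f : B) (g a : ℕ) :
    sElt B u f g a = (w1 B u g) ^ a * AdjoinRoot.of (X ^ g - C u : B[X]) f := rfl

/-- the second layer `B1[S]/(S^N' - w^a f)` -/
abbrev CC (u f : B) (g N' a : ℕ) : Type u :=
  AdjoinRoot (X ^ N' - C (sElt B u f g a) : (B1 B u g)[X])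

theorem w1_pow (u : B) (g : ℕ) : (w1 B u g) ^ g = AdjoinRoot.of _ u :=
  Groth.Agent.Lib.Helper5.RegAdjoinRoot.root_pow B u g

theorem isUnit_w1 (u : B) (hu : IsUnit u) (g : ℕ) (hg : 0 < g) : IsUnit (w1 B u g) := by
  have h : IsUnit ((w1 B u g) ^ g) := by
    rw [w1_pow]; exact hu.map _
  exact (isUnit_pow_iff hg.ne').1 h

theorem regular_B1 [IsRegularRing B] (u : B) (hu : IsUnit u) (g : ℕ) (hg : 0 < g)
    (hgu : IsUnit (g : B)) : IsRegularRing (B1 B u g) := by
  refine Groth.Agent.Lib.Helper5.RegAdjoinRoot.isRegularRing_adjoinRoot' B u g hg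
    hu.mem_nonZeroDivisors ?_ hgu
  haveI : Subsingleton (B ⧸ Ideal.span ({u} : Set B)) := by
    rw [Ideal.Quotient.subsingleton_iff, Ideal.span_singleton_eq_top]
    exact hu
  exact isRegularRing_of_subsingleton _

theorem of_mem_nonZeroDivisors (u : B) (g : ℕ) (hg : 0 < g) (f : B) (hf : f ∈ nonZeroDivisors B) :
    AdjoinRoot.of (X ^ g - C u : B[X]) f ∈ nonZeroDivisors (B1 B u g) := by
  have hmonic : (X ^ g - C u : B[X]).Monic := monic_X_pow_sub_C u hg.ne'
  haveI := hmonic.free_adjoinRoot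
  rw [mem_nonZeroDivisors_iff_right]
  intro b hb
  rw [← AdjoinRoot.algebraMap_eq, mul_comm, ← Algebra.smul_def] at hb
  exact (Module.Flat.isSMulRegular_of_nonZeroDivisors hf) (hb.trans (smul_zero f).symm)

theorem regular_quot [IsRegularRing B] (u f : B) (hu : IsUnit u) (g a : ℕ) (hg : 0 < g)
    (hgu : IsUnit (g : B)) (hreg : IsRegularRing (B ⧸ Ideal.span ({f} : Set B))) :
    IsRegularRing (B1 B u g ⧸ Ideal.span ({sElt B u f g a} : Set (B1 B u g))) := by
  have hw : IsUnit ((w1 B u g) ^ a) := (isUnit_w1 B u hu g hg).pow a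
  have h1 : Ideal.span ({sElt B u f g a} : Set (B1 B u g)) =
      (Ideal.span ({f} : Set B)).map (AdjoinRoot.of (X ^ g - C u : B[X])) := by
    rw [Ideal.map_span, Set.image_singleton, sElt_def]
    exact Ideal.span_singleton_mul_left_unit hw _
  have hgu' : IsUnit (g : B ⧸ Ideal.span ({f} : Set B)) := by
    have := hgu.map (Ideal.Quotient.mk (Ideal.span ({f} : Set B)))
    rwa [map_natCast] at this
  have hu' : IsUnit (Ideal.Quotient.mk (Ideal.span ({f} : Set B)) u) := hu.map _
  have h2 : IsRegularRing (AdjoinRoot (X ^ g - C (Ideal.Quotient.mk (Ideal.span ({f} : Set B)) u) :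
      (B ⧸ Ideal.span ({f} : Set B))[X])) :=
    regular_B1 (B ⧸ Ideal.span ({f} : Set B)) _ hu' g hg hgu'
  have hmap : (X ^ g - C u : B[X]).map (Ideal.Quotient.mk (Ideal.span ({f} : Set B))) =
      X ^ g - C (Ideal.Quotient.mk (Ideal.span ({f} : Set B)) u) := by
    rw [Polynomial.map_sub, Polynomial.map_pow, Polynomial.map_X, Polynomial.map_C]
  have e1 : (B1 B u g ⧸ (Ideal.span ({f} : Set B)).map (AdjoinRoot.of (X ^ g - C u : B[X]))) ≃+*
      AdjoinRoot (X ^ g - C (Ideal.Quotient.mk (Ideal.span ({f} : Set B)) u) :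
        (B ⧸ Ideal.span ({f} : Set B))[X]) := by
    have e := (AdjoinRoot.quotEquivQuotMap (X ^ g - C u : B[X])
      (Ideal.span ({f} : Set B))).toRingEquiv
    rw [hmap] at e
    exact e
  have h3 : IsRegularRing (B1 B u g ⧸
      (Ideal.span ({f} : Set B)).map (AdjoinRoot.of (X ^ g - C u : B[X]))) :=
    IsRegularRing.of_ringEquiv e1.symm
  exact IsRegularRing.of_ringEquiv (Ideal.quotEquivOfEq h1.symm)

theorem regular_CC [IsRegularRing B] (u f : B) (hu : IsUnit u) (hf : f ∈ nonZeroDivisors B)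
    (g N' a : ℕ) (hg : 0 < g) (hN' : 0 < N')
    (hgu : IsUnit (g : B)) (hNu : IsUnit (N' : B))
    (hreg : IsRegularRing (B ⧸ Ideal.span ({f} : Set B))) :
    IsRegularRing (CC B u f g N' a) := by
  haveI := regular_B1 B u hu g hg hgu
  have hw : IsUnit ((w1 B u g) ^ a) := (isUnit_w1 B u hu g hg).pow a
  have hs : sElt B u f g a ∈ nonZeroDivisors (B1 B u g) := by
    rw [sElt_def]
    exact mul_mem hw.mem_nonZeroDivisors (of_mem_nonZeroDivisors B u g hg f hf)
  have hNu' : IsUnit (N' : B1 B u g) := by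
    have := hNu.map (AdjoinRoot.of (X ^ g - C u : B[X]))
    rwa [map_natCast] at this
  exact Groth.Agent.Lib.Helper5.RegAdjoinRoot.isRegularRing_adjoinRoot' (B1 B u g)
    (sElt B u f g a) N' hN' hs (regular_quot B u f hu g a hg hgu hreg) hNu'

end Groth.Agent.Lib.Helper19.CycB
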