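import Mathlib

set_option autoImplicit false
universe u

open Polynomial

namespace Groth.Agent.Lib.Helper19.CycC

/-- A ring all of whose localizations at maximal ideals are integrally closed domains is
integrally closed in any localization `R_f`. -/
theorem exists_of_isIntegral {R S : Type*} [CommRing R] [CommRing S] [Algebra R S] (f : R)
    [IsLocalization.Away f S]
    (h : ∀ (Q : Ideal R) [Q.IsMaximal],
      IsDomain (Localization.AtPrime Q) ∧ IsIntegrallyClosed (Localization.AtPrime Q))
    (y : S) (hy : IsIntegral R y) : ∃ c : R, algebraMap R S c = y := by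
  classical
  by_contra hne
  push_neg at hne
  let I : Ideal R :=
    { carrier := {r | ∃ c, algebraMap R S c = r • y}
      zero_mem' := ⟨0, by simp⟩
      add_mem' := by
        rintro a b ⟨c, hc⟩ ⟨d, hd⟩
        exact ⟨c + d, by rw [map_add, hc, hd, add_smul]⟩
      smul_mem' := by
        rintro a b ⟨c, hc⟩
        exact ⟨a * c, by rw [map_mul, hc, smul_eq_mul, mul_smul, Algebra.smul_def a]⟩ }
  have hI : I ≠ ⊤ := by
    intro htop
    have h1 : (1 : R) ∈ I := by rw [htop]; trivial
    obtain ⟨c, hc⟩ := h1
    rw [one_smul] at hc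
    exact hne c hc
  obtain ⟨Q, hQ, hIQ⟩ := Ideal.exists_le_maximal I hI
  haveI := hQ
  obtain ⟨hdom, hic⟩ := h Q
  have hfu : IsUnit (algebraMap R S f) := IsLocalization.Away.algebraMap_isUnit f
  -- elements killed after localization at `Q`
  have hkill : ∀ c : R, algebraMap R (Localization.AtPrime Q) c = 0 →
      ∃ s : R, s ∉ Q ∧ algebraMap R S s * algebraMap R S c = 0 := by
    intro c hc
    obtain ⟨s, hs⟩ := (IsLocalization.map_eq_zero_iff Q.primeCompl (Localization.AtPrime Q) c).1 hc
    exact ⟨s.1, s.2, by rw [← map_mul, hs, map_zero]⟩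
  by_cases hf0 : algebraMap R (Localization.AtPrime Q) f = 0
  · obtain ⟨s, hsQ, hs⟩ := hkill f hf0
    have hs0 : algebraMap R S s = 0 := by
      have := hfu.mul_left_eq_zero.1 hs
      exact this
    have : s ∈ I := ⟨0, by rw [map_zero, Algebra.smul_def, hs0, zero_mul]⟩
    exact hsQ (hIQ this)
  · let L := FractionRing (Localization.AtPrime Q)
    let g : R →+* L := (algebraMap (Localization.AtPrime Q) L).comp
      (algebraMap R (Localization.AtPrime Q))
    have hginj : ∀ c : R, g c = 0 → algebraMap R (Localization.AtPrime Q) c = 0 := by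
      intro c hc
      exact (IsFractionRing.injective (Localization.AtPrime Q) L) (by rw [map_zero]; exact hc)
    have hgf : IsUnit (g f) := by
      rw [isUnit_iff_ne_zero]
      exact fun h0 => hf0 (hginj f h0)
    let ψ : S →+* L := IsLocalization.Away.lift f hgf
    have hψ : ∀ c : R, ψ (algebraMap R S c) = g c := fun c => IsLocalization.Away.lift_eq f hgf c
    -- kernel of ψ
    have hker : ∀ x : S, ψ x = 0 → ∃ s : R, s ∉ Q ∧ algebraMap R S s * x = 0 := by
      intro x hx
      obtain ⟨c, m, rfl⟩ := IsLocalization.exists_mk'_eq (Submonoid.powers f) x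
      have h1 : IsLocalization.mk' S c m * algebraMap R S m.1 = algebraMap R S c :=
        IsLocalization.mk'_spec S c m
      have h2 : g c = 0 := by
        rw [← hψ, ← h1, map_mul, hx, zero_mul]
      obtain ⟨s, hsQ, hs⟩ := hkill c (hginj c h2)
      refine ⟨s, hsQ, ?_⟩
      have hmu : IsUnit (algebraMap R S m.1) := IsLocalization.map_units S m
      rw [← h1, ← mul_assoc] at hs
      exact hmu.mul_left_eq_zero.1 hs
    -- ψ y is integral over the local ring
    have hint : IsIntegral (Localization.AtPrime Q) (ψ y) := by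
      obtain ⟨p, hp, hpy⟩ := hy
      refine ⟨p.map (algebraMap R (Localization.AtPrime Q)), hp.map _, ?_⟩
      rw [Polynomial.eval₂_map]
      have h3 := congrArg ψ hpy
      rw [Polynomial.hom_eval₂, map_zero] at h3
      have h4 : ψ.comp (algebraMap R S) = g := RingHom.ext hψ
      rw [h4] at h3
      exact h3
    obtain ⟨z, hz⟩ := (IsIntegrallyClosed.isIntegral_iff (K := L)).1 hint
    obtain ⟨r, s, rfl⟩ := IsLocalization.exists_mk'_eq Q.primeCompl z
    have h5 : IsLocalization.mk' (Localization.AtPrime Q) r s *
        algebraMap R (Localization.AtPrime Q) s.1 = algebraMap R (Localization.AtPrime Q) r :=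
      IsLocalization.mk'_spec _ r s
    have h6 : ψ (algebraMap R S s.1 * y - algebraMap R S r) = 0 := by
      rw [map_sub, map_mul, hψ, hψ, ← hz]
      show (algebraMap (Localization.AtPrime Q) L) (algebraMap R _ s.1) * _ -
        (algebraMap (Localization.AtPrime Q) L) (algebraMap R _ r) = 0
      rw [← h5, map_mul]
      ring
    obtain ⟨s', hs'Q, hs'⟩ := hker _ h6
    have hmem : s' * s.1 ∈ I := by
      refine ⟨s' * r, ?_⟩
      rw [mul_sub, sub_eq_zero] at hs'
      rw [Algebra.smul_def, map_mul, map_mul, mul_assoc, hs']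
    have := hIQ hmem
    rcases hQ.isPrime.mem_or_mem this with h7 | h7
    · exact hs'Q h7
    · exact s.2 h7

end Groth.Agent.Lib.Helper19.CycC
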