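import Mathlib
import Groth.Agent.Lib.helper19.CycA
import Groth.Agent.Lib.helper19.CycB

set_option autoImplicit false
universe u

open Polynomial

namespace Groth.Agent.Lib.Helper19.CycD

open Groth.Agent.Lib.Helper19.CycB

section Kside

variable {B : Type u} [CommRing B] (u : Bˣ) (f : B) (g N' α' a : ℕ) (bZ : ℤ)
variable {K : Type u} [CommRing K] [Algebra B K] (tK fK : Kˣ)

/-- the unit `u` in `K` -/
noncomputable def uK : Kˣ := Units.map ((algebraMap B K : B →+* K) : B →* K) u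

/-- `w = t^N' f^(-α')` -/
noncomputable def wK : Kˣ := tK ^ (N' : ℤ) * fK ^ (-(α' : ℤ))

/-- `s = t^a f^(-b)` -/
noncomputable def sK : Kˣ := tK ^ (a : ℤ) * fK ^ (-bZ)

variable {u f g N' α' a bZ tK fK}

theorem wK_pow (hrelK : tK ^ (g * N') = uK (K := K) u * fK ^ (g * α')) :
    wK N' α' tK fK ^ g = uK (K := K) u := by
  have h1 := CycA.K1 tK fK (g : ℤ) (N' : ℤ) (α' : ℤ)
  have h2 : tK ^ ((g : ℤ) * (N' : ℤ)) = tK ^ (g * N') := by
    rw [← zpow_natCast]; push_cast; rfl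
  have h3 : fK ^ (-((g : ℤ) * (α' : ℤ))) = (fK ^ (g * α'))⁻¹ := by
    rw [zpow_neg, ← zpow_natCast]; push_cast; rfl
  rw [h2, h3, hrelK, mul_inv_cancel_right] at h1
  rw [← zpow_natCast]
  exact h1

theorem sK_pow (hrel : (α' : ℤ) * a - N' * bZ = 1) :
    sK a bZ tK fK ^ N' = wK N' α' tK fK ^ a * fK := by
  have h1 := CycA.K2 tK fK (N' : ℤ) (α' : ℤ) (a : ℤ) bZ hrel
  rw [zpow_natCast, zpow_natCast] at h1
  exact h1

theorem sK_wK (hrel : (α' : ℤ) * a - N' * bZ = 1) :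
    sK a bZ tK fK ^ (α' : ℤ) * wK N' α' tK fK ^ (-bZ) = tK :=
  CycA.K3 tK fK (N' : ℤ) (α' : ℤ) (a : ℤ) bZ hrel

theorem eK_eq (hrel : (α' : ℤ) * a - N' * bZ = 1) (i q : ℤ) :
    tK ^ i * fK ^ (-q) = sK a bZ tK fK ^ (i * α' - N' * q) *
      wK N' α' tK fK ^ (a * q - i * bZ) :=
  CycA.K4 tK fK (N' : ℤ) (α' : ℤ) (a : ℤ) bZ i q hrel

end Kside

section Phi

variable {B : Type u} [CommRing B] (u : Bˣ) (f : B) (g N' α' a : ℕ) (bZ : ℤ)
variable {K : Type u} [CommRing K] [Algebra B K] (tK fK : Kˣ)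
variable (hfK : (fK : K) = algebraMap B K f)
variable (hrelK : tK ^ (g * N') = uK (K := K) u * fK ^ (g * α'))
variable (hrel : (α' : ℤ) * a - N' * bZ = 1)

include hrelK in
theorem eval_wK : (X ^ g - C (u : B) : B[X]).eval₂ (Algebra.ofId B K : B →+* K)
    ((wK N' α' tK fK : Kˣ) : K) = 0 := by
  rw [eval₂_sub, eval₂_pow, eval₂_X, eval₂_C, ← Units.val_pow_eq_pow_val, wK_pow hrelK]
  exact sub_self _

/-- first layer map -/
noncomputable def phi1 : B1 B (u : B) g →ₐ[B] K :=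
  AdjoinRoot.liftAlgHom (X ^ g - C (u : B) : B[X]) (Algebra.ofId B K)
    ((wK N' α' tK fK : Kˣ) : K) (eval_wK u g N' α' tK fK hrelK)

theorem phi1_root : phi1 u g N' α' tK fK hrelK (w1 B (u : B) g) = ((wK N' α' tK fK : Kˣ) : K) :=
  AdjoinRoot.liftAlgHom_root _ _ _ _

theorem phi1_of (b : B) : phi1 u g N' α' tK fK hrelK (AdjoinRoot.of _ b) = algebraMap B K b :=
  AdjoinRoot.liftAlgHom_of _ _ _ _ _

include hfK hrel in
theorem eval_sK : (X ^ N' - C (sElt B (u : B) f g a) : (B1 B (u : B) g)[X]).eval₂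
    (phi1 u g N' α' tK fK hrelK : B1 B (u : B) g →+* K) ((sK a bZ tK fK : Kˣ) : K) = 0 := by
  rw [eval₂_sub, eval₂_pow, eval₂_X, eval₂_C, ← Units.val_pow_eq_pow_val, sK_pow hrel]
  show _ - phi1 u g N' α' tK fK hrelK (sElt B (u : B) f g a) = 0
  rw [sElt_def, map_mul, map_pow, phi1_root, phi1_of, ← hfK, Units.val_mul, Units.val_pow_eq_pow_val]
  exact sub_self _

/-- the map `C → K` -/
noncomputable def Phi : CC B (u : B) f g N' a →ₐ[B] K :=
  AdjoinRoot.liftAlgHom (X ^ N' - C (sElt B (u : B) f g a) : (B1 B (u : B) g)[X])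
    (phi1 u g N' α' tK fK hrelK) ((sK a bZ tK fK : Kˣ) : K)
    (eval_sK u f g N' α' a bZ tK fK hfK hrelK hrel)

theorem Phi_root : Phi u f g N' α' a bZ tK fK hfK hrelK hrel
    (AdjoinRoot.root (X ^ N' - C (sElt B (u : B) f g a) : (B1 B (u : B) g)[X])) =
      ((sK a bZ tK fK : Kˣ) : K) :=
  AdjoinRoot.liftAlgHom_root _ _ _ _

theorem Phi_of (b : B1 B (u : B) g) : Phi u f g N' α' a bZ tK fK hfK hrelK hrel
    (AdjoinRoot.of _ b) = phi1 u g N' α' tK fK hrelK b :=
  AdjoinRoot.liftAlgHom_of _ _ _ _ _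

end Phi


section Cf

variable {B : Type u} [CommRing B] (u : Bˣ) (f : B) (g N' α' a : ℕ) (bZ : ℤ)
variable (hg : 0 < g) (hN' : 0 < N')
variable {Cf : Type u} [CommRing Cf] [Algebra B Cf] [Algebra (CC B (u : B) f g N' a) Cf]
  [IsScalarTower B (CC B (u : B) f g N' a) Cf]
variable (fC sC wC : Cfˣ)
variable (hfC : (fC : Cf) = algebraMap B Cf f)
variable (hwC : (wC : Cf) = algebraMap (CC B (u : B) f g N' a) Cf
  (AdjoinRoot.of _ (w1 B (u : B) g)))
variable (hsC : (sC : Cf) = algebraMap (CC B (u : B) f g N' a) Cf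
  (AdjoinRoot.root (X ^ N' - C (sElt B (u : B) f g a) : (B1 B (u : B) g)[X])))
variable (hrel : (α' : ℤ) * a - N' * bZ = 1)

/-- `t = s^α' w^(-b)` on the `C_f` side -/
noncomputable def tC : Cfˣ := sC ^ (α' : ℤ) * wC ^ (-bZ)

theorem algebraMap_B_eq (b : B) : algebraMap B Cf b =
    algebraMap (CC B (u : B) f g N' a) Cf (AdjoinRoot.of _ (AdjoinRoot.of _ b)) := by
  rw [IsScalarTower.algebraMap_apply B (CC B (u : B) f g N' a) Cf]
  rfl

include hwC in
theorem wC_pow : wC ^ g = uK (K := Cf) u := by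
  apply Units.ext
  rw [Units.val_pow_eq_pow_val, hwC, ← map_pow, ← map_pow, w1_pow]
  show _ = algebraMap B Cf (u : B)
  rw [algebraMap_B_eq u f g N' a]

include hfC hwC hsC in
theorem sC_pow : sC ^ N' = wC ^ a * fC := by
  apply Units.ext
  rw [Units.val_pow_eq_pow_val, hsC, ← map_pow,
    Groth.Agent.Lib.Helper5.RegAdjoinRoot.root_pow (B1 B (u : B) g) (sElt B (u : B) f g a) N',
    Units.val_mul, Units.val_pow_eq_pow_val, hwC, hfC, algebraMap_B_eq u f g N' a,
    ← map_pow, ← map_pow, ← map_mul, ← map_mul]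
  rfl

include hfC hwC hsC hrel in
theorem tC_pow : tC α' bZ sC wC ^ (g * N') = uK (K := Cf) u * fC ^ (g * α') := by
  have hsf : sC ^ (N' : ℤ) = wC ^ (a : ℤ) * fC := by
    rw [zpow_natCast, zpow_natCast]
    exact sC_pow u f g N' a fC sC wC hfC hwC hsC
  have hwu : wC ^ (g : ℤ) = uK (K := Cf) u := by
    rw [zpow_natCast]
    exact wC_pow u f g N' a wC hwC
  have h := CycA.G3 sC wC fC (uK (K := Cf) u) (g : ℤ) (N' : ℤ) (α' : ℤ) (a : ℤ) bZ hrel hsf hwu
  have e1 : ((g : ℤ) * (N' : ℤ)) = ((g * N' : ℕ) : ℤ) := by push_cast; rfl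
  have e2 : ((g : ℤ) * (α' : ℤ)) = ((g * α' : ℕ) : ℤ) := by push_cast; rfl
  rw [e1, e2, zpow_natCast, zpow_natCast] at h
  exact h

variable {K : Type u} [CommRing K] [Algebra B K] (tK fK : Kˣ)
variable (hfK : (fK : K) = algebraMap B K f)
variable (hrelK : tK ^ (g * N') = uK (K := K) u * fK ^ (g * α'))

include hfC hwC hsC in
/-- `Ψ ∘ Φ` is the localization map. -/
theorem Psi_Phi (Ψ : K →ₐ[B] Cf) (hΨt : Ψ (tK : K) = (tC α' bZ sC wC : Cfˣ)) (x : CC B (u : B) f g N' a) :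
    Ψ (Phi u f g N' α' a bZ tK fK hfK hrelK hrel x) = algebraMap (CC B (u : B) f g N' a) Cf x := by
  have hsf : sC ^ (N' : ℤ) = wC ^ (a : ℤ) * fC := by
    rw [zpow_natCast, zpow_natCast]
    exact sC_pow u f g N' a fC sC wC hfC hwC hsC
  have hUt : Units.map (Ψ : K →* Cf) tK = tC α' bZ sC wC := Units.ext hΨt
  have hUf : Units.map (Ψ : K →* Cf) fK = fC := by
    apply Units.ext
    show Ψ (fK : K) = _
    rw [hfK, Ψ.commutes, hfC]
  have hUw : Units.map (Ψ : K →* Cf) (wK N' α' tK fK) = wC := by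
    unfold wK
    rw [map_mul, map_zpow, map_zpow, hUt, hUf]
    exact CycA.G1 sC wC fC (N' : ℤ) (α' : ℤ) (a : ℤ) bZ hrel hsf
  have hUs : Units.map (Ψ : K →* Cf) (sK a bZ tK fK) = sC := by
    unfold sK
    rw [map_mul, map_zpow, map_zpow, hUt, hUf]
    exact CycA.G2 sC wC fC (N' : ℤ) (α' : ℤ) (a : ℤ) bZ hrel hsf
  have key : (Ψ : K →+* Cf).comp
      (Phi u f g N' α' a bZ tK fK hfK hrelK hrel : CC B (u : B) f g N' a →+* K) =
      algebraMap (CC B (u : B) f g N' a) Cf := by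
    apply AdjoinRoot.ringHom_ext
    · apply AdjoinRoot.ringHom_ext
      · ext b
        show Ψ (Phi u f g N' α' a bZ tK fK hfK hrelK hrel (AdjoinRoot.of _ (AdjoinRoot.of _ b))) =
          algebraMap (CC B (u : B) f g N' a) Cf (AdjoinRoot.of _ (AdjoinRoot.of _ b))
        rw [Phi_of, phi1_of, Ψ.commutes, algebraMap_B_eq u f g N' a]
      · show Ψ (Phi u f g N' α' a bZ tK fK hfK hrelK hrel (AdjoinRoot.of _ (w1 B (u : B) g))) =
          algebraMap (CC B (u : B) f g N' a) Cf (AdjoinRoot.of _ (w1 B (u : B) g))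
        rw [Phi_of, phi1_root, ← hwC, ← hUw]
        rfl
    · show Ψ (Phi u f g N' α' a bZ tK fK hfK hrelK hrel (AdjoinRoot.root _)) =
        algebraMap (CC B (u : B) f g N' a) Cf (AdjoinRoot.root _)
      rw [Phi_root, ← hsC, ← hUs]
      rfl
  exact congrArg (fun φ => φ x) key

include hfC hwC hsC in
theorem Phi_injective (Ψ : K →ₐ[B] Cf) (hΨt : Ψ (tK : K) = (tC α' bZ sC wC : Cfˣ))
    (hinj : Function.Injective (algebraMap (CC B (u : B) f g N' a) Cf)) :
    Function.Injective (Phi u f g N' α' a bZ tK fK hfK hrelK hrel) := by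
  intro x y hxy
  apply hinj
  rw [← Psi_Phi u f g N' α' a bZ fC sC wC hfC hwC hsC hrel tK fK hfK hrelK Ψ hΨt,
    ← Psi_Phi u f g N' α' a bZ fC sC wC hfC hwC hsC hrel tK fK hfK hrelK Ψ hΨt, hxy]

include hwC hsC in
/-- `Φ_f` sends `t_C` to `t_K`. -/
theorem Phif_tC (Φf : Cf →+* K)
    (hΦf : ∀ x, Φf (algebraMap (CC B (u : B) f g N' a) Cf x) =
      Phi u f g N' α' a bZ tK fK hfK hrelK hrel x) :
    Φf (tC α' bZ sC wC : Cfˣ) = (tK : K) := by
  have hUs : Units.map (Φf : Cf →* K) sC = sK a bZ tK fK := by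
    apply Units.ext
    show Φf (sC : Cf) = _
    rw [hsC, hΦf, Phi_root]
  have hUw : Units.map (Φf : Cf →* K) wC = wK N' α' tK fK := by
    apply Units.ext
    show Φf (wC : Cf) = _
    rw [hwC, hΦf, Phi_of, phi1_root]
  have h : Units.map (Φf : Cf →* K) (tC α' bZ sC wC) = tK := by
    unfold tC
    rw [map_mul, map_zpow, map_zpow, hUs, hUw]
    exact sK_wK hrel
  exact congrArg Units.val h

end Cf


section Range

variable {B : Type u} [CommRing B] (u : Bˣ) (f : B) (g N' α' a : ℕ) (bZ : ℤ)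
variable (hg : 0 < g) (hN' : 0 < N')
variable {K : Type u} [CommRing K] [Algebra B K] (tK fK : Kˣ)
variable (hfK : (fK : K) = algebraMap B K f)
variable (hrelK : tK ^ (g * N') = uK (K := K) u * fK ^ (g * α'))
variable (hrel : (α' : ℤ) * a - N' * bZ = 1)

/-- the unit `w` of `C` -/
noncomputable def wU : (CC B (u : B) f g N' a)ˣ :=
  ((isUnit_w1 B (u : B) u.isUnit g hg).map
    (AdjoinRoot.of (X ^ N' - C (sElt B (u : B) f g a) : (B1 B (u : B) g)[X]))).unit

theorem wU_val : ((wU u f g N' a hg : (CC B (u : B) f g N' a)ˣ) : CC B (u : B) f g N' a) =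
    AdjoinRoot.of _ (w1 B (u : B) g) := rfl

include hg hN' in
theorem gen_mem_range (i : ℕ) :
    ((tK ^ (i : ℤ) * fK ^ (-((i * (g * α') / (g * N') : ℕ) : ℤ)) : Kˣ) : K) ∈
      (Phi u f g N' α' a bZ tK fK hfK hrelK hrel).range := by
  have hq : i * (g * α') / (g * N') = i * α' / N' := by
    rw [mul_left_comm, Nat.mul_div_mul_left _ _ hg]
  rw [hq]
  set q := i * α' / N' with hqdef
  have hmod : ((i * α' % N' : ℕ) : ℤ) = (i : ℤ) * α' - N' * q := by
    have := Nat.mod_add_div (i * α') N'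
    have h2 : ((i * α' % N' + N' * (i * α' / N') : ℕ) : ℤ) = ((i * α' : ℕ) : ℤ) := by rw [this]
    push_cast at h2
    rw [hqdef]
    push_cast
    linarith
  have h1 := eK_eq (tK := tK) (fK := fK) hrel (i : ℤ) (q : ℤ)
  rw [← hmod] at h1
  rw [h1, zpow_natCast]
  have hUw : Units.map (Phi u f g N' α' a bZ tK fK hfK hrelK hrel : CC B (u : B) f g N' a →* K)
      (wU u f g N' a hg) = wK N' α' tK fK := by
    apply Units.ext
    show Phi u f g N' α' a bZ tK fK hfK hrelK hrel (AdjoinRoot.of _ (w1 B (u : B) g)) = _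
    rw [Phi_of, phi1_root]
  refine ⟨AdjoinRoot.root _ ^ (i * α' % N') *
    ((wU u f g N' a hg ^ ((a : ℤ) * q - i * bZ) : (CC B (u : B) f g N' a)ˣ) :
      CC B (u : B) f g N' a), ?_⟩
  show Phi u f g N' α' a bZ tK fK hfK hrelK hrel (AdjoinRoot.root _ ^ (i * α' % N') *
    ((wU u f g N' a hg ^ ((a : ℤ) * q - i * bZ) : (CC B (u : B) f g N' a)ˣ) :
      CC B (u : B) f g N' a)) = _
  rw [map_mul (Phi u f g N' α' a bZ tK fK hfK hrelK hrel),
    map_pow (Phi u f g N' α' a bZ tK fK hfK hrelK hrel), Phi_root, Units.val_mul,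
    Units.val_pow_eq_pow_val, ← hUw, ← map_zpow, Units.coe_map]
  rfl

include hg in
theorem range_le (A : Subalgebra B K) (hw : ((wK N' α' tK fK : Kˣ) : K) ∈ A)
    (hs : ((sK a bZ tK fK : Kˣ) : K) ∈ A) :
    (Phi u f g N' α' a bZ tK fK hfK hrelK hrel).range ≤ A := by
  have h1 : ∀ b : B1 B (u : B) g, phi1 u g N' α' tK fK hrelK b ∈ A := by
    intro b
    induction b using AdjoinRoot.induction_on with
    | ih p =>
      induction p using Polynomial.induction_on' with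
      | add p q hp hq => rw [map_add, map_add]; exact A.add_mem hp hq
      | monomial n c =>
        rw [← C_mul_X_pow_eq_monomial, map_mul, map_pow, AdjoinRoot.mk_C, AdjoinRoot.mk_X,
          map_mul, map_pow, phi1_of]
        exact A.mul_mem (A.algebraMap_mem _) (A.pow_mem (by rw [phi1_root]; exact hw) _)
  rintro _ ⟨x, rfl⟩
  show Phi u f g N' α' a bZ tK fK hfK hrelK hrel x ∈ A
  induction x using AdjoinRoot.induction_on with
  | ih p =>
    induction p using Polynomial.induction_on' with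
    | add p q hp hq => rw [map_add, map_add]; exact A.add_mem hp hq
    | monomial n c =>
      rw [← C_mul_X_pow_eq_monomial, RingHom.map_mul (AdjoinRoot.mk _) (C c) (X ^ n),
        RingHom.map_pow (AdjoinRoot.mk _) X n, AdjoinRoot.mk_C, AdjoinRoot.mk_X,
        map_mul (Phi u f g N' α' a bZ tK fK hfK hrelK hrel),
        map_pow (Phi u f g N' α' a bZ tK fK hfK hrelK hrel), Phi_of, Phi_root]
      exact A.mul_mem (h1 c) (A.pow_mem hs _)

end Range

end Groth.Agent.Lib.Helper19.CycD
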