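import Mathlib
import Groth.Agent.Lib.helper19.CycD

set_option autoImplicit false
universe u

open Polynomial

namespace Groth.Agent.Lib.Helper19.CycE

open Groth.Agent.Lib.Helper19.CycB Groth.Agent.Lib.Helper19.CycD

variable {B : Type u} [CommRing B] (u : Bˣ) (f₁ : B) (g N' α' a : ℕ) (bZ : ℤ)

/-- the polynomial `t^N - u f^α` -/
noncomputable abbrev Pol : B[X] := X ^ (g * N') - C ((u : B) * f₁ ^ (g * α'))

/-- `A' = B[t]/(t^N - u f^α)` -/
abbrev A' : Type u := AdjoinRoot (Pol u f₁ g N' α')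

/-- the image of `f₁` in `A'` -/
noncomputable abbrev fA' : A' u f₁ g N' α' := algebraMap B (A' u f₁ g N' α') f₁

/-- `K = A'[1/f₁]` -/
abbrev KK : Type u := Localization.Away (fA' u f₁ g N' α')

/-- the localization `C_f` -/
abbrev Cf : Type u := Localization.Away (algebraMap B (CC B (u : B) f₁ g N' a) f₁)

section units

/-- `f` as a unit of `K` -/
noncomputable def fK : (KK u f₁ g N' α')ˣ :=
  (IsLocalization.Away.algebraMap_isUnit (S := KK u f₁ g N' α') (fA' u f₁ g N' α')).unit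

theorem fK_val : ((fK u f₁ g N' α' : (KK u f₁ g N' α')ˣ) : KK u f₁ g N' α') =
    algebraMap B (KK u f₁ g N' α') f₁ :=
  (IsScalarTower.algebraMap_apply B (A' u f₁ g N' α') (KK u f₁ g N' α') f₁).symm

variable (hg : 0 < g) (hN' : 0 < N')

include hg hN' in
theorem isUnit_t : IsUnit (algebraMap (A' u f₁ g N' α') (KK u f₁ g N' α')
    (AdjoinRoot.root (Pol u f₁ g N' α'))) := by
  have h : IsUnit ((algebraMap (A' u f₁ g N' α') (KK u f₁ g N' α')
      (AdjoinRoot.root (Pol u f₁ g N' α'))) ^ (g * N')) := by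
    rw [← map_pow, Groth.Agent.Lib.Helper5.RegAdjoinRoot.root_pow B ((u : B) * f₁ ^ (g * α')) (g * N'),
      ← AdjoinRoot.algebraMap_eq, ← IsScalarTower.algebraMap_apply, map_mul, map_pow,
      ← fK_val]
    exact (u.isUnit.map _).mul ((fK u f₁ g N' α').isUnit.pow _)
  exact (isUnit_pow_iff (Nat.mul_pos hg hN').ne').1 h

/-- `t` as a unit of `K` -/
noncomputable def tK : (KK u f₁ g N' α')ˣ := (isUnit_t u f₁ g N' α' hg hN').unit

theorem tK_val : ((tK u f₁ g N' α' hg hN' : (KK u f₁ g N' α')ˣ) : KK u f₁ g N' α') =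
    algebraMap (A' u f₁ g N' α') (KK u f₁ g N' α') (AdjoinRoot.root (Pol u f₁ g N' α')) := rfl

theorem hrelK : tK u f₁ g N' α' hg hN' ^ (g * N') =
    uK (K := KK u f₁ g N' α') u * fK u f₁ g N' α' ^ (g * α') := by
  apply Units.ext
  rw [Units.val_pow_eq_pow_val, tK_val, ← map_pow,
    Groth.Agent.Lib.Helper5.RegAdjoinRoot.root_pow B ((u : B) * f₁ ^ (g * α')) (g * N'),
    ← AdjoinRoot.algebraMap_eq, ← IsScalarTower.algebraMap_apply, map_mul, map_pow,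
    Units.val_mul, Units.val_pow_eq_pow_val, fK_val]
  rfl

end units


section CfUnits

variable (hg : 0 < g) (hN' : 0 < N')

/-- `f` as a unit of `C_f` -/
noncomputable def fC : (Cf u f₁ g N' a)ˣ :=
  (IsLocalization.Away.algebraMap_isUnit (S := Cf u f₁ g N' a)
    (algebraMap B (CC B (u : B) f₁ g N' a) f₁)).unit

theorem fC_val : ((fC u f₁ g N' a : (Cf u f₁ g N' a)ˣ) : Cf u f₁ g N' a) =
    algebraMap B (Cf u f₁ g N' a) f₁ :=
  (IsScalarTower.algebraMap_apply B (CC B (u : B) f₁ g N' a) (Cf u f₁ g N' a) f₁).symm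

/-- `w` as a unit of `C_f` -/
noncomputable def wC : (Cf u f₁ g N' a)ˣ :=
  Units.map ((algebraMap (CC B (u : B) f₁ g N' a) (Cf u f₁ g N' a) : _ →+* _) : _ →* _)
    (wU u f₁ g N' a hg)

theorem wC_val : ((wC u f₁ g N' a hg : (Cf u f₁ g N' a)ˣ) : Cf u f₁ g N' a) =
    algebraMap (CC B (u : B) f₁ g N' a) (Cf u f₁ g N' a) (AdjoinRoot.of _ (w1 B (u : B) g)) := rfl

include hg hN' in
theorem isUnit_s : IsUnit (algebraMap (CC B (u : B) f₁ g N' a) (Cf u f₁ g N' a)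
    (AdjoinRoot.root (X ^ N' - C (sElt B (u : B) f₁ g a) : (B1 B (u : B) g)[X]))) := by
  have h : IsUnit ((algebraMap (CC B (u : B) f₁ g N' a) (Cf u f₁ g N' a)
      (AdjoinRoot.root (X ^ N' - C (sElt B (u : B) f₁ g a) : (B1 B (u : B) g)[X]))) ^ N') := by
    rw [← map_pow,
      Groth.Agent.Lib.Helper5.RegAdjoinRoot.root_pow (B1 B (u : B) g) (sElt B (u : B) f₁ g a) N']
    have e1 : (AdjoinRoot.of (X ^ N' - C (sElt B (u : B) f₁ g a) : (B1 B (u : B) g)[X]))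
        (sElt B (u : B) f₁ g a) =
        (AdjoinRoot.of _ (w1 B (u : B) g)) ^ a * algebraMap B (CC B (u : B) f₁ g N' a) f₁ := by
      show (AdjoinRoot.of (X ^ N' - C (sElt B (u : B) f₁ g a) : (B1 B (u : B) g)[X]))
        ((w1 B (u : B) g) ^ a * AdjoinRoot.of _ f₁) = _
      rw [RingHom.map_mul, RingHom.map_pow]
      rfl
    rw [e1, RingHom.map_mul, RingHom.map_pow, ← wC_val u f₁ g N' a hg,
      ← IsScalarTower.algebraMap_apply, ← fC_val]
    exact ((wC u f₁ g N' a hg).isUnit.pow a).mul (fC u f₁ g N' a).isUnit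
  exact (isUnit_pow_iff hN'.ne').1 h

/-- `s` as a unit of `C_f` -/
noncomputable def sC : (Cf u f₁ g N' a)ˣ := (isUnit_s u f₁ g N' a hg hN').unit

theorem sC_val : ((sC u f₁ g N' a hg hN' : (Cf u f₁ g N' a)ˣ) : Cf u f₁ g N' a) =
    algebraMap (CC B (u : B) f₁ g N' a) (Cf u f₁ g N' a)
      (AdjoinRoot.root (X ^ N' - C (sElt B (u : B) f₁ g a) : (B1 B (u : B) g)[X])) := rfl

variable (hrel : (α' : ℤ) * a - N' * bZ = 1)

include hrel in
theorem eval_tC : (Pol u f₁ g N' α').eval₂ (Algebra.ofId B (Cf u f₁ g N' a) : B →+* Cf u f₁ g N' a)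
    ((tC α' bZ (sC u f₁ g N' a hg hN') (wC u f₁ g N' a hg) : (Cf u f₁ g N' a)ˣ) :
      Cf u f₁ g N' a) = 0 := by
  rw [eval₂_sub, eval₂_pow, eval₂_X, eval₂_C, ← Units.val_pow_eq_pow_val,
    tC_pow u f₁ g N' α' a bZ (fC u f₁ g N' a) (sC u f₁ g N' a hg hN') (wC u f₁ g N' a hg)
      (fC_val u f₁ g N' a) (wC_val u f₁ g N' a hg) (sC_val u f₁ g N' a hg hN') hrel,
    Units.val_mul, Units.val_pow_eq_pow_val, fC_val]
  show _ - algebraMap B (Cf u f₁ g N' a) ((u : B) * f₁ ^ (g * α')) = 0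
  rw [map_mul, map_pow]
  exact sub_self _

/-- `A' → C_f` -/
noncomputable def psi0 : A' u f₁ g N' α' →ₐ[B] Cf u f₁ g N' a :=
  AdjoinRoot.liftAlgHom (Pol u f₁ g N' α') (Algebra.ofId B (Cf u f₁ g N' a))
    ((tC α' bZ (sC u f₁ g N' a hg hN') (wC u f₁ g N' a hg) : (Cf u f₁ g N' a)ˣ) :
      Cf u f₁ g N' a) (eval_tC u f₁ g N' α' a bZ hg hN' hrel)

theorem isUnit_psi0 : IsUnit (psi0 u f₁ g N' α' a bZ hg hN' hrel (fA' u f₁ g N' α')) := by
  rw [AlgHom.commutes, ← fC_val u f₁ g N' a]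
  exact (fC u f₁ g N' a).isUnit

/-- `Ψ : K → C_f` -/
noncomputable def Psi : KK u f₁ g N' α' →ₐ[B] Cf u f₁ g N' a :=
  IsLocalization.Away.liftAlgHom (fA' u f₁ g N' α') (f := psi0 u f₁ g N' α' a bZ hg hN' hrel)
    (isUnit_psi0 u f₁ g N' α' a bZ hg hN' hrel)

theorem Psi_tK : Psi u f₁ g N' α' a bZ hg hN' hrel
    ((tK u f₁ g N' α' hg hN' : (KK u f₁ g N' α')ˣ) : KK u f₁ g N' α') =
    ((tC α' bZ (sC u f₁ g N' a hg hN') (wC u f₁ g N' a hg) : (Cf u f₁ g N' a)ˣ) :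
      Cf u f₁ g N' a) := by
  rw [tK_val]
  have h := IsLocalization.Away.lift_eq (S := KK u f₁ g N' α') (fA' u f₁ g N' α')
    (g := (psi0 u f₁ g N' α' a bZ hg hN' hrel : A' u f₁ g N' α' →+* Cf u f₁ g N' a))
    (isUnit_psi0 u f₁ g N' α' a bZ hg hN' hrel) (AdjoinRoot.root (Pol u f₁ g N' α'))
  refine Eq.trans h ?_
  exact AdjoinRoot.liftAlgHom_root (Pol u f₁ g N' α') (Algebra.ofId B (Cf u f₁ g N' a)) _
    (eval_tC u f₁ g N' α' a bZ hg hN' hrel)

end CfUnits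

end Groth.Agent.Lib.Helper19.CycE
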