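import Mathlib
import Groth.Agent.Lib.helper19.CycE

set_option autoImplicit false
universe u

open Polynomial

namespace Groth.Agent.Lib.Helper19.CycF

open Groth.Agent.Lib.Helper19.CycB Groth.Agent.Lib.Helper19.CycD Groth.Agent.Lib.Helper19.CycE

variable {B : Type u} [CommRing B] (u : Bˣ) (f₁ : B) (g N' α' a : ℕ) (bZ : ℤ)
variable (hg : 0 < g) (hN' : 0 < N') (hrel : (α' : ℤ) * a - N' * bZ = 1)

/-- the map `Φ : C → K` in the concrete situation -/
noncomputable def PhiE : CC B (u : B) f₁ g N' a →ₐ[B] KK u f₁ g N' α' :=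
  Phi u f₁ g N' α' a bZ (tK u f₁ g N' α' hg hN') (fK u f₁ g N' α') (fK_val u f₁ g N' α')
    (hrelK u f₁ g N' α' hg hN') hrel

include hg hN' in
theorem algebraMap_f_mem_nonZeroDivisors (hf : f₁ ∈ nonZeroDivisors B) :
    algebraMap B (CC B (u : B) f₁ g N' a) f₁ ∈ nonZeroDivisors (CC B (u : B) f₁ g N' a) := by
  have hm1 : (X ^ g - C (u : B) : B[X]).Monic := monic_X_pow_sub_C _ hg.ne'
  have hm2 : (X ^ N' - C (sElt B (u : B) f₁ g a) : (B1 B (u : B) g)[X]).Monic :=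
    monic_X_pow_sub_C _ hN'.ne'
  haveI := hm1.free_adjoinRoot
  haveI := hm2.free_adjoinRoot
  haveI : Module.Flat B (CC B (u : B) f₁ g N' a) :=
    Module.Flat.trans B (B1 B (u : B) g) (CC B (u : B) f₁ g N' a)
  rw [mem_nonZeroDivisors_iff_right]
  intro b hb
  rw [mul_comm, ← Algebra.smul_def] at hb
  exact (Module.Flat.isSMulRegular_of_nonZeroDivisors hf) (hb.trans (smul_zero f₁).symm)

include hg hN' in
theorem algebraMap_Cf_injective (hf : f₁ ∈ nonZeroDivisors B) :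
    Function.Injective (algebraMap (CC B (u : B) f₁ g N' a) (Cf u f₁ g N' a)) := by
  apply IsLocalization.injective (Cf u f₁ g N' a)
    (M := Submonoid.powers (algebraMap B (CC B (u : B) f₁ g N' a) f₁))
  exact Submonoid.powers_le.2 (algebraMap_f_mem_nonZeroDivisors u f₁ g N' a hg hN' hf)

theorem PhiE_injective (hf : f₁ ∈ nonZeroDivisors B) :
    Function.Injective (PhiE u f₁ g N' α' a bZ hg hN' hrel) :=
  Phi_injective u f₁ g N' α' a bZ (fC u f₁ g N' a) (sC u f₁ g N' a hg hN') (wC u f₁ g N' a hg)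
    (fC_val u f₁ g N' a) (wC_val u f₁ g N' a hg) (sC_val u f₁ g N' a hg hN') hrel
    (tK u f₁ g N' α' hg hN') (fK u f₁ g N' α') (fK_val u f₁ g N' α') (hrelK u f₁ g N' α' hg hN')
    (Psi u f₁ g N' α' a bZ hg hN' hrel) (Psi_tK u f₁ g N' α' a bZ hg hN' hrel)
    (algebraMap_Cf_injective u f₁ g N' a hg hN' hf)

theorem Psi_PhiE (x : CC B (u : B) f₁ g N' a) :
    Psi u f₁ g N' α' a bZ hg hN' hrel (PhiE u f₁ g N' α' a bZ hg hN' hrel x) =
      algebraMap (CC B (u : B) f₁ g N' a) (Cf u f₁ g N' a) x :=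
  Psi_Phi u f₁ g N' α' a bZ (fC u f₁ g N' a) (sC u f₁ g N' a hg hN') (wC u f₁ g N' a hg)
    (fC_val u f₁ g N' a) (wC_val u f₁ g N' a hg) (sC_val u f₁ g N' a hg hN') hrel
    (tK u f₁ g N' α' hg hN') (fK u f₁ g N' α') (fK_val u f₁ g N' α') (hrelK u f₁ g N' α' hg hN')
    (Psi u f₁ g N' α' a bZ hg hN' hrel) (Psi_tK u f₁ g N' α' a bZ hg hN' hrel) x

theorem isUnit_PhiE_f : IsUnit ((PhiE u f₁ g N' α' a bZ hg hN' hrel : _ →+* KK u f₁ g N' α')
    (algebraMap B (CC B (u : B) f₁ g N' a) f₁)) := by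
  show IsUnit (PhiE u f₁ g N' α' a bZ hg hN' hrel (algebraMap B (CC B (u : B) f₁ g N' a) f₁))
  rw [AlgHom.commutes, ← fK_val u f₁ g N' α']
  exact (fK u f₁ g N' α').isUnit

/-- `Φ_f : C_f → K` -/
noncomputable def Phif : Cf u f₁ g N' a →+* KK u f₁ g N' α' :=
  IsLocalization.Away.lift (algebraMap B (CC B (u : B) f₁ g N' a) f₁)
    (isUnit_PhiE_f u f₁ g N' α' a bZ hg hN' hrel)

theorem Phif_eq (x : CC B (u : B) f₁ g N' a) :
    Phif u f₁ g N' α' a bZ hg hN' hrel (algebraMap (CC B (u : B) f₁ g N' a) (Cf u f₁ g N' a) x) =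
      PhiE u f₁ g N' α' a bZ hg hN' hrel x :=
  IsLocalization.Away.lift_eq _ _ x

theorem Phif_Psi (x : KK u f₁ g N' α') :
    Phif u f₁ g N' α' a bZ hg hN' hrel (Psi u f₁ g N' α' a bZ hg hN' hrel x) = x := by
  have key : (Phif u f₁ g N' α' a bZ hg hN' hrel).comp
      (Psi u f₁ g N' α' a bZ hg hN' hrel : KK u f₁ g N' α' →+* Cf u f₁ g N' a) =
      RingHom.id (KK u f₁ g N' α') := by
    apply IsLocalization.ringHom_ext (Submonoid.powers (fA' u f₁ g N' α'))
    apply AdjoinRoot.ringHom_ext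
    · ext b
      show Phif u f₁ g N' α' a bZ hg hN' hrel (Psi u f₁ g N' α' a bZ hg hN' hrel
        (algebraMap (A' u f₁ g N' α') (KK u f₁ g N' α') (AdjoinRoot.of _ b))) =
        algebraMap (A' u f₁ g N' α') (KK u f₁ g N' α') (AdjoinRoot.of _ b)
      have e1 : algebraMap (A' u f₁ g N' α') (KK u f₁ g N' α') (AdjoinRoot.of _ b) =
          algebraMap B (KK u f₁ g N' α') b :=
        (IsScalarTower.algebraMap_apply B (A' u f₁ g N' α') (KK u f₁ g N' α') b).symm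
      rw [e1, AlgHom.commutes,
        IsScalarTower.algebraMap_apply B (CC B (u : B) f₁ g N' a) (Cf u f₁ g N' a), Phif_eq,
        AlgHom.commutes]
    · show Phif u f₁ g N' α' a bZ hg hN' hrel (Psi u f₁ g N' α' a bZ hg hN' hrel
        (algebraMap (A' u f₁ g N' α') (KK u f₁ g N' α') (AdjoinRoot.root _))) =
        algebraMap (A' u f₁ g N' α') (KK u f₁ g N' α') (AdjoinRoot.root _)
      rw [← tK_val u f₁ g N' α' hg hN', Psi_tK]
      exact Phif_tC u f₁ g N' α' a bZ (sC u f₁ g N' a hg hN') (wC u f₁ g N' a hg)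
        (wC_val u f₁ g N' a hg) (sC_val u f₁ g N' a hg hN') hrel
        (tK u f₁ g N' α' hg hN') (fK u f₁ g N' α') (fK_val u f₁ g N' α')
        (hrelK u f₁ g N' α' hg hN') (Phif u f₁ g N' α' a bZ hg hN' hrel)
        (Phif_eq u f₁ g N' α' a bZ hg hN' hrel)
  exact congrArg (fun φ => φ x) key

theorem Psi_injective : Function.Injective (Psi u f₁ g N' α' a bZ hg hN' hrel) := by
  intro x y hxy
  rw [← Phif_Psi u f₁ g N' α' a bZ hg hN' hrel x, ← Phif_Psi u f₁ g N' α' a bZ hg hN' hrel y, hxy]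

end Groth.Agent.Lib.Helper19.CycF
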