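import Mathlib
import Groth.Agent.Lib.helper19.CycF
import Groth.Agent.Lib.helper19.CycC
import Groth.Agent.Lib.Helper5.RegSmoothGlobal
import Groth.Agent.Lib.Helper17.SmoothNormal

set_option autoImplicit false
universe u

open Polynomial

namespace Groth.Agent.Lib.Helper19.CycG

open Groth.Agent.Lib.Helper19.CycB Groth.Agent.Lib.Helper19.CycD Groth.Agent.Lib.Helper19.CycE
  Groth.Agent.Lib.Helper19.CycF

variable {B : Type u} [CommRing B] (u : Bˣ) (f₁ : B) (g N' α' a : ℕ) (bZ : ℤ)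
variable (hg : 0 < g) (hN' : 0 < N') (hrel : (α' : ℤ) * a - N' * bZ = 1)

theorem fK_inv : (((fK u f₁ g N' α')⁻¹ : (KK u f₁ g N' α')ˣ) : KK u f₁ g N' α') =
    IsLocalization.Away.invSelf (S := KK u f₁ g N' α') (fA' u f₁ g N' α') :=
  Units.inv_eq_of_mul_eq_one_right (IsLocalization.Away.mul_invSelf (fA' u f₁ g N' α'))

theorem gen_eq (i q : ℕ) :
    algebraMap (A' u f₁ g N' α') (KK u f₁ g N' α') (AdjoinRoot.root (Pol u f₁ g N' α') ^ i) *
      IsLocalization.Away.invSelf (S := KK u f₁ g N' α') (fA' u f₁ g N' α') ^ q =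
    ((tK u f₁ g N' α' hg hN' ^ (i : ℤ) * fK u f₁ g N' α' ^ (-(q : ℤ)) : (KK u f₁ g N' α')ˣ) :
      KK u f₁ g N' α') := by
  rw [Units.val_mul, zpow_natCast, Units.val_pow_eq_pow_val, tK_val, ← map_pow, zpow_neg,
    zpow_natCast, ← inv_pow, Units.val_pow_eq_pow_val, fK_inv]

include hg hN' in
theorem range_eq (A : Subalgebra B (KK u f₁ g N' α'))
    (hA : A = Algebra.adjoin B (Set.range fun i : Fin (g * N') =>
      algebraMap (A' u f₁ g N' α') (KK u f₁ g N' α')
        (AdjoinRoot.root (Pol u f₁ g N' α') ^ (i : ℕ)) *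
      IsLocalization.Away.invSelf (S := KK u f₁ g N' α') (fA' u f₁ g N' α') ^
        ((i : ℕ) * (g * α') / (g * N'))))
    (hc1 : N' = 1 → a = 0 ∧ bZ = -1)
    (hc2 : 1 < N' → a < N' ∧ 0 ≤ bZ ∧ ((a * (g * α') / (g * N') : ℕ) : ℤ) = bZ) :
    (PhiE u f₁ g N' α' a bZ hg hN' hrel).range = A := by
  apply le_antisymm
  · have hgenA : ∀ i < g * N',
        ((tK u f₁ g N' α' hg hN' ^ (i : ℤ) *
          fK u f₁ g N' α' ^ (-((i * (g * α') / (g * N') : ℕ) : ℤ)) : (KK u f₁ g N' α')ˣ) :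
          KK u f₁ g N' α') ∈ A := by
      intro i hi
      rw [hA, ← gen_eq u f₁ g N' α' hg hN' i]
      exact Algebra.subset_adjoin ⟨⟨i, hi⟩, rfl⟩
    refine range_le u f₁ g N' α' a bZ hg (tK u f₁ g N' α' hg hN') (fK u f₁ g N' α')
      (fK_val u f₁ g N' α') (hrelK u f₁ g N' α' hg hN') hrel A ?_ ?_
    · -- w ∈ A
      rcases Nat.lt_or_ge 1 g with h1 | h1
      · have hlt : N' < g * N' := by nlinarith
        have h2 := hgenA N' hlt
        have h3 : N' * (g * α') / (g * N') = α' := by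
          rw [show N' * (g * α') = g * N' * α' by ring]
          exact Nat.mul_div_cancel_left α' (Nat.mul_pos hg hN')
        rw [h3] at h2
        exact h2
      · have hg1 : g = 1 := by omega
        have h2 := wK_pow (hrelK u f₁ g N' α' hg hN')
        have e : wK N' α' (tK u f₁ g N' α' hg hN') (fK u f₁ g N' α') ^ g =
            wK N' α' (tK u f₁ g N' α' hg hN') (fK u f₁ g N' α') ^ 1 :=
          congrArg (fun n => (wK N' α' (tK u f₁ g N' α' hg hN') (fK u f₁ g N' α')) ^ n) hg1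
        rw [pow_one] at e
        rw [← e, h2]
        exact A.algebraMap_mem _
    · -- s ∈ A
      rcases Nat.lt_or_ge 1 N' with h1 | h1
      · obtain ⟨haN, -, hb⟩ := hc2 h1
        have hlt : a < g * N' := by nlinarith
        have h2 := hgenA a hlt
        rw [hb] at h2
        exact h2
      · have hN1 : N' = 1 := by omega
        obtain ⟨ha0, hb⟩ := hc1 hN1
        have h2 : sK a bZ (tK u f₁ g N' α' hg hN') (fK u f₁ g N' α') = fK u f₁ g N' α' := by
          unfold sK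
          rw [ha0, hb]
          simp
        rw [h2, fK_val]
        exact A.algebraMap_mem _
  · rw [hA]
    apply Algebra.adjoin_le
    rintro _ ⟨i, rfl⟩
    show algebraMap (A' u f₁ g N' α') (KK u f₁ g N' α')
        (AdjoinRoot.root (Pol u f₁ g N' α') ^ (i : ℕ)) *
      IsLocalization.Away.invSelf (S := KK u f₁ g N' α') (fA' u f₁ g N' α') ^
        ((i : ℕ) * (g * α') / (g * N')) ∈ (PhiE u f₁ g N' α' a bZ hg hN' hrel).range
    rw [gen_eq u f₁ g N' α' hg hN' (i : ℕ)]
    exact gen_mem_range u f₁ g N' α' a bZ hg hN' (tK u f₁ g N' α' hg hN') (fK u f₁ g N' α')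
      (fK_val u f₁ g N' α') (hrelK u f₁ g N' α' hg hN') hrel (i : ℕ)

end Groth.Agent.Lib.Helper19.CycG
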