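import Mathlib
import Groth.Agent.Lib.helper19.CycG
import Groth.Agent.Lib.helper19.CycA

set_option autoImplicit false
universe u

open Polynomial

namespace Groth.Agent.Lib.Helper19.CycH

open Groth.Agent.Lib.Helper19.CycB Groth.Agent.Lib.Helper19.CycD Groth.Agent.Lib.Helper19.CycE
  Groth.Agent.Lib.Helper19.CycF Groth.Agent.Lib.Helper19.CycG

section fin

variable (B : Type u) [CommRing B]

theorem finite_CC (u f : B) (g N' a : ℕ) (hg : 0 < g) (hN' : 0 < N') :
    Module.Finite B (CC B u f g N' a) := by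
  have hm1 : (X ^ g - C u : B[X]).Monic := monic_X_pow_sub_C _ hg.ne'
  have hm2 : (X ^ N' - C (sElt B u f g a) : (B1 B u g)[X]).Monic :=
    monic_X_pow_sub_C _ hN'.ne'
  haveI := hm1.finite_adjoinRoot
  haveI := hm2.finite_adjoinRoot
  exact Module.Finite.trans (B1 B u g) (CC B u f g N' a)

end fin

theorem main (k : Type u) [Field k] [IsAlgClosed k]
    (B : Type u) [CommRing B] [IsDomain B] [Algebra k B] [Algebra.FiniteType k B]
    (hreg : ∀ (P : Ideal B) [P.IsPrime], IsRegularLocalRing (Localization.AtPrime P))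
    (N : ℕ) (hN : 0 < N) (hNk : IsUnit ((N : ℕ) : k)) (u : Bˣ) (α : ℕ) (f₁ : B) (hf₁ : f₁ ≠ 0)
    (hD : ∀ (P : Ideal (B ⧸ Ideal.span ({f₁} : Set B))) [P.IsPrime],
      IsRegularLocalRing (Localization.AtPrime P))
    (A : Subalgebra B (Localization.Away
      (algebraMap B (AdjoinRoot (X ^ N - C ((u : B) * f₁ ^ α) : B[X])) f₁)))
    (hA : A = Algebra.adjoin B (Set.range fun i : Fin N =>
      algebraMap (AdjoinRoot (X ^ N - C ((u : B) * f₁ ^ α) : B[X])) (Localization.Away
        (algebraMap B (AdjoinRoot (X ^ N - C ((u : B) * f₁ ^ α) : B[X])) f₁))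
        (AdjoinRoot.root (X ^ N - C ((u : B) * f₁ ^ α) : B[X]) ^ (i : ℕ)) *
      IsLocalization.Away.invSelf (S := Localization.Away
        (algebraMap B (AdjoinRoot (X ^ N - C ((u : B) * f₁ ^ α) : B[X])) f₁))
        (algebraMap B (AdjoinRoot (X ^ N - C ((u : B) * f₁ ^ α) : B[X])) f₁) ^
          ((i : ℕ) * α / N))) :
    Module.Finite B A ∧
      IsIntegralClosure A (AdjoinRoot (X ^ N - C ((u : B) * f₁ ^ α) : B[X]))
        (Localization.Away (algebraMap B (AdjoinRoot (X ^ N - C ((u : B) * f₁ ^ α) : B[X])) f₁)) ∧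
      ∀ (Q : Ideal A) [Q.IsPrime], IsRegularLocalRing (Localization.AtPrime Q) := by
  obtain ⟨g, N', α', a, bZ, hg, hN', rfl, rfl, hrel, hc1, hc2⟩ := CycA.exists_data N α hN
  haveI : IsNoetherianRing B := Algebra.FiniteType.isNoetherianRing k B
  haveI : IsRegularRing B := isRegularRing_iff.2 hreg
  haveI : IsRegularRing (B ⧸ Ideal.span ({f₁} : Set B)) := isRegularRing_iff.2 hD
  have hNB : IsUnit (((g * N' : ℕ)) : B) := by
    have := hNk.map (algebraMap k B)
    rwa [map_natCast] at this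
  rw [Nat.cast_mul] at hNB
  have hgu : IsUnit (g : B) := isUnit_of_mul_isUnit_left hNB
  have hNu : IsUnit (N' : B) := isUnit_of_mul_isUnit_right hNB
  have hf : f₁ ∈ nonZeroDivisors B := mem_nonZeroDivisors_of_ne_zero hf₁
  haveI hCCreg : IsRegularRing (CC B (u : B) f₁ g N' a) :=
    regular_CC B (u : B) f₁ u.isUnit hf g N' a hg hN' hgu hNu inferInstance
  have hrange := range_eq u f₁ g N' α' a bZ hg hN' hrel A hA hc1 hc2
  subst hrange
  have hinj := PhiE_injective u f₁ g N' α' a bZ hg hN' hrel hf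
  let e : CC B (u : B) f₁ g N' a ≃ₐ[B] (PhiE u f₁ g N' α' a bZ hg hN' hrel).range :=
    AlgEquiv.ofInjective (PhiE u f₁ g N' α' a bZ hg hN' hrel) hinj
  haveI hfinCC : Module.Finite B (CC B (u : B) f₁ g N' a) := finite_CC B (u : B) f₁ g N' a hg hN'
  refine ⟨Module.Finite.equiv e.toLinearEquiv, ?_, ?_⟩
  · -- integral closure
    have hmA : (Pol u f₁ g N' α').Monic := monic_X_pow_sub_C _ (Nat.mul_pos hg hN').ne'
    haveI : Module.Finite B (A' u f₁ g N' α') := hmA.finite_adjoinRoot
    haveI : Algebra.IsIntegral B (A' u f₁ g N' α') := inferInstance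
    haveI : Algebra.FiniteType B (CC B (u : B) f₁ g N' a) := inferInstance
    haveI : Algebra.FiniteType k (CC B (u : B) f₁ g N' a) :=
      Algebra.FiniteType.trans (R := k) (S := B) (A := CC B (u : B) f₁ g N' a)
        inferInstance inferInstance
    haveI : Algebra.Smooth k (CC B (u : B) f₁ g N' a) :=
      Groth.Agent.Lib.Helper5.RegSmoothCore.smooth_of_isRegularRing k _
    have hnormal : ∀ (Q : Ideal (CC B (u : B) f₁ g N' a)) [Q.IsMaximal],
        IsDomain (Localization.AtPrime Q) ∧ IsIntegrallyClosed (Localization.AtPrime Q) :=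
      fun Q _ =>
        Groth.Agent.Lib.Helper17.SmoothNormal.isDomain_and_isIntegrallyClosed_atPrime_of_smooth k Q
    refine ⟨?_, ?_⟩
    · intro x y h
      exact Subtype.ext h
    · intro x
      constructor
      · intro hx
        have hxB : IsIntegral B x := isIntegral_trans (R := B) (A := A' u f₁ g N' α') x hx
        have h1 : IsIntegral B (Psi u f₁ g N' α' a bZ hg hN' hrel x) :=
          hxB.map (Psi u f₁ g N' α' a bZ hg hN' hrel)
        have h2 : IsIntegral (CC B (u : B) f₁ g N' a) (Psi u f₁ g N' α' a bZ hg hN' hrel x) :=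
          h1.tower_top
        obtain ⟨c, hc⟩ := CycC.exists_of_isIntegral (S := Cf u f₁ g N' a)
          (algebraMap B (CC B (u : B) f₁ g N' a) f₁) hnormal _ h2
        refine ⟨⟨PhiE u f₁ g N' α' a bZ hg hN' hrel c, c, rfl⟩, ?_⟩
        show PhiE u f₁ g N' α' a bZ hg hN' hrel c = x
        apply Psi_injective u f₁ g N' α' a bZ hg hN' hrel
        rw [Psi_PhiE, hc]
      · rintro ⟨⟨_, c, rfl⟩, rfl⟩
        have hc : IsIntegral B c := Algebra.IsIntegral.isIntegral c
        have h1 : IsIntegral B (PhiE u f₁ g N' α' a bZ hg hN' hrel c) :=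
          hc.map (PhiE u f₁ g N' α' a bZ hg hN' hrel)
        exact h1.tower_top
  · intro Q _
    haveI : IsRegularRing (PhiE u f₁ g N' α' a bZ hg hN' hrel).range :=
      IsRegularRing.of_ringEquiv e.toRingEquiv
    exact IsRegularRing.isRegularLocalRing_localization Q

end Groth.Agent.Lib.Helper19.CycH
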