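import Mathlib

/-!
# Cyclic algebras: the standard basis

`K/k` cyclic Galois of degree `m` with generator `σ`; `A` a `k`-algebra, `ι : K →ₐ[k] A`, and a
unit `y ∈ A` with `ι x * y = y * ι (σ x)`.  Then the elements `y ^ j * ι c` (`j < m`) are
"independent": `Ξ : (Fin m → K) → A`, `c ↦ ∑ j, y ^ j * ι (c j)` is injective, and bijective when
`dim A = m²`.
-/

set_option autoImplicit false

namespace Groth.Agent.Lib.helper19.Cyc

variable {k : Type*} [Field k] {K : Type*} [Field K] [Algebra k K]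
variable {A : Type*} [Ring A] [Algebra k A]

section Rel

variable (ι : K →ₐ[k] A) (σ : K ≃ₐ[k] K) (y : A)

lemma rel_pow (hrel : ∀ x : K, ι x * y = y * ι (σ x)) (j : ℕ) (x : K) :
    ι x * y ^ j = y ^ j * ι ((σ ^ j) x) := by
  induction j generalizing x with
  | zero => simp
  | succ j ih =>
    rw [pow_succ, ← mul_assoc, ih, mul_assoc, hrel, ← mul_assoc, pow_succ' σ j]
    rfl

/-- eigenvectors for distinct characters are independent -/
theorem indep {I : Type*} [DecidableEq I] (τ : I → (K ≃ₐ[k] K)) (hτ : Function.Injective τ)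
    (S : Finset I) :
    ∀ (a : I → A), (∀ i ∈ S, ∀ x : K, ι x * a i = a i * ι (τ i x)) → ∑ i ∈ S, a i = 0 →
      ∀ i ∈ S, a i = 0 := by
  induction S using Finset.induction_on with
  | empty => intro a _ _ i hi; simp at hi
  | insert i₀ S hi₀ ih =>
    intro a ha hsum
    have key : ∀ x : K, ∀ i ∈ S, a i * ι (τ i x - τ i₀ x) = 0 := by
      intro x
      apply ih (fun i => a i * ι (τ i x - τ i₀ x))
      · intro i hi x'
        rw [← mul_assoc, ha i (Finset.mem_insert_of_mem hi) x', mul_assoc, mul_assoc, ← map_mul,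
          ← map_mul, mul_comm]
      · have h1 : ι x * ∑ i ∈ insert i₀ S, a i - (∑ i ∈ insert i₀ S, a i) * ι (τ i₀ x) = 0 := by
          rw [hsum]; simp
        rw [Finset.mul_sum, Finset.sum_mul, ← Finset.sum_sub_distrib, Finset.sum_insert hi₀] at h1
        rw [ha i₀ (Finset.mem_insert_self _ _) x, sub_self, zero_add] at h1
        rw [← h1]
        refine Finset.sum_congr rfl fun i hi => ?_
        rw [ha i (Finset.mem_insert_of_mem hi) x, map_sub, mul_sub]
    have hS : ∀ i ∈ S, a i = 0 := by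
      intro i hi
      have hne : τ i ≠ τ i₀ := fun h => hi₀ (hτ h ▸ hi)
      obtain ⟨x, hx⟩ : ∃ x, τ i x ≠ τ i₀ x := by
        by_contra hcon
        push Not at hcon
        exact hne (AlgEquiv.ext hcon)
      have h2 := key x i hi
      have hu : IsUnit (ι (τ i x - τ i₀ x)) := (IsUnit.mk0 _ (sub_ne_zero.mpr hx)).map ι
      exact (hu.mul_left_eq_zero).mp h2
    intro i hi
    rcases Finset.mem_insert.mp hi with rfl | hi
    · rw [Finset.sum_insert hi₀, Finset.sum_eq_zero hS, add_zero] at hsum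
      exact hsum
    · exact hS i hi

end Rel

section Order

variable [FiniteDimensional k K] [IsGalois k K] (σ : K ≃ₐ[k] K)

theorem orderOf_eq_finrank (hσ : ∀ τ : K ≃ₐ[k] K, τ ∈ Subgroup.zpowers σ) :
    orderOf σ = Module.finrank k K := by
  rw [orderOf_eq_card_of_forall_mem_zpowers hσ, IsGalois.card_aut_eq_finrank]

theorem pow_finrank_eq_one (hσ : ∀ τ : K ≃ₐ[k] K, τ ∈ Subgroup.zpowers σ) :
    σ ^ Module.finrank k K = 1 := by
  rw [← orderOf_eq_finrank σ hσ]
  exact pow_orderOf_eq_one σ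

theorem pow_injective (hσ : ∀ τ : K ≃ₐ[k] K, τ ∈ Subgroup.zpowers σ) :
    Function.Injective (fun j : Fin (Module.finrank k K) => σ ^ (j : ℕ)) := by
  intro i j hij
  apply Fin.ext
  apply pow_injOn_Iio_orderOf (x := σ)
  · rw [orderOf_eq_finrank σ hσ]; exact i.2
  · rw [orderOf_eq_finrank σ hσ]; exact j.2
  · exact hij

/-- elements fixed by `σ` are in `k` -/
theorem mem_range_of_fixed (hσ : ∀ τ : K ≃ₐ[k] K, τ ∈ Subgroup.zpowers σ) (c : K) (hc : σ c = c) :
    c ∈ Set.range (algebraMap k K) := by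
  rw [← IntermediateField.mem_bot, IsGalois.mem_bot_iff_fixed]
  intro τ
  obtain ⟨n, rfl⟩ := Subgroup.mem_zpowers_iff.mp (hσ τ)
  have hfix : σ ∈ MulAction.stabilizer (K ≃ₐ[k] K) c := hc
  have := Subgroup.zpow_mem _ hfix n
  exact this

end Order

section Xi

variable (ι : K →ₐ[k] A) (σ : K ≃ₐ[k] K) (y : A) (m : ℕ)

/-- the coordinate map `c ↦ ∑ j, y ^ j * ι (c j)` -/
noncomputable def Ξ : (Fin m → K) →ₗ[k] A :=
  ∑ j : Fin m, (LinearMap.mulLeft k (y ^ (j : ℕ))) ∘ₗ ι.toLinearMap ∘ₗ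
    (LinearMap.proj j : (Fin m → K) →ₗ[k] K)

lemma Ξ_apply (c : Fin m → K) : Ξ ι y m c = ∑ j : Fin m, y ^ (j : ℕ) * ι (c j) := by
  simp [Ξ, LinearMap.sum_apply]

variable [FiniteDimensional k K] [IsGalois k K]

theorem Ξ_injective [Nontrivial A] (hσ : ∀ τ : K ≃ₐ[k] K, τ ∈ Subgroup.zpowers σ)
    (hrel : ∀ x : K, ι x * y = y * ι (σ x)) (hy : IsUnit y) :
    Function.Injective (Ξ ι y (Module.finrank k K)) := by
  classical
  rw [← LinearMap.ker_eq_bot, LinearMap.ker_eq_bot']
  intro c hc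
  rw [Ξ_apply] at hc
  have h := indep ι (fun j : Fin (Module.finrank k K) => σ ^ (j : ℕ)) (pow_injective σ hσ)
    Finset.univ (fun j => y ^ (j : ℕ) * ι (c j)) (fun j _ x => by
      rw [← mul_assoc, rel_pow ι σ y hrel, mul_assoc, mul_assoc, ← map_mul, ← map_mul, mul_comm]) hc
  funext j
  have hj := h j (Finset.mem_univ j)
  have h1 : ι (c j) = 0 := ((hy.pow _).mul_right_eq_zero).mp hj
  exact (map_eq_zero_iff ι ι.toRingHom.injective).mp h1

theorem Ξ_bijective [Nontrivial A] (hσ : ∀ τ : K ≃ₐ[k] K, τ ∈ Subgroup.zpowers σ)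
    (hrel : ∀ x : K, ι x * y = y * ι (σ x)) (hy : IsUnit y)
    (hdim : Module.finrank k A = Module.finrank k K ^ 2) :
    Function.Bijective (Ξ ι y (Module.finrank k K)) := by
  have hinj := Ξ_injective ι σ y hσ hrel hy
  have hpos : 0 < Module.finrank k K := Module.finrank_pos
  haveI : FiniteDimensional k A := Module.finite_of_finrank_pos (by rw [hdim]; positivity)
  refine ⟨hinj, ?_⟩
  refine (LinearMap.injective_iff_surjective_of_finrank_eq_finrank ?_).mp hinj
  rw [hdim, Module.finrank_pi_fintype]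
  simp [sq]

end Xi

end Groth.Agent.Lib.helper19.Cyc
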