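import Mathlib
import Groth.Agent.Lib.helper19.CSATensor
import Groth.Agent.Lib.helper19.SimpleModules

/-!
# The Skolem–Noether theorem

`A` finite-dimensional central simple over `k`, `B` a simple finite-dimensional `k`-algebra,
`f g : B →ₐ[k] A`.  Then `g b = u * f b * u⁻¹` for a unit `u` of `A`.
-/

set_option autoImplicit false

namespace Groth.Agent.Lib.helper19.CSA

open TensorProduct

variable {k : Type*} [Field k]
variable {A : Type*} [Ring A] [Algebra k A]
variable {B : Type*} [Ring B] [Algebra k B]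

/-- the action of `A ⊗ Bᵐᵒᵖ` on `A` through `f`: `(a ⊗ b) • x = a * x * f b`. -/
noncomputable def twAct (f : B →ₐ[k] A) : (A ⊗[k] Bᵐᵒᵖ) →ₐ[k] Module.End k A :=
  (AlgHom.mulLeftRight k A).comp (Algebra.TensorProduct.map (AlgHom.id k A) (AlgHom.op f))

lemma twAct_tmul (f : B →ₐ[k] A) (a : A) (b : Bᵐᵒᵖ) (x : A) :
    twAct f (a ⊗ₜ[k] b) x = a * x * f b.unop := by
  simp [twAct]

/-- `A` as a module over `A ⊗ Bᵐᵒᵖ` through `f`. -/
def Tw (_f : B →ₐ[k] A) : Type _ := A

namespace Tw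

variable (f : B →ₐ[k] A)

instance : AddCommGroup (Tw f) := inferInstanceAs (AddCommGroup A)
instance : Module k (Tw f) := inferInstanceAs (Module k A)

noncomputable instance : Module (A ⊗[k] Bᵐᵒᵖ) (Tw f) :=
  Module.compHom A (twAct f).toRingHom

/-- the identity map `A → Tw f`. -/
def mk (x : A) : Tw f := x
/-- the identity map `Tw f → A`. -/
def val (x : Tw f) : A := x

lemma smul_def (r : A ⊗[k] Bᵐᵒᵖ) (x : Tw f) : r • x = mk f (twAct f r (val f x)) := rfl

instance : IsScalarTower k (A ⊗[k] Bᵐᵒᵖ) (Tw f) where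
  smul_assoc c r x := by
    change twAct f (c • r) (val f x) = c • twAct f r (val f x)
    rw [map_smul]; rfl

instance towerAlg : @IsScalarTower k (A ⊗[k] Bᵐᵒᵖ) (Tw f) Algebra.toSMul _ _ :=
  Tw.instIsScalarTowerTensorProductMulOpposite f

instance [Module.Finite k A] : Module.Finite k (Tw f) := inferInstanceAs (Module.Finite k A)

end Tw

variable [Algebra.IsCentral k A] [IsSimpleRing A] [Module.Finite k A]
variable [IsSimpleRing B] [Module.Finite k B]

/-- **Skolem–Noether**. -/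
theorem skolem_noether (f g : B →ₐ[k] A) : ∃ u : Aˣ, ∀ b : B, g b = u * f b * (u⁻¹ : Aˣ) := by
  haveI : IsSimpleRing (A ⊗[k] Bᵐᵒᵖ) := isSimpleRing_tensor
  haveI : Module.Finite k Bᵐᵒᵖ :=
    Module.Finite.equiv (MulOpposite.opLinearEquiv k (M := B))
  haveI : IsArtinianRing (A ⊗[k] Bᵐᵒᵖ) := IsArtinianRing.of_finite k _
  have hφ := nonempty_linearEquiv_of_finrank_eq (k := k) (R := A ⊗[k] Bᵐᵒᵖ)
    (M := Tw g) (N := Tw f) rfl
  obtain ⟨φ⟩ := hφ
  -- φ : Tw g ≃ Tw f;  φ ((a ⊗ b) • x) = (a ⊗ b) • φ x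
  let Φ : A → A := fun x => Tw.val f (φ (Tw.mk g x))
  have hΦ : ∀ (a : A) (b : B) (x : A), Φ (a * x * g b) = a * Φ x * f b := by
    intro a b x
    have h1 := φ.map_smul (a ⊗ₜ[k] MulOpposite.op b) (Tw.mk g x)
    rw [Tw.smul_def, Tw.smul_def, twAct_tmul, twAct_tmul] at h1
    exact h1
  have hΦadd : ∀ x y, Φ (x + y) = Φ x + Φ y := fun x y => φ.map_add _ _
  have hΦbij : Function.Bijective Φ := φ.bijective
  set w := Φ 1 with hw
  have h1 : ∀ a : A, Φ a = a * w := by
    intro a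
    have := hΦ a 1 1
    simp only [map_one, mul_one] at this
    exact this
  have h2 : ∀ b : B, Φ (g b) = w * f b := by
    intro b
    have := hΦ 1 b 1
    simp only [one_mul] at this
    exact this
  have h3 : ∀ b : B, g b * w = w * f b := fun b => (h1 (g b)).symm.trans (h2 b)
  -- w is a unit
  obtain ⟨v, hv⟩ := hΦbij.2 1
  rw [h1] at hv
  have hwv : w * v = 1 := by
    apply hΦbij.1
    rw [h1, h1, mul_assoc, hv, mul_one, one_mul]
  let u : Aˣ := ⟨w, v, hwv, hv⟩
  refine ⟨u, fun b => ?_⟩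
  have : g b * w * v = w * f b * v := by rw [h3]
  rw [mul_assoc, hwv, mul_one] at this
  exact this

end Groth.Agent.Lib.helper19.CSA
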