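import Mathlib
import Groth.Agent.Lib.helper19.CyclicBasis
import Groth.Agent.Lib.helper19.SkolemNoether

/-!
# Cyclic generators in a central simple algebra containing a cyclic maximal subfield
-/

set_option autoImplicit false

namespace Groth.Agent.Lib.helper19.Cyc

variable {k : Type*} [Field k] {K : Type*} [Field K] [Algebra k K]
variable {A : Type*} [Ring A] [Algebra k A]
variable [FiniteDimensional k K] [IsGalois k K]
variable (ι : K →ₐ[k] A) (σ : K ≃ₐ[k] K) (y : A)

/-- the centraliser of `ι K` is `ι K` -/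
theorem mem_range_of_commute [Nontrivial A] (hσ : ∀ τ : K ≃ₐ[k] K, τ ∈ Subgroup.zpowers σ)
    (hrel : ∀ x : K, ι x * y = y * ι (σ x)) (hy : IsUnit y)
    (hdim : Module.finrank k A = Module.finrank k K ^ 2)
    (z : A) (hz : ∀ x : K, ι x * z = z * ι x) : ∃ c : K, z = ι c := by
  classical
  have hbij := Ξ_bijective ι σ y hσ hrel hy hdim
  obtain ⟨c, hc⟩ := hbij.2 z
  have hpos : 0 < Module.finrank k K := Module.finrank_pos
  haveI : NeZero (Module.finrank k K) := ⟨hpos.ne'⟩
  have hzero : ∀ x : K, ∀ j : Fin (Module.finrank k K), ((σ ^ (j : ℕ)) x - x) * c j = 0 := by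
    intro x
    have h1 : Ξ ι y (Module.finrank k K) (fun j => ((σ ^ (j : ℕ)) x - x) * c j) = 0 := by
      have h2 : ι x * z - z * ι x = 0 := by rw [hz x, sub_self]
      rw [← h2, ← hc, Ξ_apply, Ξ_apply, Finset.mul_sum, Finset.sum_mul, ← Finset.sum_sub_distrib]
      refine Finset.sum_congr rfl fun j _ => ?_
      rw [← mul_assoc, rel_pow ι σ y hrel, mul_assoc, mul_assoc, ← mul_sub, ← map_mul, ← map_mul,
        ← map_sub, sub_mul, mul_comm (c j) x]
    have h3 := hbij.1 (h1.trans (map_zero _).symm)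
    intro j
    exact congrFun h3 j
  have hcj : ∀ j : Fin (Module.finrank k K), j ≠ 0 → c j = 0 := by
    intro j hj
    have hne : σ ^ (j : ℕ) ≠ 1 := by
      intro h
      apply hj
      apply pow_injective σ hσ
      simpa using h
    obtain ⟨x, hx⟩ : ∃ x, (σ ^ (j : ℕ)) x ≠ x := by
      by_contra hcon
      push Not at hcon
      exact hne (AlgEquiv.ext hcon)
    rcases mul_eq_zero.mp (hzero x j) with h | h
    · exact absurd (sub_eq_zero.mp h) hx
    · exact h
  refine ⟨c 0, ?_⟩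
  rw [← hc, Ξ_apply, Finset.sum_eq_single (0 : Fin (Module.finrank k K))]
  · simp
  · intro j _ hj
    rw [hcj j hj, map_zero, mul_zero]
  · intro h
    exact absurd (Finset.mem_univ _) h

/-- `y ^ m` lies in `k` -/
theorem pow_mem_range [Nontrivial A] (hσ : ∀ τ : K ≃ₐ[k] K, τ ∈ Subgroup.zpowers σ)
    (hrel : ∀ x : K, ι x * y = y * ι (σ x)) (hy : IsUnit y)
    (hdim : Module.finrank k A = Module.finrank k K ^ 2) :
    ∃ b : k, y ^ Module.finrank k K = algebraMap k A b := by
  have hcomm : ∀ x : K, ι x * y ^ Module.finrank k K = y ^ Module.finrank k K * ι x := by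
    intro x
    rw [rel_pow ι σ y hrel, pow_finrank_eq_one σ hσ]
    rfl
  obtain ⟨c, hc⟩ := mem_range_of_commute ι σ y hσ hrel hy hdim _ hcomm
  have hfix : σ c = c := by
    have h1 : y * ι c = y * ι (σ c) := by
      rw [← hrel, ← hc, ← pow_succ, pow_succ']
    have h2 := hy.mul_right_injective h1
    exact (ι.toRingHom.injective h2).symm
  obtain ⟨b, hb⟩ := mem_range_of_fixed σ hσ c hfix
  exact ⟨b, by rw [hc, ← hb, ι.commutes]⟩

/-- `ι K` and `y` generate `A` -/
theorem adjoin_eq_top [Nontrivial A] (hσ : ∀ τ : K ≃ₐ[k] K, τ ∈ Subgroup.zpowers σ)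
    (hrel : ∀ x : K, ι x * y = y * ι (σ x)) (hy : IsUnit y)
    (hdim : Module.finrank k A = Module.finrank k K ^ 2) :
    Algebra.adjoin k (Set.range ι ∪ {y}) = ⊤ := by
  have hbij := Ξ_bijective ι σ y hσ hrel hy hdim
  rw [eq_top_iff]
  intro a _
  obtain ⟨c, rfl⟩ := hbij.2 a
  rw [Ξ_apply]
  refine Subalgebra.sum_mem _ fun j _ => Subalgebra.mul_mem _ (Subalgebra.pow_mem _ ?_ _) ?_
  · exact Algebra.subset_adjoin (Or.inr rfl)
  · exact Algebra.subset_adjoin (Or.inl ⟨_, rfl⟩)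

/-- a central simple algebra of degree `m` containing the cyclic field `K` of degree `m` is
cyclic -/
theorem exists_cyclic_generator [Algebra.IsCentral k A] [IsSimpleRing A] [FiniteDimensional k A]
    (hσ : ∀ τ : K ≃ₐ[k] K, τ ∈ Subgroup.zpowers σ)
    (hdim : Module.finrank k A = Module.finrank k K ^ 2) :
    ∃ y : Aˣ, (∀ x : K, ι x * y = y * ι (σ x)) ∧
      (∃ b : k, (y : A) ^ Module.finrank k K = algebraMap k A b) ∧
      Algebra.adjoin k (Set.range ι ∪ {(y : A)}) = ⊤ := by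
  obtain ⟨u, hu⟩ := CSA.skolem_noether (k := k) (A := A) (B := K) ι (ι.comp (σ : K →ₐ[k] K))
  have hrel : ∀ x : K, ι x * ((u⁻¹ : Aˣ) : A) = ((u⁻¹ : Aˣ) : A) * ι (σ x) := by
    intro x
    have h := hu x
    have h' : ι (σ x) = (u : A) * ι x * ((u⁻¹ : Aˣ) : A) := h
    rw [h', ← mul_assoc, ← mul_assoc, Units.inv_mul, one_mul]
  exact ⟨u⁻¹, hrel, pow_mem_range ι σ _ hσ hrel (u⁻¹).isUnit hdim,
    adjoin_eq_top ι σ _ hσ hrel (u⁻¹).isUnit hdim⟩

end Groth.Agent.Lib.helper19.Cyc
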