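import Mathlib
import Groth.Prelude.Def_GSzCSA
import Groth.Agent.Lib.helper19.CyclicGen
import Groth.Agent.Lib.helper19.CSASplit

/-!
# Cyclic algebras are central simple and split by `K`
-/

set_option autoImplicit false

namespace Groth.Agent.Lib.helper19.Cyc

variable {k : Type*} [Field k] {K : Type*} [Field K] [Algebra k K]
variable {A : Type*} [Ring A] [Algebra k A]

section RMod

/-- `A` as a `K`-vector space through right multiplication by `ι K`. -/
def RMod (_ι : K →ₐ[k] A) : Type _ := A

variable (ι : K →ₐ[k] A)

instance : AddCommGroup (RMod ι) := inferInstanceAs (AddCommGroup A)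

/-- to `RMod` -/
def RMod.mk (a : A) : RMod ι := a
/-- from `RMod` -/
def RMod.val (v : RMod ι) : A := v

instance : Module K (RMod ι) where
  smul z v := RMod.mk ι (RMod.val ι v * ι z)
  one_smul v := by change RMod.val ι v * ι 1 = v; rw [map_one, mul_one]; rfl
  mul_smul z z' v := by
    change RMod.val ι v * ι (z * z') = RMod.val ι v * ι z' * ι z
    rw [mul_assoc, ← map_mul, mul_comm]
  smul_zero z := by change (0 : A) * ι z = 0; rw [zero_mul]
  smul_add z v w := by
    change (RMod.val ι v + RMod.val ι w) * ι z = RMod.val ι v * ι z + RMod.val ι w * ι z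
    rw [add_mul]
  add_smul z z' v := by
    change RMod.val ι v * ι (z + z') = RMod.val ι v * ι z + RMod.val ι v * ι z'
    rw [map_add, mul_add]
  zero_smul v := by change RMod.val ι v * ι 0 = 0; rw [map_zero, mul_zero]

lemma RMod.smul_def (z : K) (v : RMod ι) : z • v = RMod.mk ι (RMod.val ι v * ι z) := rfl

instance : Module k (RMod ι) := inferInstanceAs (Module k A)

instance : IsScalarTower k K (RMod ι) := ⟨fun r z v => by
  change RMod.val ι v * ι (r • z) = r • (RMod.val ι v * ι z)
  rw [map_smul, mul_smul_comm]⟩

/-- left multiplication as a `K`-linear endomorphism of `RMod` -/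
def RMod.lmul : A →+* Module.End K (RMod ι) where
  toFun a :=
    { toFun := fun v => RMod.mk ι (a * RMod.val ι v)
      map_add' := fun v w => by
        change a * (RMod.val ι v + RMod.val ι w) = a * RMod.val ι v + a * RMod.val ι w
        rw [mul_add]
      map_smul' := fun z v => by
        change a * (RMod.val ι v * ι z) = a * RMod.val ι v * ι z
        rw [mul_assoc] }
  map_one' := by ext v; change (1 : A) * RMod.val ι v = v; rw [one_mul]; rfl
  map_mul' a b := by
    ext v
    change a * b * RMod.val ι v = a * (b * RMod.val ι v)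
    rw [mul_assoc]
  map_zero' := by ext v; change (0 : A) * RMod.val ι v = 0; rw [zero_mul]
  map_add' a b := by
    ext v
    change (a + b) * RMod.val ι v = a * RMod.val ι v + b * RMod.val ι v
    rw [add_mul]

lemma RMod.lmul_algebraMap (r : k) :
    RMod.lmul ι (algebraMap k A r) =
      algebraMap K (Module.End K (RMod ι)) (algebraMap k K r) := by
  ext v
  change algebraMap k A r * RMod.val ι v = RMod.val ι v * ι (algebraMap k K r)
  rw [ι.commutes, Algebra.commutes]

end RMod

variable [FiniteDimensional k K] [IsGalois k K]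
variable (ι : K →ₐ[k] A) (σ : K ≃ₐ[k] K) (y : A)

theorem isCentral [Nontrivial A] (hσ : ∀ τ : K ≃ₐ[k] K, τ ∈ Subgroup.zpowers σ)
    (hrel : ∀ x : K, ι x * y = y * ι (σ x)) (hy : IsUnit y)
    (hdim : Module.finrank k A = Module.finrank k K ^ 2) : Algebra.IsCentral k A := by
  refine ⟨fun z hz => ?_⟩
  rw [Subalgebra.mem_center_iff] at hz
  obtain ⟨c, hc⟩ := mem_range_of_commute ι σ y hσ hrel hy hdim z (fun x => hz (ι x))
  have hfix : σ c = c := by
    have h1 : y * ι c = y * ι (σ c) :=
      calc y * ι c = y * z := by rw [hc]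
        _ = z * y := hz y
        _ = ι c * y := by rw [hc]
        _ = y * ι (σ c) := hrel c
    have h2 := hy.mul_right_injective h1
    exact (ι.toRingHom.injective h2).symm
  obtain ⟨b, hb⟩ := mem_range_of_fixed σ hσ c hfix
  exact Algebra.mem_bot.mpr ⟨b, by rw [hc, ← hb, ι.commutes]⟩

theorem isSimpleRing [Nontrivial A] (hσ : ∀ τ : K ≃ₐ[k] K, τ ∈ Subgroup.zpowers σ)
    (hrel : ∀ x : K, ι x * y = y * ι (σ x)) (hy : IsUnit y)
    (hdim : Module.finrank k A = Module.finrank k K ^ 2) : IsSimpleRing A := by
  classical
  rw [isSimpleRing_iff_isTwoSided_imp]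
  refine ⟨inferInstance, fun I hI => ?_⟩
  by_cases hbot : I = ⊥
  · exact Or.inl hbot
  right
  have hbij := Ξ_bijective ι σ y hσ hrel hy hdim
  have key : ∀ n : ℕ, ∀ c : Fin (Module.finrank k K) → K,
      (Finset.univ.filter (fun j => c j ≠ 0)).card ≤ n →
      Ξ ι y (Module.finrank k K) c ∈ I → c ≠ 0 → I = ⊤ := by
    intro n
    induction n with
    | zero =>
      intro c hcard _ hc0
      exfalso
      apply hc0
      funext j
      change c j = 0
      by_contra hj
      have hmem : j ∈ Finset.univ.filter (fun j => c j ≠ 0) := by simp [hj]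
      have := Finset.card_pos.mpr ⟨j, hmem⟩
      omega
    | succ n ih =>
      intro c hcard hcI hc0
      obtain ⟨j0, hj0⟩ : ∃ j0, c j0 ≠ 0 := by
        by_contra h
        push Not at h
        exact hc0 (funext h)
      by_cases hex : ∃ j1, j1 ≠ j0 ∧ c j1 ≠ 0
      · obtain ⟨j1, hj10, hj1⟩ := hex
        have hne : σ ^ (j1 : ℕ) ≠ σ ^ (j0 : ℕ) := fun h => hj10 (pow_injective σ hσ h)
        obtain ⟨x, hx⟩ : ∃ x, (σ ^ (j1 : ℕ)) x ≠ (σ ^ (j0 : ℕ)) x := by
          by_contra hcon
          push Not at hcon
          exact hne (AlgEquiv.ext hcon)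
        let c' : Fin (Module.finrank k K) → K :=
          fun j => ((σ ^ (j : ℕ)) x - (σ ^ (j0 : ℕ)) x) * c j
        have hΞ : Ξ ι y (Module.finrank k K) c' =
            ι x * Ξ ι y (Module.finrank k K) c -
              Ξ ι y (Module.finrank k K) c * ι ((σ ^ (j0 : ℕ)) x) := by
          rw [Ξ_apply, Ξ_apply, Finset.mul_sum, Finset.sum_mul, ← Finset.sum_sub_distrib]
          refine Finset.sum_congr rfl fun j _ => ?_
          rw [← mul_assoc, rel_pow ι σ y hrel, mul_assoc, mul_assoc, ← mul_sub,
            ← map_mul, ← map_mul, ← map_sub]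
          congr 2
          simp only [c']
          ring
        apply ih c'
        · have hsub : Finset.univ.filter (fun j => c' j ≠ 0) ⊆
              (Finset.univ.filter (fun j => c j ≠ 0)).erase j0 := by
            intro j hj
            simp only [Finset.mem_filter, Finset.mem_univ, true_and, Finset.mem_erase] at hj ⊢
            refine ⟨?_, ?_⟩
            · rintro rfl
              apply hj
              simp [c']
            · intro h
              apply hj
              simp [c', h]
          have h1 := Finset.card_le_card hsub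
          rw [Finset.card_erase_of_mem (by simp [hj0])] at h1
          omega
        · rw [hΞ]
          exact I.sub_mem (I.mul_mem_left _ hcI) (I.mul_mem_right _ hcI)
        · intro h
          have h2 := congrFun h j1
          simp only [c', Pi.zero_apply] at h2
          rcases mul_eq_zero.mp h2 with h | h
          · exact hx (sub_eq_zero.mp h)
          · exact hj1 h
      · push Not at hex
        have hΞ : Ξ ι y (Module.finrank k K) c = y ^ (j0 : ℕ) * ι (c j0) := by
          rw [Ξ_apply, Finset.sum_eq_single j0]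
          · intro j _ hj
            rw [hex j hj, map_zero, mul_zero]
          · intro h
            exact absurd (Finset.mem_univ _) h
        have hu : IsUnit (Ξ ι y (Module.finrank k K) c) := by
          rw [hΞ]
          exact (hy.pow _).mul ((IsUnit.mk0 _ hj0).map ι)
        exact Ideal.eq_top_of_isUnit_mem I hcI hu
  obtain ⟨z, hzI, hz0⟩ := Submodule.exists_mem_ne_zero_of_ne_bot hbot
  obtain ⟨c, rfl⟩ := hbij.2 z
  exact key _ c le_rfl hzI (fun h => hz0 (by rw [h, map_zero]))

/-- the basic facts from the prelude's `IsCyclicAlg` -/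
theorem of_isCyclicAlg (b : kˣ) (hA : CSAGal.IsCyclicAlg k K σ b A) :
    ∃ (ι : K →ₐ[k] A) (y : A), y ^ Module.finrank k K = algebraMap k A (b : k) ∧
      (∀ x : K, ι x * y = y * ι (σ x)) ∧ Algebra.adjoin k (Set.range ι ∪ {y}) = ⊤ ∧
      Module.finrank k A = Module.finrank k K ^ 2 ∧ Nontrivial A ∧ IsUnit y := by
  obtain ⟨ι, y, hpow, hrel, hadj, hpos, hdim⟩ := hA
  have hnt : Nontrivial A := by
    apply Module.nontrivial_of_finrank_pos (R := k)
    rw [hdim]; positivity
  refine ⟨ι, y, hpow, hrel, hadj, hdim, hnt, ?_⟩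
  rw [← isUnit_pow_iff hpos.ne', hpow]
  exact (b.isUnit).map (algebraMap k A)

theorem splits [Nontrivial A] (hσ : ∀ τ : K ≃ₐ[k] K, τ ∈ Subgroup.zpowers σ)
    (hrel : ∀ x : K, ι x * y = y * ι (σ x)) (hy : IsUnit y)
    (hdim : Module.finrank k A = Module.finrank k K ^ 2) : Curves.Splits k A K := by
  haveI := isCentral ι σ y hσ hrel hy hdim
  haveI := isSimpleRing ι σ y hσ hrel hy hdim
  have hpos : 0 < Module.finrank k K := Module.finrank_pos
  haveI : FiniteDimensional k A := Module.finite_of_finrank_pos (by rw [hdim]; positivity)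
  haveI : Module.Finite k (RMod ι) := inferInstanceAs (Module.Finite k A)
  haveI : Module.Finite K (RMod ι) := Module.Finite.right k K (RMod ι)
  have h1 : Module.finrank k K * Module.finrank K (RMod ι) = Module.finrank k (RMod ι) :=
    Module.finrank_mul_finrank k K (RMod ι)
  have h2 : Module.finrank k (RMod ι) = Module.finrank k K ^ 2 := hdim
  have h3 : Module.finrank K (RMod ι) = Module.finrank k K := by
    rw [h2, sq] at h1
    exact Nat.eq_of_mul_eq_mul_left hpos h1
  exact CSA.splits_of_rep (RMod.lmul ι) (RMod.lmul_algebraMap ι) _ hpos.ne' h3 hdim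

end Groth.Agent.Lib.helper19.Cyc
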