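import Mathlib
import Groth.Prelude.Def_GSzCSA
import Groth.Agent.Lib.helper19.CyclicCSA

/-!
# The universal property of a cyclic algebra, and uniqueness

If `(A₁; ι₁, y₁)` is a cyclic algebra for `(K, σ, b)` (with `Ξ` bijective) and `(ι₂, y₂)` in `A₂`
satisfy the same relations, there is a unique algebra map `A₁ → A₂` carrying `ι₁, y₁` to `ι₂, y₂`
(graph trick: the subalgebra of `A₁ × A₂` generated by `(ι₁, ι₂)` and `(y₁, y₂)` projects
isomorphically to `A₁`).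
-/

set_option autoImplicit false

namespace Groth.Agent.Lib.helper19.Cyc

variable {k : Type*} [Field k] {K : Type*} [Field K] [Algebra k K]
variable {A₁ : Type*} [Ring A₁] [Algebra k A₁] {A₂ : Type*} [Ring A₂] [Algebra k A₂]

lemma Ξ_single {A : Type*} [Ring A] [Algebra k A] (ι : K →ₐ[k] A) (y : A) (m : ℕ) (j : Fin m)
    (c : K) : Ξ ι y m (Pi.single j c) = y ^ (j : ℕ) * ι c := by
  classical
  rw [Ξ_apply, Finset.sum_eq_single j]
  · rw [Pi.single_eq_same]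
  · intro i _ hi
    rw [Pi.single_eq_of_ne hi, map_zero, mul_zero]
  · intro h
    exact absurd (Finset.mem_univ _) h

lemma map_Ξ {A B : Type*} [Ring A] [Algebra k A] [Ring B] [Algebra k B] (f : A →ₐ[k] B)
    (ι : K →ₐ[k] A) (y : A) (m : ℕ) (c : Fin m → K) :
    f (Ξ ι y m c) = Ξ (f.comp ι) (f y) m c := by
  rw [Ξ_apply, Ξ_apply, map_sum]
  refine Finset.sum_congr rfl fun j _ => ?_
  rw [map_mul, map_pow]
  rfl

theorem exists_lift (ι₁ : K →ₐ[k] A₁) (y₁ : A₁) (ι₂ : K →ₐ[k] A₂) (y₂ : A₂) (σ : K ≃ₐ[k] K)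
    (b : k) (m : ℕ) (hm : 0 < m)
    (hinj : Function.Injective (Ξ ι₁ y₁ m))
    (hadj : Algebra.adjoin k (Set.range ι₁ ∪ {y₁}) = ⊤)
    (hrel₁ : ∀ x, ι₁ x * y₁ = y₁ * ι₁ (σ x)) (hpow₁ : y₁ ^ m = algebraMap k A₁ b)
    (hrel₂ : ∀ x, ι₂ x * y₂ = y₂ * ι₂ (σ x)) (hpow₂ : y₂ ^ m = algebraMap k A₂ b) :
    ∃ φ : A₁ →ₐ[k] A₂, (∀ x, φ (ι₁ x) = ι₂ x) ∧ φ y₁ = y₂ := by
  classical
  let ι₃ : K →ₐ[k] A₁ × A₂ := ι₁.prod ι₂
  let y₃ : A₁ × A₂ := (y₁, y₂)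
  have hrel₃ : ∀ x, ι₃ x * y₃ = y₃ * ι₃ (σ x) := by
    intro x
    apply Prod.ext
    · exact hrel₁ x
    · exact hrel₂ x
  have hpow₃ : y₃ ^ m = algebraMap k (A₁ × A₂) b := by
    apply Prod.ext
    · exact hpow₁
    · exact hpow₂
  let S : Submodule k (A₁ × A₂) := LinearMap.range (Ξ ι₃ y₃ m)
  have hS1 : ∀ x : K, ∀ s ∈ S, ι₃ x * s ∈ S := by
    rintro x _ ⟨c, rfl⟩
    refine ⟨fun j => (σ ^ (j : ℕ)) x * c j, ?_⟩
    rw [Ξ_apply, Ξ_apply, Finset.mul_sum]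
    refine Finset.sum_congr rfl fun j _ => ?_
    rw [← mul_assoc, rel_pow ι₃ σ y₃ hrel₃, mul_assoc, ← map_mul]
  have hterm : ∀ (j : ℕ) (_ : j ≤ m) (c : K), y₃ ^ j * ι₃ c ∈ S := by
    intro j hj c
    rcases Nat.lt_or_ge j m with hlt | hge
    · exact ⟨Pi.single ⟨j, hlt⟩ c, Ξ_single ι₃ y₃ m ⟨j, hlt⟩ c⟩
    · have hjm : j = m := le_antisymm hj hge
      refine ⟨Pi.single ⟨0, hm⟩ (b • c), ?_⟩
      rw [Ξ_single, hjm, hpow₃]
      simp only [pow_zero, one_mul]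
      rw [map_smul, Algebra.smul_def]
  have hS2 : ∀ s ∈ S, y₃ * s ∈ S := by
    rintro _ ⟨c, rfl⟩
    rw [Ξ_apply, Finset.mul_sum]
    refine Submodule.sum_mem _ fun j _ => ?_
    rw [← mul_assoc, ← pow_succ']
    exact hterm _ j.2 _
  have hS0 : (1 : A₁ × A₂) ∈ S := by
    have := hterm 0 (Nat.zero_le _) 1
    simpa using this
  let C : Subalgebra k (A₁ × A₂) := Algebra.adjoin k (Set.range ι₃ ∪ {y₃})
  have hmul : ∀ a ∈ C, ∀ s ∈ S, a * s ∈ S := by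
    intro a ha
    induction ha using Algebra.adjoin_induction with
    | mem a ha =>
      rcases ha with ⟨x, rfl⟩ | rfl
      · exact hS1 x
      · exact hS2
    | algebraMap r =>
      intro s hs
      rw [← Algebra.smul_def]
      exact S.smul_mem r hs
    | add a a' _ _ iha iha' =>
      intro s hs
      rw [add_mul]
      exact S.add_mem (iha s hs) (iha' s hs)
    | mul a a' _ _ iha iha' =>
      intro s hs
      rw [mul_assoc]
      exact iha _ (iha' s hs)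
  have hCS : ∀ a ∈ C, a ∈ S := fun a ha => by
    have := hmul a ha 1 hS0
    rwa [mul_one] at this
  let ψ : C →ₐ[k] A₁ := (AlgHom.fst k A₁ A₂).comp C.val
  have hfst : ∀ c : Fin m → K, (Ξ ι₃ y₃ m c).1 = Ξ ι₁ y₁ m c := by
    intro c
    have := map_Ξ (AlgHom.fst k A₁ A₂) ι₃ y₃ m c
    exact this
  have hψinj : Function.Injective ψ := by
    rw [injective_iff_map_eq_zero]
    intro a ha
    obtain ⟨c, hc⟩ := hCS a a.2
    have h1 : Ξ ι₁ y₁ m c = 0 := by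
      rw [← hfst, hc]
      exact ha
    have h2 : c = 0 := hinj (h1.trans (map_zero _).symm)
    apply Subtype.ext
    rw [← hc, h2, map_zero]
    rfl
  have hψsurj : Function.Surjective ψ := by
    have h1 : C.map (AlgHom.fst k A₁ A₂) = ⊤ := by
      rw [AlgHom.map_adjoin, Set.image_union, Set.image_singleton, ← Set.range_comp]
      exact hadj
    intro a
    have h2 : a ∈ C.map (AlgHom.fst k A₁ A₂) := by rw [h1]; trivial
    obtain ⟨c, hc, rfl⟩ := h2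
    exact ⟨⟨c, hc⟩, rfl⟩
  let e : C ≃ₐ[k] A₁ := AlgEquiv.ofBijective ψ ⟨hψinj, hψsurj⟩
  refine ⟨(AlgHom.snd k A₁ A₂).comp (C.val.comp (e.symm : A₁ →ₐ[k] C)), ?_, ?_⟩
  · intro x
    have h1 : e ⟨ι₃ x, Algebra.subset_adjoin (Or.inl ⟨x, rfl⟩)⟩ = ι₁ x := rfl
    have h2 : e.symm (ι₁ x) = ⟨ι₃ x, Algebra.subset_adjoin (Or.inl ⟨x, rfl⟩)⟩ := by
      rw [← h1, e.symm_apply_apply]
    simp only [AlgHom.comp_apply, AlgEquiv.coe_toAlgHom, h2]
    rfl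
  · have h1 : e ⟨y₃, Algebra.subset_adjoin (Or.inr rfl)⟩ = y₁ := rfl
    have h2 : e.symm y₁ = ⟨y₃, Algebra.subset_adjoin (Or.inr rfl)⟩ := by
      rw [← h1, e.symm_apply_apply]
    simp only [AlgHom.comp_apply, AlgEquiv.coe_toAlgHom, h2]
    rfl

/-- two presentations of the cyclic algebra of `(K, σ, b)` are isomorphic -/
theorem nonempty_algEquiv_of_isCyclicAlg [FiniteDimensional k K] [IsGalois k K] (σ : K ≃ₐ[k] K)
    (hσ : ∀ τ : K ≃ₐ[k] K, τ ∈ Subgroup.zpowers σ) (b : kˣ)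
    (h₁ : CSAGal.IsCyclicAlg k K σ b A₁) (h₂ : CSAGal.IsCyclicAlg k K σ b A₂) :
    Nonempty (A₁ ≃ₐ[k] A₂) := by
  obtain ⟨ι₁, y₁, hpow₁, hrel₁, hadj₁, hdim₁, hnt₁, hy₁⟩ := of_isCyclicAlg σ b h₁
  obtain ⟨ι₂, y₂, hpow₂, hrel₂, hadj₂, hdim₂, hnt₂, hy₂⟩ := of_isCyclicAlg σ b h₂
  have hinj := Ξ_injective ι₁ σ y₁ hσ hrel₁ hy₁
  have hpos : 0 < Module.finrank k K := Module.finrank_pos
  obtain ⟨φ, hφι, hφy⟩ := exists_lift ι₁ y₁ ι₂ y₂ σ (b : k) _ hpos hinj hadj₁ hrel₁ hpow₁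
    hrel₂ hpow₂
  have hsurj : Function.Surjective φ := by
    have h : φ.range = ⊤ := by
      rw [eq_top_iff, ← hadj₂, Algebra.adjoin_le_iff]
      rintro _ (⟨x, rfl⟩ | rfl)
      · exact ⟨ι₁ x, hφι x⟩
      · exact ⟨y₁, hφy⟩
    exact (AlgHom.range_eq_top φ).mp h
  haveI : FiniteDimensional k A₁ := Module.finite_of_finrank_pos (by rw [hdim₁]; positivity)
  haveI : FiniteDimensional k A₂ := Module.finite_of_finrank_pos (by rw [hdim₂]; positivity)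
  have hbij : Function.Bijective φ :=
    ⟨(LinearMap.injective_iff_surjective_of_finrank_eq_finrank (f := φ.toLinearMap)
      (hdim₁.trans hdim₂.symm)).mpr hsurj, hsurj⟩
  exact ⟨AlgEquiv.ofBijective φ hbij⟩

end Groth.Agent.Lib.helper19.Cyc
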