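import Mathlib
import Groth.Prelude.Def_GSzCSA
import Groth.Agent.Lib.helper19.CyclicGen

set_option autoImplicit false

namespace Groth.Agent.Lib.helper19.CycM

variable {K : Type*} [Field K] (m : ℕ) (β : K)

/-- the matrix `F`: ones below the diagonal, `β` in the upper right corner -/
def FF : Matrix (Fin m) (Fin m) K :=
  Matrix.of (fun i j : Fin m =>
    if j.val + 1 = i.val then (1 : K) else if i.val = 0 ∧ j.val + 1 = m then β else 0)

lemma FF_apply (i j : Fin m) : FF m β i j =
    if j.val + 1 = i.val then (1 : K) else if i.val = 0 ∧ j.val + 1 = m then β else 0 := rfl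

lemma FF_mul_apply (N : Matrix (Fin m) (Fin m) K) (i j : Fin m) :
    (FF m β * N) i j =
      if h : i.val = 0 then β * N ⟨m - 1, by have := i.2; omega⟩ j
      else N ⟨i.val - 1, by have := i.2; omega⟩ j := by
  rw [Matrix.mul_apply]
  split_ifs with h
  · rw [Finset.sum_eq_single (⟨m - 1, by have := i.2; omega⟩ : Fin m)]
    · rw [FF_apply]
      have h1 : ¬ ((m - 1) + 1 = i.val) := by have := i.2; omega
      have h2 : i.val = 0 ∧ (m - 1) + 1 = m := ⟨h, by have := i.2; omega⟩
      rw [if_neg h1, if_pos h2]
    · intro t _ ht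
      rw [FF_apply]
      have h1 : ¬ (t.val + 1 = i.val) := by omega
      have h2 : ¬ (i.val = 0 ∧ t.val + 1 = m) := by
        rintro ⟨_, h3⟩
        apply ht
        apply Fin.ext
        simp only
        omega
      simp only [h1, h2, if_false, zero_mul]
    · intro h'
      exact absurd (Finset.mem_univ _) h'
  · rw [Finset.sum_eq_single (⟨i.val - 1, by have := i.2; omega⟩ : Fin m)]
    · rw [FF_apply]
      have h1 : (i.val - 1) + 1 = i.val := by omega
      simp only [h1, if_true, one_mul]
    · intro t _ ht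
      rw [FF_apply]
      have h1 : ¬ (t.val + 1 = i.val) := by
        intro h3
        apply ht
        apply Fin.ext
        simp only
        omega
      have h2 : ¬ (i.val = 0 ∧ t.val + 1 = m) := fun h3 => h h3.1
      simp only [h1, h2, if_false, zero_mul]
    · intro h'
      exact absurd (Finset.mem_univ _) h'

lemma mul_FF_apply (N : Matrix (Fin m) (Fin m) K) (i j : Fin m) :
    (N * FF m β) i j =
      if h : j.val + 1 = m then N i ⟨0, by have := j.2; omega⟩ * β
      else N i ⟨j.val + 1, by have := j.2; omega⟩ := by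
  rw [Matrix.mul_apply]
  split_ifs with h
  · rw [Finset.sum_eq_single (⟨0, by have := j.2; omega⟩ : Fin m)]
    · rw [FF_apply]
      have h1 : ¬ (j.val + 1 = 0) := by omega
      have h2 : (0 : ℕ) = 0 ∧ j.val + 1 = m := ⟨rfl, h⟩
      rw [if_neg h1, if_pos h2]
    · intro t _ ht
      rw [FF_apply]
      have h1 : ¬ (j.val + 1 = t.val) := by have := t.2; omega
      have h2 : ¬ (t.val = 0 ∧ j.val + 1 = m) := by
        rintro ⟨h3, _⟩
        apply ht
        apply Fin.ext
        exact h3
      simp only [h1, h2, if_false, mul_zero]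
    · intro h'
      exact absurd (Finset.mem_univ _) h'
  · rw [Finset.sum_eq_single (⟨j.val + 1, by have := j.2; omega⟩ : Fin m)]
    · rw [FF_apply]
      simp only [if_true, mul_one]
    · intro t _ ht
      rw [FF_apply]
      have h1 : ¬ (j.val + 1 = t.val) := by
        intro h3
        apply ht
        apply Fin.ext
        simp only
        omega
      have h2 : ¬ (t.val = 0 ∧ j.val + 1 = m) := fun h3 => h h3.2
      simp only [h1, h2, if_false, mul_zero]
    · intro h'
      exact absurd (Finset.mem_univ _) h'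

lemma FF_pow_apply (j : ℕ) (hj : j ≤ m) (i l : Fin m) :
    (FF m β ^ j) i l =
      if l.val + j = i.val then 1 else if l.val + j = i.val + m then β else 0 := by
  induction j generalizing i with
  | zero =>
    rw [pow_zero, Matrix.one_apply]
    have h2 : ¬ (l.val + 0 = i.val + m) := by have := l.2; omega
    by_cases h : i = l
    · subst h; simp
    · have h1 : ¬ (l.val + 0 = i.val) := by
        intro h3; apply h; apply Fin.ext; omega
      simp only [h, h1, h2, if_false]
  | succ j ih =>
    rw [pow_succ', FF_mul_apply]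
    split_ifs with h0 h1 h2 h3 h4 h5 h6
    all_goals first
      | omega
      | (rw [ih (by omega)]; simp only []; split_ifs <;> first | omega | simp)

lemma FF_pow (hm : 0 < m) : FF m β ^ m = Matrix.scalar (Fin m) β := by
  ext i l
  rw [FF_pow_apply m β m le_rfl]
  have h1 : ¬ (l.val + m = i.val) := by have := i.2; omega
  simp only [h1, if_false, Matrix.scalar_apply, Matrix.diagonal_apply]
  by_cases h : i = l
  · subst h; simp
  · have h2 : ¬ (l.val + m = i.val + m) := by
      intro h3; apply h; apply Fin.ext; omega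
    have h3 : ¬ (l.val = i.val) := by omega
    simp [h, h3]

section Alg

variable {k : Type*} [Field k] [Algebra k K] (σ : K ≃ₐ[k] K)

lemma map_mul' (M N : Matrix (Fin m) (Fin m) K) :
    (M * N).map (fun x => σ x) = M.map (fun x => σ x) * N.map (fun x => σ x) :=
  Matrix.map_mul (f := (σ : K →+* K))

lemma FF_map (hβ : σ β = β) : (FF m β).map (fun x => σ x) = FF m β := by
  ext i j
  rw [Matrix.map_apply, FF_apply]
  split_ifs
  · exact map_one σ
  · exact hβ
  · exact map_zero σ

/-- the subalgebra `{M | F σ(M) = M F}` -/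
def BB (_hβ : σ β = β) : Subalgebra k (Matrix (Fin m) (Fin m) K) where
  carrier := {M | FF m β * M.map (fun x => σ x) = M * FF m β}
  mul_mem' {M N} hM hN := by
    change FF m β * (M * N).map (fun x => σ x) = M * N * FF m β
    rw [map_mul', ← mul_assoc, hM, mul_assoc, hN, mul_assoc]
  add_mem' {M N} hM hN := by
    change FF m β * (M + N).map (fun x => σ x) = (M + N) * FF m β
    have h : (M + N).map (fun x => σ x) = M.map (fun x => σ x) + N.map (fun x => σ x) := by
      ext i j; simp
    rw [h, mul_add, add_mul, hM, hN]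
  algebraMap_mem' r := by
    change FF m β * (algebraMap k (Matrix (Fin m) (Fin m) K) r).map (fun x => σ x) =
      algebraMap k (Matrix (Fin m) (Fin m) K) r * FF m β
    have h : (algebraMap k (Matrix (Fin m) (Fin m) K) r).map (fun x => σ x) =
        algebraMap k (Matrix (Fin m) (Fin m) K) r := by
      ext i j
      rw [Matrix.map_apply, Matrix.algebraMap_matrix_apply]
      split_ifs
      · exact σ.commutes r
      · exact map_zero σ
    rw [h, Algebra.commutes]

lemma mem_BB (hβ : σ β = β) (M : Matrix (Fin m) (Fin m) K) :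
    M ∈ BB (k := k) m β σ hβ ↔ FF m β * M.map (fun x => σ x) = M * FF m β := Iff.rfl

/-- the diagonal embedding `x ↦ diag(σ^i x)` -/
def DD : K →ₐ[k] Matrix (Fin m) (Fin m) K where
  toFun x := Matrix.diagonal (fun i : Fin m => (σ ^ (i : ℕ)) x)
  map_one' := by simp
  map_mul' x y := by
    rw [Matrix.diagonal_mul_diagonal]
    congr 1
    funext i
    exact map_mul _ _ _
  map_zero' := by simp
  map_add' x y := by
    rw [Matrix.diagonal_add]
    congr 1
    funext i
    exact map_add _ _ _
  commutes' r := by
    rw [Matrix.algebraMap_eq_diagonal]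
    congr 1
    funext i
    exact (σ ^ (i : ℕ)).commutes r

lemma DD_map (x : K) : (DD (k := k) m σ x).map (fun x => σ x) = DD m σ (σ x) := by
  change (Matrix.diagonal (fun i : Fin m => (σ ^ (i : ℕ)) x)).map (fun x => σ x) =
    Matrix.diagonal (fun i : Fin m => (σ ^ (i : ℕ)) (σ x))
  rw [Matrix.diagonal_map (map_zero σ)]
  congr 1
  funext i
  change (σ * σ ^ (i : ℕ)) x = (σ ^ (i : ℕ) * σ) x
  rw [(Commute.self_pow σ _).eq]

lemma FF_mul_DD (hσm : σ ^ m = 1) (x : K) :
    FF m β * DD (k := k) m σ (σ x) = DD m σ x * FF m β := by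
  ext i j
  change (FF m β * Matrix.diagonal (fun i : Fin m => (σ ^ (i : ℕ)) (σ x))) i j =
    (Matrix.diagonal (fun i : Fin m => (σ ^ (i : ℕ)) x) * FF m β) i j
  rw [Matrix.mul_diagonal, Matrix.diagonal_mul, FF_apply]
  split_ifs with h1 h2
  · rw [one_mul, mul_one, ← h1, pow_succ]
    rfl
  · rw [mul_comm, h2.1, pow_zero]
    have h3 : (σ ^ (j : ℕ)) (σ x) = (σ ^ ((j : ℕ) + 1)) x := by
      rw [pow_succ]; rfl
    rw [h3, h2.2, hσm]
  · rw [zero_mul, mul_zero]

lemma DD_mem (hβ : σ β = β) (hσm : σ ^ m = 1) (x : K) :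
    DD (k := k) m σ x ∈ BB (k := k) m β σ hβ := by
  rw [mem_BB, DD_map, FF_mul_DD m β σ hσm]

lemma FF_mem (hβ : σ β = β) : FF m β ∈ BB (k := k) m β σ hβ := by
  rw [mem_BB, FF_map m β σ hβ]

lemma eq_zero_of_row_zero (hm : 0 < m) (hβ0 : β ≠ 0) (M : Matrix (Fin m) (Fin m) K)
    (hM : FF m β * M.map (fun x => σ x) = M * FF m β) (h0 : ∀ j, M ⟨0, hm⟩ j = 0) : M = 0 := by
  have hrow : ∀ (i : ℕ) (hi : i < m) (j : Fin m), M ⟨i, hi⟩ j = 0 := by
    intro i
    induction i with
    | zero => intro hi j; exact h0 j
    | succ i ih =>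
      intro hi j
      have hi' : i < m := by omega
      have key : ∀ j' : Fin m, (M * FF m β) ⟨i + 1, hi⟩ j' = 0 := by
        intro j'
        rw [← hM, FF_mul_apply]
        have hne : ¬ ((⟨i + 1, hi⟩ : Fin m).val = 0) := by simp
        rw [dif_neg hne, Matrix.map_apply]
        have : (⟨(⟨i + 1, hi⟩ : Fin m).val - 1, by simp; omega⟩ : Fin m) = ⟨i, hi'⟩ := by
          apply Fin.ext; simp
        rw [this, ih hi', map_zero]
      by_cases hj : j.val = 0
      · have h1 := key ⟨m - 1, by omega⟩
        rw [mul_FF_apply] at h1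
        have h2 : (⟨m - 1, by omega⟩ : Fin m).val + 1 = m := by simp; omega
        rw [dif_pos h2] at h1
        have h3 : (⟨0, by omega⟩ : Fin m) = j := by apply Fin.ext; simp [hj]
        rw [h3] at h1
        exact (mul_eq_zero.mp h1).resolve_right hβ0
      · have h1 := key ⟨j.val - 1, by have := j.2; omega⟩
        rw [mul_FF_apply] at h1
        have h2 : ¬ ((⟨j.val - 1, by have := j.2; omega⟩ : Fin m).val + 1 = m) := by
          have := j.2; simp; omega
        rw [dif_neg h2] at h1
        have h3 : (⟨(⟨j.val - 1, by have := j.2; omega⟩ : Fin m).val + 1,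
            by have := j.2; simp; omega⟩ : Fin m) = j := by
          apply Fin.ext; simp; omega
        rw [h3] at h1
        exact h1
  ext i j
  exact hrow i.val i.2 j

end Alg

section Final

variable {k : Type*} [Field k] [Algebra k K] [FiniteDimensional k K] [IsGalois k K]
  (σ : K ≃ₐ[k] K)

theorem isCyclicAlg_BB (hσ : ∀ τ : K ≃ₐ[k] K, τ ∈ Subgroup.zpowers σ) (b : kˣ) :
    CSAGal.IsCyclicAlg k K σ b
      (BB (k := k) (Module.finrank k K) (algebraMap k K (b : k)) σ (σ.commutes (b : k))) := by
  have hβ : σ (algebraMap k K (b : k)) = algebraMap k K (b : k) := σ.commutes _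
  have hm : 0 < Module.finrank k K := Module.finrank_pos
  haveI : NeZero (Module.finrank k K) := ⟨hm.ne'⟩
  have hσm : σ ^ Module.finrank k K = 1 := Cyc.pow_finrank_eq_one σ hσ
  let ι : K →ₐ[k] BB (k := k) (Module.finrank k K) (algebraMap k K (b : k)) σ hβ :=
    (DD (Module.finrank k K) σ).codRestrict _ (DD_mem _ _ σ hβ hσm)
  let y : BB (k := k) (Module.finrank k K) (algebraMap k K (b : k)) σ hβ :=
    ⟨FF _ _, FF_mem _ _ σ hβ⟩
  have hrel : ∀ x, ι x * y = y * ι (σ x) := fun x =>
    Subtype.ext (FF_mul_DD _ _ σ hσm x).symm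
  have hpow : y ^ Module.finrank k K = algebraMap k _ (b : k) := by
    apply Subtype.ext
    change FF (Module.finrank k K) (algebraMap k K (b : k)) ^ Module.finrank k K =
      algebraMap k (Matrix _ _ K) (b : k)
    rw [FF_pow _ _ hm]
    ext i j
    simp [Matrix.algebraMap_matrix_apply, Matrix.diagonal_apply]
  have hy : IsUnit y := by
    rw [← isUnit_pow_iff hm.ne', hpow]
    exact b.isUnit.map _
  have hinj := Cyc.Ξ_injective ι σ y hσ hrel hy
  have hdim : Module.finrank k (BB (k := k) (Module.finrank k K) (algebraMap k K (b : k)) σ hβ) =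
      Module.finrank k K ^ 2 := by
    apply le_antisymm
    · let r0 : BB (k := k) (Module.finrank k K) (algebraMap k K (b : k)) σ hβ →ₗ[k]
          (Fin (Module.finrank k K) → K) :=
        { toFun := fun M => M.1 ⟨0, hm⟩
          map_add' := fun _ _ => rfl
          map_smul' := fun _ _ => rfl }
      have hr0 : Function.Injective r0 := by
        rw [← LinearMap.ker_eq_bot, LinearMap.ker_eq_bot']
        intro M hM
        apply Subtype.ext
        apply eq_zero_of_row_zero _ _ σ hm _ M.1 M.2
        · intro j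
          exact congrFun hM j
        · intro h0
          exact b.ne_zero ((map_eq_zero_iff _ (algebraMap k K).injective).mp h0)
      have h1 := LinearMap.finrank_le_finrank_of_injective hr0
      rw [Module.finrank_pi_fintype] at h1
      simpa [sq] using h1
    · have h1 := LinearMap.finrank_le_finrank_of_injective hinj
      rw [Module.finrank_pi_fintype] at h1
      simpa [sq] using h1
  exact ⟨ι, y, hpow, hrel, Cyc.adjoin_eq_top ι σ y hσ hrel hy hdim, hm, hdim⟩

end Final

end Groth.Agent.Lib.helper19.CycM
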