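import Mathlib
import Groth.Prelude.Def_GSzCSA
import Groth.Agent.Lib.helper19.CyclicLift

/-!
# A cyclic algebra `(K, σ, b)` is split iff `b` is a norm
-/

set_option autoImplicit false

namespace Groth.Agent.Lib.helper19.Cyc

open TensorProduct

variable {k : Type*} [Field k] {K : Type*} [Field K] [Algebra k K]
variable {A : Type*} [Ring A] [Algebra k A]

section Norm

variable [FiniteDimensional k K] [IsGalois k K]

/-- the norm as a product over powers of a generator -/
theorem norm_eq_prod_pow (τ : K ≃ₐ[k] K) (hτ : ∀ ρ : K ≃ₐ[k] K, ρ ∈ Subgroup.zpowers τ) (c : K) :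
    algebraMap k K (Algebra.norm k c) = ∏ i ∈ Finset.range (Module.finrank k K), (τ ^ i) c := by
  classical
  rw [Algebra.norm_eq_prod_automorphisms, ← Fin.prod_univ_eq_prod_range]
  symm
  have hbij : Function.Bijective (fun j : Fin (Module.finrank k K) => τ ^ (j : ℕ)) := by
    rw [Fintype.bijective_iff_injective_and_card]
    refine ⟨pow_injective τ hτ, ?_⟩
    rw [Fintype.card_fin, ← Nat.card_eq_fintype_card, IsGalois.card_aut_eq_finrank]
  exact Fintype.prod_bijective _ hbij _ _ (fun _ => rfl)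

end Norm

section Pow

variable (ι : K →ₐ[k] A) (σ : K ≃ₐ[k] K) (y : A)

lemma mul_ι_pow (hrel : ∀ x : K, ι x * y = y * ι (σ x)) (c : K) (j : ℕ) :
    (y * ι c) ^ j = y ^ j * ι (∏ i ∈ Finset.range j, (σ ^ i) c) := by
  induction j with
  | zero => simp
  | succ j ih =>
    rw [pow_succ, ih, mul_assoc, ← mul_assoc (ι _) y, hrel, mul_assoc, ← mul_assoc (y ^ j),
      ← pow_succ, ← map_mul, Finset.prod_range_succ', map_prod]
    congr 2
    rw [pow_zero]
    congr 1
    refine Finset.prod_congr rfl fun i _ => ?_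
    rw [pow_succ']
    rfl

end Pow

section EndK

variable [FiniteDimensional k K] [IsGalois k K] (σ : K ≃ₐ[k] K)

lemma symm_pow_toLinearMap (j : ℕ) :
    (σ.symm.toLinearMap : Module.End k K) ^ j = ((σ⁻¹) ^ j).toLinearMap := by
  induction j with
  | zero => rfl
  | succ j ih =>
    rw [pow_succ, ih, pow_succ]
    rfl

/-- `End_k K` is the cyclic algebra `(K, σ, 1)` -/
theorem isCyclicAlg_end (hσ : ∀ τ : K ≃ₐ[k] K, τ ∈ Subgroup.zpowers σ) :
    CSAGal.IsCyclicAlg k K σ 1 (Module.End k K) := by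
  have hpos : 0 < Module.finrank k K := Module.finrank_pos
  have hrel : ∀ x : K, Algebra.lmul k K x * (σ.symm.toLinearMap : Module.End k K) =
      σ.symm.toLinearMap * Algebra.lmul k K (σ x) := by
    intro x
    ext v
    change x * σ.symm v = σ.symm (σ x * v)
    rw [map_mul, σ.symm_apply_apply]
  have hpow : (σ.symm.toLinearMap : Module.End k K) ^ Module.finrank k K =
      algebraMap k (Module.End k K) ((1 : kˣ) : k) := by
    rw [symm_pow_toLinearMap, inv_pow, pow_finrank_eq_one σ hσ, inv_one, Units.val_one, map_one]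
    rfl
  have hy : IsUnit (σ.symm.toLinearMap : Module.End k K) := by
    rw [← isUnit_pow_iff hpos.ne', hpow]
    exact (1 : kˣ).isUnit.map _
  have hdim : Module.finrank k (Module.End k K) = Module.finrank k K ^ 2 := by
    rw [Module.finrank_linearMap, sq]
  exact ⟨Algebra.lmul k K, σ.symm.toLinearMap, hpow, hrel,
    adjoin_eq_top (Algebra.lmul k K) σ _ hσ hrel hy hdim, hpos, hdim⟩

theorem splits_of_norm (hσ : ∀ τ : K ≃ₐ[k] K, τ ∈ Subgroup.zpowers σ) (b : kˣ)
    (hA : CSAGal.IsCyclicAlg k K σ b A) (x : K) (hx : Algebra.norm k x = (b : k)) :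
    Curves.Splits k A k := by
  obtain ⟨ι, y, hpow, hrel, hadj, hdim, hnt, hy⟩ := of_isCyclicAlg σ b hA
  have hpos : 0 < Module.finrank k K := Module.finrank_pos
  have hx0 : x ≠ 0 := by
    rintro rfl
    rw [Algebra.norm_zero] at hx
    exact b.ne_zero hx.symm
  have hrel₁ : ∀ z : K, ι z * (y * ι x⁻¹) = (y * ι x⁻¹) * ι (σ z) := by
    intro z
    rw [← mul_assoc, hrel, mul_assoc, mul_assoc, ← map_mul, ← map_mul, mul_comm]
  have hpow₁ : (y * ι x⁻¹) ^ Module.finrank k K = algebraMap k A ((1 : kˣ) : k) := by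
    have hn : (b : k) * Algebra.norm k x⁻¹ = 1 := by
      rw [← hx, ← map_mul, mul_inv_cancel₀ hx0, map_one]
    rw [mul_ι_pow ι σ y hrel, ← norm_eq_prod_pow σ hσ, hpow, ι.commutes, ← map_mul, hn,
      Units.val_one]
  have hy₁ : IsUnit (y * ι x⁻¹) := hy.mul ((IsUnit.mk0 _ (inv_ne_zero hx0)).map ι)
  have hcyc₁ : CSAGal.IsCyclicAlg k K σ 1 A :=
    ⟨ι, y * ι x⁻¹, hpow₁, hrel₁, adjoin_eq_top ι σ _ hσ hrel₁ hy₁ hdim, hpos, hdim⟩
  obtain ⟨e⟩ := nonempty_algEquiv_of_isCyclicAlg σ hσ 1 hcyc₁ (isCyclicAlg_end σ hσ)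
  exact ⟨Module.finrank k K, hpos.ne',
    ⟨(Algebra.TensorProduct.lid k A).trans (e.trans (algEquivMatrix (Module.finBasis k K)))⟩⟩

theorem norm_of_splits (hσ : ∀ τ : K ≃ₐ[k] K, τ ∈ Subgroup.zpowers σ) (b : kˣ)
    (hA : CSAGal.IsCyclicAlg k K σ b A) (hs : Curves.Splits k A k) :
    ∃ x : K, Algebra.norm k x = (b : k) := by
  classical
  obtain ⟨ι, y, hpow, hrel, hadj, hdim, hnt, hy⟩ := of_isCyclicAlg σ b hA
  obtain ⟨n, hn, ⟨φ⟩⟩ := hs
  haveI : NeZero n := ⟨hn⟩
  let ψ : A ≃ₐ[k] Matrix (Fin n) (Fin n) k := (Algebra.TensorProduct.lid k A).symm.trans φ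
  have hnm : n = Module.finrank k K := by
    have h1 := ψ.toLinearEquiv.finrank_eq
    rw [hdim, Module.finrank_matrix] at h1
    simp only [Fintype.card_fin, Module.finrank_self, mul_one] at h1
    rw [sq] at h1
    exact (Nat.mul_self_inj.mp h1).symm
  let v₀ : Fin n → k := Pi.single 0 1
  have hv₀ : v₀ ≠ 0 := by
    intro h
    have := congrFun h 0
    simp [v₀] at this
  let g : K →ₗ[k] (Fin n → k) :=
    { toFun := fun c => (ψ (ι c)).mulVec v₀
      map_add' := fun c c' => by rw [map_add, map_add, Matrix.add_mulVec]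
      map_smul' := fun r c => by
        rw [map_smul, map_smul, Matrix.smul_mulVec]
        rfl }
  have hg : ∀ c, g c = (ψ (ι c)).mulVec v₀ := fun c => rfl
  have hmv : ∀ a a' : A, (ψ (a * a')).mulVec v₀ = (ψ a).mulVec ((ψ a').mulVec v₀) := by
    intro a a'
    rw [map_mul, Matrix.mulVec_mulVec]
  have hginj : Function.Injective g := by
    rw [← LinearMap.ker_eq_bot, LinearMap.ker_eq_bot']
    intro c hc
    by_contra hc0
    apply hv₀
    have h1 : (ψ (ι c⁻¹ * ι c)).mulVec v₀ = v₀ := by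
      rw [← map_mul, inv_mul_cancel₀ hc0, map_one, map_one, Matrix.one_mulVec]
    rw [hmv, ← hg c, hc, Matrix.mulVec_zero] at h1
    exact h1.symm
  have hgsurj : Function.Surjective g := by
    refine (LinearMap.injective_iff_surjective_of_finrank_eq_finrank ?_).mp hginj
    rw [Module.finrank_pi_fintype]
    simp [hnm]
  obtain ⟨c, hc⟩ := hgsurj ((ψ y).mulVec v₀)
  have hcomm : ∀ z : K, y * ι z = ι ((σ⁻¹) z) * y := by
    intro z
    rw [hrel]
    congr 2
    exact ((σ.apply_symm_apply z)).symm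
  have key : ∀ j : ℕ, (ψ (y ^ j)).mulVec v₀ =
      (ψ (ι (∏ i ∈ Finset.range j, ((σ⁻¹) ^ i) c))).mulVec v₀ := by
    intro j
    induction j with
    | zero => simp
    | succ j ih =>
      rw [pow_succ', hmv, ih, ← hmv, hcomm, hmv, ← hc, hg, ← hmv, ← map_mul,
        Finset.prod_range_succ', map_prod, pow_zero]
      congr 4
      refine Finset.prod_congr rfl fun i _ => ?_
      rw [pow_succ']
      rfl
  have hσ' : ∀ τ : K ≃ₐ[k] K, τ ∈ Subgroup.zpowers σ⁻¹ := by
    intro τ
    rw [Subgroup.zpowers_inv]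
    exact hσ τ
  have h1 := key (Module.finrank k K)
  rw [hpow, ← norm_eq_prod_pow σ⁻¹ hσ', ← ι.commutes, ← hg, ← hg] at h1
  have h2 := hginj h1
  exact ⟨c, ((algebraMap k K).injective h2).symm⟩

end EndK

end Groth.Agent.Lib.helper19.Cyc
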