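import Mathlib

/-!
# The bimodule attached to a matrix representation

`ρ : P →ₐ[k] M_n(K)` makes `V = Kⁿ` a `(K, P)`-bimodule.  `K` then maps into `End_P V`.
-/

set_option autoImplicit false

namespace Groth.Agent.Lib.helper19.CSA

variable {k : Type*} [Field k] {K : Type*} [Field K] [Algebra k K]
variable {P : Type*} [Ring P] [Algebra k P] {n : ℕ}

/-- `Kⁿ` with `P` acting through `ρ`. -/
def MV (_ρ : P →ₐ[k] Matrix (Fin n) (Fin n) K) : Type _ := Fin n → K

variable (ρ : P →ₐ[k] Matrix (Fin n) (Fin n) K)

namespace MV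

instance : AddCommGroup (MV ρ) := inferInstanceAs (AddCommGroup (Fin n → K))
instance : Module K (MV ρ) := inferInstanceAs (Module K (Fin n → K))
instance : Module k (MV ρ) := inferInstanceAs (Module k (Fin n → K))
instance : IsScalarTower k K (MV ρ) := inferInstanceAs (IsScalarTower k K (Fin n → K))
instance [Module.Finite k K] : Module.Finite k (MV ρ) :=
  inferInstanceAs (Module.Finite k (Fin n → K))

/-- to `MV` -/
def mk (v : Fin n → K) : MV ρ := v
/-- from `MV` -/
def val (v : MV ρ) : Fin n → K := v

instance : Module P (MV ρ) where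
  smul a v := mk ρ ((ρ a).mulVec (val ρ v))
  one_smul v := by
    change (ρ 1).mulVec (val ρ v) = v
    rw [map_one, Matrix.one_mulVec]; rfl
  mul_smul a b v := by
    change (ρ (a * b)).mulVec (val ρ v) = (ρ a).mulVec ((ρ b).mulVec (val ρ v))
    rw [map_mul, Matrix.mulVec_mulVec]
  smul_zero a := by
    change (ρ a).mulVec 0 = 0
    rw [Matrix.mulVec_zero]
  smul_add a v w := by
    change (ρ a).mulVec (val ρ v + val ρ w) = (ρ a).mulVec (val ρ v) + (ρ a).mulVec (val ρ w)
    rw [Matrix.mulVec_add]
  add_smul a b v := by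
    change (ρ (a + b)).mulVec (val ρ v) = (ρ a).mulVec (val ρ v) + (ρ b).mulVec (val ρ v)
    rw [map_add, Matrix.add_mulVec]
  zero_smul v := by
    change (ρ 0).mulVec (val ρ v) = 0
    rw [map_zero, Matrix.zero_mulVec]

lemma smul_def (a : P) (v : MV ρ) : a • v = mk ρ ((ρ a).mulVec (val ρ v)) := rfl

instance : IsScalarTower k P (MV ρ) := ⟨fun r a v => by
  change (ρ (r • a)).mulVec (val ρ v) = r • (ρ a).mulVec (val ρ v)
  rw [map_smul, Matrix.smul_mulVec]⟩

instance : SMulCommClass K P (MV ρ) := ⟨fun z a v => by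
  change z • (ρ a).mulVec (val ρ v) = (ρ a).mulVec (z • val ρ v)
  rw [Matrix.mulVec_smul]⟩

instance : SMulCommClass P K (MV ρ) := ⟨fun a z v => (smul_comm z a v).symm⟩

/-- `K` acts by `P`-linear endomorphisms. -/
def κ : K →ₐ[k] Module.End P (MV ρ) where
  toFun z :=
    { toFun := fun v => z • v
      map_add' := fun v w => smul_add z v w
      map_smul' := fun a v => smul_comm z a v }
  map_one' := by ext v; exact one_smul K v
  map_mul' z w := by ext v; exact mul_smul z w v
  map_zero' := by ext v; exact zero_smul K v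
  map_add' z w := by ext v; exact add_smul z w v
  commutes' r := by
    ext v
    change (algebraMap k K r) • v = r • v
    rw [algebraMap_smul]

lemma finrank_eq [Module.Finite k K] :
    Module.finrank k (MV ρ) = n * Module.finrank k K := by
  change Module.finrank k (Fin n → K) = _
  rw [Module.finrank_pi_fintype]
  simp

end MV

end Groth.Agent.Lib.helper19.CSA
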