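import Mathlib
import Groth.Prelude.Def_GSzCSA
import Groth.Agent.Lib.helper19.CyclicCSA
import Groth.Agent.Lib.helper19.Morita
import Groth.Agent.Lib.helper19.SplitBimodule

/-!
# A central simple algebra split by a cyclic extension is Brauer equivalent to a cyclic algebra
-/

set_option autoImplicit false

namespace Groth.Agent.Lib.helper19.Cyc

open TensorProduct MulOpposite

variable {k : Type*} [Field k] {K : Type*} [Field K] [Algebra k K]

/-- transfer of a cyclic presentation along an isomorphism -/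
theorem isCyclicAlg_congr {A A' : Type*} [Ring A] [Algebra k A] [Ring A'] [Algebra k A']
    (σ : K ≃ₐ[k] K) (b : kˣ) (e : A ≃ₐ[k] A') (h : CSAGal.IsCyclicAlg k K σ b A) :
    CSAGal.IsCyclicAlg k K σ b A' := by
  obtain ⟨ι, y, hpow, hrel, hadj, hpos, hdim⟩ := h
  refine ⟨(e : A →ₐ[k] A').comp ι, e y, ?_, ?_, ?_, hpos, ?_⟩
  · rw [← map_pow, hpow, e.commutes]
  · intro x
    simp only [AlgHom.comp_apply, AlgEquiv.coe_toAlgHom]
    rw [← map_mul, hrel, map_mul]
  · have h1 := congrArg (Subalgebra.map (e : A →ₐ[k] A')) hadj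
    rw [AlgHom.map_adjoin, Algebra.map_top, Set.image_union, Set.image_singleton,
      ← Set.range_comp] at h1
    have h2 : (e : A →ₐ[k] A').range = ⊤ := by
      rw [AlgHom.range_eq_top]
      exact e.surjective
    rw [h2] at h1
    exact h1
  · rw [← e.toLinearEquiv.finrank_eq, hdim]

variable {A : Type*} [Ring A] [Algebra k A] {n : ℕ}

/-- the representation of `Aᵐᵒᵖ` on `Kⁿ` attached to a splitting of `A` -/
noncomputable def ρop (φ : K ⊗[k] A ≃ₐ[K] Matrix (Fin n) (Fin n) K) :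
    Aᵐᵒᵖ →ₐ[k] Matrix (Fin n) (Fin n) K where
  toFun a := (φ (1 ⊗ₜ[k] unop a)).transpose
  map_one' := by
    rw [unop_one, ← Algebra.TensorProduct.one_def, map_one, Matrix.transpose_one]
  map_mul' a b := by
    rw [unop_mul, ← Matrix.transpose_mul, ← map_mul, Algebra.TensorProduct.tmul_mul_tmul, one_mul]
  map_zero' := by
    rw [unop_zero, tmul_zero, map_zero, Matrix.transpose_zero]
  map_add' a b := by
    rw [unop_add, tmul_add, map_add, Matrix.transpose_add]
  commutes' r := by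
    have h1 : (1 : K) ⊗ₜ[k] unop (algebraMap k Aᵐᵒᵖ r) =
        algebraMap K (K ⊗[k] A) (algebraMap k K r) := by
      rw [MulOpposite.algebraMap_apply, unop_op, Algebra.TensorProduct.algebraMap_apply,
        Algebra.algebraMap_eq_smul_one r, Algebra.algebraMap_eq_smul_one (A := K) r,
        TensorProduct.tmul_smul, TensorProduct.smul_tmul', Algebra.algebraMap_eq_smul_one,
        smul_assoc, one_smul]
    change (φ (1 ⊗ₜ[k] unop (algebraMap k Aᵐᵒᵖ r))).transpose = _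
    rw [h1, φ.commutes, ← IsScalarTower.algebraMap_apply]
    ext i j
    simp [Matrix.algebraMap_matrix_apply, eq_comm]

section Main

variable [FiniteDimensional k K] [IsGalois k K]
variable [Algebra.IsCentral k A] [IsSimpleRing A] [FiniteDimensional k A]
variable (σ : K ≃ₐ[k] K)

/-- the algebra `End_{Aᵐᵒᵖ}(Kⁿ)` -/
abbrev BB (φ : K ⊗[k] A ≃ₐ[K] Matrix (Fin n) (Fin n) K) : Type _ :=
  Module.End Aᵐᵒᵖ (CSA.MV (ρop φ))

omit [FiniteDimensional k K] [IsGalois k K] [Algebra.IsCentral k A] [IsSimpleRing A] in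
theorem finrank_of_split (φ : K ⊗[k] A ≃ₐ[K] Matrix (Fin n) (Fin n) K) :
    Module.finrank k A = n ^ 2 := by
  have h1 := φ.toLinearEquiv.finrank_eq
  rw [Module.finrank_baseChange, Module.finrank_matrix] at h1
  simpa [sq] using h1

omit [IsGalois k K] [Algebra.IsCentral k A] in
theorem finrank_BB (hn : n ≠ 0) (φ : K ⊗[k] A ≃ₐ[K] Matrix (Fin n) (Fin n) K) :
    Module.finrank k (BB φ) = Module.finrank k K ^ 2 := by
  have h := CSA.finrank_end_mul k Aᵐᵒᵖ (CSA.MV (ρop φ))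
  rw [CSA.MV.finrank_eq, ← (MulOpposite.opLinearEquiv k (M := A)).finrank_eq,
    finrank_of_split φ] at h
  have hpos : 0 < n ^ 2 := by positivity
  have h2 : Module.finrank k (BB φ) * n ^ 2 = Module.finrank k K ^ 2 * n ^ 2 := by
    rw [h]; ring
  exact Nat.eq_of_mul_eq_mul_right hpos h2

theorem exists_cyclic_BB (hσ : ∀ τ : K ≃ₐ[k] K, τ ∈ Subgroup.zpowers σ) (hn : n ≠ 0)
    (φ : K ⊗[k] A ≃ₐ[K] Matrix (Fin n) (Fin n) K) :
    ∃ b : kˣ, CSAGal.IsCyclicAlg k K σ b (BB φ) := by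
  haveI : NeZero n := ⟨hn⟩
  haveI : Nontrivial (CSA.MV (ρop φ)) := inferInstanceAs (Nontrivial (Fin n → K))
  haveI := CSA.isSimpleRing_end k Aᵐᵒᵖ (CSA.MV (ρop φ))
  haveI := CSA.isCentral_end k Aᵐᵒᵖ (CSA.MV (ρop φ))
  have hdim := finrank_BB hn φ
  obtain ⟨y, hrel, ⟨b, hb⟩, hadj⟩ := exists_cyclic_generator (CSA.MV.κ (ρop φ)) σ hσ hdim
  have hb0 : b ≠ 0 := by
    rintro rfl
    rw [map_zero] at hb
    have h1 := y.isUnit.pow (Module.finrank k K)
    rw [hb] at h1
    exact not_isUnit_zero h1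
  exact ⟨Units.mk0 b hb0, CSA.MV.κ (ρop φ), y, hb, hrel, hadj, Module.finrank_pos, hdim⟩

omit [IsGalois k K] [Algebra.IsCentral k A] in
theorem nonempty_matrix_BB (φ : K ⊗[k] A ≃ₐ[K] Matrix (Fin n) (Fin n) K) :
    Nonempty (Matrix (Fin (Module.finrank k (CSA.MV (ρop φ))))
        (Fin (Module.finrank k (CSA.MV (ρop φ)))) A ≃ₐ[k]
      Matrix (Fin (Module.finrank k Aᵐᵒᵖ)) (Fin (Module.finrank k Aᵐᵒᵖ)) (BB φ)) := by
  obtain ⟨e⟩ := CSA.nonempty_matrix_end_algEquiv k Aᵐᵒᵖ (CSA.MV (ρop φ))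
  exact ⟨(AlgEquiv.opOp k _).trans ((AlgEquiv.op (AlgEquiv.mopMatrix (R := k)).symm).trans e.symm)⟩

omit [IsGalois k K] [Algebra.IsCentral k A] in
theorem nonempty_BB_algEquiv (φ : K ⊗[k] A ≃ₐ[K] Matrix (Fin n) (Fin n) K)
    (hdim : Module.finrank k A = Module.finrank k K ^ 2) : Nonempty (BB φ ≃ₐ[k] A) := by
  haveI : IsArtinianRing Aᵐᵒᵖ := IsArtinianRing.of_finite k _
  have hn : n = Module.finrank k K := by
    have h1 := finrank_of_split φ
    rw [hdim] at h1
    exact (Nat.pow_left_injective (n := 2) (by omega) h1).symm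
  have h : Module.finrank k (CSA.MV (ρop φ)) = Module.finrank k Aᵐᵒᵖ := by
    rw [CSA.MV.finrank_eq, ← (MulOpposite.opLinearEquiv k (M := A)).finrank_eq, hdim, hn, sq]
  obtain ⟨e⟩ := CSA.nonempty_linearEquiv_of_finrank_eq (k := k) (R := Aᵐᵒᵖ) h
  exact ⟨(e.conjAlgEquiv k).trans ((AlgEquiv.moduleEndSelf k).symm.trans (AlgEquiv.opOp k A).symm)⟩

end Main

end Groth.Agent.Lib.helper19.Cyc
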