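import Mathlib

/-!
# Endomorphisms of a cyclic module `P ⧸ J` coming from right multiplications

`J` a left ideal of a `k`-algebra `P`.  The elements `p` with `J * p ⊆ J` form a subalgebra
(the idealiser) and right multiplication gives an algebra map to `(End_P (P ⧸ J))ᵐᵒᵖ`.
-/

set_option autoImplicit false

namespace Groth.Agent.Lib.helper19.QuotEnd

open MulOpposite

variable {k : Type*} [Field k] {P : Type*} [Ring P] [Algebra k P]

/-- the idealiser of a left ideal -/
def idealiser (J : Ideal P) : Subalgebra k P where
  carrier := {p | ∀ j ∈ J, j * p ∈ J}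
  mul_mem' {p q} hp hq := fun j hj => by rw [← mul_assoc]; exact hq _ (hp j hj)
  add_mem' {p q} hp hq := fun j hj => by rw [mul_add]; exact J.add_mem (hp j hj) (hq j hj)
  algebraMap_mem' r := fun j hj => by
    rw [← Algebra.commutes, ← Algebra.smul_def]
    exact J.smul_of_tower_mem r hj

lemma mem_idealiser {J : Ideal P} {p : P} : p ∈ idealiser (k := k) J ↔ ∀ j ∈ J, j * p ∈ J :=
  Iff.rfl

lemma mem_idealiser_span {s : Set P} {p : P} (h : ∀ g ∈ s, g * p ∈ Ideal.span s) :
    p ∈ idealiser (k := k) (Ideal.span s) := by
  intro j hj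
  induction hj using Submodule.span_induction with
  | mem x hx => exact h x hx
  | zero => rw [zero_mul]; exact Submodule.zero_mem _
  | add x y _ _ hx hy => rw [add_mul]; exact Submodule.add_mem _ hx hy
  | smul a x _ hx =>
    rw [smul_eq_mul, mul_assoc]
    exact Ideal.mul_mem_left _ a hx

variable (J : Ideal P)

/-- right multiplication by an element of the idealiser, on `P ⧸ J` -/
def rmul (p : idealiser (k := k) J) : Module.End P (P ⧸ J) :=
  J.mapQ J (LinearMap.toSpanSingleton P P p.1) (fun j hj => by
    rw [Submodule.mem_comap, LinearMap.toSpanSingleton_apply, smul_eq_mul]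
    exact p.2 j hj)

lemma rmul_mk (p : idealiser (k := k) J) (q : P) :
    rmul J p (Submodule.Quotient.mk q) = Submodule.Quotient.mk (q * p.1) := by
  unfold rmul
  rw [Submodule.mapQ_apply, LinearMap.toSpanSingleton_apply, smul_eq_mul]

/-- right multiplication as an algebra map into the opposite of the endomorphism algebra -/
def rmulHom : idealiser (k := k) J →ₐ[k] (Module.End P (P ⧸ J))ᵐᵒᵖ where
  toFun p := op (rmul J p)
  map_one' := by
    apply MulOpposite.unop_injective
    refine LinearMap.ext fun v => ?_
    obtain ⟨q, rfl⟩ := Submodule.Quotient.mk_surjective _ v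
    simp only [unop_op, unop_one, Module.End.one_apply]
    rw [rmul_mk]
    simp
  map_mul' p p' := by
    apply MulOpposite.unop_injective
    refine LinearMap.ext fun v => ?_
    obtain ⟨q, rfl⟩ := Submodule.Quotient.mk_surjective _ v
    simp only [unop_op, unop_mul, Module.End.mul_apply]
    rw [rmul_mk, rmul_mk, rmul_mk, mul_assoc]
    rfl
  map_zero' := by
    apply MulOpposite.unop_injective
    refine LinearMap.ext fun v => ?_
    obtain ⟨q, rfl⟩ := Submodule.Quotient.mk_surjective _ v
    simp only [unop_op, unop_zero, LinearMap.zero_apply]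
    rw [rmul_mk]
    simp
  map_add' p p' := by
    apply MulOpposite.unop_injective
    refine LinearMap.ext fun v => ?_
    obtain ⟨q, rfl⟩ := Submodule.Quotient.mk_surjective _ v
    simp only [unop_op, unop_add, LinearMap.add_apply]
    rw [rmul_mk, rmul_mk, rmul_mk, ← Submodule.Quotient.mk_add]
    congr 1
    simp [mul_add]
  commutes' r := by
    apply MulOpposite.unop_injective
    refine LinearMap.ext fun v => ?_
    obtain ⟨q, rfl⟩ := Submodule.Quotient.mk_surjective _ v
    simp only [unop_op, MulOpposite.algebraMap_apply, Module.algebraMap_end_apply]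
    rw [rmul_mk, ← Submodule.Quotient.mk_smul]
    congr 1
    simp [Algebra.smul_def, Algebra.commutes]

lemma rmulHom_apply_mk (p : idealiser (k := k) J) (q : P) :
    (unop (rmulHom J p)) (Submodule.Quotient.mk q) = Submodule.Quotient.mk (q * p.1) :=
  rmul_mk J p q

end Groth.Agent.Lib.helper19.QuotEnd
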