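import Mathlib
import Groth.Prelude.Def_GSzCSA
import Groth.Agent.Lib.helper19.CyclicLift
import Groth.Agent.Lib.helper19.QuotEnd
import Groth.Agent.Lib.helper19.Morita
import Groth.Agent.Lib.helper19.CSATensor

/-!
# Tensor product of cyclic algebras: `(K,σ,b) ⊗ (K,σ,b') ~ (K,σ,bb')`

`P = A ⊗ A'`, `J` the left ideal generated by `ι z ⊗ 1 - 1 ⊗ ι' z`, `V = P ⧸ J` (this is
`A ⊗_K A'`).  Right multiplications by `ι z ⊗ 1` and `y ⊗ y'` give a cyclic structure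
`(K, σ, bb')` on `(End_P V)ᵐᵒᵖ`.
-/

set_option autoImplicit false

namespace Groth.Agent.Lib.helper19.CycT

open TensorProduct MulOpposite QuotEnd Cyc

variable {k : Type*} [Field k] {K : Type*} [Field K] [Algebra k K]
variable {A : Type*} [Ring A] [Algebra k A] {A' : Type*} [Ring A'] [Algebra k A']
variable (ι : K →ₐ[k] A) (y : A) (ι' : K →ₐ[k] A') (y' : A') (σ : K ≃ₐ[k] K)

/-- generators of the ideal -/
def gen (z : K) : A ⊗[k] A' := ι z ⊗ₜ[k] 1 - 1 ⊗ₜ[k] ι' z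

/-- the left ideal `J` -/
def JJ : Ideal (A ⊗[k] A') := Ideal.span (Set.range (gen ι ι'))

lemma gen_mem (z : K) : gen ι ι' z ∈ JJ ι ι' := Ideal.subset_span ⟨z, rfl⟩

lemma gen_mul_left (z z' : K) :
    gen ι ι' z' * (ι z ⊗ₜ[k] (1 : A')) = (ι z ⊗ₜ[k] (1 : A')) * gen ι ι' z' := by
  unfold gen
  rw [sub_mul, mul_sub]
  simp only [Algebra.TensorProduct.tmul_mul_tmul, one_mul, mul_one]
  rw [← map_mul, ← map_mul, mul_comm]

lemma gen_mul_yy (hrel : ∀ x : K, ι x * y = y * ι (σ x))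
    (hrel' : ∀ x : K, ι' x * y' = y' * ι' (σ x)) (z : K) :
    gen ι ι' z * (y ⊗ₜ[k] y') = (y ⊗ₜ[k] y') * gen ι ι' (σ z) := by
  unfold gen
  rw [sub_mul, mul_sub]
  simp only [Algebra.TensorProduct.tmul_mul_tmul, one_mul, mul_one]
  rw [hrel, hrel']

lemma left_mem_idealiser (z : K) :
    ι z ⊗ₜ[k] (1 : A') ∈ idealiser (k := k) (JJ ι ι') := by
  apply mem_idealiser_span
  rintro _ ⟨z', rfl⟩
  rw [gen_mul_left]
  exact Ideal.mul_mem_left _ _ (gen_mem ι ι' z')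

lemma yy_mem_idealiser (hrel : ∀ x : K, ι x * y = y * ι (σ x))
    (hrel' : ∀ x : K, ι' x * y' = y' * ι' (σ x)) :
    y ⊗ₜ[k] y' ∈ idealiser (k := k) (JJ ι ι') := by
  apply mem_idealiser_span
  rintro _ ⟨z, rfl⟩
  rw [gen_mul_yy ι y ι' y' σ hrel hrel']
  exact Ideal.mul_mem_left _ _ (gen_mem ι ι' (σ z))

/-- the module `V = P ⧸ J` -/
abbrev VV : Type _ := (A ⊗[k] A') ⧸ JJ ι ι'

/-- the algebra `(End_P V)ᵐᵒᵖ` -/
abbrev EE : Type _ := (Module.End (A ⊗[k] A') (VV ι ι'))ᵐᵒᵖ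

/-- `K → (End_P V)ᵐᵒᵖ` -/
noncomputable def ι₃ : K →ₐ[k] EE ι ι' :=
  (rmulHom (k := k) (JJ ι ι')).comp
    (AlgHom.codRestrict ((Algebra.TensorProduct.includeLeft : A →ₐ[k] A ⊗[k] A').comp ι)
      (idealiser (k := k) (JJ ι ι')) (fun z => left_mem_idealiser ι ι' z))

/-- the generator `Y` -/
noncomputable def Y₃ (hrel : ∀ x : K, ι x * y = y * ι (σ x))
    (hrel' : ∀ x : K, ι' x * y' = y' * ι' (σ x)) : EE ι ι' :=
  rmulHom (k := k) (JJ ι ι') ⟨y ⊗ₜ[k] y', yy_mem_idealiser ι y ι' y' σ hrel hrel'⟩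

lemma rel₃ (hrel : ∀ x : K, ι x * y = y * ι (σ x))
    (hrel' : ∀ x : K, ι' x * y' = y' * ι' (σ x)) (x : K) :
    ι₃ ι ι' x * Y₃ ι y ι' y' σ hrel hrel' = Y₃ ι y ι' y' σ hrel hrel' * ι₃ ι ι' (σ x) := by
  unfold ι₃ Y₃
  simp only [AlgHom.comp_apply]
  rw [← map_mul, ← map_mul]
  congr 1
  apply Subtype.ext
  simp only [Subalgebra.coe_mul, AlgHom.coe_codRestrict, AlgHom.comp_apply,
    Algebra.TensorProduct.includeLeft_apply, Algebra.TensorProduct.tmul_mul_tmul, one_mul, mul_one]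
  rw [hrel]

lemma pow₃ (hrel : ∀ x : K, ι x * y = y * ι (σ x))
    (hrel' : ∀ x : K, ι' x * y' = y' * ι' (σ x)) (m : ℕ) (b b' : k)
    (hpow : y ^ m = algebraMap k A b) (hpow' : y' ^ m = algebraMap k A' b') :
    Y₃ ι y ι' y' σ hrel hrel' ^ m = algebraMap k (EE ι ι') (b * b') := by
  unfold Y₃
  rw [← map_pow, ← AlgHom.commutes (rmulHom (k := k) (JJ ι ι'))]
  congr 1
  apply Subtype.ext
  simp only [SubmonoidClass.coe_pow, Subalgebra.coe_algebraMap,
    Algebra.TensorProduct.tmul_pow, hpow, hpow']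
  rw [Algebra.algebraMap_eq_smul_one, Algebra.algebraMap_eq_smul_one (A := A'),
    TensorProduct.smul_tmul_smul, Algebra.algebraMap_eq_smul_one, Algebra.TensorProduct.one_def]

section Dim

/-- the spanning map `(a_j) ↦ Σ_j [a_j ⊗ y'^j]` -/
noncomputable def Θ (m : ℕ) : (Fin m → A) →ₗ[k] VV ι ι' :=
  ∑ j : Fin m, ((JJ ι ι').mkQ.restrictScalars k) ∘ₗ
    ((TensorProduct.mk k A A').flip (y' ^ (j : ℕ))) ∘ₗ (LinearMap.proj j : (Fin m → A) →ₗ[k] A)

lemma Θ_apply (m : ℕ) (c : Fin m → A) :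
    Θ ι ι' y' m c = ∑ j : Fin m, Submodule.Quotient.mk (c j ⊗ₜ[k] (y' ^ (j : ℕ))) := by
  simp [Θ, LinearMap.sum_apply]

lemma Θ_single (m : ℕ) (j : Fin m) (a : A) :
    Θ ι ι' y' m (Pi.single j a) = Submodule.Quotient.mk (a ⊗ₜ[k] (y' ^ (j : ℕ))) := by
  classical
  rw [Θ_apply, Finset.sum_eq_single j]
  · rw [Pi.single_eq_same]
  · intro i _ hi
    rw [Pi.single_eq_of_ne hi, zero_tmul, Submodule.Quotient.mk_zero]
  · intro h
    exact absurd (Finset.mem_univ _) h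

lemma mk_tmul_mul_ι (a : A) (a' : A') (c : K) :
    (Submodule.Quotient.mk (a ⊗ₜ[k] (a' * ι' c)) : VV ι ι') =
      Submodule.Quotient.mk ((a * ι c) ⊗ₜ[k] a') := by
  rw [Submodule.Quotient.eq]
  have h : a ⊗ₜ[k] (a' * ι' c) - (a * ι c) ⊗ₜ[k] a' = -((a ⊗ₜ[k] a') * gen ι ι' c) := by
    unfold gen
    rw [mul_sub]
    simp only [Algebra.TensorProduct.tmul_mul_tmul, mul_one]
    abel
  rw [h]
  exact Submodule.neg_mem _ (Ideal.mul_mem_left _ _ (gen_mem ι ι' c))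

theorem Θ_surjective (m : ℕ) (hsurj' : Function.Surjective (Ξ ι' y' m)) :
    Function.Surjective (Θ ι ι' y' m) := by
  intro v
  obtain ⟨q, rfl⟩ := Submodule.Quotient.mk_surjective _ v
  change Submodule.Quotient.mk q ∈ LinearMap.range (Θ ι ι' y' m)
  induction q using TensorProduct.induction_on with
  | zero => rw [Submodule.Quotient.mk_zero]; exact Submodule.zero_mem _
  | tmul a a' =>
    obtain ⟨c', rfl⟩ := hsurj' a'
    rw [Ξ_apply, tmul_sum, ← Submodule.mkQ_apply, map_sum]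
    refine Submodule.sum_mem _ fun j _ => ?_
    rw [Submodule.mkQ_apply]
    rw [mk_tmul_mul_ι]
    exact ⟨_, Θ_single ι ι' y' m j _⟩
  | add q q' hq hq' =>
    rw [Submodule.Quotient.mk_add]
    exact Submodule.add_mem _ hq hq'

theorem finrank_VV_le [FiniteDimensional k A] (m : ℕ)
    (hsurj' : Function.Surjective (Ξ ι' y' m)) :
    Module.finrank k (VV ι ι') ≤ m * Module.finrank k A := by
  have h := LinearMap.finrank_le_finrank_of_surjective (Θ_surjective ι ι' y' m hsurj')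
  rw [Module.finrank_pi_fintype] at h
  simpa using h

/-- the coordinate functional `a ↦ (Ξ⁻¹ a) 0` -/
noncomputable def π (m : ℕ) (hm : 0 < m) (hbij : Function.Bijective (Ξ ι y m)) : A →ₗ[k] K :=
  (LinearMap.proj (⟨0, hm⟩ : Fin m) : (Fin m → K) →ₗ[k] K) ∘ₗ
    ((LinearEquiv.ofBijective (Ξ ι y m) hbij).symm : A →ₗ[k] (Fin m → K))

lemma π_Ξ (m : ℕ) (hm : 0 < m) (hbij : Function.Bijective (Ξ ι y m)) (c : Fin m → K) :
    π ι y m hm hbij (Ξ ι y m c) = c ⟨0, hm⟩ := by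
  unfold π
  simp only [LinearMap.comp_apply, LinearEquiv.coe_coe, LinearMap.proj_apply]
  have : (LinearEquiv.ofBijective (Ξ ι y m) hbij).symm (Ξ ι y m c) = c :=
    (LinearEquiv.ofBijective (Ξ ι y m) hbij).symm_apply_apply c
  rw [this]

lemma π_mul_ι (m : ℕ) (hm : 0 < m) (hbij : Function.Bijective (Ξ ι y m)) (a : A) (z : K) :
    π ι y m hm hbij (a * ι z) = π ι y m hm hbij a * z := by
  obtain ⟨c, rfl⟩ := hbij.2 a
  have h : Ξ ι y m c * ι z = Ξ ι y m (fun j => c j * z) := by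
    rw [Ξ_apply, Ξ_apply, Finset.sum_mul]
    refine Finset.sum_congr rfl fun j _ => ?_
    rw [mul_assoc, ← map_mul]
  rw [h, π_Ξ, π_Ξ]

lemma π_one (m : ℕ) (hm : 0 < m) (hbij : Function.Bijective (Ξ ι y m)) :
    π ι y m hm hbij 1 = 1 := by
  have h : (1 : A) = Ξ ι y m (Pi.single ⟨0, hm⟩ 1) := by
    rw [Ξ_single]
    simp
  rw [h, π_Ξ, Pi.single_eq_same]

theorem one_notMem_JJ (m : ℕ) (hm : 0 < m) (hbij : Function.Bijective (Ξ ι y m))
    (hbij' : Function.Bijective (Ξ ι' y' m)) : (1 : A ⊗[k] A') ∉ JJ ι ι' := by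
  let lam : A ⊗[k] A' →ₗ[k] K :=
    TensorProduct.lift ((LinearMap.mul k K).compl₁₂ (π ι y m hm hbij) (π ι' y' m hm hbij'))
  have hlam : ∀ a a', lam (a ⊗ₜ[k] a') = π ι y m hm hbij a * π ι' y' m hm hbij' a' := by
    intro a a'
    simp [lam]
  have key : ∀ (z : K) (q : A ⊗[k] A'), lam (q * gen ι ι' z) = 0 := by
    intro z q
    induction q using TensorProduct.induction_on with
    | zero => rw [zero_mul, map_zero]
    | tmul a a' =>
      unfold gen
      rw [mul_sub]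
      simp only [Algebra.TensorProduct.tmul_mul_tmul, mul_one]
      rw [map_sub, hlam, hlam, π_mul_ι, π_mul_ι]
      ring
    | add q q' hq hq' => rw [add_mul, map_add, hq, hq', add_zero]
  have hJ : ∀ j ∈ JJ ι ι', ∀ q : A ⊗[k] A', lam (q * j) = 0 := by
    intro j hj
    induction hj using Submodule.span_induction with
    | mem x hx =>
      obtain ⟨z, rfl⟩ := hx
      exact key z
    | zero => intro q; rw [mul_zero, map_zero]
    | add x x' _ _ hx hx' => intro q; rw [mul_add, map_add, hx, hx', add_zero]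
    | smul a x _ hx =>
      intro q
      rw [smul_eq_mul, ← mul_assoc]
      exact hx _
  intro h1
  have h2 := hJ 1 h1 1
  rw [mul_one, Algebra.TensorProduct.one_def, hlam, π_one, π_one, mul_one] at h2
  exact one_ne_zero h2

theorem nontrivial_VV (m : ℕ) (hm : 0 < m) (hbij : Function.Bijective (Ξ ι y m))
    (hbij' : Function.Bijective (Ξ ι' y' m)) : Nontrivial (VV ι ι') := by
  rw [Submodule.Quotient.nontrivial_iff]
  intro h
  apply one_notMem_JJ ι y ι' y' m hm hbij hbij'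
  rw [h]
  trivial

end Dim

section Main

variable [FiniteDimensional k K] [IsGalois k K]

theorem tensor_brauerEquivalent {A'' : Type*} [Ring A''] [Algebra k A''] (σ : K ≃ₐ[k] K)
    (hσ : ∀ τ : K ≃ₐ[k] K, τ ∈ Subgroup.zpowers σ) (b b' : kˣ)
    (hA : CSAGal.IsCyclicAlg k K σ b A) (hA' : CSAGal.IsCyclicAlg k K σ b' A')
    (hA'' : CSAGal.IsCyclicAlg k K σ (b * b') A'') :
    ∃ n m : ℕ, n ≠ 0 ∧ m ≠ 0 ∧
      Nonempty (Matrix (Fin n) (Fin n) (A ⊗[k] A') ≃ₐ[k] Matrix (Fin m) (Fin m) A'') := by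
  classical
  obtain ⟨ι, y, hpow, hrel, hadj, hdim, hnt, hy⟩ := of_isCyclicAlg σ b hA
  obtain ⟨ι', y', hpow', hrel', hadj', hdim', hnt', hy'⟩ := of_isCyclicAlg σ b' hA'
  have hpos : 0 < Module.finrank k K := Module.finrank_pos
  haveI : FiniteDimensional k A := Module.finite_of_finrank_pos (by rw [hdim]; positivity)
  haveI : FiniteDimensional k A' := Module.finite_of_finrank_pos (by rw [hdim']; positivity)
  haveI := Cyc.isCentral ι σ y hσ hrel hy hdim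
  haveI := Cyc.isSimpleRing ι σ y hσ hrel hy hdim
  haveI := Cyc.isSimpleRing ι' σ y' hσ hrel' hy' hdim'
  haveI : IsSimpleRing (A ⊗[k] A') := CSA.isSimpleRing_tensor
  have hbij := Ξ_bijective ι σ y hσ hrel hy hdim
  have hbij' := Ξ_bijective ι' σ y' hσ hrel' hy' hdim'
  haveI : Nontrivial (VV ι ι') := nontrivial_VV ι y ι' y' _ hpos hbij hbij'
  haveI : Nontrivial (Module.End (A ⊗[k] A') (VV ι ι')) := inferInstance
  haveI : Nontrivial (EE ι ι') := inferInstance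
  set m := Module.finrank k K with hm
  have hrel₃ := rel₃ ι y ι' y' σ hrel hrel'
  have hpow₃ := pow₃ ι y ι' y' σ hrel hrel' m (b : k) (b' : k) hpow hpow'
  have hY : IsUnit (Y₃ ι y ι' y' σ hrel hrel') := by
    rw [← isUnit_pow_iff hpos.ne', hpow₃]
    exact ((b * b').isUnit).map (algebraMap k (EE ι ι'))
  have hinj₃ := Ξ_injective (ι₃ ι ι') σ (Y₃ ι y ι' y' σ hrel hrel') hσ hrel₃ hY
  -- dimension count
  have hMor := CSA.finrank_end_mul k (A ⊗[k] A') (VV ι ι')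
  have hP : Module.finrank k (A ⊗[k] A') = m ^ 2 * m ^ 2 := by
    rw [Module.finrank_tensorProduct, hdim, hdim']
  have hVle := finrank_VV_le ι ι' y' m hbij'.2
  rw [hdim] at hVle
  have hE : Module.finrank k (EE ι ι') =
      Module.finrank k (Module.End (A ⊗[k] A') (VV ι ι')) :=
    ((MulOpposite.opLinearEquiv k).finrank_eq).symm
  have hge : m ^ 2 ≤ Module.finrank k (EE ι ι') := by
    have h1 := LinearMap.finrank_le_finrank_of_injective hinj₃
    rw [Module.finrank_pi_fintype] at h1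
    simpa [sq] using h1
  have hdim₃ : Module.finrank k (EE ι ι') = m ^ 2 := by
    apply le_antisymm _ hge
    rw [hE]
    rw [hP] at hMor
    have h2 : Module.finrank k (VV ι ι') ^ 2 ≤ (m * m ^ 2) ^ 2 := Nat.pow_le_pow_left hVle 2
    have h3 : Module.finrank k (Module.End (A ⊗[k] A') (VV ι ι')) * (m ^ 2 * m ^ 2) ≤
        m ^ 2 * (m ^ 2 * m ^ 2) := by
      rw [hMor]
      calc Module.finrank k (VV ι ι') ^ 2 ≤ (m * m ^ 2) ^ 2 := h2
        _ = m ^ 2 * (m ^ 2 * m ^ 2) := by ring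
    exact Nat.le_of_mul_le_mul_right h3 (by positivity)
  have hcyc : CSAGal.IsCyclicAlg k K σ (b * b') (EE ι ι') :=
    ⟨ι₃ ι ι', Y₃ ι y ι' y' σ hrel hrel', by rw [Units.val_mul]; exact hpow₃, hrel₃,
      adjoin_eq_top (ι₃ ι ι') σ _ hσ hrel₃ hY hdim₃, hpos, hdim₃⟩
  obtain ⟨e₃⟩ := nonempty_algEquiv_of_isCyclicAlg σ hσ (b * b') hcyc hA''
  obtain ⟨eM⟩ := CSA.nonempty_matrix_end_algEquiv k (A ⊗[k] A') (VV ι ι')
  refine ⟨Module.finrank k (VV ι ι'), Module.finrank k (A ⊗[k] A'),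
    (Module.finrank_pos (R := k) (M := VV ι ι')).ne',
    (Module.finrank_pos (R := k) (M := A ⊗[k] A')).ne', ⟨?_⟩⟩
  exact (AlgEquiv.opOp k _).trans ((AlgEquiv.op eM.symm).trans
    ((AlgEquiv.mopMatrix (R := k)).symm.trans (AlgEquiv.mapMatrix e₃)))

end Main

end Groth.Agent.Lib.helper19.CycT
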