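import Mathlib

set_option autoImplicit false

namespace Groth.Agent.Lib.helper19.TPow

open PiTensorProduct TensorProduct

variable (k : Type*) [Field k] (A : Type*) [Ring A] [Algebra k A]

/-- the tensor power -/
abbrev tp (e : ℕ) : Type _ := ⨂[k] _ : Fin e, A

/-- forward multilinear map -/
noncomputable def fwdML (e : ℕ) :
    MultilinearMap k (fun _ : Fin (e + 1) => A) (A ⊗[k] tp k A e) :=
  LinearMap.uncurryLeft (M := fun _ : Fin (e + 1) => A)
    { toFun := fun a => (TensorProduct.mk k A (tp k A e) a).compMultilinearMap (tprod k)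
      map_add' := fun a a' => by ext x; simp [add_tmul]
      map_smul' := fun r a => by ext x; simp [smul_tmul'] }

lemma fwdML_apply (e : ℕ) (x : Fin (e + 1) → A) :
    fwdML k A e x = x 0 ⊗ₜ[k] tprod k (Fin.tail x) := by
  unfold fwdML
  rw [LinearMap.uncurryLeft_apply]
  rfl

/-- forward algebra map -/
noncomputable def fwd (e : ℕ) : tp k A (e + 1) →ₐ[k] A ⊗[k] tp k A e :=
  liftAlgHom (fwdML k A e)
    (by rw [fwdML_apply]; rfl)
    (by
      intro x y
      rw [fwdML_apply, fwdML_apply, fwdML_apply, Algebra.TensorProduct.tmul_mul_tmul,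
        tprod_mul_tprod]
      rfl)

lemma fwd_tprod (e : ℕ) (x : Fin (e + 1) → A) :
    fwd k A e (tprod k x) = x 0 ⊗ₜ[k] tprod k (Fin.tail x) := by
  unfold fwd
  rw [liftAlgHom_apply, lift.tprod, fwdML_apply]

lemma cons_one_one (e : ℕ) : (Fin.cons (1 : A) (1 : Fin e → A) : Fin (e + 1) → A) = 1 := by
  funext i
  refine Fin.cases ?_ (fun j => ?_) i <;> simp

lemma cons_one_mul (e : ℕ) (x y : Fin e → A) :
    (Fin.cons (1 : A) (x * y) : Fin (e + 1) → A) = Fin.cons 1 x * Fin.cons 1 y := by
  funext i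
  refine Fin.cases ?_ (fun j => ?_) i <;> simp

/-- backward algebra map on the right factor -/
noncomputable def bwdR (e : ℕ) : tp k A e →ₐ[k] tp k A (e + 1) :=
  liftAlgHom ((tprod k (s := fun _ : Fin (e + 1) => A)).curryLeft 1)
    (by
      rw [MultilinearMap.curryLeft_apply, cons_one_one]
      rfl)
    (by
      intro x y
      rw [MultilinearMap.curryLeft_apply, MultilinearMap.curryLeft_apply,
        MultilinearMap.curryLeft_apply, cons_one_mul, tprod_mul_tprod])

lemma bwdR_tprod (e : ℕ) (x : Fin e → A) :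
    bwdR k A e (tprod k x) = tprod k (Fin.cons 1 x : Fin (e + 1) → A) := by
  unfold bwdR
  rw [liftAlgHom_apply, lift.tprod, MultilinearMap.curryLeft_apply]

lemma mulSingle_mul_cons (e : ℕ) (a : A) (x : Fin e → A) :
    (Pi.mulSingle (0 : Fin (e + 1)) a : Fin (e + 1) → A) * Fin.cons 1 x = Fin.cons a x := by
  funext i
  refine Fin.cases ?_ (fun j => ?_) i
  · simp
  · simp [Pi.mulSingle_apply, Fin.succ_ne_zero]

lemma cons_mul_mulSingle (e : ℕ) (a : A) (x : Fin e → A) :
    (Fin.cons 1 x : Fin (e + 1) → A) * Pi.mulSingle (0 : Fin (e + 1)) a = Fin.cons a x := by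
  funext i
  refine Fin.cases ?_ (fun j => ?_) i
  · simp
  · simp [Pi.mulSingle_apply, Fin.succ_ne_zero]

lemma single_zero_commute (e : ℕ) (a : A) (t : tp k A e) :
    Commute (singleAlgHom (R := k) (A := fun _ : Fin (e + 1) => A) 0 a) (bwdR k A e t) := by
  induction t using PiTensorProduct.induction_on with
  | smul_tprod r x =>
    rw [map_smul, bwdR_tprod]
    apply Commute.smul_right
    change PiTensorProduct.tprod k (Pi.mulSingle (0 : Fin (e + 1)) a : Fin (e + 1) → A) *
        PiTensorProduct.tprod k _ =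
      PiTensorProduct.tprod k _ *
        PiTensorProduct.tprod k (Pi.mulSingle (0 : Fin (e + 1)) a : Fin (e + 1) → A)
    rw [tprod_mul_tprod, tprod_mul_tprod, mulSingle_mul_cons, cons_mul_mulSingle]
  | add t t' ht ht' =>
    rw [map_add]
    exact ht.add_right ht'

/-- backward algebra map -/
noncomputable def bwd (e : ℕ) : A ⊗[k] tp k A e →ₐ[k] tp k A (e + 1) :=
  Algebra.TensorProduct.lift (singleAlgHom (R := k) (A := fun _ : Fin (e + 1) => A) 0)
    (bwdR k A e) (single_zero_commute k A e)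

lemma bwd_tmul (e : ℕ) (a : A) (t : tp k A e) :
    bwd k A e (a ⊗ₜ[k] t) =
      singleAlgHom (R := k) (A := fun _ : Fin (e + 1) => A) 0 a * bwdR k A e t := by
  unfold bwd
  rw [Algebra.TensorProduct.lift_tmul]

lemma fwd_single_zero (e : ℕ) (a : A) :
    fwd k A e (singleAlgHom (R := k) (A := fun _ : Fin (e + 1) => A) 0 a) = a ⊗ₜ[k] 1 := by
  change fwd k A e (PiTensorProduct.tprod k
    (Pi.mulSingle (0 : Fin (e + 1)) a : Fin (e + 1) → A)) = _
  rw [fwd_tprod]
  have h1 : (Pi.mulSingle (0 : Fin (e + 1)) a : Fin (e + 1) → A) 0 = a := by simp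
  have h2 : Fin.tail (Pi.mulSingle (0 : Fin (e + 1)) a : Fin (e + 1) → A) = 1 := by
    funext j
    simp [Fin.tail, Pi.mulSingle_apply, Fin.succ_ne_zero]
  rw [h1, h2]
  rfl

lemma fwd_bwdR (e : ℕ) (t : tp k A e) : fwd k A e (bwdR k A e t) = 1 ⊗ₜ[k] t := by
  induction t using PiTensorProduct.induction_on with
  | smul_tprod r x =>
    rw [map_smul, map_smul, bwdR_tprod, fwd_tprod, Fin.cons_zero, Fin.tail_cons, tmul_smul]
  | add t t' ht ht' => rw [map_add, map_add, ht, ht', tmul_add]

lemma fwd_bwd (e : ℕ) (z : A ⊗[k] tp k A e) : fwd k A e (bwd k A e z) = z := by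
  induction z using TensorProduct.induction_on with
  | zero => rw [map_zero, map_zero]
  | tmul a t =>
    rw [bwd_tmul, map_mul, fwd_single_zero, fwd_bwdR, Algebra.TensorProduct.tmul_mul_tmul,
      mul_one, one_mul]
  | add z z' hz hz' => rw [map_add, map_add, hz, hz']

lemma bwd_fwd (e : ℕ) (w : tp k A (e + 1)) : bwd k A e (fwd k A e w) = w := by
  induction w using PiTensorProduct.induction_on with
  | smul_tprod r x =>
    rw [map_smul, map_smul, fwd_tprod, bwd_tmul, bwdR_tprod]
    change r • (PiTensorProduct.tprod k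
      (Pi.mulSingle (0 : Fin (e + 1)) (x 0) : Fin (e + 1) → A) * PiTensorProduct.tprod k _) = _
    rw [tprod_mul_tprod, mulSingle_mul_cons, Fin.cons_self_tail]
  | add w w' hw hw' => rw [map_add, map_add, hw, hw']

/-- `A^{⊗(e+1)} ≃ A ⊗ A^{⊗e}` as algebras -/
noncomputable def succEquiv (e : ℕ) : tp k A (e + 1) ≃ₐ[k] A ⊗[k] tp k A e :=
  AlgEquiv.ofAlgHom (fwd k A e) (bwd k A e)
    (AlgHom.ext (fwd_bwd k A e)) (AlgHom.ext (bwd_fwd k A e))

/-- `A^{⊗0} ≃ k` as algebras -/
noncomputable def zeroEquiv : tp k A 0 ≃ₐ[k] k :=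
  (AlgEquiv.ofLinearEquiv (isEmptyEquiv (R := k) (s := fun _ : Fin 0 => A) (Fin 0)).symm
    (by
      rw [isEmptyEquiv_symm_apply, one_smul]
      change PiTensorProduct.tprod k _ = PiTensorProduct.tprod k _
      congr 1
      funext i
      exact i.elim0)
    (by
      intro r s
      rw [isEmptyEquiv_symm_apply, isEmptyEquiv_symm_apply, isEmptyEquiv_symm_apply,
        smul_mul_smul_comm]
      congr 1
      change _ = PiTensorProduct.tprod k _ * PiTensorProduct.tprod k _
      rw [tprod_mul_tprod]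
      congr 1
      funext i
      exact i.elim0)).symm

end Groth.Agent.Lib.helper19.TPow
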