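import Mathlib
import Groth.Prelude.Def_GSzCSA
import Groth.Agent.Lib.helper19.CyclicTensor
import Groth.Agent.Lib.helper19.CyclicMatrix
import Groth.Agent.Lib.helper19.CyclicNorm
import Groth.Agent.Lib.helper19.TensorPow
import Groth.Agent.Lib.helper19.BrauerEq

/-!
# Tensor powers of a cyclic algebra: `A^{⊗e} ~ (K, σ, b^e)`
-/

set_option autoImplicit false

universe u v w

namespace Groth.Agent.Lib.helper19.Cyc

open TensorProduct Matrix CSA

variable {k : Type u} [Field k] {K : Type v} [Field K] [Algebra k K]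
variable {A : Type w} [Ring A] [Algebra k A]
variable [FiniteDimensional k K] [IsGalois k K] (σ : K ≃ₐ[k] K)

theorem brEq_self_matrix (r : ℕ) (hr : r ≠ 0) : BrEq k k (Matrix (Fin r) (Fin r) k) :=
  ⟨1 * r, 1, Nat.mul_ne_zero one_ne_zero hr, one_ne_zero,
    ⟨(reindexAlgEquiv k k finProdFinEquiv).symm.trans (compAlgEquiv _ _ _ _).symm⟩⟩

theorem tpow_brEq (hσ : ∀ τ : K ≃ₐ[k] K, τ ∈ Subgroup.zpowers σ) (b : kˣ)
    (hA : CSAGal.IsCyclicAlg k K σ b A) (e : ℕ) :
    ∀ (C : Type v) [Ring C] [Algebra k C], CSAGal.IsCyclicAlg k K σ (b ^ e) C →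
      BrEq k (TPow.tp k A e) C := by
  induction e with
  | zero =>
    intro C _ _ hC
    have hs : Curves.Splits k C k := splits_of_norm σ hσ (b ^ 0) hC 1 (by simp)
    obtain ⟨r, hr, ⟨φ⟩⟩ := hs
    let ψ : C ≃ₐ[k] Matrix (Fin r) (Fin r) k := (Algebra.TensorProduct.lid k C).symm.trans φ
    exact (BrEq.of_algEquiv (TPow.zeroEquiv k A)).trans
      ((brEq_self_matrix r hr).trans (BrEq.of_algEquiv ψ.symm))
  | succ e ih =>
    intro C _ _ hC
    have hCe := CycM.isCyclicAlg_BB σ hσ (b ^ e)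
    have h1 := ih _ hCe
    have h2 := h1.tensor_left A
    rw [pow_succ'] at hC
    have h3 : BrEq k (A ⊗[k] _) C := CycT.tensor_brauerEquivalent σ hσ b (b ^ e) hA hCe hC
    exact (BrEq.of_algEquiv (TPow.succEquiv k A e)).trans (h2.trans h3)

theorem splits_tpow_iff (hσ : ∀ τ : K ≃ₐ[k] K, τ ∈ Subgroup.zpowers σ) (b : kˣ)
    (hA : CSAGal.IsCyclicAlg k K σ b A) (e : ℕ) :
    Curves.Splits k (TPow.tp k A e) k ↔ ∃ x : K, Algebra.norm k x = (b : k) ^ e := by
  have hCe := CycM.isCyclicAlg_BB σ hσ (b ^ e)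
  have hBr := tpow_brEq σ hσ b hA e _ hCe
  constructor
  · intro hs
    obtain ⟨x, hx⟩ := norm_of_splits σ hσ (b ^ e) hCe (hBr.symm.splits hs)
    exact ⟨x, by rw [hx, Units.val_pow_eq_pow_val]⟩
  · rintro ⟨x, hx⟩
    exact hBr.splits (splits_of_norm σ hσ (b ^ e) hCe x (by rw [hx, Units.val_pow_eq_pow_val]))

end Groth.Agent.Lib.helper19.Cyc
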