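import Mathlib
import Groth.Agent.Lib.lead.SmoothRelDim

set_option autoImplicit false
set_option linter.style.haveILetI false
universe u
open CategoryTheory CategoryTheory.Limits AlgebraicGeometry Topology TopologicalSpace

namespace Groth.Agent.Lib.Helper19.Diag1

open Groth.Agent.Lib.lead Groth.Agent.Lib.Helper18 Groth.Agent.Lib.Helper3 Groth.Agent.Lib.Helper7

/-- fibre dimension from an étale chart over a polynomial ring. -/
theorem fibreDimAt_of_etale_fin {A B : Type u} [CommRing A] [CommRing B]
    (φ : A →+* B) (n : ℕ) (g : MvPolynomial (Fin n) A →+* B)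
    (hg : g.comp (algebraMap A (MvPolynomial (Fin n) A)) = φ) (hge : g.Etale)
    (w : ↥(Spec (CommRingCat.of B))) :
    FlatMor.fibreDimAt (Spec.map (CommRingCat.ofHom φ)) w = (n : WithBot ℕ∞) := by
  have e : CommRingCat.ofHom φ =
      CommRingCat.ofHom (algebraMap A (MvPolynomial (Fin n) A)) ≫ CommRingCat.ofHom g := by
    rw [← CommRingCat.ofHom_comp, hg]
  haveI hE : Etale (Spec.map (CommRingCat.ofHom g)) :=
    (HasRingHomProperty.Spec_iff (P := @Etale)).2 hge
  haveI := SmoothRelDim.lft_SpecMap_C A n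
  haveI : LocallyOfFiniteType (Spec.map (CommRingCat.ofHom g)) := inferInstance
  haveI : Flat (Spec.map (CommRingCat.ofHom g)) := inferInstance
  haveI := Groth.Agent.Lib.Helper3.locallyQuasiFinite_of_etale (Spec.map (CommRingCat.ofHom g))
  rw [e, Spec.map_comp,
    (FibreDimComp.S9354 (Spec.map (CommRingCat.ofHom g))
      (Spec.map (CommRingCat.ofHom (algebraMap A (MvPolynomial (Fin n) A)))) w).2
      (Flat.stalkMap _ w), SmoothRelDim.fibreDimAt_affineSpace,
    (QFRelDim.quasiFiniteAt_iff_fibreDimAt_eq_zero _ w).1 (Scheme.Hom.quasiFiniteAt _ w), zero_add]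

/-- fibre dimension from an étale chart over a polynomial ring in `Fin m ⊕ Fin n` variables. -/
theorem fibreDimAt_of_etale_sum {A B : Type u} [CommRing A] [CommRing B]
    (φ : A →+* B) (m n : ℕ) (a : Fin m ⊕ Fin n → B)
    (hge : (MvPolynomial.eval₂Hom φ a).Etale)
    (w : ↥(Spec (CommRingCat.of B))) :
    FlatMor.fibreDimAt (Spec.map (CommRingCat.ofHom φ)) w = ((m + n : ℕ) : WithBot ℕ∞) := by
  refine fibreDimAt_of_etale_fin φ (m + n)
    ((MvPolynomial.eval₂Hom φ a).comp
      (MvPolynomial.renameEquiv A finSumFinEquiv.symm).toAlgHom.toRingHom) ?_ ?_ w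
  · ext x
    simp
  · refine RingHom.Etale.stableUnderComposition _ _ ?_ hge
    exact RingHom.Etale.of_bijective (MvPolynomial.renameEquiv A finSumFinEquiv.symm).bijective

end Groth.Agent.Lib.Helper19.Diag1
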