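import Mathlib

set_option autoImplicit false
universe u
open TensorProduct KaehlerDifferential

namespace Groth.Agent.Lib.Helper19.Diag2

variable {R A B : Type u} [CommRing R] [CommRing A] [CommRing B]
  [Algebra R A] [Algebra R B] [Algebra A B] [IsScalarTower R A B]

/-- `1 ⊗ D c` for `c` in the ideal generated by `b` lies in the span of the `1 ⊗ D (b j)`,
provided the ideal maps to zero in `B`. -/
theorem tmul_D_mem_span {τ : Type*} (b : τ → A)
    (hb : ∀ j, algebraMap A B (b j) = 0) (c : A) (hc : c ∈ Ideal.span (Set.range b)) :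
    (1 : B) ⊗ₜ[A] D R A c ∈ Submodule.span B
      (Set.range fun j => (1 : B) ⊗ₜ[A] D R A (b j)) := by
  induction hc using Submodule.span_induction with
  | mem x hx =>
    obtain ⟨j, rfl⟩ := hx
    exact Submodule.subset_span ⟨j, rfl⟩
  | zero => simp
  | add x y _ _ hx hy =>
    rw [map_add, TensorProduct.tmul_add]
    exact Submodule.add_mem _ hx hy
  | smul r x hx ih =>
    have hx0 : algebraMap A B x = 0 := by
      have : Ideal.span (Set.range b) ≤ RingHom.ker (algebraMap A B) := by
        rw [Ideal.span_le]
        rintro _ ⟨j, rfl⟩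
        exact hb j
      exact this hx
    rw [smul_eq_mul, Derivation.leibniz, TensorProduct.tmul_add, TensorProduct.tmul_smul,
      TensorProduct.tmul_smul, ← algebraMap_smul B r, ← algebraMap_smul B x, hx0, zero_smul,
      add_zero]
    exact Submodule.smul_mem _ _ ih

theorem span_tmul_D_eq_top [Algebra.FormallyUnramified R B]
    (hs : Function.Surjective (algebraMap A B)) {τ : Type*} (b : τ → A)
    (hker : RingHom.ker (algebraMap A B) = Ideal.span (Set.range b)) :
    Submodule.span B (Set.range fun j => (1 : B) ⊗ₜ[A] D R A (b j)) = ⊤ := by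
  rw [eq_top_iff]
  intro t _
  have hex := KaehlerDifferential.exact_kerCotangentToTensor_mapBaseChange R A B hs
  have h0 : KaehlerDifferential.mapBaseChange R A B t = 0 := Subsingleton.elim _ _
  obtain ⟨c, rfl⟩ := (hex t).mp h0
  obtain ⟨c, rfl⟩ := Ideal.toCotangent_surjective _ c
  rw [KaehlerDifferential.kerCotangentToTensor_toCotangent]
  refine tmul_D_mem_span b ?_ c.1 (hker ▸ c.2)
  intro j
  have : b j ∈ RingHom.ker (algebraMap A B) := by
    rw [hker]; exact Ideal.subset_span ⟨j, rfl⟩
  exact this

end Groth.Agent.Lib.Helper19.Diag2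

namespace Groth.Agent.Lib.Helper19.Diag2

variable {R A B : Type u} [CommRing R] [CommRing A] [CommRing B]
  [Algebra R A] [Algebra R B] [Algebra A B] [IsScalarTower R A B]

theorem linearIndependent_tmul_D {σ : Type} (x : σ → A)
    (hét : (MvPolynomial.eval₂Hom (algebraMap R A) x).Etale) :
    LinearIndependent B (fun s => (1 : B) ⊗ₜ[A] D R A (x s)) := by
  letI algP : Algebra (MvPolynomial σ R) A := (MvPolynomial.eval₂Hom (algebraMap R A) x).toAlgebra
  haveI : IsScalarTower R (MvPolynomial σ R) A := by
    apply IsScalarTower.of_algebraMap_eq'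
    ext r
    simp [RingHom.algebraMap_toAlgebra]
  haveI : Algebra.Etale (MvPolynomial σ R) A := hét
  let b0 := KaehlerDifferential.mvPolynomialBasis R σ
  let b1 : Module.Basis σ A Ω[A⁄R] :=
    (b0.baseChange A).map (tensorKaehlerEquivOfFormallyEtale R (MvPolynomial σ R) A)
  let b2 : Module.Basis σ B (B ⊗[A] Ω[A⁄R]) := b1.baseChange B
  have h1 : ∀ s, b1 s = D R A (x s) := by
    intro s
    simp only [b1, b0, Module.Basis.map_apply, Module.Basis.baseChange_apply,
      KaehlerDifferential.mvPolynomialBasis_apply,
      tensorKaehlerEquivOfFormallyEtale_apply, mapBaseChange_tmul, one_smul, map_D]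
    congr 1
    simp [RingHom.algebraMap_toAlgebra]
  have h2 : (fun s => (1 : B) ⊗ₜ[A] D R A (x s)) = b2 := by
    funext s
    simp only [b2, Module.Basis.baseChange_apply, h1]
  rw [h2]
  exact b2.linearIndependent

/-- If `R[σ ⊕ τ] → A` is étale, `A → B` is surjective with kernel generated by the `τ`-coordinates
and `B` is nonzero and unramified over `R`, then `σ` is empty. -/
theorem isEmpty_of_unramified [Nontrivial B] [Algebra.FormallyUnramified R B]
    (hs : Function.Surjective (algebraMap A B)) {σ τ : Type} (a : σ → A) (b : τ → A)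
    (hét : (MvPolynomial.eval₂Hom (algebraMap R A) (Sum.elim a b)).Etale)
    (hker : RingHom.ker (algebraMap A B) = Ideal.span (Set.range b)) : IsEmpty σ := by
  refine ⟨fun i => ?_⟩
  have hli := linearIndependent_tmul_D (B := B) (Sum.elim a b) hét
  have htop := span_tmul_D_eq_top (R := R) hs b hker
  have h1 := hli.notMem_span_image (s := Set.range Sum.inr) (x := Sum.inl i) (by simp)
  apply h1
  have : ((fun s => (1 : B) ⊗ₜ[A] D R A (Sum.elim a b s)) '' Set.range Sum.inr) =
      Set.range fun j => (1 : B) ⊗ₜ[A] D R A (b j) := by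
    ext t
    simp
  rw [this, htop]
  trivial

end Groth.Agent.Lib.Helper19.Diag2
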