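import Mathlib
import Groth.Prelude.Def_RegImm
import Groth.Agent.Lib.lead.SmoothRelDim
import Groth.Agent.Lib.lead.IrredFibresTop
import Groth.Agent.Lib.helper19.Adapt8
import Groth.Agent.Lib.helper19.Diag1
import Groth.Agent.Lib.helper19.Diag2

set_option autoImplicit false
set_option linter.style.haveILetI false
universe u
open CategoryTheory CategoryTheory.Limits AlgebraicGeometry Topology TopologicalSpace

namespace Groth.Agent.Lib.Helper19.Diag3

open Groth.Agent.Lib.lead Groth.Agent.Lib.Helper18 Groth.Agent.Lib.Helper19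

/-- the count: in an adapted chart for a section of a smooth morphism over an integral
variety. -/
theorem count {S X : Scheme.{u}} (pX : X ⟶ S) [Smooth pX] (i : S ⟶ X) [IsClosedImmersion i]
    (hi : i ≫ pX = 𝟙 S) (z : S)
    (V : S.Opens) (U : X.Opens) (hV : IsAffineOpen V) (hU : IsAffineOpen U) (e : U ≤ pX ⁻¹ᵁ V)
    (m n : ℕ) (a : Fin m → Γ(X, U)) (b : Fin n → Γ(X, U))
    (hz : i z ∈ U) (hker : i.ker.ideal ⟨U, hU⟩ = Ideal.span (Set.range b))
    (hét : (MvPolynomial.eval₂Hom (pX.appLE V U e).hom (Sum.elim a b)).Etale) :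
    FlatMor.fibreDimAt pX (i z) = (n : WithBot ℕ∞) := by
  -- m = 0
  have hW : IsAffineOpen (i ⁻¹ᵁ U) := hU.preimage i
  have eY : i ⁻¹ᵁ U ≤ (i ≫ pX) ⁻¹ᵁ V := fun z hz => e hz
  letI algA : Algebra Γ(S, V) Γ(X, U) := (pX.appLE V U e).hom.toAlgebra
  letI algB : Algebra Γ(X, U) Γ(S, i ⁻¹ᵁ U) := (i.app U).hom.toAlgebra
  letI algkB : Algebra Γ(S, V) Γ(S, i ⁻¹ᵁ U) := ((i ≫ pX).appLE V (i ⁻¹ᵁ U) eY).hom.toAlgebra
  haveI : IsScalarTower Γ(S, V) Γ(X, U) Γ(S, i ⁻¹ᵁ U) := by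
    apply IsScalarTower.of_algebraMap_eq'
    simp only [RingHom.algebraMap_toAlgebra]
    rw [← CommRingCat.hom_comp]
    congr 1
    rw [Scheme.Hom.app_eq_appLE, Scheme.Hom.appLE_comp_appLE]
  haveI hE : Etale (i ≫ pX) := by rw [hi]; infer_instance
  haveI : Algebra.Etale Γ(S, V) Γ(S, i ⁻¹ᵁ U) :=
    HasRingHomProperty.appLE @Etale (i ≫ pX) inferInstance ⟨V, hV⟩ ⟨i ⁻¹ᵁ U, hW⟩ eY
  haveI : Nontrivial Γ(S, i ⁻¹ᵁ U) := by
    by_contra hnt
    rw [not_nontrivial_iff_subsingleton] at hnt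
    have h5 := Adapt8.eq_bot_of_subsingleton (i ⁻¹ᵁ U) hnt
    have h6 : z ∈ i ⁻¹ᵁ U := hz
    rw [h5] at h6
    exact h6
  have hsurj : Function.Surjective (algebraMap Γ(X, U) Γ(S, i ⁻¹ᵁ U)) :=
    i.app_surjective U hU
  have hker' : RingHom.ker (algebraMap Γ(X, U) Γ(S, i ⁻¹ᵁ U)) = Ideal.span (Set.range b) := by
    rw [← hker, Scheme.Hom.ker_apply]
    rfl
  haveI hm : IsEmpty (Fin m) :=
    Diag2.isEmpty_of_unramified (R := Γ(S, V)) hsurj a b hét hker'
  have hm0 : m = 0 := by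
    rcases Nat.eq_zero_or_pos m with h | h
    · exact h
    · exact (hm.false ⟨0, h⟩).elim
  -- fibre dimension via the chart
  haveI : LocallyOfFiniteType pX := inferInstance
  have hxr : i z ∈ Set.range hU.fromSpec := by rw [hU.range_fromSpec]; exact hz
  obtain ⟨w, hw⟩ := hxr
  have comm := IsAffineOpen.SpecMap_appLE_fromSpec pX hV hU e
  have hfp : (pX.appLE V U e).hom.FinitePresentation :=
    HasRingHomProperty.appLE (P := @LocallyOfFinitePresentation) pX inferInstance ⟨V, hV⟩ ⟨U, hU⟩ e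
  haveI : LocallyOfFiniteType (Spec.map (pX.appLE V U e)) := by
    rw [HasRingHomProperty.Spec_iff (P := @LocallyOfFiniteType)]
    exact RingHom.FiniteType.of_finitePresentation hfp
  rw [← hw, Chev.fibreDimAt_eq_of_openImmersion_square _ hV.fromSpec hU.fromSpec pX comm w]
  have := Diag1.fibreDimAt_of_etale_sum (pX.appLE V U e).hom m n (Sum.elim a b) hét w
  rw [hm0, zero_add] at this
  exact this

end Groth.Agent.Lib.Helper19.Diag3
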