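import Mathlib
import Groth.Prelude.Def_RegImm
import Groth.Agent.Lib.helper19.Diag3

set_option autoImplicit false
set_option linter.style.haveILetI false
universe u
open CategoryTheory CategoryTheory.Limits AlgebraicGeometry Topology TopologicalSpace

namespace Groth.Agent.Lib.Helper19.Diag4

open Groth.Agent.Lib.lead Groth.Agent.Lib.Helper18 Groth.Agent.Lib.Helper19

/-- A section `i` of a smooth morphism `pX`, with constant fibre dimension `n` along the section,
is a regular immersion of codimension `n`. -/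
theorem section_regular {S X : Scheme.{u}} (pX : X ⟶ S) [Smooth pX] (i : S ⟶ X)
    [IsClosedImmersion i] (hi : i ≫ pX = 𝟙 S) (n : ℕ)
    (hn : ∀ z : S, FlatMor.fibreDimAt pX (i z) = (n : WithBot ℕ∞)) :
    RegImm.IsRegularImmersionOfCodim RegImm.Kind.regular n i := by
  refine ⟨inferInstance, fun z => ?_⟩
  haveI : Smooth (i ≫ pX) := by rw [hi]; infer_instance
  obtain ⟨V, U, hV, hU, e, m, n', a, b, hx, hker, hét⟩ := Adapt7.exists_adapted_chart pX i z
  have hcount := Diag3.count pX i hi z V U hV hU e m n' a b hx hker hét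
  rw [hn z] at hcount
  have hnn : n' = n := by exact_mod_cast hcount.symm
  subst hnn
  refine ⟨⟨U, hU⟩, hx, inferInstance, List.ofFn b, by simp, ?_, ?_⟩
  · show RingTheory.Sequence.IsRegular Γ(X, U) (List.ofFn b)
    have hof : Ideal.ofList (List.ofFn b) = Ideal.span (Set.range b) := by
      unfold Ideal.ofList
      congr 1
      ext r
      simp [List.mem_ofFn]
    letI alg : Algebra (MvPolynomial (Fin m ⊕ Fin n') Γ(S, V)) Γ(X, U) :=
      (MvPolynomial.eval₂Hom (pX.appLE V U e).hom (Sum.elim a b)).toAlgebra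
    haveI : Module.Flat (MvPolynomial (Fin m ⊕ Fin n') Γ(S, V)) Γ(X, U) :=
      (RingHom.Etale.iff_flat_and_formallyUnramified.mp hét).1
    have h1 := (Adapt6.isWeaklyRegular_X_inr Γ(S, V) m n').of_flat (S := Γ(X, U))
    have h2 : (List.ofFn fun l : Fin n' =>
        (MvPolynomial.X (Sum.inr l) : MvPolynomial (Fin m ⊕ Fin n') Γ(S, V))).map
          (algebraMap (MvPolynomial (Fin m ⊕ Fin n') Γ(S, V)) Γ(X, U)) = List.ofFn b := by
      rw [List.map_ofFn]
      congr 1
      funext l
      simp [RingHom.algebraMap_toAlgebra]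
    rw [h2] at h1
    refine ⟨h1, ?_⟩
    rw [Ideal.smul_eq_mul, Ideal.mul_top, hof, ← hker, Scheme.Hom.ker_apply]
    intro htop
    have h3 : (1 : Γ(X, U)) ∈ RingHom.ker (i.app U).hom := by rw [← htop]; trivial
    rw [RingHom.mem_ker, map_one] at h3
    have h4 : Subsingleton Γ(S, i ⁻¹ᵁ U) := subsingleton_of_zero_eq_one h3.symm
    have h5 := Adapt8.eq_bot_of_subsingleton (i ⁻¹ᵁ U) h4
    have h6 : z ∈ i ⁻¹ᵁ U := hx
    rw [h5] at h6
    exact h6
  · rw [← Scheme.Hom.ker_apply, hker]
    unfold Ideal.ofList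
    congr 1
    ext r
    simp [List.mem_ofFn]

theorem main (K : Type u) [Field K] (X : Scheme.{u}) (f : X ⟶ Spec (CommRingCat.of K))
    [Smooth f] [IsSeparated f] [IsIntegral X] (n : ℕ) (hn : topologicalKrullDim X = n) :
    RegImm.IsRegularImmersionOfCodim RegImm.Kind.regular n (pullback.diagonal f) := by
  haveI : IsClosedImmersion (pullback.diagonal f) := IsSeparated.diagonal_isClosedImmersion
  refine section_regular (pullback.snd f f) (pullback.diagonal f) (pullback.diagonal_snd f) n ?_
  intro z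
  haveI : LocallyOfFiniteType f := inferInstance
  rw [FibreDimBCLocal.fibreDimAt_baseChange f f (pullback.fst f f) (pullback.snd f f)
    (IsPullback.of_hasPullback f f) (pullback.diagonal f z)]
  have h1 : pullback.fst f f (pullback.diagonal f z) = z := by
    rw [← Scheme.Hom.comp_apply, pullback.diagonal_fst]
    rfl
  rw [h1, SmoothRelDim.fibreDimAt_over_field (Field.toIsField K) f z]
  letI : X.Over (Spec (CommRingCat.of K)) := ⟨f⟩
  haveI : LocallyOfFiniteType (X ↘ Spec (CommRingCat.of K)) := ‹LocallyOfFiniteType f›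
  rw [IrredFibresTop.localDim_eq_dim K X z, hn]

end Groth.Agent.Lib.Helper19.Diag4
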