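import Mathlib

set_option autoImplicit false
universe u
open TensorProduct KaehlerDifferential

namespace Groth.Agent.Lib.Helper19.DiffAlg

section ext

variable {A B B' M : Type u} [CommRing A] [CommRing B] [CommRing B'] [Algebra A B] [Algebra B B']
  [AddCommMonoid M]

/-- additive maps out of `B' ⊗[B] Ω[B⁄A]` are determined by their values on the `b' ⊗ D s`. -/
theorem addHom_ext (α β : B' ⊗[B] Ω[B⁄A] →+ M)
    (h : ∀ (b' : B') (s : B), α (b' ⊗ₜ[B] D A B s) = β (b' ⊗ₜ[B] D A B s)) (z : B' ⊗[B] Ω[B⁄A]) :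
    α z = β z := by
  induction z using TensorProduct.induction_on with
  | zero => rw [map_zero, map_zero]
  | add x y hx hy => rw [map_add, map_add, hx, hy]
  | tmul b' ω =>
    have hω : ω ∈ Submodule.span B (Set.range (D A B)) := by
      rw [span_range_derivation]; trivial
    revert b'
    induction hω using Submodule.span_induction with
    | mem y hy =>
      obtain ⟨s, rfl⟩ := hy
      exact fun b' => h b' s
    | zero => intro b'; rw [tmul_zero, map_zero, map_zero]
    | add y z _ _ hy hz => intro b'; rw [tmul_add, map_add, map_add, hy, hz]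
    | smul b y _ hy =>
      intro b'
      have : b' ⊗ₜ[B] (b • y) = (b • b') ⊗ₜ[B] y := (TensorProduct.smul_tmul _ _ _).symm
      rw [this]
      exact hy _

end ext

section tower

variable {A B B' : Type u} [CommRing A] [CommRing B] [CommRing B'] [Algebra A B] [Algebra B B']
  [Algebra A B'] [IsScalarTower A B B']
  (L : B' ⊗[B] Ω[B⁄A] →+ Ω[B'⁄A])
  (hL : ∀ (b' : B') (s : B), L (b' ⊗ₜ[B] D A B s) = b' • D A B' (algebraMap B B' s))

include hL in
theorem L_eq_mapBaseChange (z : B' ⊗[B] Ω[B⁄A]) : L z = mapBaseChange A B B' z := by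
  refine addHom_ext L (mapBaseChange A B B').toAddMonoidHom (fun b' s => ?_) z
  rw [hL]
  change _ = mapBaseChange A B B' (b' ⊗ₜ[B] D A B s)
  rw [mapBaseChange_tmul, map_D]

include hL in
theorem surjective_iff_formallyUnramified :
    Function.Surjective L ↔ Algebra.FormallyUnramified B B' := by
  have hfun : (L : B' ⊗[B] Ω[B⁄A] → Ω[B'⁄A]) = mapBaseChange A B B' :=
    funext (L_eq_mapBaseChange L hL)
  rw [hfun, Algebra.formallyUnramified_iff]
  have hex := exact_mapBaseChange_map A B B'
  have hsurj := map_surjective A B B'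
  constructor
  · intro h
    refine ⟨fun x y => ?_⟩
    obtain ⟨x', rfl⟩ := hsurj x
    obtain ⟨y', rfl⟩ := hsurj y
    obtain ⟨x'', rfl⟩ := h x'
    obtain ⟨y'', rfl⟩ := h y'
    rw [(hex _).2 ⟨x'', rfl⟩, (hex _).2 ⟨y'', rfl⟩]
  · intro h x
    exact (hex x).1 (Subsingleton.elim _ _)

include hL in
theorem injective_of_formallySmooth [Algebra.FormallySmooth B B'] : Function.Injective L := by
  have hfun : (L : B' ⊗[B] Ω[B⁄A] → Ω[B'⁄A]) = mapBaseChange A B B' :=
    funext (L_eq_mapBaseChange L hL)
  rw [hfun, injective_iff_map_eq_zero]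
  intro x hx
  obtain ⟨x, rfl⟩ := (Algebra.H1Cotangent.exact_δ_mapBaseChange A B B' x).mp hx
  rw [Subsingleton.elim x 0, map_zero]

end tower

section square

variable {A B A' B' : Type u} [CommRing A] [CommRing B] [CommRing A'] [CommRing B']
  [Algebra A B] [Algebra A' B'] [Algebra A A'] [Algebra B B'] [Algebra A B']
  [IsScalarTower A B B'] [IsScalarTower A A' B']
  (L : B' ⊗[B] Ω[B⁄A] →+ Ω[B'⁄A'])
  (hL : ∀ (b' : B') (s : B), L (b' ⊗ₜ[B] D A B s) = b' • D A' B' (algebraMap B B' s))

include hL in
theorem L_eq_comp (z : B' ⊗[B] Ω[B⁄A]) :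
    L z = KaehlerDifferential.map A A' B' B' (mapBaseChange A B B' z) := by
  refine addHom_ext L ((KaehlerDifferential.map A A' B' B').toAddMonoidHom.comp
    (mapBaseChange A B B').toAddMonoidHom) (fun b' s => ?_) z
  rw [hL]
  change _ = KaehlerDifferential.map A A' B' B' (mapBaseChange A B B' (b' ⊗ₜ[B] D A B s))
  rw [mapBaseChange_tmul, map_D, map_smul, map_D]
  rfl

include hL in
theorem bijective_of_formallyEtale [Algebra.FormallyUnramified A A'] [Algebra.FormallyEtale B B'] :
    Function.Bijective L := by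
  have hfun : (L : B' ⊗[B] Ω[B⁄A] → Ω[B'⁄A']) =
      KaehlerDifferential.map A A' B' B' ∘ mapBaseChange A B B' := funext (L_eq_comp L hL)
  rw [hfun]
  refine Function.Bijective.comp ⟨?_, map_surjective A A' B'⟩
    (tensorKaehlerEquivOfFormallyEtale A B B').bijective
  rw [injective_iff_map_eq_zero]
  intro x hx
  obtain ⟨y, rfl⟩ := (exact_mapBaseChange_map A A' B' x).1 hx
  have key : ∀ y : B' ⊗[A'] Ω[A'⁄A], y = 0 := by
    intro y
    induction y using TensorProduct.induction_on with
    | zero => rfl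
    | tmul b' ω => rw [Subsingleton.elim ω 0, tmul_zero]
    | add x y hx hy => rw [hx, hy, add_zero]
  rw [key y, map_zero]

include hL in
theorem bijective_of_isPushout [Algebra.IsPushout A A' B B'] : Function.Bijective L := by
  have hfun : (L : B' ⊗[B] Ω[B⁄A] → Ω[B'⁄A']) = tensorKaehlerEquiv A A' B B' := by
    funext z
    refine addHom_ext L (tensorKaehlerEquiv A A' B B').toLinearMap.toAddMonoidHom (fun b' s => ?_) z
    rw [hL]
    exact (tensorKaehlerEquiv_tmul_D A A' B B' b' s).symm
  rw [hfun]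
  exact (tensorKaehlerEquiv A A' B B').bijective

end square

end Groth.Agent.Lib.Helper19.DiffAlg
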