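import Groth.Agent.Lib.helper19.DiffChart2

set_option autoImplicit false
universe u
open CategoryTheory CategoryTheory.Limits AlgebraicGeometry Opposite TensorProduct

namespace Groth.Agent.Lib.Helper19.DiffApps

open Groth.Agent.Lib.Helper19.RestrUniv Groth.Agent.Lib.Helper29 Groth.Agent.Lib.Helper29.OmegaLoc
open Groth.Agent.Lib.Helper19.DiffChart Groth.Agent.Lib.Helper19.DiffChart2

/-- S9776. -/
theorem isIso_of_etale_etale {X₁ S₁ X₂ S₂ : Scheme.{u}} (p₁ : X₁ ⟶ S₁) (p₂ : X₂ ⟶ S₂) (f : X₂ ⟶ X₁)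
    (g : S₂ ⟶ S₁) [Etale f] [Etale g] (hsq : f ≫ p₁ = p₂ ≫ g)
    (Ω₁ : X₁.Modules) (d₁ : OmegaSh.Der p₁ Ω₁) (hd₁ : OmegaSh.IsUniversal d₁)
    (Ω₂ : X₂.Modules) (d₂ : OmegaSh.Der p₂ Ω₂) (hd₂ : OmegaSh.IsUniversal d₂)
    (c : (Scheme.Modules.pullback f).obj Ω₁ ⟶ Ω₂) (hc : OmegaSh.IsDiffCompat f d₁ d₂ c) : IsIso c := by
  refine isIso_of_charts p₁ p₂ f g d₁ hd₁ d₂ hd₂ c hc ?_ hsq.symm
  intro C
  letI iAB := alg p₁ C.eWV
  letI iA'B' := alg p₂ C.eWV'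
  letI iBB' := (f.appLE C.W C.W' C.hle).hom.toAlgebra
  letI iAA' : Algebra Γ(S₁, C.V) Γ(S₂, C.V') := (g.appLE C.V C.V' C.hVV).hom.toAlgebra
  letI iAB' : Algebra Γ(S₁, C.V) Γ(X₂, C.W') :=
    ((algebraMap Γ(X₁, C.W) Γ(X₂, C.W')).comp (algebraMap Γ(S₁, C.V) Γ(X₁, C.W))).toAlgebra
  haveI : IsScalarTower Γ(S₁, C.V) Γ(X₁, C.W) Γ(X₂, C.W') :=
    IsScalarTower.of_algebraMap_eq (fun _ => rfl)
  haveI : IsScalarTower Γ(S₁, C.V) Γ(S₂, C.V') Γ(X₂, C.W') :=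
    IsScalarTower.of_algebraMap_eq (fun a => Chart.comm p₁ p₂ f g hsq.symm C a)
  haveI : Algebra.FormallyUnramified Γ(S₁, C.V) Γ(S₂, C.V') := by
    have h1 : (g.appLE C.V C.V' C.hVV).hom.Etale :=
      HasRingHomProperty.appLE (P := @Etale) g inferInstance ⟨C.V, C.hV⟩ ⟨C.V', C.hV'⟩ C.hVV
    have h2 : Algebra.Etale Γ(S₁, C.V) Γ(S₂, C.V') := h1
    haveI := h2.formallyEtale
    infer_instance
  haveI : Algebra.FormallyEtale Γ(X₁, C.W) Γ(X₂, C.W') := by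
    have h1 : (f.appLE C.W C.W' C.hle).hom.Etale :=
      HasRingHomProperty.appLE (P := @Etale) f inferInstance ⟨C.W, C.hW⟩ ⟨C.W', C.hW'⟩ C.hle
    have h2 : Algebra.Etale Γ(X₁, C.W) Γ(X₂, C.W') := h1
    exact h2.formallyEtale
  intro L hL
  exact Groth.Agent.Lib.Helper19.DiffAlg.bijective_of_formallyEtale L hL

end Groth.Agent.Lib.Helper19.DiffApps
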