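import Groth.Agent.Lib.helper19.DiffChart3
import Groth.Agent.Lib.helper19.DiffAlg

set_option autoImplicit false
universe u
open CategoryTheory CategoryTheory.Limits AlgebraicGeometry Opposite TensorProduct

namespace Groth.Agent.Lib.Helper19.DiffApps2

open Groth.Agent.Lib.Helper19.RestrUniv Groth.Agent.Lib.Helper29 Groth.Agent.Lib.Helper29.OmegaLoc
open Groth.Agent.Lib.Helper19.DiffChart Groth.Agent.Lib.Helper19.DiffChart2
  Groth.Agent.Lib.Helper19.DiffChart3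

section bc

variable {X S X' S' : Scheme.{u}} (f : X ⟶ S) (g : S' ⟶ S) (g' : X' ⟶ X) (f' : X' ⟶ S')
  (H : IsPullback g' f' f g)

include H in
theorem isAffineOpen_product {W : X.Opens} (hW : IsAffineOpen W) {V : S.Opens} (hV : IsAffineOpen V)
    {V' : S'.Opens} (hV' : IsAffineOpen V') (eWV : W ≤ f ⁻¹ᵁ V) (hVV : V' ≤ g ⁻¹ᵁ V) :
    IsAffineOpen (g' ⁻¹ᵁ W ⊓ f' ⁻¹ᵁ V') := by
  haveI : IsAffine (V : Scheme.{u}) := hV
  haveI : IsAffine (V' : Scheme.{u}) := hV'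
  haveI : IsAffine (W : Scheme.{u}) := hW
  exact .of_isIso (Scheme.Hom.isPullback_resLE H hVV eWV rfl).isoPullback.hom

include H in
theorem exists_product_chart (x' : X') :
    ∃ C : Chart f f' g' g, C.W' = g' ⁻¹ᵁ C.W ⊓ f' ⁻¹ᵁ C.V' ∧ x' ∈ C.W' := by
  obtain ⟨V, hV, hxV, -⟩ := TopologicalSpace.Opens.isBasis_iff_nbhd.mp S.isBasis_affineOpens
    (TopologicalSpace.Opens.mem_top (f (g' x')))
  obtain ⟨W, hW, hxW, hWV⟩ := TopologicalSpace.Opens.isBasis_iff_nbhd.mp X.isBasis_affineOpens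
    (show g' x' ∈ f ⁻¹ᵁ V from hxV)
  have hb : f' x' ∈ g ⁻¹ᵁ V := by
    change g (f' x') ∈ V
    rw [← Scheme.Hom.comp_apply, ← H.w, Scheme.Hom.comp_apply]
    exact hxV
  obtain ⟨V', hV', hxV', hVV⟩ := TopologicalSpace.Opens.isBasis_iff_nbhd.mp S'.isBasis_affineOpens hb
  exact ⟨⟨W, V, g' ⁻¹ᵁ W ⊓ f' ⁻¹ᵁ V', V', hW, hV, isAffineOpen_product f g g' f' H hW hV hV' hWV hVV,
    hV', hWV, inf_le_right, inf_le_left, hVV⟩, rfl, ⟨hxW, hxV'⟩⟩

include H in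
/-- S9386. -/
theorem isIso_of_isPullback
    (Ω : X.Modules) (d : OmegaSh.Der f Ω) (hd : OmegaSh.IsUniversal d)
    (Ω' : X'.Modules) (d' : OmegaSh.Der f' Ω') (hd' : OmegaSh.IsUniversal d')
    (c : (Scheme.Modules.pullback g').obj Ω ⟶ Ω') (hc : OmegaSh.IsDiffCompat g' d d' c) : IsIso c := by
  refine isIso_of_chart_family f f' g' g d hd d' hd' c hc
    (fun C : {C : Chart f f' g' g // C.W' = g' ⁻¹ᵁ C.W ⊓ f' ⁻¹ᵁ C.V'} => C.1)
    (fun x' => by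
      obtain ⟨C, hC, hx⟩ := exists_product_chart f g g' f' H x'
      exact ⟨⟨C, hC⟩, hx⟩) ?_
  rintro ⟨C, hC⟩
  letI iAB := alg f C.eWV
  letI iA'B' := alg f' C.eWV'
  letI iBB' := (g'.appLE C.W C.W' C.hle).hom.toAlgebra
  letI iAA' : Algebra Γ(S, C.V) Γ(S', C.V') := (g.appLE C.V C.V' C.hVV).hom.toAlgebra
  letI iAB' : Algebra Γ(S, C.V) Γ(X', C.W') :=
    ((algebraMap Γ(X, C.W) Γ(X', C.W')).comp (algebraMap Γ(S, C.V) Γ(X, C.W))).toAlgebra
  haveI : IsScalarTower Γ(S, C.V) Γ(X, C.W) Γ(X', C.W') :=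
    IsScalarTower.of_algebraMap_eq (fun _ => rfl)
  haveI : IsScalarTower Γ(S, C.V) Γ(S', C.V') Γ(X', C.W') :=
    IsScalarTower.of_algebraMap_eq (fun a => Chart.comm f f' g' g H.w.symm C a)
  have hpo : IsPushout (f.appLE C.V C.W C.eWV) (g.appLE C.V C.V' C.hVV)
      (g'.appLE C.W C.W' C.hle) (f'.appLE C.V' C.W' C.eWV') :=
    (isIso_pushoutSection_iff H C.hVV C.eWV hC).1
      (isIso_pushoutSection_of_isAffineOpen H C.hVV C.eWV hC C.hV C.hV' C.hW)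
  haveI : Algebra.IsPushout Γ(S, C.V) Γ(S', C.V') Γ(X, C.W) Γ(X', C.W') :=
    CommRingCat.isPushout_iff_isPushout.mp hpo.flip
  intro L hL
  exact Groth.Agent.Lib.Helper19.DiffAlg.bijective_of_isPushout L hL

end bc

end Groth.Agent.Lib.Helper19.DiffApps2
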