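import Groth.Agent.Lib.helper19.DiffChart3
import Groth.Agent.Lib.helper19.DiffAlg
import Groth.Agent.Lib.Helper28.EpiAffine
import Groth.Agent.S1488

set_option autoImplicit false
universe u
open CategoryTheory CategoryTheory.Limits AlgebraicGeometry Opposite TensorProduct

namespace Groth.Agent.Lib.Helper19.DiffApps3

open Groth.Agent.Lib.Helper19.RestrUniv Groth.Agent.Lib.Helper29 Groth.Agent.Lib.Helper29.OmegaLoc
open Groth.Agent.Lib.Helper19.DiffChart Groth.Agent.Lib.Helper19.DiffChart2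
  Groth.Agent.Lib.Helper19.DiffChart3 Groth.Agent.Lib.Helper28.QCohLoc

variable {X Y S : Scheme.{u}} (g : Y ⟶ S) (h : X ⟶ S) (f : X ⟶ Y) (w : f ≫ g = h)

/-- a tower chart: `V ⊆ S`, `W ⊆ Y`, `W' ⊆ X` affine with `W ≤ g⁻¹V`, `W' ≤ f⁻¹W`. -/
structure TChart where
  W : Y.Opens
  V : S.Opens
  W' : X.Opens
  hW : IsAffineOpen W
  hV : IsAffineOpen V
  hW' : IsAffineOpen W'
  eWV : W ≤ g ⁻¹ᵁ V
  hle : W' ≤ f ⁻¹ᵁ W

include w in
theorem TChart.le (T : TChart g f) : T.W' ≤ h ⁻¹ᵁ T.V := by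
  intro x hx
  change h x ∈ T.V
  rw [← w, Scheme.Hom.comp_apply]
  exact T.eWV (T.hle hx)

/-- the chart of the square `(g, h, f, 𝟙 S)` attached to a tower chart. -/
abbrev TChart.toChart (T : TChart g f) : Chart g h f (𝟙 S) :=
  ⟨T.W, T.V, T.W', T.V, T.hW, T.hV, T.hW', T.hV, T.eWV, T.le g h f w, T.hle, le_of_eq (by simp)⟩

omit h in
theorem exists_tchart_mem (x : X) : ∃ T : TChart g f, x ∈ T.W' := by
  obtain ⟨V, hV, hxV, -⟩ := TopologicalSpace.Opens.isBasis_iff_nbhd.mp S.isBasis_affineOpens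
    (TopologicalSpace.Opens.mem_top (g (f x)))
  obtain ⟨W, hW, hxW, hWV⟩ := TopologicalSpace.Opens.isBasis_iff_nbhd.mp Y.isBasis_affineOpens
    (show f x ∈ g ⁻¹ᵁ V from hxV)
  obtain ⟨W', hW', hxW', hW'le⟩ := TopologicalSpace.Opens.isBasis_iff_nbhd.mp X.isBasis_affineOpens
    (show x ∈ f ⁻¹ᵁ W from hxW)
  exact ⟨⟨W, V, W', hW, hV, hW', hWV, hW'le⟩, hxW'⟩

include w in
/-- the triangle of rings of a tower chart commutes. -/
theorem TChart.comm (T : TChart g f) (a : Γ(S, T.V)) :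
    (f.appLE T.W T.W' T.hle) ((g.appLE T.V T.W T.eWV) a) = (h.appLE T.V T.W' (T.le g h f w)) a := by
  have h1 : g.appLE T.V T.W T.eWV ≫ f.appLE T.W T.W' T.hle =
      (f ≫ g).appLE T.V T.W' (fun x hx => T.eWV (T.hle hx)) :=
    Scheme.Hom.appLE_comp_appLE f g T.V T.W T.W' T.eWV T.hle
  have h3 : (f ≫ g).appLE T.V T.W' (fun x hx => T.eWV (T.hle hx)) =
      h.appLE T.V T.W' (T.le g h f w) := OmegaSh.appLE_congr_hom w _ _
  exact congrArg (fun φ => φ.hom a) (h1.trans h3)

variable (ΩY : Y.Modules) (dY : OmegaSh.Der g ΩY) (hY : OmegaSh.IsUniversal dY)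
  (ΩX : X.Modules) (dX : OmegaSh.Der h ΩX) (hX : OmegaSh.IsUniversal dX)
  (c : (Scheme.Modules.pullback f).obj ΩY ⟶ ΩX) (hc : OmegaSh.IsDiffCompat f dY dX c)

/-- the instances for the tower of rings of a tower chart, and the reduction of the chart property to the tower
form of the algebra. -/
theorem chartProp_of_tower (Q : ∀ {α β : Type u}, (α → β) → Prop) (T : TChart g f)
    (H : letI := alg g T.eWV
      letI := alg h (T.le g h f w)
      letI := (f.appLE T.W T.W' T.hle).hom.toAlgebra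
      ∀ [IsScalarTower Γ(S, T.V) Γ(Y, T.W) Γ(X, T.W')]
        (L : (Γ(X, T.W') ⊗[Γ(Y, T.W)] Ω[Γ(Y, T.W)⁄Γ(S, T.V)]) →+ Ω[Γ(X, T.W')⁄Γ(S, T.V)]),
        (∀ (b' : Γ(X, T.W')) (s : Γ(Y, T.W)),
          L (b' ⊗ₜ[Γ(Y, T.W)] KaehlerDifferential.D Γ(S, T.V) Γ(Y, T.W) s) =
            b' • KaehlerDifferential.D Γ(S, T.V) Γ(X, T.W') (algebraMap Γ(Y, T.W) Γ(X, T.W') s)) →
        Q L) :
    ChartProp g h f (𝟙 S) Q (T.toChart g h f w) := by
  letI := alg g T.eWV
  letI := alg h (T.le g h f w)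
  letI := (f.appLE T.W T.W' T.hle).hom.toAlgebra
  haveI : IsScalarTower Γ(S, T.V) Γ(Y, T.W) Γ(X, T.W') :=
    IsScalarTower.of_algebraMap_eq (fun a => (T.comm g h f w a).symm)
  intro L hL
  exact H L hL

include hY hX hc w in
/-- S5015. -/
theorem formallyUnramified_iff_epi : FormallyUnramified f ↔ Epi c := by
  constructor
  · intro hf
    refine epi_of_chart_family g h f (𝟙 S) dY hY dX hX c hc
      (fun T : TChart g f => T.toChart g h f w)
      (fun x => exists_tchart_mem g f x) (fun T => ?_)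
    refine chartProp_of_tower g h f w _ T ?_
    letI := alg g T.eWV
    letI := alg h (T.le g h f w)
    letI := (f.appLE T.W T.W' T.hle).hom.toAlgebra
    intro _ L hL
    have hfu : Algebra.FormallyUnramified Γ(Y, T.W) Γ(X, T.W') :=
      hf.formallyUnramified_appLE T.hW T.hW' T.hle
    exact (Groth.Agent.Lib.Helper19.DiffAlg.surjective_iff_formallyUnramified L hL).2 hfu
  · intro hepi
    rw [HasRingHomProperty.iff_exists_appLE (P := @FormallyUnramified)
      (RingHom.FormallyUnramified.stableUnderComposition.stableUnderCompositionWithLocalizationAway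
        RingHom.FormallyUnramified.holdsForLocalizationAway).left]
    intro x
    obtain ⟨T, hxT⟩ := exists_tchart_mem g f x
    refine ⟨⟨T.W, T.hW⟩, ⟨T.W', T.hW'⟩, hxT, T.hle, ?_⟩
    haveI : ΩY.IsQuasicoherent := isQuasicoherent g dY hY
    haveI : ΩX.IsQuasicoherent := isQuasicoherent h dX hX
    have hsurj : Function.Surjective (c.app T.W') :=
      surjective_app_of_epi c T.hW' (isLocOn_of_isQuasicoherent _ T.hW')
        (isLocOn_of_isQuasicoherent _ T.hW')
    letI := alg g T.eWV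
    letI := alg h (T.le g h f w)
    letI := (f.appLE T.W T.W' T.hle).hom.toAlgebra
    haveI : IsScalarTower Γ(S, T.V) Γ(Y, T.W) Γ(X, T.W') :=
      IsScalarTower.of_algebraMap_eq (fun a => (T.comm g h f w a).symm)
    obtain ⟨E, Φ', L, hL, heq⟩ := app_eq g h f (𝟙 S) dY hY dX hX c hc (T.toChart g h f w)
    have hLs : Function.Surjective L := by
      have h1 : (L : _ → _) = Φ' ∘ (c.app T.W') ∘ E.symm := by
        funext z
        change L z = Φ' (c.app T.W' (E.symm z))
        have h2 := congrFun heq (E.symm z)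
        change c.app T.W' (E.symm z) = Φ'.symm (L (E (E.symm z))) at h2
        rw [h2, E.apply_symm_apply, Φ'.apply_symm_apply]
      rw [h1]
      exact Φ'.surjective.comp (hsurj.comp E.symm.surjective)
    exact (Groth.Agent.Lib.Helper19.DiffAlg.surjective_iff_formallyUnramified L hL).1 hLs

include hY hX hc w in
/-- S5016. -/
theorem mono_of_formallySmooth (hf : MoreMor.IsFormallySmoothHom f) : Mono c := by
  refine mono_of_chart_family g h f (𝟙 S) dY hY dX hX c hc
    (fun T : TChart g f => T.toChart g h f w)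
    (fun x => exists_tchart_mem g f x) (fun T => ?_)
  refine chartProp_of_tower g h f w _ T ?_
  letI := alg g T.eWV
  letI := alg h (T.le g h f w)
  letI := (f.appLE T.W T.W' T.hle).hom.toAlgebra
  intro _ L hL
  haveI : Algebra.FormallySmooth Γ(Y, T.W) Γ(X, T.W') :=
    Groth.Agent.S1488.W1.formallySmooth_of_lifting hf T.W' T.W T.hW' T.hW T.hle
  exact Groth.Agent.Lib.Helper19.DiffAlg.injective_of_formallySmooth L hL

end Groth.Agent.Lib.Helper19.DiffApps3
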