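import Groth.Agent.Lib.helper19.RestrUniv2
import Groth.Agent.Lib.Helper17.PullbackBC

set_option autoImplicit false
universe u
open CategoryTheory CategoryTheory.Limits AlgebraicGeometry Opposite TensorProduct

namespace Groth.Agent.Lib.Helper19.DiffChart

open Groth.Agent.Lib.Helper19.RestrUniv Groth.Agent.Lib.Helper29 Groth.Agent.Lib.Helper29.OmegaLoc
open Groth.Agent.Lib.Helper28.QCohLoc Groth.Agent.Lib.Helper17.PullbackBC
  Groth.Agent.Lib.Helper28.PullbackInv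

variable {X S X' S' : Scheme.{u}} (f : X ⟶ S) (f' : X' ⟶ S') (h : X' ⟶ X)
  {Ω : X.Modules} (d : OmegaSh.Der f Ω) (hd : OmegaSh.IsUniversal d)
  {Ω' : X'.Modules} (d' : OmegaSh.Der f' Ω') (hd' : OmegaSh.IsUniversal d')
  (c : (Scheme.Modules.pullback h).obj Ω ⟶ Ω') (hc : OmegaSh.IsDiffCompat h d d' c)
  {W : X.Opens} (hW : IsAffineOpen W) {V : S.Opens} (hV : IsAffineOpen V) (eWV : W ≤ f ⁻¹ᵁ V)
  {W' : X'.Opens} (hW' : IsAffineOpen W') {V' : S'.Opens} (hV' : IsAffineOpen V')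
  (eWV' : W' ≤ f' ⁻¹ᵁ V') (hle : W' ≤ h ⁻¹ᵁ W)

/-- the chart map `Γ(Ω, W) → Γ(Ω', W')` induced by `c`. -/
noncomputable def κ (ω : Γ(Ω, W)) : Γ(Ω', W') :=
  c.app W' (res ((Scheme.Modules.pullback h).obj Ω) hle (pbs h Ω W ω))

include hc in
theorem κ_d (s : Γ(X, W)) : κ h c hle (d.app W s) = d'.app W' (h.appLE W W' hle s) := by
  unfold κ
  rw [app_res]
  have h1 : c.app (h ⁻¹ᵁ W) (pbs h Ω W (d.app W s)) = d'.app (h ⁻¹ᵁ W) (h.app W s) := hc W s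
  rw [h1]
  exact (OmegaUniv.der_res f' d' hle (h.app W s)).symm

include hd hd' hc hW hV hW' hV' in
/-- **Chart description of a derivation-compatible map `c : h^*Ω → Ω'`.** -/
theorem exists_chart :
    letI := alg f eWV
    letI := alg f' eWV'
    letI := (h.appLE W W' hle).hom.toAlgebra
    ∃ (E : Γ((Scheme.Modules.pullback h).obj Ω, W') ≃+ (Γ(X', W') ⊗[Γ(X, W)] Ω[Γ(X, W)⁄Γ(S, V)]))
      (Φ' : Γ(Ω', W') ≃+ Ω[Γ(X', W')⁄Γ(S', V')])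
      (L : (Γ(X', W') ⊗[Γ(X, W)] Ω[Γ(X, W)⁄Γ(S, V)]) →+ Ω[Γ(X', W')⁄Γ(S', V')]),
      (∀ (b' : Γ(X', W')) x, E (b' • x) = b' • E x) ∧
      (∀ (b' : Γ(X', W')) y, Φ' (b' • y) = b' • Φ' y) ∧
      (∀ (b' : Γ(X', W')) z, L (b' • z) = b' • L z) ∧
      (∀ (b' : Γ(X', W')) (s : Γ(X, W)),
        L (b' ⊗ₜ[Γ(X, W)] KaehlerDifferential.D Γ(S, V) Γ(X, W) s) =
          b' • KaehlerDifferential.D Γ(S', V') Γ(X', W') (h.appLE W W' hle s)) ∧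
      ∀ x, Φ' (c.app W' x) = L (E x) := by
  letI := alg f eWV
  letI := alg f' eWV'
  letI := (h.appLE W W' hle).hom.toAlgebra
  haveI : Ω.IsQuasicoherent := isQuasicoherent f d hd
  obtain ⟨Φ, hΦs, hΦd⟩ := exists_sections_equiv f d hd hW hV eWV
  obtain ⟨Φ', hΦ's, hΦ'd⟩ := exists_sections_equiv f' d' hd' hW' hV' eWV'
  obtain ⟨e, he⟩ := (isBC_iff (h.appLE W W' hle).hom _).mp (isBC_pullback h hW hW' hle Ω)
  let Lin : Γ(Ω, W) ≃ₗ[Γ(X, W)] Ω[Γ(X, W)⁄Γ(S, V)] := { Φ with map_smul' := hΦs }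
  let T : (Γ(X', W') ⊗[Γ(X, W)] Γ(Ω, W)) ≃ₗ[Γ(X', W')]
      (Γ(X', W') ⊗[Γ(X, W)] Ω[Γ(X, W)⁄Γ(S, V)]) :=
    TensorProduct.AlgebraTensorModule.congr (LinearEquiv.refl Γ(X', W') Γ(X', W')) Lin
  let E := e ≪≫ₗ T
  let cW : Γ((Scheme.Modules.pullback h).obj Ω, W') →+ Γ(Ω', W') := (c.app W').hom
  let L : (Γ(X', W') ⊗[Γ(X, W)] Ω[Γ(X, W)⁄Γ(S, V)]) →+ Ω[Γ(X', W')⁄Γ(S', V')] :=
    (Φ'.toAddMonoidHom.comp cW).comp E.symm.toAddEquiv.toAddMonoidHom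
  have hL : ∀ z, L z = Φ' (c.app W' (E.symm z)) := fun _ => rfl
  have hLs : ∀ (b' : Γ(X', W')) z, L (b' • z) = b' • L z := by
    intro b' z
    rw [hL, hL, map_smul, Scheme.Modules.Hom.app_smul, hΦ's]
  refine ⟨E.toAddEquiv, Φ', L, fun b' x => map_smul E b' x, hΦ's, hLs, ?_, ?_⟩
  · intro b' s
    have h1 : (b' ⊗ₜ[Γ(X, W)] KaehlerDifferential.D Γ(S, V) Γ(X, W) s :
        Γ(X', W') ⊗[Γ(X, W)] Ω[Γ(X, W)⁄Γ(S, V)]) =
        b' • E (res ((Scheme.Modules.pullback h).obj Ω) hle (pbs h Ω W (d.app W s))) := by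
      change _ = b' • T (e _)
      rw [he]
      change _ = b' • ((1 : Γ(X', W')) ⊗ₜ[Γ(X, W)] Φ (d.app W s))
      rw [hΦd, TensorProduct.smul_tmul', smul_eq_mul, mul_one]
    rw [h1, hLs, hL, E.symm_apply_apply]
    have h2 := κ_d f f' h d d' c hc hle s
    unfold κ at h2
    rw [h2, hΦ'd]
  · intro x
    rw [hL]
    change _ = Φ' (c.app W' (E.symm (E x)))
    rw [E.symm_apply_apply]

end Groth.Agent.Lib.Helper19.DiffChart
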