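import Groth.Agent.Lib.helper19.DiffChart
import Groth.Agent.Lib.helper19.DiffAlg
import Groth.Agent.Lib.Helper28.ModIsoCover

set_option autoImplicit false
universe u
open CategoryTheory CategoryTheory.Limits AlgebraicGeometry Opposite TensorProduct

namespace Groth.Agent.Lib.Helper19.DiffChart2

open Groth.Agent.Lib.Helper19.RestrUniv Groth.Agent.Lib.Helper29 Groth.Agent.Lib.Helper29.OmegaLoc
open Groth.Agent.Lib.Helper28.QCohLoc Groth.Agent.Lib.Helper17.PullbackBC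
  Groth.Agent.Lib.Helper28.PullbackInv Groth.Agent.Lib.Helper19.DiffChart

variable {X S X' S' : Scheme.{u}} (f : X ⟶ S) (f' : X' ⟶ S') (h : X' ⟶ X) (b : S' ⟶ S)
  (hsq : f' ≫ b = h ≫ f)

/-- a chart of a commutative square. -/
structure Chart where
  W : X.Opens
  V : S.Opens
  W' : X'.Opens
  V' : S'.Opens
  hW : IsAffineOpen W
  hV : IsAffineOpen V
  hW' : IsAffineOpen W'
  hV' : IsAffineOpen V'
  eWV : W ≤ f ⁻¹ᵁ V
  eWV' : W' ≤ f' ⁻¹ᵁ V'
  hle : W' ≤ h ⁻¹ᵁ W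
  hVV : V' ≤ b ⁻¹ᵁ V

include hsq in
theorem exists_chart_mem (x' : X') : ∃ C : Chart f f' h b, x' ∈ C.W' := by
  obtain ⟨V, hV, hxV, -⟩ := TopologicalSpace.Opens.isBasis_iff_nbhd.mp S.isBasis_affineOpens
    (TopologicalSpace.Opens.mem_top (f (h x')))
  obtain ⟨W, hW, hxW, hWV⟩ := TopologicalSpace.Opens.isBasis_iff_nbhd.mp X.isBasis_affineOpens
    (show h x' ∈ f ⁻¹ᵁ V from hxV)
  have hb : f' x' ∈ b ⁻¹ᵁ V := by
    change b (f' x') ∈ V
    rw [← Scheme.Hom.comp_apply, hsq, Scheme.Hom.comp_apply]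
    exact hxV
  obtain ⟨V', hV', hxV', hVV⟩ := TopologicalSpace.Opens.isBasis_iff_nbhd.mp S'.isBasis_affineOpens hb
  obtain ⟨W', hW', hxW', hW'le⟩ := TopologicalSpace.Opens.isBasis_iff_nbhd.mp X'.isBasis_affineOpens
    (show x' ∈ h ⁻¹ᵁ W ⊓ f' ⁻¹ᵁ V' from ⟨hxW, hxV'⟩)
  exact ⟨⟨W, V, W', V', hW, hV, hW', hV', hWV, hW'le.trans inf_le_right, hW'le.trans inf_le_left, hVV⟩,
    hxW'⟩

include hsq in
/-- the square of rings of a chart commutes. -/
theorem Chart.comm (C : Chart f f' h b) (a : Γ(S, C.V)) :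
    (h.appLE C.W C.W' C.hle) ((f.appLE C.V C.W C.eWV) a) =
      (f'.appLE C.V' C.W' C.eWV') ((b.appLE C.V C.V' C.hVV) a) := by
  have h1 : f.appLE C.V C.W C.eWV ≫ h.appLE C.W C.W' C.hle =
      (h ≫ f).appLE C.V C.W' (fun x hx => C.eWV (C.hle hx)) :=
    Scheme.Hom.appLE_comp_appLE h f C.V C.W C.W' C.eWV C.hle
  have h2 : b.appLE C.V C.V' C.hVV ≫ f'.appLE C.V' C.W' C.eWV' =
      (f' ≫ b).appLE C.V C.W' (fun x hx => C.hVV (C.eWV' hx)) :=
    Scheme.Hom.appLE_comp_appLE f' b C.V C.V' C.W' C.hVV C.eWV'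
  have h3 : (h ≫ f).appLE C.V C.W' (fun x hx => C.eWV (C.hle hx)) =
      (f' ≫ b).appLE C.V C.W' (fun x hx => C.hVV (C.eWV' hx)) :=
    OmegaSh.appLE_congr_hom hsq.symm _ _
  have h4 := congrArg (fun φ => φ.hom a) (h1.trans (h3.trans h2.symm))
  exact h4

variable {Ω : X.Modules} (d : OmegaSh.Der f Ω) (hd : OmegaSh.IsUniversal d)
  {Ω' : X'.Modules} (d' : OmegaSh.Der f' Ω') (hd' : OmegaSh.IsUniversal d')
  (c : (Scheme.Modules.pullback h).obj Ω ⟶ Ω') (hc : OmegaSh.IsDiffCompat h d d' c)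

include hd hd' hc in
/-- if on every chart the algebraic comparison map is bijective then `c` is an isomorphism. -/
theorem isIso_of_charts
    (H : ∀ (C : Chart f f' h b),
      letI := alg f C.eWV
      letI := alg f' C.eWV'
      letI := (h.appLE C.W C.W' C.hle).hom.toAlgebra
      ∀ (L : (Γ(X', C.W') ⊗[Γ(X, C.W)] Ω[Γ(X, C.W)⁄Γ(S, C.V)]) →+ Ω[Γ(X', C.W')⁄Γ(S', C.V')]),
        (∀ (b' : Γ(X', C.W')) (s : Γ(X, C.W)),
          L (b' ⊗ₜ[Γ(X, C.W)] KaehlerDifferential.D Γ(S, C.V) Γ(X, C.W) s) =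
            b' • KaehlerDifferential.D Γ(S', C.V') Γ(X', C.W') (h.appLE C.W C.W' C.hle s)) →
        Function.Bijective L)
    (hsq : f' ≫ b = h ≫ f) : IsIso c := by
  haveI : Ω.IsQuasicoherent := isQuasicoherent f d hd
  haveI : Ω'.IsQuasicoherent := isQuasicoherent f' d' hd'
  refine isIso_of_affine_cover c (fun C : Chart f f' h b => C.W') (fun C => C.hW')
    (fun x' => exists_chart_mem f f' h b hsq x')
    (fun C => isLocOn_of_isQuasicoherent _ C.hW') (fun C => isLocOn_of_isQuasicoherent _ C.hW')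
    (fun C => ?_)
  letI := alg f C.eWV
  letI := alg f' C.eWV'
  letI := (h.appLE C.W C.W' C.hle).hom.toAlgebra
  obtain ⟨E, Φ', L, -, -, -, hL, hcomm⟩ :=
    exists_chart f f' h d hd d' hd' c hc C.hW C.hV C.eWV C.hW' C.hV' C.eWV' C.hle
  have hLb := H C L hL
  have h1 : (c.app C.W' : _ → _) = Φ'.symm ∘ L ∘ E := by
    funext x
    change c.app C.W' x = Φ'.symm (L (E x))
    rw [← hcomm, Φ'.symm_apply_apply]
  rw [h1]
  exact Φ'.symm.bijective.comp (hLb.comp E.bijective)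

end Groth.Agent.Lib.Helper19.DiffChart2
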