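import Groth.Agent.Lib.helper19.DiffChart2

set_option autoImplicit false
universe u
open CategoryTheory CategoryTheory.Limits AlgebraicGeometry Opposite TensorProduct

namespace Groth.Agent.Lib.Helper19.DiffChart3

open Groth.Agent.Lib.Helper19.RestrUniv Groth.Agent.Lib.Helper29 Groth.Agent.Lib.Helper29.OmegaLoc
open Groth.Agent.Lib.Helper28.QCohLoc Groth.Agent.Lib.Helper17.PullbackBC
  Groth.Agent.Lib.Helper28.PullbackInv Groth.Agent.Lib.Helper19.DiffChart
  Groth.Agent.Lib.Helper19.DiffChart2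

variable {X S X' S' : Scheme.{u}} (f : X ⟶ S) (f' : X' ⟶ S') (h : X' ⟶ X) (b : S' ⟶ S)

variable {Ω : X.Modules} (d : OmegaSh.Der f Ω) (hd : OmegaSh.IsUniversal d)
  {Ω' : X'.Modules} (d' : OmegaSh.Der f' Ω') (hd' : OmegaSh.IsUniversal d')
  (c : (Scheme.Modules.pullback h).obj Ω ⟶ Ω') (hc : OmegaSh.IsDiffCompat h d d' c)

/-- the algebraic comparison map of a chart has property `Q` (a property of functions). -/
def ChartProp (Q : ∀ {α β : Type u}, (α → β) → Prop) (C : Chart f f' h b) : Prop :=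
  letI := alg f C.eWV
  letI := alg f' C.eWV'
  letI := (h.appLE C.W C.W' C.hle).hom.toAlgebra
  ∀ (L : (Γ(X', C.W') ⊗[Γ(X, C.W)] Ω[Γ(X, C.W)⁄Γ(S, C.V)]) →+ Ω[Γ(X', C.W')⁄Γ(S', C.V')]),
    (∀ (b' : Γ(X', C.W')) (s : Γ(X, C.W)),
      L (b' ⊗ₜ[Γ(X, C.W)] KaehlerDifferential.D Γ(S, C.V) Γ(X, C.W) s) =
        b' • KaehlerDifferential.D Γ(S', C.V') Γ(X', C.W') (h.appLE C.W C.W' C.hle s)) →
    Q L

include hd hd' hc in
theorem app_eq (C : Chart f f' h b) :
    letI := alg f C.eWV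
    letI := alg f' C.eWV'
    letI := (h.appLE C.W C.W' C.hle).hom.toAlgebra
    ∃ (E : Γ((Scheme.Modules.pullback h).obj Ω, C.W') ≃
        (Γ(X', C.W') ⊗[Γ(X, C.W)] Ω[Γ(X, C.W)⁄Γ(S, C.V)]))
      (Φ' : Γ(Ω', C.W') ≃ Ω[Γ(X', C.W')⁄Γ(S', C.V')])
      (L : (Γ(X', C.W') ⊗[Γ(X, C.W)] Ω[Γ(X, C.W)⁄Γ(S, C.V)]) →+ Ω[Γ(X', C.W')⁄Γ(S', C.V')]),
      (∀ (b' : Γ(X', C.W')) (s : Γ(X, C.W)),
        L (b' ⊗ₜ[Γ(X, C.W)] KaehlerDifferential.D Γ(S, C.V) Γ(X, C.W) s) =
          b' • KaehlerDifferential.D Γ(S', C.V') Γ(X', C.W') (h.appLE C.W C.W' C.hle s)) ∧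
      (c.app C.W' : _ → _) = Φ'.symm ∘ L ∘ E := by
  letI := alg f C.eWV
  letI := alg f' C.eWV'
  letI := (h.appLE C.W C.W' C.hle).hom.toAlgebra
  obtain ⟨E, Φ', L, -, -, -, hL, hcomm⟩ :=
    exists_chart f f' h d hd d' hd' c hc C.hW C.hV C.eWV C.hW' C.hV' C.eWV' C.hle
  refine ⟨E.toEquiv, Φ'.toEquiv, L, hL, ?_⟩
  funext x
  change c.app C.W' x = Φ'.symm (L (E x))
  rw [← hcomm, Φ'.symm_apply_apply]

variable {ι : Type*} (C : ι → Chart f f' h b) (hcov : ∀ x' : X', ∃ i, x' ∈ (C i).W')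

include hd hd' hc hcov in
theorem isIso_of_chart_family
    (H : ∀ i, ChartProp f f' h b (fun {_ _} φ => Function.Bijective φ) (C i)) : IsIso c := by
  haveI : Ω.IsQuasicoherent := isQuasicoherent f d hd
  haveI : Ω'.IsQuasicoherent := isQuasicoherent f' d' hd'
  refine isIso_of_affine_cover c (fun i => (C i).W') (fun i => (C i).hW') hcov
    (fun i => isLocOn_of_isQuasicoherent _ (C i).hW') (fun i => isLocOn_of_isQuasicoherent _ (C i).hW')
    (fun i => ?_)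
  obtain ⟨E, Φ', L, hL, heq⟩ := app_eq f f' h b d hd d' hd' c hc (C i)
  rw [heq]
  exact Φ'.symm.bijective.comp ((H i L hL).comp E.bijective)

include hd hd' hc hcov in
theorem mono_of_chart_family
    (H : ∀ i, ChartProp f f' h b (fun {_ _} φ => Function.Injective φ) (C i)) : Mono c := by
  haveI : Ω.IsQuasicoherent := isQuasicoherent f d hd
  haveI : Ω'.IsQuasicoherent := isQuasicoherent f' d' hd'
  refine mono_of_affine_cover c (fun i => (C i).W') (fun i => (C i).hW') hcov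
    (fun i => isLocOn_of_isQuasicoherent _ (C i).hW') (fun i => isLocOn_of_isQuasicoherent _ (C i).hW')
    (fun i => ?_)
  obtain ⟨E, Φ', L, hL, heq⟩ := app_eq f f' h b d hd d' hd' c hc (C i)
  rw [heq]
  exact Φ'.symm.injective.comp ((H i L hL).comp E.injective)

include hd hd' hc hcov in
theorem epi_of_chart_family
    (H : ∀ i, ChartProp f f' h b (fun {_ _} φ => Function.Surjective φ) (C i)) : Epi c := by
  haveI : Ω.IsQuasicoherent := isQuasicoherent f d hd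
  haveI : Ω'.IsQuasicoherent := isQuasicoherent f' d' hd'
  refine epi_of_affine_cover c (fun i => (C i).W') (fun i => (C i).hW') hcov
    (fun i => isLocOn_of_isQuasicoherent _ (C i).hW') (fun i => ?_)
  obtain ⟨E, Φ', L, hL, heq⟩ := app_eq f f' h b d hd d' hd' c hc (C i)
  rw [heq]
  exact Φ'.symm.surjective.comp ((H i L hL).comp E.surjective)

end Groth.Agent.Lib.Helper19.DiffChart3
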