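import Groth.Agent.Lib.helper19.CotSmoothPt
import Groth.Agent.Lib.Helper22.GenericSmooth
import Groth.Agent.Lib.Helper5.RegSmoothScheme
import Groth.Agent.Lib.lead.VarDomComp
import Groth.Agent.S2793

set_option autoImplicit false
universe u
open CategoryTheory CategoryTheory.Limits AlgebraicGeometry Opposite TensorProduct IsLocalRing

namespace Groth.Agent.Lib.Helper19.DomCot

open Groth.Agent.Lib.Helper19.CotSmoothGeo Groth.Agent.Lib.Helper19

variable (k : Type u) [Field k] [IsAlgClosed k] {X Y : Scheme.{u}}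

/-- formal smoothness of a regular stalk over a perfect ground field -/
theorem formallySmooth_stalk_of_regular [X.Over (Spec (CommRingCat.of k))]
    [LocallyOfFiniteType (X ↘ Spec (CommRingCat.of k))] (x : X)
    (hreg : IsRegularLocalRing (X.presheaf.stalk x)) :
    letI := Curv2.stalkAlgebra k X x
    Algebra.FormallySmooth k (X.presheaf.stalk x) := by
  letI := Curv2.stalkAlgebra k X x
  haveI := essFiniteType_stalk k X x
  exact Groth.Agent.Lib.Helper22.GenericSmooth.formallySmooth_of_regular_of_perfect k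
    (X.presheaf.stalk x)

theorem isDominant_of_point [X.Over (Spec (CommRingCat.of k))] [Y.Over (Spec (CommRingCat.of k))]
    [LocallyOfFiniteType (X ↘ Spec (CommRingCat.of k))]
    [LocallyOfFiniteType (Y ↘ Spec (CommRingCat.of k))]
    [IrreducibleSpace Y] (u : X ⟶ Y) [u.IsOver (Spec (CommRingCat.of k))]
    (P : X) (hP : IsClosed ({P} : Set X)) (hreg : IsRegularLocalRing (X.presheaf.stalk P))
    (hcot : ∀ a ∈ maximalIdeal (Y.presheaf.stalk (u P)),
      (u.stalkMap P).hom a ∈ maximalIdeal (X.presheaf.stalk P) ^ 2 →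
        a ∈ maximalIdeal (Y.presheaf.stalk (u P)) ^ 2) : IsDominant u := by
  have hf : u ≫ (Y ↘ Spec (CommRingCat.of k)) = X ↘ Spec (CommRingCat.of k) :=
    comp_over u (Spec (CommRingCat.of k))
  haveI : LocallyOfFiniteType (u ≫ (Y ↘ Spec (CommRingCat.of k))) :=
    hf ▸ ‹LocallyOfFiniteType (X ↘ Spec (CommRingCat.of k))›
  haveI : LocallyOfFiniteType u := locallyOfFiniteType_of_comp u (Y ↘ Spec (CommRingCat.of k))
  haveI : IsLocallyNoetherian Y :=
    LocallyOfFiniteType.isLocallyNoetherian (Y ↘ Spec (CommRingCat.of k))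
  haveI : LocallyOfFinitePresentation u :=
    LocallyOfFinitePresentation.iff_locallyOfFiniteType.2 inferInstance
  have hsm := formallySmooth_stalk_of_regular k P hreg
  have h1 : (u.stalkMap P).hom.FormallySmooth :=
    (Groth.Agent.Lib.Helper19.CotSmoothPt.formallySmooth_stalkMap_iff_elem k
      (X ↘ Spec (CommRingCat.of k)) (Y ↘ Spec (CommRingCat.of k)) u hf P hP hsm).2 hcot
  obtain ⟨U, hPU, hU⟩ := (Groth.Agent.S2793.nhd_smooth_iff u P).2 h1
  haveI : Flat (U.ι ≫ u) := inferInstance
  have hopen : IsOpen (Set.range (U.ι ≫ u).base) := (U.ι ≫ u).isOpenMap.isOpen_range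
  have hne : (Set.range (U.ι ≫ u).base).Nonempty := ⟨_, ⟨⟨P, hPU⟩, rfl⟩⟩
  have hdense : Dense (Set.range (U.ι ≫ u).base) := hopen.dense hne
  refine ⟨hdense.mono ?_⟩
  rintro _ ⟨w, rfl⟩
  exact ⟨U.ι w, rfl⟩

theorem exists_point_of_isDominant [CharZero k]
    [X.Over (Spec (CommRingCat.of k))] [Y.Over (Spec (CommRingCat.of k))]
    [LocallyOfFiniteType (X ↘ Spec (CommRingCat.of k))] [QuasiCompact (X ↘ Spec (CommRingCat.of k))]
    [LocallyOfFiniteType (Y ↘ Spec (CommRingCat.of k))]
    [IsReduced X] [IsIntegral Y] (u : X ⟶ Y) [u.IsOver (Spec (CommRingCat.of k))]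
    [IsDominant u] :
    ∃ P : X, IsClosed ({P} : Set X) ∧ IsRegularLocalRing (X.presheaf.stalk P) ∧
      ∀ a ∈ maximalIdeal (Y.presheaf.stalk (u P)),
        (u.stalkMap P).hom a ∈ maximalIdeal (X.presheaf.stalk P) ^ 2 →
          a ∈ maximalIdeal (Y.presheaf.stalk (u P)) ^ 2 := by
  have hf : u ≫ (Y ↘ Spec (CommRingCat.of k)) = X ↘ Spec (CommRingCat.of k) :=
    comp_over u (Spec (CommRingCat.of k))
  haveI : LocallyOfFiniteType (u ≫ (Y ↘ Spec (CommRingCat.of k))) :=
    hf ▸ ‹LocallyOfFiniteType (X ↘ Spec (CommRingCat.of k))›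
  haveI : LocallyOfFiniteType u := locallyOfFiniteType_of_comp u (Y ↘ Spec (CommRingCat.of k))
  haveI : IsLocallyNoetherian Y :=
    LocallyOfFiniteType.isLocallyNoetherian (Y ↘ Spec (CommRingCat.of k))
  haveI : IsLocallyNoetherian X :=
    LocallyOfFiniteType.isLocallyNoetherian (X ↘ Spec (CommRingCat.of k))
  haveI : LocallyOfFinitePresentation u :=
    LocallyOfFinitePresentation.iff_locallyOfFiniteType.2 inferInstance
  haveI : LocallyOfFinitePresentation (X ↘ Spec (CommRingCat.of k)) :=
    LocallyOfFinitePresentation.iff_locallyOfFiniteType.2 inferInstance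
  haveI : CompactSpace X := QuasiCompact.compactSpace_of_compactSpace (X ↘ Spec (CommRingCat.of k))
  haveI : IsNoetherian X := { }
  haveI : QuasiCompact u := inferInstance
  haveI : JacobsonSpace X := LocallyOfFiniteType.jacobsonSpace (X ↘ Spec (CommRingCat.of k))
  -- char zero function field
  haveI : CharZero Y.functionField := by
    letI : Y.Over (Spec (CommRingCat.of k)) := inferInstance
    exact charZero_of_injective_ringHom (Curv2.stalkMap k Y (genericPoint Y)).injective
  haveI : PerfectField Y.functionField := inferInstance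
  obtain ⟨x, hx⟩ := Groth.Agent.Lib.lead.VarDomComp.exists_map_eq_genericPoint u
  obtain ⟨ξ, hξ⟩ := QuasiSober.sober (isIrreducible_irreducibleComponent (x := x))
    (isClosed_irreducibleComponent (x := x))
  have hξx : ξ ⤳ x := by
    rw [specializes_iff_mem_closure, hξ.def]
    exact mem_irreducibleComponent
  have hξcomp : closure ({ξ} : Set X) ∈ irreducibleComponents X := by
    rw [hξ.def]
    exact irreducibleComponent_mem_irreducibleComponents x
  have huξ : u ξ = genericPoint Y := by
    have h1 : u ξ ⤳ u x := hξx.map u.continuous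
    rw [hx] at h1
    have h2 : genericPoint Y ⤳ u ξ := (genericPoint_spec Y).specializes trivial
    exact (h1.antisymm h2).eq
  have hF : IsField (X.presheaf.stalk ξ) :=
    isField_stalk_of_closure_mem_irreducibleComponents X ξ hξcomp
  have hregξ : IsRegularLocalRing (X.presheaf.stalk ξ) := by
    letI : Field (X.presheaf.stalk ξ) := hF.toField
    infer_instance
  have h1 : ξ ∈ (X ↘ Spec (CommRingCat.of k)).smoothLocus :=
    (Groth.Agent.Lib.Helper5.RegSmoothCore.mem_smoothLocus_iff_regular k X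
      (X ↘ Spec (CommRingCat.of k)) ξ).2 hregξ
  have h2 : ξ ∈ u.smoothLocus :=
    Groth.Agent.Lib.Helper22.GenericSmooth.mem_smoothLocus_of_regular u ξ huξ hregξ
  let W : X.Opens := u.smoothLocus ⊓ (X ↘ Spec (CommRingCat.of k)).smoothLocus
  have hne : (W : Set X).Nonempty := ⟨ξ, h2, h1⟩
  obtain ⟨P, hPW, hPc⟩ := nonempty_inter_closedPoints hne W.isOpen.isLocallyClosed
  have hregP : IsRegularLocalRing (X.presheaf.stalk P) :=
    (Groth.Agent.Lib.Helper5.RegSmoothCore.mem_smoothLocus_iff_regular k X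
      (X ↘ Spec (CommRingCat.of k)) P).1 hPW.2
  refine ⟨P, hPc, hregP, ?_⟩
  have hsm := formallySmooth_stalk_of_regular k P hregP
  exact (Groth.Agent.Lib.Helper19.CotSmoothPt.formallySmooth_stalkMap_iff_elem k
    (X ↘ Spec (CommRingCat.of k)) (Y ↘ Spec (CommRingCat.of k)) u hf P hPc hsm).1
    (Scheme.Hom.mem_smoothLocus.1 hPW.1)

end Groth.Agent.Lib.Helper19.DomCot
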