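import Mathlib

set_option autoImplicit false
universe u

open CategoryTheory AlgebraicGeometry TopologicalSpace

namespace Groth.Agent.Lib.helper19.DualEpi

/-- (helper27, `Lib/Helper27/SchemeEpi`) a surjective morphism injective on all sections is epi -/
theorem epi_of_surjective_of_app_injective {X Y : Scheme.{u}} (f : X ⟶ Y)
    (hs : Function.Surjective f.base) (hinj : ∀ V : Y.Opens, Function.Injective (f.app V).hom) :
    Epi f := by
  constructor
  intro Z g₁ g₂ h
  have hb : g₁.base = g₂.base := by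
    have h1 : f.base ≫ g₁.base = f.base ≫ g₂.base := by
      rw [← Scheme.Hom.comp_base, h, Scheme.Hom.comp_base]
    have : Epi f.base := (TopCat.epi_iff_surjective _).2 hs
    exact (cancel_epi f.base).1 h1
  refine Scheme.Hom.ext hb ?_
  intro U
  have hW : g₁ ⁻¹ᵁ U = g₂ ⁻¹ᵁ U := congr((Opens.map $hb).obj U)
  have hcongr : ∀ (k₁ k₂ : X ⟶ Z) (hk : k₁ = k₂) (V : X.Opens) (e : V ≤ k₁ ⁻¹ᵁ U),
      k₁.appLE U V e = k₂.appLE U V (hk ▸ e) := by
    intro k₁ k₂ hk V e
    subst hk
    rfl
  have : Mono (f.app (g₂ ⁻¹ᵁ U)) := ConcreteCategory.mono_of_injective _ (hinj _)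
  rw [← cancel_mono (f.app (g₂ ⁻¹ᵁ U))]
  rw [Category.assoc, Scheme.Hom.app_eq_appLE (f := f), Scheme.Hom.map_appLE]
  exact (Scheme.Hom.comp_appLE f g₁ U _ _).symm.trans
    ((hcongr _ _ h _ _).trans (Scheme.Hom.comp_appLE f g₂ U _ _))

set_option backward.isDefEq.respectTransparency.types false in
/-- (from `Groth.Agent.S18498`) `Spec` of an injective ring map is scheme-theoretically dominant -/
theorem isSchemeTheoreticallyDominant_Spec_map {A B : CommRingCat.{u}} (φ : A ⟶ B)
    (hφ : Function.Injective φ.hom) : IsSchemeTheoreticallyDominant (Spec.map φ) := by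
  constructor
  apply Scheme.IdealSheafData.ext_of_isAffine
  have hinj : Function.Injective (Spec.map φ).appTop := by
    have h1 : (Spec.map φ).appTop = (Scheme.ΓSpecIso A).hom ≫ φ ≫ (Scheme.ΓSpecIso B).inv := by
      rw [Scheme.ΓSpecIso_inv_naturality, Iso.hom_inv_id_assoc]
    rw [h1]
    intro a b hab
    have h2 := congrArg (Scheme.ΓSpecIso B).hom hab
    simp only [CommRingCat.comp_apply] at h2
    have h3 : ∀ y, (Scheme.ΓSpecIso B).hom ((Scheme.ΓSpecIso B).inv y) = y := fun y => by
      rw [← CommRingCat.comp_apply, Iso.inv_hom_id]; rfl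
    rw [h3, h3] at h2
    have h4 := hφ h2
    exact (ConcreteCategory.bijective_of_isIso (Scheme.ΓSpecIso A).hom).1 h4
  have hinj' : Function.Injective ((Spec.map φ).app ⊤).hom := hinj
  simp [(Spec.map φ).ker_apply ⟨⊤, isAffineOpen_top _⟩, ← RingHom.injective_iff_ker_eq_bot]
  exact hinj'

/-- `Spec` of an injective ring map which is surjective on prime spectra is an epimorphism of
schemes. -/
theorem epi_Spec_map {A B : CommRingCat.{u}} (φ : A ⟶ B) (hφ : Function.Injective φ.hom)
    (hs : Function.Surjective (PrimeSpectrum.comap φ.hom)) : Epi (Spec.map φ) := by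
  haveI := isSchemeTheoreticallyDominant_Spec_map φ hφ
  exact epi_of_surjective_of_app_injective _ hs (fun V => (Spec.map φ).app_injective V)

section dual
variable (B : Type u) [CommRing B]
  (ψ : DualNumber B →+* DualNumber (DualNumber B))
  (hψB : ∀ b : B, ψ (algebraMap B (DualNumber B) b) = algebraMap B (DualNumber (DualNumber B)) b)
  (hψ : ψ DualNumber.eps =
    algebraMap (DualNumber B) (DualNumber (DualNumber B)) DualNumber.eps * DualNumber.eps)

include hψB hψ in
theorem psi_apply (r m : B) :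
    ψ (TrivSqZeroExt.inl r + TrivSqZeroExt.inr m) =
      TrivSqZeroExt.inl (TrivSqZeroExt.inl r) + TrivSqZeroExt.inr (TrivSqZeroExt.inr m) := by
  have h1 : (TrivSqZeroExt.inr m : DualNumber B) =
      algebraMap B (DualNumber B) m * DualNumber.eps := by
    rw [DualNumber.inr_eq_smul_eps, Algebra.smul_def]
  have h2 : (TrivSqZeroExt.inl r : DualNumber B) = algebraMap B (DualNumber B) r := rfl
  rw [map_add, h1, map_mul, h2, hψB, hψB, hψ]
  ext <;> simp [TrivSqZeroExt.algebraMap_eq_inl', TrivSqZeroExt.algebraMap_eq_inl]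

include hψB hψ in
theorem psi_injective : Function.Injective ψ := by
  rw [injective_iff_map_eq_zero]
  intro x hx
  rw [← TrivSqZeroExt.inl_fst_add_inr_snd_eq x, psi_apply B ψ hψB hψ] at hx
  have h1 := congrArg (fun y => y.fst.fst) hx
  have h2 := congrArg (fun y => y.snd.snd) hx
  simp at h1 h2
  rw [← TrivSqZeroExt.inl_fst_add_inr_snd_eq x, h1, h2]
  simp

include hψB hψ in
theorem comap_surjective : Function.Surjective (PrimeSpectrum.comap
    (CommRingCat.ofHom (R := DualNumber B) (S := DualNumber (DualNumber B)) ψ).hom) := by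
  set Ψ := (CommRingCat.ofHom (R := DualNumber B) (S := DualNumber (DualNumber B)) ψ).hom with hΨ
  have hΨψ : ∀ x, Ψ x = ψ x := fun _ => rfl
  let π₁ : DualNumber B →+* B := (TrivSqZeroExt.fstHom B B B).toRingHom
  let π₂ : DualNumber (DualNumber B) →+* DualNumber B :=
    (TrivSqZeroExt.fstHom (DualNumber B) (DualNumber B) (DualNumber B)).toRingHom
  have hπ : (π₁.comp π₂).comp Ψ = π₁ := by
    refine RingHom.ext fun x => ?_
    rw [← TrivSqZeroExt.inl_fst_add_inr_snd_eq x]
    show π₁ (π₂ (Ψ _)) = π₁ _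
    rw [hΨψ, psi_apply B ψ hψB hψ]
    simp [π₁, π₂]
  have hker : RingHom.ker π₁ ≤ nilradical (DualNumber B) := by
    intro x hx
    have hx0 : x.fst = 0 := hx
    refine ⟨2, ?_⟩
    rw [← TrivSqZeroExt.inl_fst_add_inr_snd_eq x, hx0]
    simp [pow_two]
  have h1 : Function.Surjective (PrimeSpectrum.comap π₁) :=
    (PrimeSpectrum.isHomeomorph_comap π₁
      (fun x => ⟨1, one_pos, ⟨TrivSqZeroExt.inl x, by simp [π₁]⟩⟩) hker).surjective
  intro P
  obtain ⟨Q, rfl⟩ := h1 P
  refine ⟨PrimeSpectrum.comap (π₁.comp π₂) Q, ?_⟩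
  rw [← PrimeSpectrum.comap_comp_apply, hπ]

include hψB hψ in
theorem main (G : Scheme.{u}) :
    Function.Injective (fun u : Spec (CommRingCat.of (DualNumber B)) ⟶ G =>
      Spec.map (CommRingCat.ofHom (R := DualNumber B) (S := DualNumber (DualNumber B)) ψ) ≫ u) := by
  haveI : Epi (Spec.map (CommRingCat.ofHom (R := DualNumber B)
      (S := DualNumber (DualNumber B)) ψ)) :=
    epi_Spec_map _ (psi_injective B ψ hψB hψ) (comap_surjective B ψ hψB hψ)
  intro u v huv
  exact (cancel_epi _).1 huv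

end dual

end Groth.Agent.Lib.helper19.DualEpi
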