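import Mathlib.RingTheory.Localization.Module
import Mathlib.LinearAlgebra.Basis.VectorSpace
import Mathlib.RingTheory.Localization.FractionRing
import Mathlib.LinearAlgebra.Dual.Lemmas
import Mathlib.RingTheory.Finiteness.Basic

set_option autoImplicit false

namespace Groth.Agent.Lib.helper19

universe u v w

variable {R : Type u} [CommRing R] [IsDomain R]

theorem mkLinearMap_self_injective :
    Function.Injective (LocalizedModule.mkLinearMap (nonZeroDivisors R) R) := by
  intro a b hab
  rw [LocalizedModule.mkLinearMap_apply, LocalizedModule.mkLinearMap_apply,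
    LocalizedModule.mk_eq] at hab
  obtain ⟨u, hu⟩ := hab
  simp only [one_smul] at hu
  have : (u : R) * a = (u : R) * b := by simpa [Submonoid.smul_def] using hu
  exact mul_left_cancel₀ (nonZeroDivisors.coe_ne_zero u) this

/-- Over a domain, a linear functional on a submodule of a finite module extends, up to a nonzero
multiple, to the whole module. -/
theorem exists_dual_extension {M : Type v} {M' : Type w} [AddCommGroup M] [Module R M]
    [AddCommGroup M'] [Module R M'] [Module.Finite R M']
    (f : M →ₗ[R] M') (hf : Function.Injective f) (φ : M →ₗ[R] R) :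
    ∃ (r : R) (ψ : M' →ₗ[R] R), r ≠ 0 ∧ ψ.comp f = r • φ := by
  classical
  let S := nonZeroDivisors R
  let fK := LocalizedModule.map S f
  have hfK : LinearMap.ker fK = ⊥ :=
    LinearMap.ker_eq_bot.mpr (LocalizedModule.map_injective S f hf)
  obtain ⟨g, hg⟩ := LinearMap.exists_leftInverse_of_injective fK hfK
  let lam : LocalizedModule S M' →ₗ[R] LocalizedModule S R :=
    ((LocalizedModule.map S φ).comp g).restrictScalars R
  let lam' : M' →ₗ[R] LocalizedModule S R := lam.comp (LocalizedModule.mkLinearMap S M')
  obtain ⟨s, hs⟩ := Module.Finite.fg_top (R := R) (M := M')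
  have key : ∀ y : M', ∃ (t : S) (a : R), lam' y = LocalizedModule.mk a t := fun y => by
    induction lam' y using LocalizedModule.induction_on with
    | h a t => exact ⟨t, a, rfl⟩
  choose t a hta using key
  let r : R := ∏ y ∈ s, (t y : R)
  have hrS : r ∈ S := Submonoid.prod_mem _ fun y _ => (t y).2
  have hr0 : r ≠ 0 := nonZeroDivisors.ne_zero hrS
  let ι := LocalizedModule.mkLinearMap S R
  have hrange : ∀ y : M', (r • lam') y ∈ LinearMap.range ι := by
    intro y
    have hy : y ∈ Submodule.span R (s : Set M') := by rw [hs]; trivial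
    induction hy using Submodule.span_induction with
    | mem y hy =>
      refine ⟨(∏ z ∈ s.erase y, (t z : R)) * a y, ?_⟩
      rw [LinearMap.smul_apply, hta y, LocalizedModule.mkLinearMap_apply, LocalizedModule.smul'_mk]
      rw [LocalizedModule.mk_eq]
      refine ⟨1, ?_⟩
      simp only [one_smul, smul_eq_mul, Submonoid.smul_def]
      have hprod : r = (t y : R) * ∏ z ∈ s.erase y, (t z : R) :=
        (Finset.mul_prod_erase s (fun z => (t z : R)) hy).symm
      rw [hprod]
      ring
    | zero => exact ⟨0, by simp⟩
    | add x y _ _ hx hy =>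
      rw [map_add]; exact Submodule.add_mem _ hx hy
    | smul c x _ hx =>
      rw [map_smul]; exact Submodule.smul_mem _ c hx
  let ψ : M' →ₗ[R] R := (LinearEquiv.ofInjective ι mkLinearMap_self_injective).symm.toLinearMap.comp
    ((r • lam').codRestrict (LinearMap.range ι) hrange)
  refine ⟨r, ψ, hr0, ?_⟩
  ext m
  apply mkLinearMap_self_injective
  have h1 : ι (ψ (f m)) = (r • lam') (f m) := by
    simp only [ψ, LinearMap.comp_apply, LinearEquiv.coe_coe]
    have := (LinearEquiv.ofInjective ι mkLinearMap_self_injective).apply_symm_apply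
      ((r • lam').codRestrict (LinearMap.range ι) hrange (f m))
    exact congrArg Subtype.val this
  rw [LinearMap.comp_apply]
  change ι (ψ (f m)) = ι ((r • φ) m)
  rw [h1]
  have h2 : lam' (f m) = LocalizedModule.mk (φ m) 1 := by
    simp only [lam', lam, LinearMap.comp_apply, LinearMap.restrictScalars_apply,
      LocalizedModule.mkLinearMap_apply]
    have : g (LocalizedModule.mk (f m) 1) = LocalizedModule.mk m 1 := by
      have h3 : fK (LocalizedModule.mk m 1) = LocalizedModule.mk (f m) 1 :=
        LocalizedModule.map_mk S f m 1
      rw [← h3]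
      exact LinearMap.congr_fun hg _
    rw [this, LocalizedModule.map_mk]
  rw [LinearMap.smul_apply, h2, LinearMap.smul_apply, LocalizedModule.mkLinearMap_apply,
    LocalizedModule.smul'_mk]

end Groth.Agent.Lib.helper19
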