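import Mathlib

namespace Groth.Agent.Lib.helper19.EtChart
universe u
open TensorProduct KaehlerDifferential

section A
variable (k : Type u) [CommRing k] (R : Type u) [CommRing R] [Algebra k R]

theorem finite_quotient [IsLocalRing k] [Finite (IsLocalRing.ResidueField k)]
    [Algebra.FiniteType k R] (m : Ideal R) [m.IsMaximal]
    (hm : m.comap (algebraMap k R) = IsLocalRing.maximalIdeal k) : Finite (R ⧸ m) := by
  haveI : m.LiesOver (IsLocalRing.maximalIdeal k) := ⟨hm.symm⟩
  letI : Field (R ⧸ m) := Ideal.Quotient.field m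
  haveI : Finite (k ⧸ IsLocalRing.maximalIdeal k) :=
    inferInstanceAs (Finite (IsLocalRing.ResidueField k))
  letI : Field (k ⧸ IsLocalRing.maximalIdeal k) := Ideal.Quotient.field _
  haveI : Algebra.FiniteType (k ⧸ IsLocalRing.maximalIdeal k) (R ⧸ m) :=
    Algebra.FiniteType.of_restrictScalars_finiteType k _ _
  haveI : Module.Finite (k ⧸ IsLocalRing.maximalIdeal k) (R ⧸ m) :=
    finite_of_finite_type_of_isJacobsonRing _ _
  exact Module.finite_of_finite (k ⧸ IsLocalRing.maximalIdeal k)

/-- rank over `R ⧸ m` equals rank over the residue field. -/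
theorem finrank_residueField_eq (m : Ideal R) [m.IsMaximal] (M : Type u) [AddCommGroup M]
    [Module R M] :
    Module.finrank m.ResidueField (m.ResidueField ⊗[R] M) =
      Module.finrank (R ⧸ m) ((R ⧸ m) ⊗[R] M) := by
  let e : (R ⧸ m) ≃ₗ[R] m.ResidueField :=
    LinearEquiv.ofBijective (IsScalarTower.toAlgHom R (R ⧸ m) m.ResidueField).toLinearMap
      m.bijective_algebraMap_quotient_residueField
  have he : ∀ a, e a = algebraMap (R ⧸ m) m.ResidueField a := fun a => rfl
  have := rank_eq_of_equiv_equiv (R := R ⧸ m) (R' := m.ResidueField)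
    (M := (R ⧸ m) ⊗[R] M) (M₁ := m.ResidueField ⊗[R] M)
    (algebraMap (R ⧸ m) m.ResidueField) (LinearEquiv.rTensor M e).toAddEquiv
    m.bijective_algebraMap_quotient_residueField (by
      intro r z
      induction z using TensorProduct.induction_on with
      | zero => simp
      | tmul a x =>
        rw [TensorProduct.smul_tmul', smul_eq_mul]
        change (LinearEquiv.rTensor M e) ((r * a) ⊗ₜ x) =
          algebraMap (R ⧸ m) m.ResidueField r • (LinearEquiv.rTensor M e) (a ⊗ₜ x)
        rw [LinearEquiv.rTensor_tmul, LinearEquiv.rTensor_tmul, he, he, map_mul,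
          TensorProduct.smul_tmul', smul_eq_mul]
      | add x y hx hy => simp only [smul_add, map_add, hx, hy])
  unfold Module.finrank
  rw [this]

end A


section B
variable (k : Type u) [CommRing k] (R : Type u) [CommRing R] [Algebra k R] (m : Ideal R)
  [m.IsMaximal] [Finite m.ResidueField]

theorem exists_mem_tmul_D_eq (r : R) :
    ∃ n ∈ m, (1 : m.ResidueField) ⊗ₜ[R] D k R n = 1 ⊗ₜ[R] D k R r := by
  classical
  letI := Fintype.ofFinite m.ResidueField
  refine ⟨r - r ^ (Fintype.card m.ResidueField), ?_, ?_⟩
  · have : r - r ^ (Fintype.card m.ResidueField) ∈ RingHom.ker (algebraMap R m.ResidueField) := by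
      rw [RingHom.mem_ker, map_sub, map_pow, FiniteField.pow_card, sub_self]
    rwa [Ideal.ker_algebraMap_residueField] at this
  · rw [map_sub, TensorProduct.tmul_sub, Derivation.leibniz_pow, ← Nat.cast_smul_eq_nsmul R,
      TensorProduct.tmul_smul, TensorProduct.smul_tmul', Algebra.smul_def, mul_one, map_natCast,
      FiniteField.cast_card_eq_zero, TensorProduct.zero_tmul, sub_zero]

theorem span_tmul_D_eq_top :
    Submodule.span m.ResidueField
      (Set.range fun r : R => (1 : m.ResidueField) ⊗ₜ[R] D k R r) = ⊤ := by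
  rw [eq_top_iff]
  rintro z -
  obtain ⟨w, rfl⟩ := TensorProduct.mk_surjective R Ω[R⁄k] m.ResidueField
    m.algebraMap_residueField_surjective z
  have hw : w ∈ Submodule.span R (Set.range (D k R)) := by
    rw [KaehlerDifferential.span_range_derivation]; trivial
  induction hw using Submodule.span_induction with
  | mem w hw =>
    obtain ⟨r, rfl⟩ := hw
    exact Submodule.subset_span ⟨r, rfl⟩
  | zero => simp
  | add a b _ _ ha hb =>
    rw [map_add]
    exact Submodule.add_mem _ ha hb
  | smul a w _ hw =>
    rw [map_smul, ← algebraMap_smul m.ResidueField a]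
    exact Submodule.smul_mem _ _ hw

theorem exists_coords (d : ℕ) (hd : 0 < d)
    (hdim : Module.finrank m.ResidueField (m.ResidueField ⊗[R] Ω[R⁄k]) = d)
    (θ : m.ResidueField) :
    ∃ x : Fin d → R, algebraMap R m.ResidueField (x ⟨0, hd⟩) = θ ∧
      LinearIndependent m.ResidueField (fun i => (1 : m.ResidueField) ⊗ₜ[R] D k R (x i)) ∧
      Submodule.span m.ResidueField
        (Set.range fun i => (1 : m.ResidueField) ⊗ₜ[R] D k R (x i)) = ⊤ := by
  classical
  set s : Set (m.ResidueField ⊗[R] Ω[R⁄k]) :=
    Set.range fun r : R => (1 : m.ResidueField) ⊗ₜ[R] D k R r with hs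
  have hspan : Submodule.span m.ResidueField s = ⊤ := span_tmul_D_eq_top k R m
  haveI : Module.Finite m.ResidueField (m.ResidueField ⊗[R] Ω[R⁄k]) :=
    Module.finite_of_finrank_pos (by rw [hdim]; exact hd)
  obtain ⟨f, hfs, hfspan, hfli⟩ := Submodule.exists_fun_fin_finrank_span_eq m.ResidueField s
  have hd' : Module.finrank m.ResidueField (Submodule.span m.ResidueField s) = d := by
    rw [hspan, finrank_top, hdim]
  let e : Fin d ≃ Fin (Module.finrank m.ResidueField (Submodule.span m.ResidueField s)) :=
    finCongr hd'.symm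
  have hfs' : ∀ i : Fin d, ∃ r : R, (1 : m.ResidueField) ⊗ₜ[R] D k R r = f (e i) :=
    fun i => hfs (e i)
  choose y hy using hfs'
  obtain ⟨t, ht⟩ := m.algebraMap_residueField_surjective θ
  obtain ⟨n, hn, hDn⟩ := exists_mem_tmul_D_eq k R m (y ⟨0, hd⟩ - t)
  refine ⟨Function.update y ⟨0, hd⟩ (t + n), ?_, ?_⟩
  · rw [Function.update_self, map_add, ht]
    have : algebraMap R m.ResidueField n = 0 := by
      rw [← RingHom.mem_ker, Ideal.ker_algebraMap_residueField]; exact hn
    rw [this, add_zero]
  · have hx : (fun i => (1 : m.ResidueField) ⊗ₜ[R] D k R (Function.update y ⟨0, hd⟩ (t + n) i)) =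
        f ∘ e := by
      funext i
      by_cases hi : i = ⟨0, hd⟩
      · subst hi
        rw [Function.update_self, map_add, TensorProduct.tmul_add, hDn, map_sub,
          TensorProduct.tmul_sub, add_sub_cancel, Function.comp_apply, hy]
      · rw [Function.update_of_ne hi, Function.comp_apply, hy]
    rw [hx]
    refine ⟨hfli.comp e e.injective, ?_⟩
    rw [Set.range_comp, Equiv.range_eq_univ, Set.image_univ, hfspan, hspan]

end B


section D
variable (k : Type u) [CommRing k] (R : Type u) [CommRing R] [Algebra k R] (m : Ideal R)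
  [m.IsMaximal]

/-- comparison of fibres of the Kähler modules of `R` and of `R_m`. -/
noncomputable def Ψ : m.ResidueField ⊗[R] Ω[R⁄k] ≃ₗ[m.ResidueField]
    m.ResidueField ⊗[Localization.AtPrime m] Ω[Localization.AtPrime m⁄k] :=
  haveI : Algebra.FormallyEtale R (Localization.AtPrime m) :=
    Algebra.FormallyEtale.of_isLocalization m.primeCompl
  (TensorProduct.AlgebraTensorModule.cancelBaseChange R (Localization.AtPrime m)
      m.ResidueField m.ResidueField Ω[R⁄k]).symm ≪≫ₗ
    (TensorProduct.AlgebraTensorModule.congr (LinearEquiv.refl m.ResidueField m.ResidueField)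
      (KaehlerDifferential.tensorKaehlerEquivOfFormallyEtale k R (Localization.AtPrime m)))

lemma Ψ_tmul_D (r : R) :
    Ψ k R m ((1 : m.ResidueField) ⊗ₜ[R] D k R r) =
      (1 : m.ResidueField) ⊗ₜ[Localization.AtPrime m]
        D k (Localization.AtPrime m) (algebraMap R (Localization.AtPrime m) r) := by
  simp [Ψ]


/-- the differentials `d x_i` form a basis of `Ω[R_m/k]`. -/
theorem exists_basis_localization [Algebra.EssFiniteType k R] [Algebra.IsSmoothAt k m]
    {d : ℕ} (x : Fin d → R)
    (hli : LinearIndependent m.ResidueField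
      (fun i => (1 : m.ResidueField) ⊗ₜ[R] D k R (x i)))
    (hsp : Submodule.span m.ResidueField
      (Set.range fun i => (1 : m.ResidueField) ⊗ₜ[R] D k R (x i)) = ⊤) :
    ∃ b : Module.Basis (Fin d) (Localization.AtPrime m) Ω[Localization.AtPrime m⁄k],
      ∀ i, b i = D k (Localization.AtPrime m) (algebraMap R (Localization.AtPrime m) (x i)) := by
  haveI : Algebra.FormallySmooth k (Localization.AtPrime m) := ‹Algebra.IsSmoothAt k m›
  let v : Fin d → Ω[Localization.AtPrime m⁄k] :=
    fun i => D k (Localization.AtPrime m) (algebraMap R (Localization.AtPrime m) (x i))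
  have hv : (TensorProduct.mk (Localization.AtPrime m) m.ResidueField
      Ω[Localization.AtPrime m⁄k] 1 ∘ v) =
      (Ψ k R m) ∘ (fun i => (1 : m.ResidueField) ⊗ₜ[R] D k R (x i)) := by
    funext i
    simp only [Function.comp_apply, Ψ_tmul_D, TensorProduct.mk_apply, v]
  refine Module.exists_basis_of_basis_baseChange v ?_ ?_
    (Module.Flat.rTensor_preserves_injective_linearMap _ Subtype.val_injective)
  · rw [hv]
    exact hli.map' (Ψ k R m).toLinearMap (LinearMap.ker_eq_bot.mpr (Ψ k R m).injective)
  · rw [hv, Set.range_comp, ← LinearEquiv.coe_toLinearMap, ← Submodule.map_span, hsp,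
      Submodule.map_top, LinearMap.range_eq_top]
    exact (Ψ k R m).surjective


/-- If `d x_i` form a basis of `Ω[R_m/k]`, `k[X] → R_m` is formally étale. -/
theorem formallyEtale_localization {d : ℕ} [Algebra (MvPolynomial (Fin d) k) R]
    [IsScalarTower k (MvPolynomial (Fin d) k) R] [Algebra.IsSmoothAt k m]
    (b : Module.Basis (Fin d) (Localization.AtPrime m) Ω[Localization.AtPrime m⁄k])
    (hb : ∀ i, b i = D k (Localization.AtPrime m)
      (algebraMap R (Localization.AtPrime m)
        (algebraMap (MvPolynomial (Fin d) k) R (MvPolynomial.X i)))) :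
    Algebra.FormallyEtale (MvPolynomial (Fin d) k) (Localization.AtPrime m) := by
  haveI : Algebra.FormallySmooth k (Localization.AtPrime m) := ‹Algebra.IsSmoothAt k m›
  let c : Module.Basis (Fin d) (Localization.AtPrime m)
      (Localization.AtPrime m ⊗[MvPolynomial (Fin d) k] Ω[MvPolynomial (Fin d) k⁄k]) :=
    (KaehlerDifferential.mvPolynomialBasis k (Fin d)).baseChange (Localization.AtPrime m)
  have hmap : KaehlerDifferential.mapBaseChange k (MvPolynomial (Fin d) k) (Localization.AtPrime m) =
      (c.equiv b (Equiv.refl _)).toLinearMap := by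
    apply c.ext
    intro i
    rw [LinearEquiv.coe_toLinearMap, Module.Basis.equiv_apply, Equiv.refl_apply, hb]
    simp only [c, Module.Basis.baseChange_apply, KaehlerDifferential.mvPolynomialBasis_apply,
      KaehlerDifferential.mapBaseChange_tmul, one_smul, KaehlerDifferential.map_D]
    rw [← IsScalarTower.algebraMap_apply]
  have hbij : Function.Bijective
      (KaehlerDifferential.mapBaseChange k (MvPolynomial (Fin d) k) (Localization.AtPrime m)) := by
    rw [hmap]; exact (c.equiv b (Equiv.refl _)).bijective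
  have hΩ : Subsingleton Ω[Localization.AtPrime m⁄MvPolynomial (Fin d) k] := by
    refine ⟨fun a b => ?_⟩
    have h0 : ∀ ω : Ω[Localization.AtPrime m⁄MvPolynomial (Fin d) k], ω = 0 := by
      intro ω
      obtain ⟨ω', rfl⟩ := KaehlerDifferential.map_surjective k (MvPolynomial (Fin d) k)
        (Localization.AtPrime m) ω
      obtain ⟨z, rfl⟩ := hbij.2 ω'
      exact (KaehlerDifferential.exact_mapBaseChange_map k (MvPolynomial (Fin d) k)
        (Localization.AtPrime m) _).mpr ⟨z, rfl⟩
    rw [h0 a, h0 b]
  have hH1 : Subsingleton (Algebra.H1Cotangent (MvPolynomial (Fin d) k) (Localization.AtPrime m)) := by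
    refine ⟨fun a b => ?_⟩
    have h0 : ∀ y : Algebra.H1Cotangent (MvPolynomial (Fin d) k) (Localization.AtPrime m),
        y = 0 := by
      intro y
      have h1 : Algebra.H1Cotangent.δ k (MvPolynomial (Fin d) k) (Localization.AtPrime m) y = 0 := by
        apply hbij.1
        rw [map_zero]
        exact (Algebra.H1Cotangent.exact_δ_mapBaseChange k (MvPolynomial (Fin d) k)
          (Localization.AtPrime m) _).mpr ⟨y, rfl⟩
      obtain ⟨z, rfl⟩ := (Algebra.H1Cotangent.exact_map_δ k (MvPolynomial (Fin d) k)
        (Localization.AtPrime m) y).mp h1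
      rw [Subsingleton.elim z 0, map_zero]
    rw [h0 a, h0 b]
  haveI : Algebra.FormallyUnramified (MvPolynomial (Fin d) k) (Localization.AtPrime m) :=
    (Algebra.formallyUnramified_iff _ _).mpr hΩ
  haveI : Algebra.FormallySmooth (MvPolynomial (Fin d) k) (Localization.AtPrime m) :=
    ⟨inferInstance, hH1⟩
  exact Algebra.FormallyEtale.of_formallyUnramified_and_formallySmooth

end D


section E
open MvPolynomial

theorem main (k : Type u) [CommRing k] [IsLocalRing k] [Finite (IsLocalRing.ResidueField k)]
    (R : Type u) [CommRing R] [Algebra k R] [Algebra.FinitePresentation k R]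
    (m : Ideal R) [m.IsMaximal] (hm : m.comap (algebraMap k R) = IsLocalRing.maximalIdeal k)
    [Algebra.IsSmoothAt k m] (d : ℕ) (hd : 0 < d)
    (hdim : Module.finrank (R ⧸ m) ((R ⧸ m) ⊗[R] Ω[R⁄k]) = d) :
    ∃ g : R, g ∉ m ∧ ∃ φ : MvPolynomial (Fin d) k →ₐ[k] Localization.Away g,
      φ.toRingHom.Etale ∧
      Function.Surjective
        ((Ideal.Quotient.mk (m.map (algebraMap R (Localization.Away g)))).comp φ.toRingHom) := by
  classical
  haveI : Finite (R ⧸ m) := finite_quotient k R m hm
  haveI : Finite m.ResidueField := inferInstance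
  have hdim' : Module.finrank m.ResidueField (m.ResidueField ⊗[R] Ω[R⁄k]) = d :=
    (finrank_residueField_eq R m Ω[R⁄k]).trans hdim
  obtain ⟨θ, hθ⟩ := IsCyclic.exists_generator (α := (m.ResidueField)ˣ)
  obtain ⟨x, hx0, hli, hsp⟩ := exists_coords k R m d hd hdim' (θ : m.ResidueField)
  let φ₀ : MvPolynomial (Fin d) k →ₐ[k] R := MvPolynomial.aeval x
  letI : Algebra (MvPolynomial (Fin d) k) R := φ₀.toRingHom.toAlgebra
  haveI : IsScalarTower k (MvPolynomial (Fin d) k) R :=
    IsScalarTower.of_algebraMap_eq' φ₀.comp_algebraMap.symm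
  have hX : ∀ i, algebraMap (MvPolynomial (Fin d) k) R (X i) = x i := fun i => aeval_X x i
  obtain ⟨b, hb⟩ := exists_basis_localization k R m x hli hsp
  haveI : Algebra.FormallyEtale (MvPolynomial (Fin d) k) (Localization.AtPrime m) :=
    formallyEtale_localization k R m b (fun i => by rw [hb, hX])
  haveI : Algebra.FinitePresentation (MvPolynomial (Fin d) k) R :=
    Algebra.FinitePresentation.of_restrict_scalars_finitePresentation k _ R
  haveI : Algebra.IsEtaleAt (MvPolynomial (Fin d) k) m := ‹_›
  obtain ⟨g, hg, hEt⟩ := Algebra.exists_etale_of_isEtaleAt (R := MvPolynomial (Fin d) k) m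
  refine ⟨g, hg, IsScalarTower.toAlgHom k (MvPolynomial (Fin d) k) (Localization.Away g), ?_, ?_⟩
  · exact RingHom.etale_algebraMap.mpr hEt
  · set I : Ideal (Localization.Away g) := m.map (algebraMap R (Localization.Away g)) with hI
    let ρ : R →+* Localization.Away g ⧸ I :=
      (Ideal.Quotient.mk I).comp (algebraMap R (Localization.Away g))
    have hρm : ∀ a ∈ m, ρ a = 0 := fun a ha =>
      Ideal.Quotient.eq_zero_iff_mem.mpr (Ideal.mem_map_of_mem _ ha)
    -- ρ is surjective
    have hρ : Function.Surjective ρ := by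
      intro z
      obtain ⟨w, rfl⟩ := Ideal.Quotient.mk_surjective z
      obtain ⟨⟨r, s⟩, hrs⟩ := IsLocalization.surj (Submonoid.powers g) w
      have hs : (s : R) ∉ m := by
        obtain ⟨n, hn⟩ := s.2
        rw [← hn]
        exact fun h => hg (Ideal.IsPrime.mem_of_pow_mem inferInstance n h)
      obtain ⟨r', i, hi, hri⟩ := Ideal.IsMaximal.exists_inv ‹m.IsMaximal› hs
      refine ⟨r * r', ?_⟩
      have h1 : ρ (r' * s + i) = 1 := by rw [hri, map_one]
      have h2 : ρ (r' * s + i) = ρ r' * ρ s := by rw [map_add, hρm i hi, add_zero, map_mul]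
      have h3 : Ideal.Quotient.mk I w * ρ s = ρ r := by
        change Ideal.Quotient.mk I w * Ideal.Quotient.mk I (algebraMap R _ s) =
          Ideal.Quotient.mk I (algebraMap R _ r)
        rw [← map_mul, hrs]
      calc ρ (r * r') = ρ r * ρ r' := map_mul _ _ _
        _ = Ideal.Quotient.mk I w * (ρ r' * ρ s) := by rw [← h3]; ring
        _ = Ideal.Quotient.mk I w := by rw [← h2, h1, mul_one]
    intro z
    obtain ⟨r, rfl⟩ := hρ z
    have hψ : ∀ p : MvPolynomial (Fin d) k,
        ((Ideal.Quotient.mk I).comp
          (IsScalarTower.toAlgHom k (MvPolynomial (Fin d) k) (Localization.Away g)).toRingHom) p =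
        ρ (algebraMap (MvPolynomial (Fin d) k) R p) := by
      intro p
      change Ideal.Quotient.mk I (algebraMap (MvPolynomial (Fin d) k) (Localization.Away g) p) = _
      rw [IsScalarTower.algebraMap_apply (MvPolynomial (Fin d) k) R (Localization.Away g)]
      rfl
    by_cases hr : algebraMap R m.ResidueField r = 0
    · refine ⟨0, ?_⟩
      rw [map_zero]
      have : r ∈ m := by
        rw [← Ideal.ker_algebraMap_residueField m, RingHom.mem_ker]; exact hr
      exact (hρm r this).symm
    · obtain ⟨n, hn⟩ : ∃ n : ℕ, (θ : m.ResidueField) ^ n = algebraMap R m.ResidueField r := by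
        have hu := hθ (Units.mk0 _ hr)
        rw [← mem_powers_iff_mem_zpowers] at hu
        obtain ⟨n, hn⟩ := hu
        exact ⟨n, by simpa using congrArg Units.val hn⟩
      refine ⟨X ⟨0, hd⟩ ^ n, ?_⟩
      rw [hψ, map_pow, hX]
      have hmem : x ⟨0, hd⟩ ^ n - r ∈ m := by
        rw [← Ideal.ker_algebraMap_residueField m, RingHom.mem_ker, map_sub, map_pow, hx0, hn,
          sub_self]
      have := hρm _ hmem
      rwa [map_sub, sub_eq_zero] at this

end E

end Groth.Agent.Lib.helper19.EtChart
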