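import Mathlib
import Groth.Agent.Lib.helper19.SmChart1v

set_option autoImplicit false
set_option linter.style.haveILetI false
universe v w
open TensorProduct KaehlerDifferential

namespace Groth.Agent.Lib.Helper19.SmSliceRing

theorem exists_coords_of_span (C : Type v) (B : Type w) [CommRing C] [CommRing B] [Algebra C B]
    (q : Ideal B) [q.IsPrime] (s : Set B)
    [Module.Finite q.ResidueField (q.ResidueField ⊗[B] Ω[B⁄C])]
    (hspan : Submodule.span q.ResidueField
      {z : q.ResidueField ⊗[B] Ω[B⁄C] | ∃ y ∈ s, z = (1 : q.ResidueField) ⊗ₜ[B] D C B y} = ⊤) :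
    ∃ (d : ℕ) (x : Fin d → B), (∀ i, x i ∈ s) ∧
      LinearIndependent q.ResidueField (fun i => (1 : q.ResidueField) ⊗ₜ[B] D C B (x i)) ∧
      Submodule.span q.ResidueField
        (Set.range fun i => (1 : q.ResidueField) ⊗ₜ[B] D C B (x i)) = ⊤ := by
  classical
  obtain ⟨f, hfs, hfspan, hfli⟩ := Submodule.exists_fun_fin_finrank_span_eq q.ResidueField
    {z : q.ResidueField ⊗[B] Ω[B⁄C] | ∃ y ∈ s, z = (1 : q.ResidueField) ⊗ₜ[B] D C B y}
  have hfs' : ∀ i, ∃ y ∈ s, f i = (1 : q.ResidueField) ⊗ₜ[B] D C B y := fun i => hfs i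
  choose y hyq hy using hfs'
  have : (fun i => (1 : q.ResidueField) ⊗ₜ[B] D C B (y i)) = f := funext fun i => (hy i).symm
  refine ⟨_, y, hyq, ?_, ?_⟩
  · rw [this]; exact hfli
  · rw [this, hfspan, hspan]

set_option backward.isDefEq.respectTransparency false in
theorem slice (C : Type v) (B : Type w) [CommRing C] [CommRing B] [Algebra C B]
    [Algebra.Smooth C B] (J : Ideal B)
    (hsurj : Function.Surjective ((Ideal.Quotient.mk J).comp (algebraMap C B)))
    (q : Ideal B) [q.IsPrime] (hJq : J ≤ q) :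
    ∃ f : B, f ∉ q ∧ ∃ J₀ : Ideal (Localization.Away f),
      J₀ ≤ J.map (algebraMap B (Localization.Away f)) ∧
      ((Ideal.Quotient.mk J₀).comp
        ((algebraMap B (Localization.Away f)).comp (algebraMap C B))).Etale := by
  classical
  haveI : Algebra.FinitePresentation C B := Algebra.Smooth.finitePresentation
  haveI : Algebra.IsSmoothAt C q := inferInstance
  haveI : Module.Finite q.ResidueField (q.ResidueField ⊗[B] Ω[B⁄C]) := inferInstance
  have hspan : Submodule.span q.ResidueField
      {z : q.ResidueField ⊗[B] Ω[B⁄C] | ∃ y ∈ (J : Set B), z = (1 : q.ResidueField) ⊗ₜ[B] D C B y}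
      = ⊤ := by
    rw [eq_top_iff, ← SmChart1v.span_tmul_D_eq_top C B q, Submodule.span_le]
    rintro _ ⟨r, rfl⟩
    obtain ⟨c, hc⟩ := hsurj (Ideal.Quotient.mk J r)
    have h1 : r - algebraMap C B c ∈ J := by
      rw [← Ideal.Quotient.eq]
      exact hc.symm
    apply Submodule.subset_span
    refine ⟨r - algebraMap C B c, h1, ?_⟩
    show (1 : q.ResidueField) ⊗ₜ[B] D C B r = _
    rw [map_sub, Derivation.map_algebraMap, sub_zero]
  obtain ⟨d, x, hxJ, hli, hsp⟩ := exists_coords_of_span C B q (J : Set B) hspan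
  obtain ⟨f, hf, hφ⟩ := SmChart1v.chart_of_coords C B q x hli hsp
  refine ⟨f, hf, ?_⟩
  let Bf := Localization.Away f
  let φ : MvPolynomial (Fin d) C →+* Bf :=
    (algebraMap B Bf).comp (MvPolynomial.aeval x : MvPolynomial (Fin d) C →ₐ[C] B).toRingHom
  have hφC : φ.comp MvPolynomial.C = (algebraMap B Bf).comp (algebraMap C B) := by
    ext a
    simp [φ]
  let ev0 : MvPolynomial (Fin d) C →ₐ[C] C := MvPolynomial.aeval (fun _ : Fin d => (0 : C))
  have hev0 : Function.Surjective ev0 := fun c => ⟨MvPolynomial.C c, by simp [ev0]⟩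
  let I : Ideal (MvPolynomial (Fin d) C) := RingHom.ker ev0.toRingHom
  letI : Algebra (MvPolynomial (Fin d) C) Bf := φ.toAlgebra
  haveI : Algebra.Etale (MvPolynomial (Fin d) C) Bf := RingHom.etale_algebraMap.mp hφ
  let J₀ : Ideal Bf := I.map (algebraMap (MvPolynomial (Fin d) C) Bf)
  refine ⟨J₀, ?_, ?_⟩
  · -- `J₀ ≤ J B_f`
    rw [Ideal.map_le_iff_le_comap]
    intro h hh
    have hh0 : ev0 h = 0 := hh
    rw [Ideal.mem_comap]
    show φ h ∈ J.map (algebraMap B Bf)
    have h1 : (Ideal.Quotient.mk (J.map (algebraMap B Bf))).comp φ =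
        ((Ideal.Quotient.mk (J.map (algebraMap B Bf))).comp
          ((algebraMap B Bf).comp (algebraMap C B))).comp ev0.toRingHom := by
      apply MvPolynomial.ringHom_ext
      · intro a
        have := congrArg (fun F => F a) hφC
        simp only [RingHom.comp_apply] at this
        simp [ev0, this]
      · intro i
        have h2 : φ (MvPolynomial.X i) = algebraMap B Bf (x i) := by simp [φ]
        simp only [RingHom.comp_apply, h2]
        rw [Ideal.Quotient.eq_zero_iff_mem.mpr (Ideal.mem_map_of_mem _ (hxJ i))]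
        simp [ev0]
    have h3 := congrArg (fun F => F h) h1
    simp only [RingHom.comp_apply] at h3
    rw [← Ideal.Quotient.eq_zero_iff_mem, h3]
    have : ev0.toRingHom h = 0 := hh0
    rw [this]
    simp
  · -- étaleness
    haveI : Algebra.Etale (MvPolynomial (Fin d) C ⧸ I) (Bf ⧸ J₀) :=
      Algebra.Etale.of_equiv (R := MvPolynomial (Fin d) C ⧸ I)
        (A := (MvPolynomial (Fin d) C ⧸ I) ⊗[MvPolynomial (Fin d) C] Bf) (B := Bf ⧸ J₀)
        (Algebra.TensorProduct.quotIdealMapEquivQuotTensor Bf I).symm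
    let e : (MvPolynomial (Fin d) C ⧸ I) ≃ₐ[C] C :=
      Ideal.quotientKerAlgEquivOfSurjective hev0
    haveI : Algebra.Etale C (MvPolynomial (Fin d) C ⧸ I) := Algebra.Etale.of_equiv e.symm
    haveI : IsScalarTower C (MvPolynomial (Fin d) C) Bf := by
      refine IsScalarTower.of_algebraMap_eq' (R := C) (S := MvPolynomial (Fin d) C) (A := Bf) ?_
      rw [RingHom.algebraMap_toAlgebra, MvPolynomial.algebraMap_eq, hφC,
        IsScalarTower.algebraMap_eq C B Bf]
    haveI htower : IsScalarTower C (MvPolynomial (Fin d) C ⧸ I) (Bf ⧸ J₀) := by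
      refine IsScalarTower.of_algebraMap_eq' (R := C) (S := MvPolynomial (Fin d) C ⧸ I)
        (A := Bf ⧸ J₀) ?_
      ext c
      have h4 : algebraMap C (MvPolynomial (Fin d) C ⧸ I) c =
          Ideal.Quotient.mk I (MvPolynomial.C c) := rfl
      have h5 := congrArg (fun F => F c) hφC
      simp only [RingHom.comp_apply] at h5
      rw [RingHom.comp_apply, h4, Ideal.Quotient.algebraMap_quotient_map_quotient]
      show Ideal.Quotient.mk J₀ (algebraMap C Bf c) = Ideal.Quotient.mk J₀ (φ (MvPolynomial.C c))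
      rw [h5, IsScalarTower.algebraMap_apply C B Bf]
    haveI : Algebra.Etale C (Bf ⧸ J₀) :=
      Algebra.Etale.comp C (MvPolynomial (Fin d) C ⧸ I) (Bf ⧸ J₀)
    have h6 := RingHom.etale_algebraMap.mpr this
    convert h6 using 1
    ext c
    simp only [RingHom.comp_apply]
    show _ = Ideal.Quotient.mk J₀ (algebraMap C Bf c)
    rw [IsScalarTower.algebraMap_apply C B Bf]

end Groth.Agent.Lib.Helper19.SmSliceRing
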