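import Mathlib
import Groth.Agent.Lib.helper19.SmSliceRing

set_option autoImplicit false
set_option linter.style.haveILetI false
universe v w
open TensorProduct KaehlerDifferential

namespace Groth.Agent.Lib.Helper19.SmSliceRing2

open Groth.Agent.Lib.Helper19

theorem span_of_unramified (C : Type v) (B : Type w) [CommRing C] [CommRing B] [Algebra C B]
    (J : Ideal B) [Algebra.FormallyUnramified C (B ⧸ J)] (q : Ideal B) [q.IsPrime]
    (hJq : J ≤ q) :
    Submodule.span q.ResidueField
      {z : q.ResidueField ⊗[B] Ω[B⁄C] | ∃ y ∈ (J : Set B), z = (1 : q.ResidueField) ⊗ₜ[B] D C B y}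
      = ⊤ := by
  rw [eq_top_iff, ← SmChart1v.span_tmul_D_eq_top C B q, Submodule.span_le]
  rintro _ ⟨r, rfl⟩
  have hex := KaehlerDifferential.exact_kerCotangentToTensor_mapBaseChange C B (B ⧸ J)
    Ideal.Quotient.mk_surjective
  haveI : Subsingleton Ω[(B ⧸ J)⁄C] := (Algebra.formallyUnramified_iff C (B ⧸ J)).mp inferInstance
  have h0 : KaehlerDifferential.mapBaseChange C B (B ⧸ J) ((1 : B ⧸ J) ⊗ₜ[B] D C B r) = 0 :=
    Subsingleton.elim _ _
  obtain ⟨c, hc⟩ := (hex _).mp h0
  obtain ⟨⟨y, hy⟩, rfl⟩ := Ideal.toCotangent_surjective _ c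
  rw [KaehlerDifferential.kerCotangentToTensor_toCotangent] at hc
  have hyJ : y ∈ J := by
    have : Ideal.Quotient.mk J y = 0 := hy
    exact Ideal.Quotient.eq_zero_iff_mem.mp this
  apply Submodule.subset_span
  refine ⟨y, hyJ, ?_⟩
  have hle : ∀ a ∈ J, (Algebra.ofId B q.ResidueField) a = 0 := by
    intro a ha
    exact Ideal.algebraMap_residueField_eq_zero.mpr (hJq ha)
  let φ : (B ⧸ J) →ₗ[B] q.ResidueField :=
    (Ideal.Quotient.liftₐ J (Algebra.ofId B q.ResidueField) hle).toLinearMap
  have h1 := congrArg (LinearMap.rTensor Ω[B⁄C] φ) hc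
  simp only [LinearMap.rTensor_tmul] at h1
  have hφ1 : φ 1 = 1 := map_one (Ideal.Quotient.liftₐ J (Algebra.ofId B q.ResidueField) hle)
  rw [hφ1] at h1
  exact h1.symm

set_option backward.isDefEq.respectTransparency false in
theorem slice_of_span (C : Type v) (B : Type w) [CommRing C] [CommRing B] [Algebra C B]
    [Algebra.Smooth C B] (J : Ideal B)
    (q : Ideal B) [q.IsPrime] (hJq : J ≤ q)
    (hspan : Submodule.span q.ResidueField
      {z : q.ResidueField ⊗[B] Ω[B⁄C] | ∃ y ∈ (J : Set B), z = (1 : q.ResidueField) ⊗ₜ[B] D C B y}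
      = ⊤) :
    ∃ f : B, f ∉ q ∧ ∃ J₀ : Ideal (Localization.Away f),
      J₀ ≤ J.map (algebraMap B (Localization.Away f)) ∧
      ((Ideal.Quotient.mk J₀).comp
        ((algebraMap B (Localization.Away f)).comp (algebraMap C B))).Etale := by
  classical
  haveI : Algebra.FinitePresentation C B := Algebra.Smooth.finitePresentation
  haveI : Algebra.IsSmoothAt C q := inferInstance
  haveI : Module.Finite q.ResidueField (q.ResidueField ⊗[B] Ω[B⁄C]) := inferInstance
  obtain ⟨d, x, hxJ, hli, hsp⟩ := SmSliceRing.exists_coords_of_span C B q (J : Set B) hspan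
  obtain ⟨f, hf, hφ⟩ := SmChart1v.chart_of_coords C B q x hli hsp
  refine ⟨f, hf, ?_⟩
  let Bf := Localization.Away f
  let φ : MvPolynomial (Fin d) C →+* Bf :=
    (algebraMap B Bf).comp (MvPolynomial.aeval x : MvPolynomial (Fin d) C →ₐ[C] B).toRingHom
  have hφC : φ.comp MvPolynomial.C = (algebraMap B Bf).comp (algebraMap C B) := by
    ext a
    simp [φ]
  let ev0 : MvPolynomial (Fin d) C →ₐ[C] C := MvPolynomial.aeval (fun _ : Fin d => (0 : C))
  have hev0 : Function.Surjective ev0 := fun c => ⟨MvPolynomial.C c, by simp [ev0]⟩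
  let I : Ideal (MvPolynomial (Fin d) C) := RingHom.ker ev0.toRingHom
  letI : Algebra (MvPolynomial (Fin d) C) Bf := φ.toAlgebra
  haveI : Algebra.Etale (MvPolynomial (Fin d) C) Bf := RingHom.etale_algebraMap.mp hφ
  let J₀ : Ideal Bf := I.map (algebraMap (MvPolynomial (Fin d) C) Bf)
  refine ⟨J₀, ?_, ?_⟩
  · -- `J₀ ≤ J B_f`
    rw [Ideal.map_le_iff_le_comap]
    intro h hh
    have hh0 : ev0 h = 0 := hh
    rw [Ideal.mem_comap]
    show φ h ∈ J.map (algebraMap B Bf)
    have h1 : (Ideal.Quotient.mk (J.map (algebraMap B Bf))).comp φ =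
        ((Ideal.Quotient.mk (J.map (algebraMap B Bf))).comp
          ((algebraMap B Bf).comp (algebraMap C B))).comp ev0.toRingHom := by
      apply MvPolynomial.ringHom_ext
      · intro a
        have := congrArg (fun F => F a) hφC
        simp only [RingHom.comp_apply] at this
        simp [ev0, this]
      · intro i
        have h2 : φ (MvPolynomial.X i) = algebraMap B Bf (x i) := by simp [φ]
        simp only [RingHom.comp_apply, h2]
        rw [Ideal.Quotient.eq_zero_iff_mem.mpr (Ideal.mem_map_of_mem _ (hxJ i))]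
        simp [ev0]
    have h3 := congrArg (fun F => F h) h1
    simp only [RingHom.comp_apply] at h3
    rw [← Ideal.Quotient.eq_zero_iff_mem, h3]
    have : ev0.toRingHom h = 0 := hh0
    rw [this]
    simp
  · -- étaleness
    haveI : Algebra.Etale (MvPolynomial (Fin d) C ⧸ I) (Bf ⧸ J₀) :=
      Algebra.Etale.of_equiv (R := MvPolynomial (Fin d) C ⧸ I)
        (A := (MvPolynomial (Fin d) C ⧸ I) ⊗[MvPolynomial (Fin d) C] Bf) (B := Bf ⧸ J₀)
        (Algebra.TensorProduct.quotIdealMapEquivQuotTensor Bf I).symm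
    let e : (MvPolynomial (Fin d) C ⧸ I) ≃ₐ[C] C :=
      Ideal.quotientKerAlgEquivOfSurjective hev0
    haveI : Algebra.Etale C (MvPolynomial (Fin d) C ⧸ I) := Algebra.Etale.of_equiv e.symm
    haveI : IsScalarTower C (MvPolynomial (Fin d) C) Bf := by
      refine IsScalarTower.of_algebraMap_eq' (R := C) (S := MvPolynomial (Fin d) C) (A := Bf) ?_
      rw [RingHom.algebraMap_toAlgebra, MvPolynomial.algebraMap_eq, hφC,
        IsScalarTower.algebraMap_eq C B Bf]
    haveI htower : IsScalarTower C (MvPolynomial (Fin d) C ⧸ I) (Bf ⧸ J₀) := by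
      refine IsScalarTower.of_algebraMap_eq' (R := C) (S := MvPolynomial (Fin d) C ⧸ I)
        (A := Bf ⧸ J₀) ?_
      ext c
      have h4 : algebraMap C (MvPolynomial (Fin d) C ⧸ I) c =
          Ideal.Quotient.mk I (MvPolynomial.C c) := rfl
      have h5 := congrArg (fun F => F c) hφC
      simp only [RingHom.comp_apply] at h5
      rw [RingHom.comp_apply, h4, Ideal.Quotient.algebraMap_quotient_map_quotient]
      show Ideal.Quotient.mk J₀ (algebraMap C Bf c) = Ideal.Quotient.mk J₀ (φ (MvPolynomial.C c))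
      rw [h5, IsScalarTower.algebraMap_apply C B Bf]
    haveI : Algebra.Etale C (Bf ⧸ J₀) :=
      Algebra.Etale.comp C (MvPolynomial (Fin d) C ⧸ I) (Bf ⧸ J₀)
    have h6 := RingHom.etale_algebraMap.mpr this
    convert h6 using 1
    ext c
    simp only [RingHom.comp_apply]
    show _ = Ideal.Quotient.mk J₀ (algebraMap C Bf c)
    rw [IsScalarTower.algebraMap_apply C B Bf]


theorem slice' (C : Type v) (B : Type w) [CommRing C] [CommRing B] [Algebra C B]
    [Algebra.Smooth C B] (J : Ideal B) [Algebra.FormallyUnramified C (B ⧸ J)]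
    (q : Ideal B) [q.IsPrime] (hJq : J ≤ q) :
    ∃ f : B, f ∉ q ∧ ∃ J₀ : Ideal (Localization.Away f),
      J₀ ≤ J.map (algebraMap B (Localization.Away f)) ∧
      ((Ideal.Quotient.mk J₀).comp
        ((algebraMap B (Localization.Away f)).comp (algebraMap C B))).Etale :=
  slice_of_span C B J q hJq (span_of_unramified C B J q hJq)

theorem slice_away (C : Type v) (B : Type w) [CommRing C] [CommRing B] [Algebra C B]
    [Algebra.Smooth C B] (J : Ideal B) [Algebra.FormallyUnramified C (B ⧸ J)]
    (q : Ideal B) [q.IsPrime] (hJq : J ≤ q) :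
    ∃ f : B, f ∉ q ∧ ∀ (B' : Type w) [CommRing B'] [Algebra B B'] [IsLocalization.Away f B'],
      ∃ J₀ : Ideal B', J₀ ≤ J.map (algebraMap B B') ∧
        ((Ideal.Quotient.mk J₀).comp ((algebraMap B B').comp (algebraMap C B))).Etale := by
  obtain ⟨f, hf, J₀, hJ₀, het⟩ := slice' C B J q hJq
  refine ⟨f, hf, ?_⟩
  intro B' _ _ _
  let e : Localization.Away f ≃ₐ[B] B' :=
    IsLocalization.algEquiv (Submonoid.powers f) (Localization.Away f) B'
  let J₀' : Ideal B' := J₀.map (e : Localization.Away f →+* B')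
  have he : (e : Localization.Away f →+* B').comp (algebraMap B (Localization.Away f)) =
      algebraMap B B' := by
    ext b
    exact e.commutes b
  refine ⟨J₀', ?_, ?_⟩
  · calc J₀' ≤ (J.map (algebraMap B (Localization.Away f))).map
          (e : Localization.Away f →+* B') := Ideal.map_mono hJ₀
      _ = J.map (algebraMap B B') := by rw [Ideal.map_map, he]
  · let ψ : C →+* (Localization.Away f ⧸ J₀) :=
      (Ideal.Quotient.mk J₀).comp ((algebraMap B (Localization.Away f)).comp (algebraMap C B))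
    let ψ' : C →+* (B' ⧸ J₀') :=
      (Ideal.Quotient.mk J₀').comp ((algebraMap B B').comp (algebraMap C B))
    letI : Algebra C (Localization.Away f ⧸ J₀) := ψ.toAlgebra
    letI : Algebra C (B' ⧸ J₀') := ψ'.toAlgebra
    haveI : Algebra.Etale C (Localization.Away f ⧸ J₀) := RingHom.etale_algebraMap.mp het
    let eq : (Localization.Away f ⧸ J₀) ≃+* (B' ⧸ J₀') :=
      Ideal.quotientEquiv J₀ J₀' e.toRingEquiv rfl
    let eqA : (Localization.Away f ⧸ J₀) ≃ₐ[C] (B' ⧸ J₀') :=
      { eq with
        commutes' := fun c => by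
          show eq (Ideal.Quotient.mk J₀
            (algebraMap B (Localization.Away f) (algebraMap C B c))) = _
          rw [Ideal.quotientEquiv_mk]
          show Ideal.Quotient.mk J₀' (e (algebraMap B (Localization.Away f) (algebraMap C B c))) = _
          rw [e.commutes]
          rfl }
    have h1 : Algebra.Etale C (B' ⧸ J₀') :=
      Algebra.Etale.of_equiv (R := C) (A := Localization.Away f ⧸ J₀) (B := B' ⧸ J₀') eqA
    exact RingHom.etale_algebraMap.mpr h1

end Groth.Agent.Lib.Helper19.SmSliceRing2
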