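import Mathlib
import Groth.Agent.Lib.helper19.SmSliceRing2
import Groth.Agent.Lib.helper19.SmSlice2

set_option autoImplicit false
set_option linter.style.haveILetI false
universe u
open CategoryTheory CategoryTheory.Limits AlgebraicGeometry

namespace Groth.Agent.Lib.Helper19.SmSliceSch

/-- Étale slices: a closed subscheme of a smooth `Y`-scheme which is unramified over `Y` is locally
contained in a closed subscheme étale over `Y`. -/
theorem exists_etale_slice {X Y Z : Scheme.{u}} (f : X ⟶ Y) [Smooth f] (i : Z ⟶ X)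
    [IsClosedImmersion i] [FormallyUnramified (i ≫ f)] (z : Z) :
    ∃ (U : X.Opens) (_ : i.base z ∈ U) (W : Scheme.{u}) (j : W ⟶ (U : Scheme.{u}))
      (_ : IsClosedImmersion j) (_ : Etale (j ≫ U.ι ≫ f))
      (g : ((i ⁻¹ᵁ U : Z.Opens) : Scheme.{u}) ⟶ W), g ≫ j = i ∣_ U := by
  classical
  obtain ⟨_, ⟨V, hV, rfl⟩, hyV, -⟩ := Y.isBasis_affineOpens.exists_subset_of_mem_open
    (Set.mem_univ (f (i z))) isOpen_univ
  obtain ⟨_, ⟨U₀, hU₀, rfl⟩, hxU₀, hU₀V⟩ := X.isBasis_affineOpens.exists_subset_of_mem_open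
    (show i z ∈ ((f ⁻¹ᵁ V : X.Opens) : Set X) from hyV) (f ⁻¹ᵁ V).2
  have hle : U₀ ≤ f ⁻¹ᵁ V := hU₀V
  -- rings
  letI : Algebra Γ(Y, V) Γ(X, U₀) := (f.appLE V U₀ hle).hom.toAlgebra
  haveI : Algebra.Smooth Γ(Y, V) Γ(X, U₀) := f.smooth_appLE hV hU₀ hle
  have hZ₀ : IsAffineOpen (i ⁻¹ᵁ U₀) := hU₀.preimage i
  let ρ : Γ(X, U₀) →+* Γ(Z, i ⁻¹ᵁ U₀) := (i.app U₀).hom
  have hρ : Function.Surjective ρ := i.app_surjective U₀ hU₀
  let J : Ideal Γ(X, U₀) := RingHom.ker ρ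
  -- the quotient is unramified
  have hle' : i ⁻¹ᵁ U₀ ≤ (i ≫ f) ⁻¹ᵁ V := fun a ha => hle ha
  have hcomp : (i ≫ f).appLE V (i ⁻¹ᵁ U₀) hle' = f.appLE V U₀ hle ≫ i.app U₀ := by
    rw [i.app_eq_appLE, Scheme.Hom.appLE_comp_appLE]
  haveI : Algebra.FormallyUnramified Γ(Y, V) (Γ(X, U₀) ⧸ J) := by
    letI : Algebra Γ(Y, V) Γ(Z, i ⁻¹ᵁ U₀) := ((i ≫ f).appLE V (i ⁻¹ᵁ U₀) hle').hom.toAlgebra
    haveI : Algebra.FormallyUnramified Γ(Y, V) Γ(Z, i ⁻¹ᵁ U₀) :=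
      HasRingHomProperty.appLE (P := @FormallyUnramified) (i ≫ f) inferInstance ⟨V, hV⟩
        ⟨_, hZ₀⟩ hle'
    let e : (Γ(X, U₀) ⧸ J) ≃+* Γ(Z, i ⁻¹ᵁ U₀) := RingHom.quotientKerEquivOfSurjective hρ
    let eA : Γ(Z, i ⁻¹ᵁ U₀) ≃ₐ[Γ(Y, V)] (Γ(X, U₀) ⧸ J) :=
      { e.symm with
        commutes' := fun c => by
          show e.symm _ = _
          rw [RingEquiv.symm_apply_eq]
          have := congrArg (fun F => F.hom c) hcomp
          exact this }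
    exact Algebra.FormallyUnramified.of_equiv eA
  -- the prime
  let q : Ideal Γ(X, U₀) := (hU₀.primeIdealOf ⟨i z, hxU₀⟩).asIdeal
  haveI : q.IsPrime := (hU₀.primeIdealOf ⟨i z, hxU₀⟩).2
  have hzZ₀ : z ∈ i ⁻¹ᵁ U₀ := hxU₀
  have hJq : J ≤ q := by
    have h1 := IsAffineOpen.comap_primeIdealOf_appLE (f := i) U₀ hU₀ (i ⁻¹ᵁ U₀) hZ₀ le_rfl hzZ₀
    have h2 : q = ((hZ₀.primeIdealOf ⟨z, hzZ₀⟩).comap (i.appLE U₀ (i ⁻¹ᵁ U₀) le_rfl).hom).asIdeal :=
      congrArg PrimeSpectrum.asIdeal h1.symm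
    intro b hb
    rw [h2]
    show (i.appLE U₀ (i ⁻¹ᵁ U₀) le_rfl).hom b ∈ (hZ₀.primeIdealOf ⟨z, hzZ₀⟩).asIdeal
    have hb0 : (i.app U₀).hom b = 0 := hb
    rw [Scheme.Hom.appLE_eq_app, hb0]
    exact Ideal.zero_mem _
  obtain ⟨f', hf'q, H⟩ := SmSliceRing2.slice_away Γ(Y, V) Γ(X, U₀) J q hJq
  -- the basic open
  let U : X.Opens := X.basicOpen f'
  have hU : IsAffineOpen U := hU₀.basicOpen f'
  have hUU₀ : U ≤ U₀ := X.basicOpen_le f'
  haveI : IsLocalization.Away f' Γ(X, U) := hU₀.isLocalization_basicOpen f'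
  obtain ⟨J₀, hJ₀, het⟩ := H Γ(X, U)
  have hxU : i z ∈ U := by
    by_contra hcon
    apply hf'q
    rw [Groth.Agent.Lib.Helper19.SmSlice2.mem_primeIdealOf_iff hU₀ (i z) hxU₀ f']
    exact (X.evaluation_eq_zero_iff_notMem_basicOpen (i z) hxU₀ f').mpr hcon
  refine ⟨U, hxU, Spec (CommRingCat.of (Γ(X, U) ⧸ J₀)),
    Spec.map (CommRingCat.ofHom (Ideal.Quotient.mk J₀)) ≫ hU.isoSpec.inv, ?_, ?_, ?_⟩
  · haveI : IsClosedImmersion (Spec.map (CommRingCat.ofHom (Ideal.Quotient.mk J₀))) :=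
      IsClosedImmersion.spec_of_surjective _ Ideal.Quotient.mk_surjective
    infer_instance
  · -- étale
    have hUV : U ≤ f ⁻¹ᵁ V := hUU₀.trans hle
    have h1 : (Spec.map (CommRingCat.ofHom (Ideal.Quotient.mk J₀)) ≫ hU.isoSpec.inv) ≫ U.ι ≫ f =
        Spec.map (f.appLE V U hUV ≫ CommRingCat.ofHom (Ideal.Quotient.mk J₀)) ≫ hV.fromSpec := by
      rw [Category.assoc, ← Category.assoc hU.isoSpec.inv, IsAffineOpen.isoSpec_inv_ι,
        ← hV.SpecMap_appLE_fromSpec f hU hUV, Spec.map_comp, Category.assoc]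
    rw [h1]
    haveI : IsOpenImmersion hV.fromSpec := hV.isOpenImmersion_fromSpec
    have hring : (f.appLE V U hUV ≫ CommRingCat.ofHom (Ideal.Quotient.mk J₀)).hom =
        (Ideal.Quotient.mk J₀).comp ((algebraMap Γ(X, U₀) Γ(X, U)).comp
          (algebraMap Γ(Y, V) Γ(X, U₀))) := by
      have h2 : f.appLE V U hUV = f.appLE V U₀ hle ≫ X.presheaf.map (homOfLE hUU₀).op :=
        (Scheme.Hom.appLE_map f hle (homOfLE hUU₀).op).symm
      rw [h2]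
      rfl
    haveI : Etale (Spec.map (f.appLE V U hUV ≫ CommRingCat.ofHom (Ideal.Quotient.mk J₀))) := by
      rw [HasRingHomProperty.Spec_iff (P := @Etale), hring]
      exact het
    infer_instance
  · -- the factorization
    have hker : J₀ ≤ RingHom.ker (i.app U).hom := by
      refine hJ₀.trans ?_
      rw [Ideal.map_le_iff_le_comap]
      intro b hb
      have hb0 : (i.app U₀).hom b = 0 := hb
      have hnat : X.presheaf.map (homOfLE hUU₀).op ≫ i.app U =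
          i.app U₀ ≫ Z.presheaf.map (homOfLE (show i ⁻¹ᵁ U ≤ i ⁻¹ᵁ U₀ from
            fun a ha => hUU₀ ha)).op := i.naturality (homOfLE hUU₀).op
      have h3 := congrArg (fun F => F.hom b) hnat
      show (i.app U).hom (algebraMap Γ(X, U₀) Γ(X, U) b) = 0
      have h4 : (i.app U).hom (algebraMap Γ(X, U₀) Γ(X, U) b) =
          (Z.presheaf.map (homOfLE (show i ⁻¹ᵁ U ≤ i ⁻¹ᵁ U₀ from
            fun a ha => hUU₀ ha)).op).hom ((i.app U₀).hom b) := h3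
      rw [h4, hb0, map_zero]
    let θ : (Γ(X, U) ⧸ J₀) →+* Γ(Z, i ⁻¹ᵁ U) :=
      Ideal.Quotient.lift J₀ (i.app U).hom (fun b hb => hker hb)
    have hθ : CommRingCat.ofHom (Ideal.Quotient.mk J₀) ≫ CommRingCat.ofHom θ = i.app U := by
      ext b
      rfl
    refine ⟨(i ⁻¹ᵁ U).toSpecΓ ≫ Spec.map (CommRingCat.ofHom θ), ?_⟩
    rw [Category.assoc, ← Category.assoc (Spec.map (CommRingCat.ofHom θ)), ← Spec.map_comp, hθ,
      ← Category.assoc, Scheme.Opens.toSpecΓ_naturality, Category.assoc,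
      IsAffineOpen.toSpecΓ_isoSpec_inv, Category.comp_id]

end Groth.Agent.Lib.Helper19.SmSliceSch
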