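import Mathlib
import Groth.Agent.Lib.helper19.SmSliceSch

set_option autoImplicit false
set_option linter.style.haveILetI false
universe u
open CategoryTheory CategoryTheory.Limits AlgebraicGeometry

namespace Groth.Agent.Lib.Helper19.EtExt

open Groth.Agent.Lib.Helper19

theorem main {S S₀ X Y : Scheme.{u}} (i : S₀ ⟶ S) [IsClosedImmersion i]
    (p : X ⟶ S) (q : Y ⟶ S) [Smooth q] (f₀ : pullback p i ⟶ Y)
    (hf₀ : f₀ ≫ q = pullback.fst p i ≫ p) (x₀ : ↥(pullback p i)) :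
    ∃ (U : Scheme.{u}) (e : U ⟶ X) (f : U ⟶ Y), Etale e ∧ f ≫ q = e ≫ p ∧
      IsOpenImmersion (pullback.snd e (pullback.fst p i)) ∧
      x₀ ∈ Set.range (pullback.snd e (pullback.fst p i)).base ∧
      pullback.snd e (pullback.fst p i) ≫ f₀ =
        pullback.fst e (pullback.fst p i) ≫ f := by
  classical
  let ι₀ : pullback p i ⟶ X := pullback.fst p i
  haveI : IsClosedImmersion ι₀ := inferInstance
  let π : pullback p q ⟶ X := pullback.fst p q
  haveI : Smooth π := inferInstance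
  let Γ : pullback p i ⟶ pullback p q := pullback.lift ι₀ f₀ hf₀.symm
  have hΓπ : Γ ≫ π = ι₀ := pullback.lift_fst _ _ _
  have hΓ₂ : Γ ≫ pullback.snd p q = f₀ := pullback.lift_snd _ _ _
  haveI : IsImmersion Γ := by
    haveI : IsImmersion (Γ ≫ π) := by rw [hΓπ]; infer_instance
    exact IsImmersion.of_comp Γ π
  let P' : (pullback p q).Opens := Γ.coborderRange
  let Γ' : pullback p i ⟶ P' := Γ.liftCoborder
  have hΓ' : Γ' ≫ P'.ι = Γ := Γ.liftCoborder_ι
  haveI : IsClosedImmersion Γ' := inferInstance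
  let πP : (P' : Scheme) ⟶ X := P'.ι ≫ π
  haveI : Smooth πP := inferInstance
  have hcomp : Γ' ≫ πP = ι₀ := by rw [← Category.assoc, hΓ', hΓπ]
  haveI : FormallyUnramified (Γ' ≫ πP) := by rw [hcomp]; infer_instance
  obtain ⟨U, hxU, W, j, hj, het, g, hg⟩ := SmSliceSch.exists_etale_slice πP Γ' x₀
  let e₀ : W ⟶ X := j ≫ U.ι ≫ πP
  let F₀ : W ⟶ Y := j ≫ U.ι ≫ P'.ι ≫ pullback.snd p q
  have hF₀ : F₀ ≫ q = e₀ ≫ p := by
    simp only [F₀, e₀, πP, π, Category.assoc, pullback.condition]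
  let T : (pullback p i).Opens := Γ' ⁻¹ᵁ U
  have hx₀T : x₀ ∈ T := hxU
  have hgT : g ≫ e₀ = T.ι ≫ ι₀ := by
    rw [show g ≫ e₀ = (g ≫ j) ≫ U.ι ≫ πP by simp only [e₀, Category.assoc], hg,
      ← Category.assoc, morphismRestrict_ι, Category.assoc, hcomp]
  let σ : (T : Scheme) ⟶ pullback e₀ ι₀ := pullback.lift g T.ι hgT
  have hσ₁ : σ ≫ pullback.fst e₀ ι₀ = g := pullback.lift_fst _ _ _
  have hσ₂ : σ ≫ pullback.snd e₀ ι₀ = T.ι := pullback.lift_snd _ _ _
  haveI : Etale e₀ := het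
  haveI : Etale (pullback.snd e₀ ι₀) := inferInstance
  haveI : Etale σ := by
    haveI : Etale (σ ≫ pullback.snd e₀ ι₀) := by rw [hσ₂]; infer_instance
    exact Etale.of_comp σ (pullback.snd e₀ ι₀)
  haveI : Mono σ := by
    haveI : Mono (σ ≫ pullback.snd e₀ ι₀) := by rw [hσ₂]; infer_instance
    exact mono_of_mono σ (pullback.snd e₀ ι₀)
  haveI : IsOpenImmersion σ := IsOpenImmersion.of_flat_of_mono σ
  haveI : IsClosedImmersion g := by
    haveI : IsClosedImmersion (g ≫ j) := by rw [hg]; infer_instance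
    exact IsClosedImmersion.of_comp g j
  haveI : IsClosedImmersion (pullback.fst e₀ ι₀) := inferInstance
  haveI : IsClosedImmersion σ := by
    haveI : IsClosedImmersion (σ ≫ pullback.fst e₀ ι₀) := by rw [hσ₁]; infer_instance
    exact IsClosedImmersion.of_comp σ (pullback.fst e₀ ι₀)
  let C : Set W := (pullback.fst e₀ ι₀).base '' (Set.range σ.base)ᶜ
  have hC : IsClosed C :=
    (pullback.fst e₀ ι₀).isClosedEmbedding.isClosedMap _
      σ.isOpenEmbedding.isOpen_range.isClosed_compl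
  let W' : W.Opens := ⟨Cᶜ, hC.isOpen_compl⟩
  let e : (W' : Scheme) ⟶ X := W'.ι ≫ e₀
  let F : (W' : Scheme) ⟶ Y := W'.ι ≫ F₀
  let k : pullback e ι₀ ⟶ pullback e₀ ι₀ :=
    pullback.map e ι₀ e₀ ι₀ W'.ι (𝟙 _) (𝟙 _) (by simp [e]) (by simp)
  have hk₁ : k ≫ pullback.fst e₀ ι₀ = pullback.fst e ι₀ ≫ W'.ι := pullback.lift_fst _ _ _
  have hk₂ : k ≫ pullback.snd e₀ ι₀ = pullback.snd e ι₀ :=
    (pullback.lift_snd _ _ _).trans (Category.comp_id _)
  haveI : IsOpenImmersion k := inferInstance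
  have hrange : Set.range k.base = Set.range σ.base := by
    rw [Scheme.Pullback.range_map]
    ext w
    simp only [Set.mem_inter_iff, Set.mem_preimage, Scheme.Opens.range_ι, Set.mem_range]
    constructor
    · rintro ⟨hw, -⟩
      by_contra hcon
      exact hw ⟨w, hcon, rfl⟩
    · rintro ⟨t, rfl⟩
      refine ⟨?_, ⟨_, rfl⟩⟩
      rintro ⟨w', hw', hww'⟩
      exact hw' ⟨t, ((pullback.fst e₀ ι₀).isClosedEmbedding.injective hww').symm⟩
  let iso := IsOpenImmersion.isoOfRangeEq k σ hrange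
  have hiso : iso.hom ≫ σ = k := IsOpenImmersion.isoOfRangeEq_hom_fac k σ hrange
  have hsnd : pullback.snd e ι₀ = iso.hom ≫ T.ι := by
    rw [← hk₂, ← hiso, Category.assoc, hσ₂]
  refine ⟨W', e, F, inferInstance, ?_, ?_, ?_, ?_⟩
  · simp only [F, e, Category.assoc, hF₀]
  · show IsOpenImmersion (pullback.snd e ι₀)
    rw [hsnd]; infer_instance
  · show x₀ ∈ Set.range (pullback.snd e ι₀).base
    rw [hsnd]
    obtain ⟨w, hw⟩ := (ConcreteCategory.bijective_of_isIso iso.hom.base).surjective ⟨x₀, hx₀T⟩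
    refine ⟨w, ?_⟩
    rw [Scheme.Hom.comp_base, TopCat.comp_app, hw]
    rfl
  · show pullback.snd e ι₀ ≫ f₀ = pullback.fst e ι₀ ≫ F
    have h1 : pullback.fst e ι₀ ≫ F = iso.hom ≫ g ≫ F₀ := by
      simp only [F]
      rw [← Category.assoc, ← hk₁, ← hiso, Category.assoc, Category.assoc, ← Category.assoc σ, hσ₁]
    have h2 : g ≫ F₀ = T.ι ≫ f₀ := by
      rw [show g ≫ F₀ = (g ≫ j) ≫ U.ι ≫ P'.ι ≫ pullback.snd p q by
        simp only [F₀, Category.assoc], hg, ← Category.assoc, morphismRestrict_ι, Category.assoc,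
        ← Category.assoc Γ', hΓ', hΓ₂]
    rw [h1, h2, hsnd, Category.assoc]

end Groth.Agent.Lib.Helper19.EtExt
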