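import Mathlib

set_option autoImplicit false
set_option linter.style.haveILetI false
universe u
open CategoryTheory CategoryTheory.Limits AlgebraicGeometry IsLocalRing

namespace Groth.Agent.Lib.Helper19.EtFib

/-- Local criterion for formal unramifiedness in terms of the fibre ring. -/
theorem local_unram_iff (R S : Type u) [CommRing R] [CommRing S] [IsLocalRing R] [IsLocalRing S]
    [Algebra R S] [IsLocalHom (algebraMap R S)] [Algebra.EssFiniteType R S] (J : Ideal S)
    (hJ : J = (maximalIdeal R).map (algebraMap R S))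
    (hle : maximalIdeal R ≤ J.comap (algebraMap R S)) :
    letI := (Ideal.quotientMap J (algebraMap R S) hle).toAlgebra
    Algebra.FormallyUnramified R S ↔ IsField (S ⧸ J) ∧
      Module.Finite (R ⧸ maximalIdeal R) (S ⧸ J) ∧
      Algebra.IsSeparable (R ⧸ maximalIdeal R) (S ⧸ J) := by
  constructor
  · intro h
    have h2 : J = maximalIdeal S := hJ.trans Algebra.FormallyUnramified.map_maximalIdeal
    subst h2
    have halg : (Ideal.quotientMap (maximalIdeal S) (algebraMap R S) hle).toAlgebra =
        (inferInstance : Algebra (ResidueField R) (ResidueField S)) := by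
      refine Algebra.algebra_ext _ _ fun r => ?_
      obtain ⟨r, rfl⟩ := Ideal.Quotient.mk_surjective r
      rfl
    rw [halg]
    refine ⟨(Ideal.Quotient.maximal_ideal_iff_isField_quotient _).mp inferInstance, ?_, ?_⟩
    · exact (inferInstance : Module.Finite (ResidueField R) (ResidueField S))
    · exact (inferInstance : Algebra.IsSeparable (ResidueField R) (ResidueField S))
  · rintro ⟨h1, -, h3⟩
    have hmax : J.IsMaximal := (Ideal.Quotient.maximal_ideal_iff_isField_quotient _).mpr h1
    have h2 : J = maximalIdeal S := IsLocalRing.eq_maximalIdeal hmax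
    subst h2
    have halg : (Ideal.quotientMap (maximalIdeal S) (algebraMap R S) hle).toAlgebra =
        (inferInstance : Algebra (ResidueField R) (ResidueField S)) := by
      refine Algebra.algebra_ext _ _ fun r => ?_
      obtain ⟨r, rfl⟩ := Ideal.Quotient.mk_surjective r
      rfl
    rw [halg] at h3
    haveI : Algebra.IsSeparable (ResidueField R) (ResidueField S) := h3
    exact Algebra.FormallyUnramified.of_map_maximalIdeal hJ.symm

lemma formallyUnramified_stalkMap_iff {X Y : Scheme.{u}} {f : X ⟶ Y} {x : X} (U : Y.Opens)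
    (hU : IsAffineOpen U) (V : X.Opens) (hV : IsAffineOpen V) (hVU : V ≤ f ⁻¹ᵁ U)
    (hx : x ∈ V) :
    letI := (f.appLE U V hVU).hom.toAlgebra
    (f.stalkMap x).hom.FormallyUnramified ↔
      Algebra.IsUnramifiedAt Γ(Y, U) (hV.primeIdealOf ⟨x, hx⟩).asIdeal := by
  let := (f.appLE U V hVU).hom.toAlgebra
  let p := (hU.primeIdealOf ⟨f x, hVU hx⟩).asIdeal
  let q := (hV.primeIdealOf ⟨x, hx⟩).asIdeal
  have : q.LiesOver p :=
    ⟨congr($(IsAffineOpen.comap_primeIdealOf_appLE U hU V hV hVU hx).1).symm⟩
  let := Localization.AtPrime.algebraOfLiesOver p q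
  trans Algebra.FormallyUnramified (Localization.AtPrime p) (Localization.AtPrime q)
  · rw [← RingHom.formallyUnramified_algebraMap]
    exact RingHom.FormallyUnramified.respectsIso.arrow_mk_iso_iff
      (IsAffineOpen.arrowStalkMapIso f U hU V hV hVU hx)
  · exact ⟨fun _ ↦ Algebra.FormallyUnramified.comp _ (Localization.AtPrime p) _,
      fun _ ↦ .of_restrictScalars Γ(Y, U) _ _⟩

theorem formallyUnramified_of_stalkMap {X Y : Scheme.{u}} (f : X ⟶ Y)
    (H : ∀ x : X, (f.stalkMap x).hom.FormallyUnramified) : FormallyUnramified f := by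
  rw [HasRingHomProperty.iff_appLE (P := @FormallyUnramified)]
  intro U V e
  let := (f.appLE U V e).hom.toAlgebra
  show (algebraMap Γ(Y, U.1) Γ(X, V.1)).FormallyUnramified
  rw [RingHom.formallyUnramified_algebraMap, Algebra.formallyUnramified_iff_forall]
  intro q
  have hx : V.2.fromSpec q ∈ V.1 := by
    have := V.2.range_fromSpec
    rw [← SetLike.mem_coe, ← this]
    exact ⟨q, rfl⟩
  have hq : V.2.primeIdealOf ⟨V.2.fromSpec q, hx⟩ = q := by
    haveI : IsOpenImmersion V.2.fromSpec := V.2.isOpenImmersion_fromSpec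
    apply V.2.fromSpec.isOpenEmbedding.injective
    exact V.2.fromSpec_primeIdealOf ⟨V.2.fromSpec q, hx⟩
  have := (formallyUnramified_stalkMap_iff U.1 U.2 V.1 V.2 e hx).mp (H _)
  rw [hq] at this
  exact this


theorem main {X Y : Scheme.{u}} (f : X ⟶ Y) [LocallyOfFinitePresentation f] :
    Etale f ↔ Flat f ∧ ∀ x : ↥X,
      letI φ := (f.stalkMap x).hom
      letI 𝔪 := IsLocalRing.maximalIdeal ↑(Y.presheaf.stalk (f.base x))
      letI := (Ideal.quotientMap (𝔪.map φ) φ Ideal.le_comap_map).toAlgebra
      IsField (↑(X.presheaf.stalk x) ⧸ 𝔪.map φ) ∧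
        Module.Finite (↑(Y.presheaf.stalk (f.base x)) ⧸ 𝔪) (↑(X.presheaf.stalk x) ⧸ 𝔪.map φ) ∧
        Algebra.IsSeparable (↑(Y.presheaf.stalk (f.base x)) ⧸ 𝔪)
          (↑(X.presheaf.stalk x) ⧸ 𝔪.map φ) := by
  have key : ∀ x : X, (f.stalkMap x).hom.FormallyUnramified ↔
      (letI φ := (f.stalkMap x).hom
      letI 𝔪 := IsLocalRing.maximalIdeal ↑(Y.presheaf.stalk (f.base x))
      letI := (Ideal.quotientMap (𝔪.map φ) φ Ideal.le_comap_map).toAlgebra
      IsField (↑(X.presheaf.stalk x) ⧸ 𝔪.map φ) ∧
        Module.Finite (↑(Y.presheaf.stalk (f.base x)) ⧸ 𝔪) (↑(X.presheaf.stalk x) ⧸ 𝔪.map φ) ∧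
        Algebra.IsSeparable (↑(Y.presheaf.stalk (f.base x)) ⧸ 𝔪)
          (↑(X.presheaf.stalk x) ⧸ 𝔪.map φ)) := by
    intro x
    letI : Algebra (Y.presheaf.stalk (f.base x)) (X.presheaf.stalk x) :=
      (f.stalkMap x).hom.toAlgebra
    haveI : IsLocalHom (algebraMap (Y.presheaf.stalk (f.base x)) (X.presheaf.stalk x)) :=
      inferInstanceAs <| IsLocalHom (f.stalkMap x).hom
    haveI : Algebra.EssFiniteType (Y.presheaf.stalk (f.base x)) (X.presheaf.stalk x) := by
      rw [← RingHom.essFiniteType_algebraMap, RingHom.algebraMap_toAlgebra]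
      exact LocallyOfFiniteType.stalkMap f x
    have h := local_unram_iff (Y.presheaf.stalk (f.base x)) (X.presheaf.stalk x)
      ((IsLocalRing.maximalIdeal ↑(Y.presheaf.stalk (f.base x))).map (f.stalkMap x).hom) rfl
      Ideal.le_comap_map
    have h' : (f.stalkMap x).hom.FormallyUnramified ↔
        Algebra.FormallyUnramified (Y.presheaf.stalk (f.base x)) (X.presheaf.stalk x) := by
      rw [← RingHom.formallyUnramified_algebraMap, RingHom.algebraMap_toAlgebra]
    exact h'.trans h
  constructor
  · intro hf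
    exact ⟨inferInstance, fun x => (key x).mp (FormallyUnramified.stalkMap f x)⟩
  · rintro ⟨hflat, H⟩
    haveI : FormallyUnramified f := formallyUnramified_of_stalkMap f fun x => (key x).mpr (H x)
    exact Etale.of_formallyUnramified_of_flat f

end Groth.Agent.Lib.Helper19.EtFib
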