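import Mathlib
import Groth.Prelude.Def_Hens2

set_option autoImplicit false
set_option linter.style.haveILetI false
universe u

namespace Groth.Agent.Lib.Helper19.HfpEt

open TensorProduct

/-- A map of algebras (source unramified, target formally smooth) which is bijective modulo
nilpotent ideals is injective. -/
theorem injective_of_nilpotent {Λ : Type*} [CommRing Λ] {E₁ E₂ : Type*} [CommRing E₁] [CommRing E₂]
    [Algebra Λ E₁] [Algebra Λ E₂] [Algebra.FormallyUnramified Λ E₁] [Algebra.FormallySmooth Λ E₂]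
    (f : E₁ →ₐ[Λ] E₂) (J₁ : Ideal E₁) (J₂ : Ideal E₂) (hJ₁ : IsNilpotent J₁)
    (hle : J₁ ≤ J₂.comap f)
    (hbij : Function.Bijective (Ideal.quotientMapₐ J₂ f hle)) : Function.Injective f := by
  let ē : (E₁ ⧸ J₁) ≃ₐ[Λ] (E₂ ⧸ J₂) := AlgEquiv.ofBijective (Ideal.quotientMapₐ J₂ f hle) hbij
  let g₀ : E₂ →ₐ[Λ] E₁ ⧸ J₁ := (ē.symm : (E₂ ⧸ J₂) →ₐ[Λ] (E₁ ⧸ J₁)).comp (Ideal.Quotient.mkₐ Λ J₂)
  let g : E₂ →ₐ[Λ] E₁ := Algebra.FormallySmooth.lift J₁ hJ₁ g₀
  have hg : ∀ y, Ideal.Quotient.mk J₁ (g y) = g₀ y := fun y =>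
    Algebra.FormallySmooth.mk_lift J₁ hJ₁ g₀ y
  have hid : g.comp f = AlgHom.id Λ E₁ := by
    apply Algebra.FormallyUnramified.ext J₁ hJ₁
    intro x
    rw [AlgHom.comp_apply, hg]
    show ē.symm (Ideal.Quotient.mk J₂ (f x)) = Ideal.Quotient.mk J₁ x
    rw [AlgEquiv.symm_apply_eq]
    rfl
  intro x y hxy
  have := congrArg g hxy
  have hx : g (f x) = x := AlgHom.congr_fun hid x
  have hy : g (f y) = y := AlgHom.congr_fun hid y
  rw [hx, hy] at this
  exact this

/-- For a flat quotient `B = H / K` over `A`, `K ∩ I H ⊆ I K`. -/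
theorem mem_mul_ker_of_flat {A : Type*} [CommRing A] (I : Ideal A) {H B : Type*} [CommRing H]
    [CommRing B] [Algebra A H] [Algebra A B] [Module.Flat A B] (φ : H →ₐ[A] B)
    (hφ : Function.Surjective φ) {x : H} (hx : φ x = 0) (hxI : x ∈ I.map (algebraMap A H)) :
    x ∈ I.map (algebraMap A H) * RingHom.ker φ := by
  classical
  have hx' : x ∈ I • (Submodule.span A (Set.range (id : H → H))) := by
    rw [Set.range_id, Submodule.span_univ, Ideal.smul_top_eq_map]
    exact hxI
  rw [Submodule.mem_ideal_smul_span_iff_exists_sum] at hx'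
  obtain ⟨a, ha, hsum⟩ := hx'
  -- index type: the support
  let ι := a.support
  have hsum' : x = ∑ i : ι, a (i : H) • (i : H) := by
    rw [← hsum]
    show (∑ i ∈ a.support, a i • i) = _
    rw [← Finset.sum_coe_sort]
  have hrel : ∑ i : ι, (fun i : ι => a (i : H)) i • (fun i : ι => φ (i : H)) i = 0 := by
    rw [← hx, hsum', map_sum]
    refine Finset.sum_congr rfl fun i _ => ?_
    rw [map_smul]
  obtain ⟨k, c, y, hy, hc⟩ := Module.Flat.isTrivialRelation_of_sum_smul_eq_zero
    (R := A) (M := B) hrel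
  replace hy : ∀ i : ι, φ (i : H) = ∑ j, c i j • y j := hy
  replace hc : ∀ j, ∑ i : ι, a (i : H) * c i j = 0 := hc
  choose η hη using fun j => hφ (y j)
  have hk : ∀ i : ι, (i : H) - ∑ j, c i j • η j ∈ RingHom.ker φ := by
    intro i
    rw [RingHom.mem_ker, map_sub, map_sum, hy i, sub_eq_zero]
    refine Finset.sum_congr rfl fun j _ => ?_
    rw [map_smul, hη]
  have hxe : x = ∑ i : ι, algebraMap A H (a i) * ((i : H) - ∑ j, c i j • η j) := by
    have h2 : ∑ i : ι, algebraMap A H (a i) * (∑ j, c i j • η j) = 0 := by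
      simp_rw [Finset.mul_sum]
      rw [Finset.sum_comm]
      refine Finset.sum_eq_zero fun j _ => ?_
      have : ∀ i : ι, algebraMap A H (a i) * c i j • η j = (a i * c i j) • η j := by
        intro i
        rw [mul_smul, Algebra.smul_def (a i)]
      simp_rw [this]
      rw [← Finset.sum_smul, hc j, zero_smul]
    simp_rw [mul_sub]
    rw [Finset.sum_sub_distrib, h2, sub_zero, hsum']
    refine Finset.sum_congr rfl fun i _ => ?_
    rw [Algebra.smul_def]
  rw [hxe]
  refine Ideal.sum_mem _ fun i _ => ?_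
  exact Ideal.mul_mem_mul (Ideal.mem_map_of_mem _ (ha i)) (hk i)

end Groth.Agent.Lib.Helper19.HfpEt
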