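import Mathlib
import Groth.Agent.Lib.helper19.HfpEt

set_option autoImplicit false
set_option linter.style.haveILetI false
universe u

namespace Groth.Agent.Lib.Helper19.EtLocalStd

open IsLocalRing

variable (A B : Type u) [CommRing A] [CommRing B] [IsLocalRing A] [IsLocalRing B] [Algebra A B]
  [IsLocalHom (algebraMap A B)] [Algebra.EssFiniteType A B]

theorem exists_surjection
    (hm : (maximalIdeal A).map (algebraMap A B) = maximalIdeal B)
    [Algebra.IsSeparable (ResidueField A) (ResidueField B)] :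
    ∃ (P : StandardEtalePair A) (𝔮 : Ideal P.Ring) (_ : 𝔮.IsPrime)
      (ψ' : Localization.AtPrime 𝔮 →ₐ[A] B), Function.Surjective ψ' := by
  haveI : Algebra.FormallyUnramified A B := Algebra.FormallyUnramified.of_map_maximalIdeal hm
  let B₀ := Algebra.EssFiniteType.subalgebra A B
  let q₀ : Ideal B₀ := (maximalIdeal B).comap (algebraMap B₀ B)
  haveI : q₀.IsPrime := Ideal.comap_isPrime _ _
  have hM : Algebra.EssFiniteType.submonoid A B = q₀.primeCompl := by
    ext x
    show IsUnit (algebraMap B₀ B x) ↔ x ∉ q₀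
    rw [Ideal.mem_comap, mem_maximalIdeal, mem_nonunits_iff, not_not]
  haveI : IsLocalization.AtPrime B q₀ := by
    show IsLocalization q₀.primeCompl B
    rw [← hM]; infer_instance
  let e : Localization.AtPrime q₀ ≃ₐ[B₀] B := IsLocalization.algEquiv q₀.primeCompl _ _
  haveI : Algebra.IsUnramifiedAt A q₀ :=
    Algebra.FormallyUnramified.of_equiv (e.restrictScalars A).symm
  obtain ⟨r, hrq, P, φ, hφ⟩ :=
    Algebra.IsUnramifiedAt.exists_hasStandardEtaleSurjectionOn (R := A) q₀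
  have hunit : ∀ s : B₀, s ∉ q₀ → IsUnit (algebraMap B₀ B s) := by
    intro s hs
    by_contra h
    exact hs ((mem_maximalIdeal _).mpr h)
  let f₀ : B₀ →ₐ[A] B := IsScalarTower.toAlgHom A B₀ B
  have hf₀ : ∀ y : Submonoid.powers r, IsUnit (f₀ y) := by
    rintro ⟨_, n, rfl⟩
    show IsUnit (algebraMap B₀ B (r ^ n))
    rw [map_pow]
    exact (hunit r hrq).pow n
  let ρ : Localization.Away r →ₐ[A] B := IsLocalization.liftAlgHom (M := Submonoid.powers r) hf₀
  have hρ : ∀ b : B₀, ρ (algebraMap B₀ (Localization.Away r) b) = algebraMap B₀ B b := by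
    intro b
    show IsLocalization.lift hf₀ _ = _
    rw [IsLocalization.lift_eq]
    rfl
  let ψ : P.Ring →ₐ[A] B := ρ.comp φ
  let 𝔮 : Ideal P.Ring := (maximalIdeal B).comap ψ.toRingHom
  haveI : 𝔮.IsPrime := Ideal.comap_isPrime _ _
  have hψu : ∀ y : 𝔮.primeCompl, IsUnit (ψ y) := by
    rintro ⟨y, hy⟩
    by_contra h
    exact hy ((mem_maximalIdeal _).mpr h)
  let ψ' : Localization.AtPrime 𝔮 →ₐ[A] B := IsLocalization.liftAlgHom (M := 𝔮.primeCompl) hψu
  have hψ' : ∀ x : P.Ring, ψ' (algebraMap P.Ring (Localization.AtPrime 𝔮) x) = ψ x := by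
    intro x
    show IsLocalization.lift hψu _ = _
    rw [IsLocalization.lift_eq]
    rfl
  refine ⟨P, 𝔮, inferInstance, ψ', fun b => ?_⟩
  obtain ⟨b₀, s, rfl⟩ := IsLocalization.exists_mk'_eq q₀.primeCompl b
  obtain ⟨x, hx⟩ := hφ (algebraMap B₀ (Localization.Away r) b₀)
  obtain ⟨y, hy⟩ := hφ (algebraMap B₀ (Localization.Away r) s)
  have hψx : ψ x = algebraMap B₀ B b₀ := by
    show ρ (φ x) = _
    rw [hx, hρ]
  have hψy : ψ y = algebraMap B₀ B s := by
    show ρ (φ y) = _
    rw [hy, hρ]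
  have hyu : IsUnit (ψ y) := by
    rw [hψy]; exact hunit s s.2
  have hy𝔮 : y ∈ 𝔮.primeCompl := by
    intro hy'
    exact ((mem_maximalIdeal _).mp hy') hyu
  refine ⟨IsLocalization.mk' _ x ⟨y, hy𝔮⟩, ?_⟩
  apply hyu.mul_right_cancel
  have h1 : ψ' (IsLocalization.mk' (Localization.AtPrime 𝔮) x ⟨y, hy𝔮⟩) * ψ y = ψ x := by
    rw [← hψ' y, ← map_mul, IsLocalization.mk'_spec, hψ']
  rw [h1, hψx, hψy, IsLocalization.mk'_spec]

end Groth.Agent.Lib.Helper19.EtLocalStd
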