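import Mathlib
import Groth.Agent.Lib.helper19.EtLocalStd1

set_option autoImplicit false
set_option linter.style.haveILetI false
universe u

namespace Groth.Agent.Lib.Helper19.EtLocalStd

open IsLocalRing

/-- S9564. -/
theorem main_unram (A B : Type u) [CommRing A] [CommRing B]
    [IsLocalRing A] [IsLocalRing B] [Algebra A B]
    [IsLocalHom (algebraMap A B)] [Algebra.EssFiniteType A B]
    (hm : (IsLocalRing.maximalIdeal A).map (algebraMap A B) = IsLocalRing.maximalIdeal B)
    [Algebra.IsSeparable (IsLocalRing.ResidueField A) (IsLocalRing.ResidueField B)] :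
    ∃ (P : StandardEtalePair A) (𝔮 : Ideal P.Ring) (_ : 𝔮.IsPrime)
      (I : Ideal (Localization.AtPrime 𝔮)),
      Nonempty (B ≃ₐ[A] (Localization.AtPrime 𝔮 ⧸ I)) := by
  obtain ⟨P, 𝔮, h𝔮, ψ', hψ'⟩ := exists_surjection A B hm
  exact ⟨P, 𝔮, h𝔮, RingHom.ker ψ', ⟨(Ideal.quotientKerAlgEquivOfSurjective hψ').symm⟩⟩

/-- S9563. -/
theorem main_etale (A B : Type u) [CommRing A] [CommRing B]
    [IsLocalRing A] [IsLocalRing B] [IsNoetherianRing A] [Algebra A B]
    [IsLocalHom (algebraMap A B)] [Algebra.EssFiniteType A B] [Module.Flat A B]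
    (hm : (IsLocalRing.maximalIdeal A).map (algebraMap A B) = IsLocalRing.maximalIdeal B)
    [Algebra.IsSeparable (IsLocalRing.ResidueField A) (IsLocalRing.ResidueField B)] :
    ∃ (P : StandardEtalePair A) (𝔮 : Ideal P.Ring) (_ : 𝔮.IsPrime),
      Nonempty (B ≃ₐ[A] Localization.AtPrime 𝔮) := by
  obtain ⟨P, 𝔮, h𝔮, ψ', hψ'⟩ := exists_surjection A B hm
  refine ⟨P, 𝔮, h𝔮, ⟨(AlgEquiv.ofBijective ψ' ⟨?_, hψ'⟩).symm⟩⟩
  let C := Localization.AtPrime 𝔮
  haveI : IsNoetherianRing P.Ring := Algebra.FiniteType.isNoetherianRing A P.Ring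
  haveI : IsNoetherianRing C := IsLocalization.isNoetherianRing 𝔮.primeCompl C inferInstance
  haveI : IsLocalHom (algebraMap A C) := by
    haveI : IsLocalHom ((ψ' : C →+* B).comp (algebraMap A C)) := by
      rw [AlgHom.comp_algebraMap]; infer_instance
    exact isLocalHom_of_comp (algebraMap A C) (ψ' : C →+* B)
  haveI : Algebra.FormallyUnramified A C := Algebra.FormallyUnramified.comp A P.Ring C
  have hmC : (maximalIdeal A).map (algebraMap A C) = maximalIdeal C :=
    Algebra.FormallyUnramified.map_maximalIdeal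
  have hK : RingHom.ker ψ' ≤ maximalIdeal C * RingHom.ker ψ' := by
    intro x hx
    have hxm : x ∈ maximalIdeal C := by
      rw [mem_maximalIdeal, mem_nonunits_iff]
      intro hu
      have := hu.map ψ'
      rw [RingHom.mem_ker.mp hx] at this
      exact not_isUnit_zero this
    rw [← hmC] at hxm ⊢
    exact HfpEt.mem_mul_ker_of_flat (maximalIdeal A) ψ' hψ' hx hxm
  have hbot : RingHom.ker ψ' = ⊥ := by
    refine Submodule.eq_bot_of_le_smul_of_le_jacobson_bot (maximalIdeal C) (RingHom.ker ψ')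
      (IsNoetherian.noetherian _) ?_ (IsLocalRing.maximalIdeal_le_jacobson _)
    rwa [smul_eq_mul]
  exact (injective_iff_map_eq_zero ψ').mpr fun x hx => by
    have : x ∈ RingHom.ker ψ' := hx
    rwa [hbot] at this

end Groth.Agent.Lib.Helper19.EtLocalStd
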