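import Mathlib
import Groth.Agent.Lib.Helper12.PairColimFin
import Groth.Agent.Lib.Helper12.PairKer
import Groth.Agent.Lib.Helper12.PairOpenNbhd

/-!
# Descending finitely many elements and equations from the henselization of a pair to an
étale neighbourhood ("stage")

`Lim A I` (Helper12) is the henselization of the pair `(A, I)`.  A *stage* is an étale
`A`-algebra `A'` with `A/I ≃ A'/IA'` together with `φ : A' →ₐ[A] Lim A I`.

* `exists_stage`: finitely many elements of `Lim A I` and of `Lim A I ⊗[A] M` come from a stage.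
* `exists_kill`: finitely many elements of `A' ⊗[A] M` dying in `Lim A I ⊗[A] M` are killed by
  a single `g ∈ A'` with `g - 1 ∈ I A'`.
* `away_*`: `Localization.Away g` is again a stage, and elements killed by `g` die there.
-/

set_option autoImplicit false
set_option linter.style.haveILetI false
universe u

open TensorProduct
open Groth.Agent.Lib.Helper12.PairNbhd

namespace Groth.Agent.Lib.helper19.LimStage

variable {A : Type u} [CommRing A] {I : Ideal A}

/-- Composition of two "trivial quotient" extensions. -/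
theorem bijective_quotientMap_comp {A' A'' : Type u} [CommRing A'] [CommRing A''] [Algebra A A']
    [Algebra A' A''] [Algebra A A''] [IsScalarTower A A' A'']
    (h₁ : Function.Bijective (Ideal.quotientMap (I.map (algebraMap A A')) (algebraMap A A')
      Ideal.le_comap_map))
    (h₂ : Function.Bijective (Ideal.quotientMap ((I.map (algebraMap A A')).map (algebraMap A' A''))
      (algebraMap A' A'') Ideal.le_comap_map)) :
    Function.Bijective (Ideal.quotientMap (I.map (algebraMap A A'')) (algebraMap A A'')
      Ideal.le_comap_map) := by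
  have hK : (I.map (algebraMap A A')).map (algebraMap A' A'') = I.map (algebraMap A A'') := by
    rw [Ideal.map_map, ← IsScalarTower.algebraMap_eq]
  have : Ideal.quotientMap (I.map (algebraMap A A'')) (algebraMap A A'') Ideal.le_comap_map =
      (((Ideal.quotEquivOfEq hK : _ ≃+* _) : _ →+* _).comp
        (Ideal.quotientMap ((I.map (algebraMap A A')).map (algebraMap A' A''))
          (algebraMap A' A'') Ideal.le_comap_map)).comp
        (Ideal.quotientMap (I.map (algebraMap A A')) (algebraMap A A') Ideal.le_comap_map) := by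
    apply Ideal.Quotient.ringHom_ext
    ext a
    simp only [RingHom.comp_apply, Ideal.quotientMap_mk, RingHom.coe_coe, Ideal.quotEquivOfEq_mk]
    rw [← IsScalarTower.algebraMap_apply]
  rw [this]
  exact ((Ideal.quotEquivOfEq hK).bijective.comp h₂).comp h₁

section Flat

variable {A' : Type u} [CommRing A'] [Algebra A A'] [Algebra.Etale A A']
  {H : Type u} [CommRing H] [Algebra A H]

/-- Module version of Helper12's `one_mem_map_annihilator`: if an element `z` of `A' ⊗[A] M`
dies in `H ⊗[A] M` for a flat `A`-algebra `H` receiving `A'`, then the annihilator of `z` in `A'`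
generates the unit ideal of `H`. -/
theorem one_mem_map_annihilator_tensor [Module.Flat A H] (φ : A' →ₐ[A] H)
    (M : Type u) [AddCommGroup M] [Module A M] (z : A' ⊗[A] M)
    (hz : LinearMap.rTensor M φ.toLinearMap z = 0) :
    (1 : H) ∈ (Submodule.span A' {z}).annihilator.map (φ : A' →+* H) := by
  classical
  let μ : H ⊗[A] A' →ₐ[H] H :=
    Algebra.TensorProduct.lift (AlgHom.id H H) φ (fun _ _ => Commute.all _ _)
  have hμ : ∀ (b : H) (a : A'), μ (b ⊗ₜ[A] a) = b * φ a := fun b a =>
    Algebra.TensorProduct.lift_tmul _ _ _ _ _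
  let σ : H ⊗[A] A' →ₐ[H] H ⧸ (⊥ : Ideal H) := (Ideal.Quotient.mkₐ H ⊥).comp μ
  have hσ : ∀ x, σ x = 0 ↔ μ x = 0 := by
    intro x
    show Ideal.Quotient.mk ⊥ (μ x) = 0 ↔ _
    rw [Ideal.Quotient.eq_zero_iff_mem, Ideal.mem_bot]
  obtain ⟨c₀, hc₀1, hc₀⟩ := exists_ker_mul_mem (A := H) (I := ⊥) (H ⊗[A] A') σ
  have hc₀1' : μ c₀ = 1 := by
    have : σ (c₀ - 1) = 0 := by rw [map_sub, hc₀1, map_one, sub_self]
    rw [hσ, map_sub, map_one, sub_eq_zero] at this
    exact this
  have hc₀' : ∀ x, μ x = 0 → c₀ * x = 0 := by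
    intro x hx
    have := hc₀ x ((hσ x).mpr hx)
    rw [Ideal.map_bot, Ideal.mem_bot] at this
    rw [mul_comm]; exact this
  -- the maps
  let μA : H ⊗[A] A' →ₗ[A] H := μ.toLinearMap.restrictScalars A
  let incl : A' →ₗ[A] H ⊗[A] A' :=
    (Algebra.TensorProduct.includeRight : A' →ₐ[A] H ⊗[A] A').toLinearMap
  let zT : (H ⊗[A] A') ⊗[A] M := LinearMap.rTensor M incl z
  -- Claim A
  have claimA : ∀ y : (H ⊗[A] A') ⊗[A] M, LinearMap.rTensor M μA y = 0 → c₀ • y = 0 := by
    intro y hy
    have hsurj : Function.Surjective μA := fun h => ⟨h ⊗ₜ 1, by simp [μA, hμ]⟩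
    have hex := rTensor_exact M (LinearMap.exact_subtype_ker_map μA) hsurj
    obtain ⟨w, rfl⟩ := (hex y).mp hy
    clear hy
    induction w using TensorProduct.induction_on with
    | zero => simp
    | tmul k m =>
      rw [LinearMap.rTensor_tmul, TensorProduct.smul_tmul', smul_eq_mul]
      have : c₀ * (k : H ⊗[A] A') = 0 := hc₀' _ k.2
      rw [Submodule.subtype_apply, this, TensorProduct.zero_tmul]
    | add x y hx hy => rw [map_add, smul_add, hx, hy, add_zero]
  have hzT : LinearMap.rTensor M μA zT = 0 := by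
    have : LinearMap.rTensor M μA ∘ₗ LinearMap.rTensor M incl =
        LinearMap.rTensor M φ.toLinearMap := by
      rw [← LinearMap.rTensor_comp]
      congr 1
      ext a
      simp [μA, incl, hμ]
    have h2 := congr($this z)
    rw [LinearMap.comp_apply] at h2
    rw [h2, hz]
  have hc₀z : c₀ • zT = 0 := claimA zT hzT
  -- Claim B
  let ms : (A' ⊗[A] M) → (A' →ₗ[A] A' ⊗[A] M) := fun z =>
    (LinearMap.toSpanSingleton A' _ z).restrictScalars A
  have hms_add : ∀ z₁ z₂, ms (z₁ + z₂) = ms z₁ + ms z₂ := by
    intro z₁ z₂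
    ext a
    simp [ms]
  have claimB : ∀ (z : A' ⊗[A] M) (t : H ⊗[A] A'),
      TensorProduct.assoc A H A' M (t • LinearMap.rTensor M incl z) =
        LinearMap.lTensor H (ms z) t := by
    intro z
    induction z using TensorProduct.induction_on with
    | zero =>
      intro t
      have : ms 0 = 0 := by ext a; simp [ms]
      simp [this]
    | tmul a'' m =>
      intro t
      induction t using TensorProduct.induction_on with
      | zero => simp
      | tmul h a =>
        rw [LinearMap.rTensor_tmul, TensorProduct.smul_tmul', smul_eq_mul]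
        show TensorProduct.assoc A H A' M (((h ⊗ₜ[A] a) * ((1 : H) ⊗ₜ[A] a'')) ⊗ₜ[A] m) = _
        rw [Algebra.TensorProduct.tmul_mul_tmul, mul_one, TensorProduct.assoc_tmul,
          LinearMap.lTensor_tmul]
        simp [ms, TensorProduct.smul_tmul']
      | add x y hx hy => rw [add_smul, map_add, map_add, hx, hy]
    | add z₁ z₂ h₁ h₂ =>
      intro t
      rw [map_add, smul_add, map_add, h₁, h₂, hms_add, LinearMap.lTensor_add, LinearMap.add_apply]
  have hker : c₀ ∈ LinearMap.ker (LinearMap.lTensor H (ms z)) := by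
    rw [LinearMap.mem_ker, ← claimB, hc₀z, map_zero]
  have hexact := Module.Flat.lTensor_exact H (LinearMap.exact_subtype_ker_map (ms z))
  obtain ⟨w, hw⟩ := (hexact c₀).mp hker
  have hrange : ∀ w : H ⊗[A] (LinearMap.ker (ms z)),
      μ (LinearMap.lTensor H (LinearMap.ker (ms z)).subtype w) ∈
        (Submodule.span A' {z}).annihilator.map (φ : A' →+* H) := by
    intro w
    induction w using TensorProduct.induction_on with
    | zero => simp
    | tmul b a =>
      rw [LinearMap.lTensor_tmul, Submodule.subtype_apply, hμ]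
      apply Ideal.mul_mem_left
      apply Ideal.mem_map_of_mem
      rw [Submodule.mem_annihilator_span_singleton]
      have : ms z a.1 = 0 := a.2
      exact this
    | add x y hx hy =>
      rw [map_add, map_add]
      exact Ideal.add_mem _ hx hy
  have := hrange w
  rwa [hw, hc₀1'] at this

end Flat

section Stage

variable {A' : Type u} [CommRing A'] [Algebra A A']
  (hbij : Function.Bijective (Ideal.quotientMap (I.map (algebraMap A A')) (algebraMap A A')
    Ideal.le_comap_map))

include hbij in
/-- An ideal of a stage that generates the unit ideal in the henselization contains an element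
congruent to `1` modulo `I A'`. -/
theorem exists_mem_sub_one_mem (φ : A' →ₐ[A] Lim A I) (𝔞 : Ideal A')
    (h1 : (1 : Lim A I) ∈ 𝔞.map (φ : A' →+* Lim A I)) :
    ∃ g ∈ 𝔞, g - 1 ∈ I.map (algebraMap A A') := by
  obtain ⟨σ, hσ⟩ := exists_point_of_bijective hbij
  let π : A' →ₐ[A] A ⧸ I := (Lim.pt A I).comp φ
  have hπσ : π = σ := by
    ext x
    have := sub_mem_of_bijective hbij π σ x
    rw [Ideal.Quotient.algebraMap_eq, Ideal.map_quotient_self, Ideal.mem_bot, sub_eq_zero] at this
    exact this
  have hsurj : Function.Surjective π := by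
    intro q
    obtain ⟨a, rfl⟩ := Ideal.Quotient.mk_surjective q
    exact ⟨algebraMap A A' a, by rw [AlgHom.commutes]; rfl⟩
  have h2 : (1 : A ⧸ I) ∈ 𝔞.map (π : A' →+* A ⧸ I) := by
    have := Ideal.mem_map_of_mem (Lim.pt A I : Lim A I →+* A ⧸ I) h1
    rw [Ideal.map_map, RingHom.coe_coe, map_one] at this
    exact this
  obtain ⟨g, hg, hg1⟩ := (Ideal.mem_map_iff_of_surjective (π : A' →+* A ⧸ I) hsurj).mp h2
  refine ⟨g, hg, ?_⟩
  rw [← hσ, ← hπσ, map_sub, map_one, sub_eq_zero]
  exact hg1

variable [Algebra.Etale A A']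

include hbij in
/-- Killing one element. -/
theorem exists_kill_one (φ : A' →ₐ[A] Lim A I) (M : Type u) [AddCommGroup M] [Module A M]
    (z : A' ⊗[A] M) (hz : LinearMap.rTensor M φ.toLinearMap z = 0) :
    ∃ g : A', g - 1 ∈ I.map (algebraMap A A') ∧ g • z = 0 := by
  obtain ⟨g, hg, hg1⟩ := exists_mem_sub_one_mem hbij φ _
    (one_mem_map_annihilator_tensor φ M z hz)
  exact ⟨g, hg1, (Submodule.mem_annihilator_span_singleton _ _).mp hg⟩

include hbij in
/-- Killing finitely many elements. -/
theorem exists_kill (φ : A' →ₐ[A] Lim A I) (M : Type u) [AddCommGroup M] [Module A M]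
    (Z : Finset (A' ⊗[A] M)) (hZ : ∀ z ∈ Z, LinearMap.rTensor M φ.toLinearMap z = 0) :
    ∃ g : A', g - 1 ∈ I.map (algebraMap A A') ∧ ∀ z ∈ Z, g • z = 0 := by
  classical
  induction Z using Finset.induction_on with
  | empty => exact ⟨1, by simp, by simp⟩
  | insert z Z hzZ ih =>
    obtain ⟨g₁, hg₁, hg₁Z⟩ := ih (fun z hz => hZ z (Finset.mem_insert_of_mem hz))
    obtain ⟨g₂, hg₂, hg₂z⟩ := exists_kill_one hbij φ M z (hZ z (Finset.mem_insert_self _ _))
    refine ⟨g₁ * g₂, ?_, ?_⟩
    · have : g₁ * g₂ - 1 = g₁ * (g₂ - 1) + (g₁ - 1) := by ring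
      rw [this]
      exact Ideal.add_mem _ (Ideal.mul_mem_left _ _ hg₂) hg₁
    · intro w hw
      rcases Finset.mem_insert.mp hw with rfl | hw
      · rw [mul_smul, hg₂z, smul_zero]
      · rw [mul_comm, mul_smul, hg₁Z w hw, smul_zero]

omit [Algebra.Etale A A'] in
include hbij in
/-- Localizing a stage at `g ≡ 1` gives a stage. -/
theorem away_bijective (g : A') (hg : g - 1 ∈ I.map (algebraMap A A')) :
    Function.Bijective (Ideal.quotientMap (I.map (algebraMap A (Localization.Away g)))
      (algebraMap A (Localization.Away g)) Ideal.le_comap_map) :=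
  bijective_quotientMap_comp hbij (away_quotient_bijective_of_sub_one_mem _ g hg)

omit [Algebra.Etale A A'] in
/-- Elements killed by `g` die in the localization away from `g`. -/
theorem away_rTensor_eq_zero (g : A') (M : Type u) [AddCommGroup M] [Module A M]
    (z : A' ⊗[A] M) (hz : g • z = 0) :
    LinearMap.rTensor M (IsScalarTower.toAlgHom A A' (Localization.Away g)).toLinearMap z = 0 := by
  set ι := (IsScalarTower.toAlgHom A A' (Localization.Away g)).toLinearMap with hι
  have key : ∀ w : A' ⊗[A] M, LinearMap.rTensor M ι (g • w) =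
      (algebraMap A' (Localization.Away g) g) • LinearMap.rTensor M ι w := by
    intro w
    induction w using TensorProduct.induction_on with
    | zero => simp
    | tmul a m =>
      rw [TensorProduct.smul_tmul', LinearMap.rTensor_tmul, LinearMap.rTensor_tmul,
        TensorProduct.smul_tmul', smul_eq_mul, smul_eq_mul]
      simp [hι]
    | add x y hx hy => rw [smul_add, map_add, hx, hy, map_add, smul_add]
  have h1 := key z
  rw [hz, map_zero] at h1
  have hu : IsUnit (algebraMap A' (Localization.Away g) g) := IsLocalization.Away.algebraMap_isUnit g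
  obtain ⟨u, hu⟩ := hu
  have : LinearMap.rTensor M ι z = (↑u⁻¹ : Localization.Away g) • ((u : Localization.Away g) •
      LinearMap.rTensor M ι z) := by
    rw [smul_smul, Units.inv_mul, one_smul]
  rw [this, hu, ← h1, smul_zero]

end Stage

section Descent

/-- Every element of `Lim A I ⊗[A] M` is controlled by finitely many elements of `Lim A I`. -/
theorem exists_finset_forall_mem_range (M : Type u) [AddCommGroup M] [Module A M]
    (y : Lim A I ⊗[A] M) :
    ∃ G : Finset (Lim A I), ∀ (A' : Type u) [CommRing A'] [Algebra A A']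
      (φ : A' →ₐ[A] Lim A I), (∀ x ∈ G, x ∈ Set.range φ) →
      y ∈ Set.range (LinearMap.rTensor M φ.toLinearMap) := by
  classical
  induction y using TensorProduct.induction_on with
  | zero => exact ⟨∅, fun A' _ _ φ _ => ⟨0, map_zero _⟩⟩
  | tmul h m =>
    refine ⟨{h}, fun A' _ _ φ hφ => ?_⟩
    obtain ⟨a, ha⟩ := hφ h (Finset.mem_singleton_self h)
    exact ⟨a ⊗ₜ m, by rw [LinearMap.rTensor_tmul]; simp [ha]⟩
  | add x y hx hy =>
    obtain ⟨G₁, h₁⟩ := hx
    obtain ⟨G₂, h₂⟩ := hy
    refine ⟨G₁ ∪ G₂, fun A' _ _ φ hφ => ?_⟩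
    obtain ⟨a, ha⟩ := h₁ A' φ (fun x hx => hφ x (Finset.mem_union_left _ hx))
    obtain ⟨b, hb⟩ := h₂ A' φ (fun x hx => hφ x (Finset.mem_union_right _ hx))
    exact ⟨a + b, by rw [map_add, ha, hb]⟩

variable (A I) in
/-- Finitely many elements of `Lim A I` and of `Lim A I ⊗[A] M` come from a common stage. -/
theorem exists_stage (M : Type u) [AddCommGroup M] [Module A M]
    (F₀ : Finset (Lim A I)) (F : Finset (Lim A I ⊗[A] M)) :
    ∃ (A' : Type u) (_ : CommRing A') (_ : Algebra A A') (_ : Algebra.Etale A A'),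
      Function.Bijective (Ideal.quotientMap (I.map (algebraMap A A')) (algebraMap A A')
        Ideal.le_comap_map) ∧ ∃ (φ : A' →ₐ[A] Lim A I), (∀ x ∈ F₀, x ∈ Set.range φ) ∧
        ∀ y ∈ F, y ∈ Set.range (LinearMap.rTensor M φ.toLinearMap) := by
  classical
  choose G hG using exists_finset_forall_mem_range (A := A) (I := I) M
  let G₀ : Finset (Lim A I) := F₀ ∪ F.biUnion G
  obtain ⟨A', _, _, _, hbij, φ, hφ⟩ := Lim.exists_etale_of_fin (A := A) (I := I)
    (fun j : Fin G₀.card => ((G₀.equivFin.symm j : G₀) : Lim A I))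
  have hG₀ : ∀ x ∈ G₀, x ∈ Set.range φ := by
    intro x hx
    obtain ⟨s, hs⟩ := hφ (G₀.equivFin ⟨x, hx⟩)
    exact ⟨s, by rw [hs]; simp⟩
  refine ⟨A', inferInstance, inferInstance, inferInstance, hbij, φ, ?_, ?_⟩
  · intro x hx
    exact hG₀ x (Finset.mem_union_left _ hx)
  · intro y hy
    apply hG y A' φ
    intro x hx
    exact hG₀ x (Finset.mem_union_right _ (Finset.mem_biUnion.mpr ⟨y, hy, hx⟩))

end Descent

section Ring

variable {A' : Type u} [CommRing A'] [Algebra A A'] [Algebra.Etale A A']
  (hbij : Function.Bijective (Ideal.quotientMap (I.map (algebraMap A A')) (algebraMap A A')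
    Ideal.le_comap_map))

include hbij in
/-- Killing finitely many elements of a stage that die in the henselization. -/
theorem exists_kill_ring (φ : A' →ₐ[A] Lim A I) (Z : Finset A') (hZ : ∀ z ∈ Z, φ z = 0) :
    ∃ g : A', g - 1 ∈ I.map (algebraMap A A') ∧ ∀ z ∈ Z, g * z = 0 := by
  classical
  induction Z using Finset.induction_on with
  | empty => exact ⟨1, by simp, by simp⟩
  | insert z Z hzZ ih =>
    obtain ⟨g₁, hg₁, hg₁Z⟩ := ih (fun z hz => hZ z (Finset.mem_insert_of_mem hz))
    obtain ⟨g₂, hg₂a, hg₂⟩ := exists_mem_sub_one_mem hbij φ _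
      (one_mem_map_annihilator φ z (hZ z (Finset.mem_insert_self _ _)))
    have hg₂z : g₂ * z = 0 := by
      have := (Submodule.mem_annihilator_span_singleton _ _).mp hg₂a
      simpa using this
    refine ⟨g₁ * g₂, ?_, ?_⟩
    · have : g₁ * g₂ - 1 = g₁ * (g₂ - 1) + (g₁ - 1) := by ring
      rw [this]
      exact Ideal.add_mem _ (Ideal.mul_mem_left _ _ hg₂) hg₁
    · intro w hw
      rcases Finset.mem_insert.mp hw with rfl | hw
      · rw [mul_assoc, hg₂z, mul_zero]
      · rw [mul_comm g₁, mul_assoc, hg₁Z w hw, mul_zero]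

omit [Algebra.Etale A A'] in
/-- Elements killed by `g` die in the localization away from `g`. -/
theorem away_algebraMap_eq_zero (g z : A') (hz : g * z = 0) :
    algebraMap A' (Localization.Away g) z = 0 := by
  have hu : IsUnit (algebraMap A' (Localization.Away g) g) := IsLocalization.Away.algebraMap_isUnit g
  apply hu.mul_left_cancel
  rw [← map_mul, hz, map_zero, mul_zero]

include hbij in
/-- Refinement of a stage: finitely many elements dying in the henselization die in a further
étale neighbourhood. -/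
theorem exists_refine_ring (φ : A' →ₐ[A] Lim A I) (Z : Finset A') (hZ : ∀ z ∈ Z, φ z = 0) :
    ∃ (A'' : Type u) (_ : CommRing A'') (_ : Algebra A A'') (_ : Algebra.Etale A A''),
      Function.Bijective (Ideal.quotientMap (I.map (algebraMap A A'')) (algebraMap A A'')
        Ideal.le_comap_map) ∧ ∃ ι : A' →ₐ[A] A'', ∀ z ∈ Z, ι z = 0 := by
  obtain ⟨g, hg, hgZ⟩ := exists_kill_ring hbij φ Z hZ
  exact ⟨Localization.Away g, inferInstance, inferInstance, inferInstance,
    away_bijective hbij g hg, IsScalarTower.toAlgHom A A' (Localization.Away g),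
    fun z hz => away_algebraMap_eq_zero g z (hgZ z hz)⟩

include hbij in
/-- Any `A`-algebra map from a stage to an `A`-algebra killed by `I`... is unique; in particular
the reduction of `ι` is computed by the point of the henselization. -/
theorem mk_eq_algebraMap_pt {A'' : Type u} [CommRing A''] [Algebra A A'']
    (φ : A' →ₐ[A] Lim A I) (ι : A' →ₐ[A] A'') (s : A') :
    Ideal.Quotient.mk (I.map (algebraMap A A'')) (ι s) =
      Ideal.quotientMap (I.map (algebraMap A A'')) (algebraMap A A'') Ideal.le_comap_map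
        (Lim.pt A I (φ s)) := by
  let Q := A'' ⧸ I.map (algebraMap A A'')
  let f₁ : A' →ₐ[A] Q := (Ideal.Quotient.mkₐ A _).comp ι
  let qm : A ⧸ I →ₐ[A] Q := Ideal.quotientMapₐ _ (Algebra.ofId A A'') Ideal.le_comap_map
  let f₂ : A' →ₐ[A] Q := (qm.comp (Lim.pt A I)).comp φ
  have := sub_mem_of_bijective hbij f₁ f₂ s
  have h0 : I.map (algebraMap A Q) = ⊥ := by
    rw [IsScalarTower.algebraMap_eq A A'' Q, ← Ideal.map_map, Ideal.Quotient.algebraMap_eq,
      Ideal.map_quotient_self]
  rw [h0, Ideal.mem_bot, sub_eq_zero] at this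
  exact this

end Ring

end Groth.Agent.Lib.helper19.LimStage
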