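import Mathlib
import Groth.Agent.Lib.helper19.LimStage

/-!
# Packaging lemma for S17976: from an idempotent in `A' ⊗[A] B` to the étale neighbourhoods
-/

set_option autoImplicit false
set_option linter.style.haveILetI false
universe u

open TensorProduct
open Groth.Agent.Lib.Helper12.PairNbhd

namespace Groth.Agent.Lib.helper19.EtNbhdFinite

variable {A : Type u} [CommRing A] {I : Ideal A} {B : Type u} [CommRing B] [Algebra A B]
variable {A' : Type u} [CommRing A'] [Algebra A A']
  (hbij : Function.Bijective (Ideal.quotientMap (I.map (algebraMap A A')) (algebraMap A A')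
    Ideal.le_comap_map))

include hbij in
/-- Modulo `I`, every element of `A' ⊗[A] B` comes from `B`. -/
theorem exists_sub_one_tmul_mem (t : A' ⊗[A] B) :
    ∃ b : B, t - 1 ⊗ₜ[A] b ∈ I.map (algebraMap A (A' ⊗[A] B)) := by
  induction t using TensorProduct.induction_on with
  | zero => exact ⟨0, by simp⟩
  | tmul a' b =>
    obtain ⟨a, ha⟩ := exists_sub_mem_of_bijective hbij a'
    refine ⟨a • b, ?_⟩
    have h1 : a' ⊗ₜ[A] b - 1 ⊗ₜ[A] (a • b) = (a' - algebraMap A A' a) ⊗ₜ[A] b := by
      rw [TensorProduct.sub_tmul, ← TensorProduct.smul_tmul, Algebra.algebraMap_eq_smul_one]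
    rw [h1]
    have h2 : (a' - algebraMap A A' a) ⊗ₜ[A] b =
        (Algebra.TensorProduct.includeLeft (R := A) (S := A) (A := A') (B := B)
          (a' - algebraMap A A' a)) * (1 ⊗ₜ[A] b) := by
      simp
    rw [h2]
    apply Ideal.mul_mem_right
    have h3 := Ideal.mem_map_of_mem
      (Algebra.TensorProduct.includeLeft (R := A) (S := A) (A := A') (B := B) : A' →+* A' ⊗[A] B) ha
    rw [Ideal.map_map] at h3
    have h4 : ((Algebra.TensorProduct.includeLeft (R := A) (S := A) (A := A') (B := B) :
        A' →+* A' ⊗[A] B).comp (algebraMap A A')) = algebraMap A (A' ⊗[A] B) := by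
      ext a
      simp [Algebra.TensorProduct.algebraMap_apply]
    rw [h4] at h3
    exact h3
  | add x y hx hy =>
    obtain ⟨b₁, h₁⟩ := hx
    obtain ⟨b₂, h₂⟩ := hy
    refine ⟨b₁ + b₂, ?_⟩
    have : x + y - 1 ⊗ₜ[A] (b₁ + b₂) = (x - 1 ⊗ₜ[A] b₁) + (y - 1 ⊗ₜ[A] b₂) := by
      rw [TensorProduct.tmul_add]; ring
    rw [this]
    exact Ideal.add_mem _ h₁ h₂

include hbij in
/-- `1 ⊗ b ∈ I (A' ⊗ B)` forces `b ∈ I B`. -/
theorem mem_of_one_tmul_mem (b : B) (hb : (1 : A') ⊗ₜ[A] b ∈ I.map (algebraMap A (A' ⊗[A] B))) :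
    b ∈ I.map (algebraMap A B) := by
  obtain ⟨σ, -⟩ := exists_point_of_bijective hbij
  let qm : A ⧸ I →ₐ[A] B ⧸ I.map (algebraMap A B) :=
    Ideal.quotientMapₐ _ (Algebra.ofId A B) Ideal.le_comap_map
  let ρ : A' ⊗[A] B →ₐ[A] B ⧸ I.map (algebraMap A B) :=
    Algebra.TensorProduct.lift (qm.comp σ) (Ideal.Quotient.mkₐ A _) (fun _ _ => Commute.all _ _)
  have h1 := Ideal.mem_map_of_mem (ρ : A' ⊗[A] B →+* B ⧸ I.map (algebraMap A B)) hb
  rw [Ideal.map_map, ρ.comp_algebraMap] at h1
  have h0 : I.map (algebraMap A (B ⧸ I.map (algebraMap A B))) = ⊥ := by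
    rw [IsScalarTower.algebraMap_eq A B (B ⧸ I.map (algebraMap A B)), ← Ideal.map_map,
      Ideal.Quotient.algebraMap_eq, Ideal.map_quotient_self]
  rw [h0, Ideal.mem_bot] at h1
  have h2 : ρ ((1 : A') ⊗ₜ[A] b) = Ideal.Quotient.mk _ b := by
    simp [ρ]
  rw [RingHom.coe_coe, h2, Ideal.Quotient.eq_zero_iff_mem] at h1
  exact h1

include hbij in
/-- The packaging lemma. -/
theorem final [Algebra.Etale A A']
    (e : A' ⊗[A] B) (he : IsIdempotentElem e)
    (he1 : e - 1 ∈ I.map (algebraMap A (A' ⊗[A] B)))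
    (hfin : Module.Finite A' ((A' ⊗[A] B) ⧸ Ideal.span {1 - e})) :
    ∃ (A' : Type u) (_ : CommRing A') (_ : Algebra A A') (_ : Algebra.Etale A A')
      (C : Type u) (_ : CommRing C) (_ : Algebra A C) (_ : Algebra A' C) (_ : Algebra B C)
      (_ : IsScalarTower A A' C) (_ : IsScalarTower A B C),
      Function.Surjective ((Ideal.Quotient.mk (Ideal.map (algebraMap A A') I)).comp (algebraMap A A')) ∧
      RingHom.ker ((Ideal.Quotient.mk (Ideal.map (algebraMap A A') I)).comp (algebraMap A A')) = I ∧
      Algebra.Etale B C ∧ Module.Finite A' C ∧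
      Function.Surjective ((Ideal.Quotient.mk (Ideal.map (algebraMap A C) I)).comp (algebraMap B C)) ∧
      RingHom.ker ((Ideal.Quotient.mk (Ideal.map (algebraMap A C) I)).comp (algebraMap B C)) =
        Ideal.map (algebraMap A B) I := by
  let T := A' ⊗[A] B
  let C := T ⧸ Ideal.span {1 - e}
  let incR : B →ₐ[A] T := Algebra.TensorProduct.includeRight
  letI algBT : Algebra B T := incR.toRingHom.toAlgebra
  haveI : IsScalarTower A B T := IsScalarTower.of_algebraMap_eq (fun a => (incR.commutes a).symm)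
  haveI : IsScalarTower B T C := inferInstance
  haveI : IsScalarTower A B C := inferInstance
  -- étale
  have het1 : Algebra.Etale B T := by
    let ε : (B ⊗[A] A') ≃ₐ[B] T :=
      AlgEquiv.ofRingEquiv (f := (Algebra.TensorProduct.comm A B A').toRingEquiv) (by
        intro b
        show Algebra.TensorProduct.comm A B A' (b ⊗ₜ 1) = _
        rw [Algebra.TensorProduct.comm_tmul]
        rfl)
    exact Algebra.Etale.of_equiv ε
  have het2 : Algebra.Etale T C := by
    haveI := IsLocalization.Away.quotient_of_isIdempotentElem he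
    exact Algebra.Etale.of_isLocalizationAway e
  have het : Algebra.Etale B C := Algebra.Etale.comp B T C
  have hmkC : ∀ t : T, t ∈ I.map (algebraMap A T) →
      (Ideal.Quotient.mk (Ideal.span {1 - e}) t) ∈ I.map (algebraMap A C) := by
    intro t ht
    have := Ideal.mem_map_of_mem (algebraMap T C) ht
    rw [Ideal.map_map, ← IsScalarTower.algebraMap_eq] at this
    exact this
  refine ⟨A', inferInstance, inferInstance, inferInstance, C, inferInstance, inferInstance,
    inferInstance, inferInstance, inferInstance, inferInstance, ?_, ?_, het, hfin, ?_, ?_⟩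
  · intro q
    obtain ⟨p, hp⟩ := hbij.2 q
    obtain ⟨a, rfl⟩ := Ideal.Quotient.mk_surjective p
    exact ⟨a, by rw [← hp]; rfl⟩
  · ext a
    rw [RingHom.mem_ker]
    constructor
    · intro h
      have : Ideal.quotientMap (I.map (algebraMap A A')) (algebraMap A A') Ideal.le_comap_map
          (Ideal.Quotient.mk I a) = 0 := h
      rw [← map_zero (Ideal.quotientMap (I.map (algebraMap A A')) (algebraMap A A')
        Ideal.le_comap_map)] at this
      exact Ideal.Quotient.eq_zero_iff_mem.mp (hbij.1 this)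
    · intro h
      exact Ideal.Quotient.eq_zero_iff_mem.mpr (Ideal.mem_map_of_mem _ h)
  · intro q
    obtain ⟨c, rfl⟩ := Ideal.Quotient.mk_surjective q
    obtain ⟨t, rfl⟩ := Ideal.Quotient.mk_surjective c
    obtain ⟨b, hb⟩ := exists_sub_one_tmul_mem hbij t
    refine ⟨b, ?_⟩
    symm
    rw [RingHom.comp_apply, Ideal.Quotient.eq]
    have := hmkC _ hb
    rw [map_sub] at this
    exact this
  · ext b
    rw [RingHom.mem_ker, RingHom.comp_apply, Ideal.Quotient.eq_zero_iff_mem]
    constructor
    · intro h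
      apply mem_of_one_tmul_mem hbij
      have h1 : (Ideal.Quotient.mk (Ideal.span {1 - e}) ((1 : A') ⊗ₜ[A] b)) ∈
          (I.map (algebraMap A T)).map (Ideal.Quotient.mk (Ideal.span {1 - e})) := by
        rw [Ideal.map_map]
        exact h
      obtain ⟨t, ht, hte⟩ := (Ideal.mem_map_iff_of_surjective _ Ideal.Quotient.mk_surjective).mp h1
      rw [Ideal.Quotient.eq, Ideal.mem_span_singleton] at hte
      obtain ⟨w, hw⟩ := hte
      have h2 : (1 : A') ⊗ₜ[A] b = t - (1 - e) * w := by rw [← hw]; ring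
      rw [h2]
      apply Ideal.sub_mem _ ht
      apply Ideal.mul_mem_right
      have : (1 : T) - e = -(e - 1) := by ring
      rw [this]
      exact neg_mem he1
    · intro h
      have hle : I.map (algebraMap A B) ≤ (I.map (algebraMap A C)).comap (algebraMap B C) := by
        rw [Ideal.map_le_iff_le_comap]
        intro i hi
        rw [Ideal.mem_comap, Ideal.mem_comap, ← IsScalarTower.algebraMap_apply]
        exact Ideal.mem_map_of_mem _ hi
      exact hle h

end Groth.Agent.Lib.helper19.EtNbhdFinite
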