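import Mathlib
import Groth.Agent.Lib.helper19.LimStage
import Groth.Agent.Lib.helper19.EtNbhdFinite
import Groth.Agent.Lib.helper19.FinEtLift2

/-!
# S17976: étale neighbourhoods making a finite-type algebra with finite closed fibre finite
-/

set_option autoImplicit false
set_option linter.style.haveILetI false
universe u

open TensorProduct
open Groth.Agent.Lib.Helper12.PairNbhd

namespace Groth.Agent.Lib.helper19.EtNbhdFinite

open Groth.Agent.Lib.helper19.LimStage

variable {A : Type u} [CommRing A] {I : Ideal A} {B : Type u} [CommRing B] [Algebra A B]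

/-- The closed fibre stays finite after base change. -/
theorem finite_quot (H : Type u) [CommRing H] [Algebra A H]
    (hfin : Module.Finite A (B ⧸ I.map (algebraMap A B))) :
    Module.Finite H ((H ⊗[A] B) ⧸ (I.map (algebraMap A H)).map (algebraMap H (H ⊗[A] B))) := by
  set J := (I.map (algebraMap A H)).map (algebraMap H (H ⊗[A] B)) with hJ
  have hJ' : J = I.map (algebraMap A (H ⊗[A] B)) := by
    rw [hJ, Ideal.map_map, ← IsScalarTower.algebraMap_eq]
  let incR : B →ₐ[A] H ⊗[A] B := Algebra.TensorProduct.includeRight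
  have hle : ∀ x ∈ I.map (algebraMap A B), ((Ideal.Quotient.mkₐ A J).comp incR) x = 0 := by
    intro x hx
    show Ideal.Quotient.mk J (incR x) = 0
    rw [Ideal.Quotient.eq_zero_iff_mem, hJ']
    have := Ideal.mem_map_of_mem (incR : B →+* H ⊗[A] B) hx
    rw [Ideal.map_map, incR.comp_algebraMap] at this
    exact this
  let ψ₁ : (B ⧸ I.map (algebraMap A B)) →ₐ[A] (H ⊗[A] B) ⧸ J :=
    Ideal.Quotient.liftₐ _ ((Ideal.Quotient.mkₐ A J).comp incR) hle
  let ψ₂ : H ⊗[A] (B ⧸ I.map (algebraMap A B)) →ₗ[H] (H ⊗[A] B) ⧸ J :=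
    LinearMap.liftBaseChange H ψ₁.toLinearMap
  refine Module.Finite.of_surjective ψ₂ ?_
  intro q
  obtain ⟨t, rfl⟩ := Ideal.Quotient.mk_surjective q
  induction t using TensorProduct.induction_on with
  | zero => exact ⟨0, by simp⟩
  | tmul h b =>
    refine ⟨h ⊗ₜ Ideal.Quotient.mk _ b, ?_⟩
    rw [LinearMap.liftBaseChange_tmul]
    show h • (Ideal.Quotient.mkₐ H J) (incR b) = (Ideal.Quotient.mkₐ H J) (h ⊗ₜ b)
    rw [← map_smul]
    congr 1
    simp [incR, TensorProduct.smul_tmul']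
  | add x y hx hy =>
    obtain ⟨x', hx'⟩ := hx
    obtain ⟨y', hy'⟩ := hy
    exact ⟨x' + y', by rw [map_add, hx', hy', map_add]⟩

/-- Finiteness from finitely many multiplication relations. -/
theorem finite_of_relations {A'' : Type u} [CommRing A''] [Algebra A A'']
    (S_B : Finset B) (hS : Algebra.adjoin A (S_B : Set B) = ⊤)
    (e : A'' ⊗[A] B) {r : ℕ} (m : Fin r → A'' ⊗[A] B) (k₀ : Fin r) (hm0 : m k₀ = 1)
    (γ : B → Fin r → Fin r → A'')
    (hrel : ∀ b ∈ S_B, ∀ k,
      e * (((1 : A'') ⊗ₜ[A] b) * m k - ∑ l, (γ b k l ⊗ₜ[A] (1 : B)) * m l) = 0) :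
    Module.Finite A'' ((A'' ⊗[A] B) ⧸ Ideal.span {1 - e}) := by
  classical
  let mk : (A'' ⊗[A] B) →ₐ[A''] ((A'' ⊗[A] B) ⧸ Ideal.span {1 - e}) := Ideal.Quotient.mkₐ A'' _
  have hmke : mk e = 1 := by
    show Ideal.Quotient.mk _ e = 1
    rw [← map_one (Ideal.Quotient.mk _), Ideal.Quotient.eq, Ideal.mem_span_singleton]
    exact ⟨-1, by ring⟩
  have hkill : ∀ x : A'' ⊗[A] B, e * x = 0 → mk x = 0 := by
    intro x hx
    have := congr(mk $hx)
    rwa [map_mul, hmke, one_mul, map_zero] at this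
  let N : Submodule A'' ((A'' ⊗[A] B) ⧸ Ideal.span {1 - e}) := Submodule.span A'' (Set.range fun l => mk (m l))
  let 𝒮 : Subalgebra A'' ((A'' ⊗[A] B) ⧸ Ideal.span {1 - e}) :=
    { carrier := {q | ∀ n ∈ N, q * n ∈ N}
      mul_mem' := fun {a b} ha hb n hn => by rw [mul_assoc]; exact ha _ (hb n hn)
      one_mem' := fun n hn => by rwa [one_mul]
      add_mem' := fun {a b} ha hb n hn => by rw [add_mul]; exact N.add_mem (ha n hn) (hb n hn)
      zero_mem' := fun n hn => by rw [zero_mul]; exact N.zero_mem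
      algebraMap_mem' := fun a n hn => by rw [← Algebra.smul_def]; exact N.smul_mem a hn }
  have hgen : ∀ b ∈ S_B, mk ((1 : A'') ⊗ₜ[A] b) ∈ 𝒮 := by
    intro b hb n hn
    induction hn using Submodule.span_induction with
    | mem x hx =>
      obtain ⟨k, rfl⟩ := hx
      have h1 := hkill _ (hrel b hb k)
      rw [map_sub, sub_eq_zero, map_mul, map_sum] at h1
      show mk (1 ⊗ₜ[A] b) * mk (m k) ∈ N
      rw [h1]
      apply Submodule.sum_mem
      intro l _
      have : mk ((γ b k l ⊗ₜ[A] (1 : B)) * m l) = γ b k l • mk (m l) := by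
        rw [← map_smul]
        congr 1
        rw [Algebra.smul_def, Algebra.TensorProduct.algebraMap_apply]
        rfl
      rw [this]
      exact N.smul_mem _ (Submodule.subset_span ⟨l, rfl⟩)
    | zero => rw [mul_zero]; exact N.zero_mem
    | add x y _ _ hx hy => rw [mul_add]; exact N.add_mem hx hy
    | smul a x _ hx => rw [mul_smul_comm]; exact N.smul_mem a hx
  have htop : (⊤ : Subalgebra A'' ((A'' ⊗[A] B) ⧸ Ideal.span {1 - e})) ≤ 𝒮 := by
    have h1 := Algebra.TensorProduct.adjoin_one_tmul_image_eq_top (A := A'') (S_B : Set B) hS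
    have h2 : (Algebra.adjoin A'' (((1 : A'') ⊗ₜ[A] ·) '' (S_B : Set B))).map mk = ⊤ := by
      rw [h1, Algebra.map_top, AlgHom.range_eq_top]
      exact Ideal.Quotient.mk_surjective
    rw [← h2, AlgHom.map_adjoin, Algebra.adjoin_le_iff]
    rintro _ ⟨_, ⟨b, hb, rfl⟩, rfl⟩
    exact hgen b hb
  have hN : N = ⊤ := by
    rw [eq_top_iff]
    intro q _
    have h1 : q ∈ 𝒮 := htop trivial
    have h2 := h1 1 (by
      have : (1 : (A'' ⊗[A] B) ⧸ Ideal.span {1 - e}) = mk (m k₀) := by rw [hm0, map_one]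
      rw [this]
      exact Submodule.subset_span ⟨k₀, rfl⟩)
    rwa [mul_one] at h2
  exact ⟨by rw [← hN]; exact Submodule.fg_span (Set.finite_range _)⟩

/-- Descent of the idempotent and of the finiteness from the henselization to a stage. -/
theorem descend [Algebra.FiniteType A B] (e : Lim A I ⊗[A] B) (he : IsIdempotentElem e)
    (he1 : e - 1 ∈ I.map (algebraMap A (Lim A I ⊗[A] B)))
    (hfin : Module.Finite (Lim A I) ((Lim A I ⊗[A] B) ⧸ Ideal.span {1 - e})) :
    ∃ (A' : Type u) (_ : CommRing A') (_ : Algebra A A') (_ : Algebra.Etale A A'),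
      Function.Bijective (Ideal.quotientMap (I.map (algebraMap A A')) (algebraMap A A')
        Ideal.le_comap_map) ∧ ∃ e' : A' ⊗[A] B, IsIdempotentElem e' ∧
        e' - 1 ∈ I.map (algebraMap A (A' ⊗[A] B)) ∧
        Module.Finite A' ((A' ⊗[A] B) ⧸ Ideal.span {1 - e'}) := by
  classical
  -- generators of `B`
  obtain ⟨S_B, hS⟩ := (Algebra.FiniteType.out : (⊤ : Subalgebra A B).FG)
  -- generators of the quotient
  obtain ⟨r, q, hq⟩ := Module.Finite.exists_fin (R := Lim A I)
    (M := (Lim A I ⊗[A] B) ⧸ Ideal.span {1 - e})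
  let mk : (Lim A I ⊗[A] B) →ₐ[Lim A I] ((Lim A I ⊗[A] B) ⧸ Ideal.span {1 - e}) :=
    Ideal.Quotient.mkₐ (Lim A I) _
  have hmksurj : Function.Surjective mk := Ideal.Quotient.mk_surjective
  choose m₁ hm₁ using fun k => hmksurj (q k)
  let m : Fin (r + 1) → Lim A I ⊗[A] B := Fin.cons 1 m₁
  have hspan : ∀ x : (Lim A I ⊗[A] B) ⧸ Ideal.span {1 - e},
      ∃ c : Fin (r + 1) → Lim A I, ∑ l, c l • mk (m l) = x := by
    intro x
    have : x ∈ Submodule.span (Lim A I) (Set.range q) := by rw [hq]; trivial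
    obtain ⟨c, hc⟩ := (Submodule.mem_span_range_iff_exists_fun (Lim A I)).mp this
    refine ⟨Fin.cons 0 c, ?_⟩
    rw [Fin.sum_univ_succ]
    simp only [Fin.cons_zero, zero_smul, zero_add, Fin.cons_succ, m, hm₁]
    exact hc
  have hrel : ∀ (b : B) (k : Fin (r + 1)), ∃ c : Fin (r + 1) → Lim A I,
      e * (((1 : Lim A I) ⊗ₜ[A] b) * m k - ∑ l, (c l ⊗ₜ[A] (1 : B)) * m l) = 0 := by
    intro b k
    obtain ⟨c, hc⟩ := hspan (mk (((1 : Lim A I) ⊗ₜ[A] b) * m k))
    refine ⟨c, ?_⟩
    have h0 : mk (((1 : Lim A I) ⊗ₜ[A] b) * m k - ∑ l, (c l ⊗ₜ[A] (1 : B)) * m l) = 0 := by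
      rw [map_sub, ← hc, map_sum, sub_eq_zero]
      apply Finset.sum_congr rfl
      intro l _
      rw [← map_smul]
      congr 1
      exact (Algebra.smul_def (c l) (m l)).trans (by
        rw [Algebra.TensorProduct.algebraMap_apply]; rfl)
    have h1 : ((1 : Lim A I) ⊗ₜ[A] b) * m k - ∑ l, (c l ⊗ₜ[A] (1 : B)) * m l ∈
        Ideal.span {1 - e} := Ideal.Quotient.eq_zero_iff_mem.mp h0
    obtain ⟨w, hw⟩ := Ideal.mem_span_singleton.mp h1
    rw [hw, ← mul_assoc, mul_sub, mul_one, he.eq, sub_self, zero_mul]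
  choose γ hγ using hrel
  -- the congruence `e ≡ 1`
  have he1' : e - 1 ∈ Submodule.span (Lim A I ⊗[A] B)
      ((algebraMap A (Lim A I ⊗[A] B)) '' (I : Set A)) := he1
  obtain ⟨t, htI, c, hc⟩ := (Submodule.mem_span_image_iff_exists_fun (Lim A I ⊗[A] B)).mp he1'
  -- the finite sets
  let F : Finset (Lim A I ⊗[A] B) := {e} ∪ Finset.univ.image m₁ ∪ Finset.univ.image c
  let F₀ : Finset (Lim A I) :=
    (S_B ×ˢ (Finset.univ : Finset (Fin (r + 1) × Fin (r + 1)))).image
      (fun p => γ p.1 p.2.1 p.2.2)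
  obtain ⟨A', _, _, _, hbij, φ, hφ₀, hφ⟩ := exists_stage A I B F₀ F
  let Φ : A' ⊗[A] B →ₐ[A] Lim A I ⊗[A] B := Algebra.TensorProduct.map φ (AlgHom.id A B)
  have hΦ : ∀ z, Φ z = LinearMap.rTensor B φ.toLinearMap z := fun z => rfl
  obtain ⟨e', he'⟩ : ∃ x, Φ x = e := hφ e (by simp [F])
  have h1 : ∀ k, ∃ x, Φ x = m₁ k := fun k => hφ (m₁ k) (by simp [F])
  choose m₁' hm₁' using h1
  have h2 : ∀ i : t, ∃ x, Φ x = c i := fun i => hφ (c i) (by simp [F])
  choose c' hc' using h2
  have h3 : ∀ (b : B) (k l : Fin (r + 1)), ∃ a' : A', b ∈ S_B → φ a' = γ b k l := by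
    intro b k l
    by_cases hb : b ∈ S_B
    · obtain ⟨a', ha'⟩ := hφ₀ (γ b k l) (Finset.mem_image.mpr ⟨(b, k, l), by simp [hb], rfl⟩)
      exact ⟨a', fun _ => ha'⟩
    · exact ⟨0, fun h => absurd h hb⟩
  choose γ' hγ' using h3
  let m' : Fin (r + 1) → A' ⊗[A] B := Fin.cons 1 m₁'
  have hm' : ∀ l, Φ (m' l) = m l := by
    intro l
    refine Fin.cases ?_ (fun k => ?_) l
    · simp [m', m]
    · simp [m', m, hm₁']
  -- the equations
  let z₁ : A' ⊗[A] B := e' * e' - e'
  let z₂ : A' ⊗[A] B := e' - 1 - ∑ i : t, c' i * algebraMap A (A' ⊗[A] B) (i : A)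
  let z₃ : B × Fin (r + 1) → A' ⊗[A] B := fun p =>
    e' * (((1 : A') ⊗ₜ[A] p.1) * m' p.2 - ∑ l, (γ' p.1 p.2 l ⊗ₜ[A] (1 : B)) * m' l)
  let Z : Finset (A' ⊗[A] B) := {z₁, z₂} ∪ (S_B ×ˢ (Finset.univ : Finset (Fin (r + 1)))).image z₃
  have hZ : ∀ z ∈ Z, LinearMap.rTensor B φ.toLinearMap z = 0 := by
    intro z hz
    rw [← hΦ]
    simp only [Z, Finset.mem_union, Finset.mem_insert, Finset.mem_singleton, Finset.mem_image,
      Finset.mem_product, Finset.mem_univ, and_true] at hz
    rcases hz with (rfl | rfl) | ⟨p, hp, rfl⟩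
    · simp only [z₁, map_sub, map_mul, he', he.eq, sub_self]
    · simp only [z₂, map_sub, map_one, map_sum, map_mul, he', hc', AlgHom.commutes]
      rw [sub_eq_zero, ← hc]
      apply Finset.sum_congr rfl
      intro i _
      rw [smul_eq_mul]
    · simp only [z₃, map_sub, map_sum, map_mul, he', hm']
      rw [← hγ p.1 p.2]
      congr 2
      · simp [Φ]
      · apply Finset.sum_congr rfl
        intro l _
        congr 1
        simp [Φ, hγ' p.1 p.2 l hp]
  obtain ⟨g, hg1, hgZ⟩ := exists_kill hbij φ B Z hZ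
  let ι : A' →ₐ[A] Localization.Away g := IsScalarTower.toAlgHom A A' (Localization.Away g)
  let Ψ : A' ⊗[A] B →ₐ[A] Localization.Away g ⊗[A] B :=
    Algebra.TensorProduct.map ι (AlgHom.id A B)
  have hΨ0 : ∀ z ∈ Z, Ψ z = 0 := fun z hz => away_rTensor_eq_zero g B z (hgZ z hz)
  refine ⟨Localization.Away g, inferInstance, inferInstance, inferInstance,
    away_bijective hbij g hg1, Ψ e', ?_, ?_, ?_⟩
  · have := hΨ0 z₁ (by simp [Z])
    simp only [z₁, map_sub, map_mul] at this
    exact sub_eq_zero.mp this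
  · have := hΨ0 z₂ (by simp [Z])
    simp only [z₂, map_sub, map_one, map_sum, map_mul, AlgHom.commutes] at this
    rw [sub_eq_zero] at this
    rw [this]
    apply Ideal.sum_mem
    intro i _
    apply Ideal.mul_mem_left
    exact Ideal.mem_map_of_mem _ (htI i.2)
  · apply finite_of_relations S_B hS (Ψ e') (fun l => Ψ (m' l)) 0 (by simp [m'])
      (fun b k l => ι (γ' b k l))
    intro b hb k
    have := hΨ0 (z₃ (b, k)) (by
      simp only [Z, Finset.mem_union, Finset.mem_image, Finset.mem_product, Finset.mem_univ,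
        and_true]
      exact Or.inr ⟨(b, k), hb, rfl⟩)
    simp only [z₃, map_sub, map_sum, map_mul] at this
    convert this using 3
    · simp [Ψ]
    · apply Finset.sum_congr rfl
      intro l _
      simp [Ψ]

variable (A I B) in
/-- S17976. -/
theorem main [Algebra.FiniteType A B]
    (hfin : Module.Finite A (B ⧸ Ideal.map (algebraMap A B) I)) :
    ∃ (A' : Type u) (_ : CommRing A') (_ : Algebra A A') (_ : Algebra.Etale A A')
      (C : Type u) (_ : CommRing C) (_ : Algebra A C) (_ : Algebra A' C) (_ : Algebra B C)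
      (_ : IsScalarTower A A' C) (_ : IsScalarTower A B C),
      Function.Surjective ((Ideal.Quotient.mk (Ideal.map (algebraMap A A') I)).comp (algebraMap A A')) ∧
      RingHom.ker ((Ideal.Quotient.mk (Ideal.map (algebraMap A A') I)).comp (algebraMap A A')) = I ∧
      Algebra.Etale B C ∧ Module.Finite A' C ∧
      Function.Surjective ((Ideal.Quotient.mk (Ideal.map (algebraMap A C) I)).comp (algebraMap B C)) ∧
      RingHom.ker ((Ideal.Quotient.mk (Ideal.map (algebraMap A C) I)).comp (algebraMap B C)) =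
        Ideal.map (algebraMap A B) I := by
  haveI := Lim.henselianRing (A := A) (I := I)
  haveI := finite_quot (I := I) (B := B) (Lim A I) hfin
  obtain ⟨e, he, he1, hfe⟩ := FinEtLift.exists_idem_finite' (I.map (algebraMap A (Lim A I)))
    (Lim A I ⊗[A] B)
  have he1' : e - 1 ∈ I.map (algebraMap A (Lim A I ⊗[A] B)) := by
    rw [Ideal.map_map, ← IsScalarTower.algebraMap_eq] at he1
    exact he1
  obtain ⟨A', _, _, _, hbij, e', he', he1'', hfin'⟩ := descend e he he1' hfe
  exact final hbij e' he' he1'' hfin'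

end Groth.Agent.Lib.helper19.EtNbhdFinite
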