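import Groth.Agent.Lib.helper19.CotSquare
import Groth.Agent.Lib.helper19.CotSmooth

set_option autoImplicit false
universe u
open TensorProduct KaehlerDifferential IsLocalRing

namespace Groth.Agent.Lib.Helper19.EtSection

section Transfer

theorem lTensor_bijective {R : Type*} [CommSemiring R] (M : Type*) {N Q : Type*}
    [AddCommMonoid M] [AddCommMonoid N] [AddCommMonoid Q] [Module R M] [Module R N] [Module R Q]
    (f : N →ₗ[R] Q) (hf : Function.Bijective f) : Function.Bijective (f.lTensor M) :=
  TensorProduct.map_bijective Function.bijective_id hf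

variable {B C κ : Type u} [CommRing B] [CommRing C] [CommRing κ] [Algebra B C] [Algebra C κ]
  [Algebra B κ] [IsScalarTower B C κ]
  {M N : Type u} [AddCommGroup M] [AddCommGroup N] [Module B M] [Module B N]

/-- `κ ⊗_C (C ⊗_B g)` is bijective iff `κ ⊗_B g` is. -/
theorem bijective_lTensor_iff (g : M →ₗ[B] N) :
    Function.Bijective ((AlgebraTensorModule.lTensor C C g).lTensor κ) ↔
      Function.Bijective (g.lTensor κ) := by
  have key := AlgebraTensorModule.lTensor_comp_cancelBaseChange (R := B) (A := C) (B := κ)
    (M := κ) g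
  have h1 : ∀ z, (g.lTensor κ) (AlgebraTensorModule.cancelBaseChange B C κ κ M z) =
      AlgebraTensorModule.cancelBaseChange B C κ κ N
        (((AlgebraTensorModule.lTensor C C g).lTensor κ) z) := fun z =>
    LinearMap.congr_fun key z
  constructor
  · intro h
    have h2 : (fun w => (g.lTensor κ) w) =
        (AlgebraTensorModule.cancelBaseChange B C κ κ N) ∘
          ((AlgebraTensorModule.lTensor C C g).lTensor κ) ∘
            (AlgebraTensorModule.cancelBaseChange B C κ κ M).symm := by
      funext w
      simp only [Function.comp_apply]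
      rw [← h1, LinearEquiv.apply_symm_apply]
    show Function.Bijective (fun w => (g.lTensor κ) w)
    rw [h2]
    exact (LinearEquiv.bijective _).comp (h.comp (LinearEquiv.bijective _))
  · intro h
    have h2 : (fun z => ((AlgebraTensorModule.lTensor C C g).lTensor κ) z) =
        (AlgebraTensorModule.cancelBaseChange B C κ κ N).symm ∘ (g.lTensor κ) ∘
          (AlgebraTensorModule.cancelBaseChange B C κ κ M) := by
      funext z
      simp only [Function.comp_apply]
      rw [h1, LinearEquiv.symm_apply_apply]
    show Function.Bijective (fun z => ((AlgebraTensorModule.lTensor C C g).lTensor κ) z)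
    rw [h2]
    exact (LinearEquiv.bijective _).comp (h.comp (LinearEquiv.bijective _))

end Transfer


section MapMap

variable (R S₁ S₂ S₃ : Type u) [CommRing R] [CommRing S₁] [CommRing S₂] [CommRing S₃]
  [Algebra R S₁] [Algebra R S₂] [Algebra R S₃] [Algebra S₁ S₂] [Algebra S₂ S₃] [Algebra S₁ S₃]
  [IsScalarTower R S₁ S₂] [IsScalarTower R S₂ S₃] [IsScalarTower R S₁ S₃] [IsScalarTower S₁ S₂ S₃]

theorem kaehler_map_map (ω : Ω[S₁⁄R]) :
    map R R S₂ S₃ (map R R S₁ S₂ ω) = map R R S₁ S₃ ω := by
  have hω : ω ∈ Submodule.span S₁ (Set.range (D R S₁)) := by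
    rw [KaehlerDifferential.span_range_derivation]; trivial
  induction hω using Submodule.span_induction with
  | mem x hx =>
    obtain ⟨s, rfl⟩ := hx
    rw [map_D, map_D, map_D, ← IsScalarTower.algebraMap_apply]
  | zero => simp
  | add x y _ _ hx hy => rw [map_add, map_add, map_add, hx, hy]
  | smul a x _ hx =>
    rw [map_smul, LinearMap.map_smul_of_tower, map_smul, hx]

end MapMap

section Main

variable (A B₁ B₂ : Type u) [CommRing A] [CommRing B₁] [CommRing B₂] [Algebra A B₁] [Algebra A B₂]
  [Algebra B₂ B₁] [IsScalarTower A B₂ B₁] [Algebra.FinitePresentation A B₁]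
  [Algebra.FiniteType A B₂]

theorem main (σ₁ : B₁ →ₐ[A] A) (σ₂ : B₂ →ₐ[A] A)
    (hσ : σ₁.comp (IsScalarTower.toAlgHom A B₂ B₁) = σ₂)
    (hle : RingHom.ker σ₂ ≤ (RingHom.ker σ₁).comap (IsScalarTower.toAlgHom A B₂ B₁))
    (hcot : Function.Bijective
      (Ideal.mapCotangent (RingHom.ker σ₂) (RingHom.ker σ₁) (IsScalarTower.toAlgHom A B₂ B₁) hle))
    (P : Ideal B₁) [P.IsPrime] (hP : RingHom.ker σ₁ ≤ P) (hsm : Algebra.IsSmoothAt A P) :
    Algebra.IsEtaleAt B₂ P := by
  letI a1 : Algebra B₁ A := σ₁.toRingHom.toAlgebra
  letI a2 : Algebra B₂ A := σ₂.toRingHom.toAlgebra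
  haveI t1 : IsScalarTower A B₁ A :=
    IsScalarTower.of_algebraMap_eq (fun a => (σ₁.commutes a).symm)
  haveI t2 : IsScalarTower A B₂ A :=
    IsScalarTower.of_algebraMap_eq (fun a => (σ₂.commutes a).symm)
  haveI t3 : IsScalarTower B₂ B₁ A := IsScalarTower.of_algebraMap_eq (fun b => by
    show σ₂ b = σ₁ (algebraMap B₂ B₁ b)
    rw [← hσ]; rfl)
  have hs1 : Function.Surjective (algebraMap B₁ A) := fun a => ⟨algebraMap A B₁ a, σ₁.commutes a⟩
  have hs2 : Function.Surjective (algebraMap B₂ A) := fun a => ⟨algebraMap A B₂ a, σ₂.commutes a⟩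
  have hA : Function.Bijective ((mapBaseChange A B₂ B₁).lTensor A) :=
    CotSquare.bijective_lTensor_mapBaseChange A B₂ B₁ A hs2 hs1 Function.bijective_id
      (RingHom.ker σ₂) (RingHom.ker σ₁) rfl rfl _ (fun r hr hr' => rfl) hcot
  haveI hFS : Algebra.FormallySmooth A (Localization.AtPrime P) := hsm
  haveI t4 : IsScalarTower B₁ A (ResidueField (Localization.AtPrime P)) :=
    IsScalarTower.of_algebraMap_eq (fun b => by
      have h1 : algebraMap A (ResidueField (Localization.AtPrime P)) (σ₁ b) =
          algebraMap B₁ (ResidueField (Localization.AtPrime P)) (algebraMap A B₁ (σ₁ b)) :=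
        IsScalarTower.algebraMap_apply A B₁ (ResidueField (Localization.AtPrime P)) _
      have h2 : b - algebraMap A B₁ (σ₁ b) ∈ P := hP (by
        rw [RingHom.mem_ker, map_sub, σ₁.commutes]
        exact sub_self _)
      have h3 : algebraMap B₁ (ResidueField (Localization.AtPrime P))
          (b - algebraMap A B₁ (σ₁ b)) = 0 := by
        rw [IsScalarTower.algebraMap_apply B₁ (Localization.AtPrime P)
          (ResidueField (Localization.AtPrime P)), ResidueField.algebraMap_eq,
          residue_eq_zero_iff]
        exact (IsLocalization.AtPrime.to_map_mem_maximal_iff (Localization.AtPrime P) P _).2 h2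
      rw [map_sub, sub_eq_zero] at h3
      rw [h3, ← h1]
      rfl)
  -- transfer to the residue field of the localization
  have h3a : Function.Bijective
      ((mapBaseChange A B₂ B₁).lTensor (ResidueField (Localization.AtPrime P))) := by
    rw [← bijective_lTensor_iff (C := A) (mapBaseChange A B₂ B₁)]
    exact lTensor_bijective _ _ hA
  have h3b : Function.Bijective
      ((AlgebraTensorModule.lTensor (Localization.AtPrime P) (Localization.AtPrime P)
        (mapBaseChange A B₂ B₁)).lTensor (ResidueField (Localization.AtPrime P))) :=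
    (bijective_lTensor_iff (C := Localization.AtPrime P) (mapBaseChange A B₂ B₁)).2 h3a
  haveI : Algebra.FormallyEtale B₁ (Localization.AtPrime P) :=
    Algebra.FormallyEtale.of_isLocalization P.primeCompl
  have hrel : (mapBaseChange A B₂ (Localization.AtPrime P)) ∘ₗ
      (AlgebraTensorModule.cancelBaseChange B₂ B₁ (Localization.AtPrime P)
        (Localization.AtPrime P) Ω[B₂⁄A]).toLinearMap =
      (tensorKaehlerEquivOfFormallyEtale A B₁ (Localization.AtPrime P)).toLinearMap ∘ₗ
        (AlgebraTensorModule.lTensor (Localization.AtPrime P) (Localization.AtPrime P)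
          (mapBaseChange A B₂ B₁)) := by
    ext b
    simp
    rw [← IsScalarTower.algebraMap_apply]
  have hκ : Function.Bijective ((mapBaseChange A B₂ (Localization.AtPrime P)).lTensor
      (ResidueField (Localization.AtPrime P))) := by
    have h4 := congrArg (LinearMap.lTensor (ResidueField (Localization.AtPrime P))) hrel
    rw [LinearMap.lTensor_comp, LinearMap.lTensor_comp] at h4
    have h5 : Function.Bijective (((mapBaseChange A B₂ (Localization.AtPrime P)).lTensor
        (ResidueField (Localization.AtPrime P))) ∘
        ((AlgebraTensorModule.cancelBaseChange B₂ B₁ (Localization.AtPrime P)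
          (Localization.AtPrime P) Ω[B₂⁄A]).toLinearMap.lTensor
            (ResidueField (Localization.AtPrime P)))) := by
      rw [← LinearMap.coe_comp, h4, LinearMap.coe_comp]
      exact (lTensor_bijective _ _ (LinearEquiv.bijective _)).comp h3b
    exact (Function.Bijective.of_comp_iff _
      (lTensor_bijective _ _ (LinearEquiv.bijective _))).1 h5
  -- finiteness
  haveI : Algebra.FiniteType A B₁ := inferInstance
  haveI : Algebra.EssFiniteType B₁ (Localization.AtPrime P) :=
    Algebra.EssFiniteType.of_isLocalization _ P.primeCompl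
  haveI : Algebra.EssFiniteType A (Localization.AtPrime P) :=
    Algebra.EssFiniteType.comp A B₁ _
  haveI : Algebra.FiniteType B₂ B₁ := Algebra.FiniteType.of_restrictScalars_finiteType A B₂ B₁
  haveI : Algebra.EssFiniteType B₂ (Localization.AtPrime P) :=
    Algebra.EssFiniteType.comp B₂ B₁ _
  haveI : Module.Finite (Localization.AtPrime P) Ω[Localization.AtPrime P⁄A] := inferInstance
  haveI : Module.Finite (Localization.AtPrime P) Ω[Localization.AtPrime P⁄B₂] := inferInstance
  haveI : Module.Finite B₂ Ω[B₂⁄A] := inferInstance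
  haveI : Module.Finite (Localization.AtPrime P) (Localization.AtPrime P ⊗[B₂] Ω[B₂⁄A]) :=
    inferInstance
  haveI : Module.Projective (Localization.AtPrime P) Ω[Localization.AtPrime P⁄A] := inferInstance
  haveI : Module.Free (Localization.AtPrime P) Ω[Localization.AtPrime P⁄A] :=
    Module.free_of_flat_of_isLocalRing
  obtain ⟨l', hl'⟩ := (IsLocalRing.split_injective_iff_lTensor_residueField_injective
    (mapBaseChange A B₂ (Localization.AtPrime P))).2 hκ.1
  have hsmooth : Algebra.FormallySmooth B₂ (Localization.AtPrime P) :=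
    Groth.Agent.Lib.Helper19.CotSmooth.formallySmooth_of_retraction A B₂ _ l' hl'
  have hunr : Algebra.FormallyUnramified B₂ (Localization.AtPrime P) := by
    refine ⟨?_⟩
    rw [← IsLocalRing.subsingleton_tensorProduct (R := Localization.AtPrime P)]
    have hex := lTensor_exact (ResidueField (Localization.AtPrime P))
      (exact_mapBaseChange_map A B₂ (Localization.AtPrime P))
      (map_surjective A B₂ (Localization.AtPrime P))
    have hsurj := LinearMap.lTensor_surjective (ResidueField (Localization.AtPrime P))
      (map_surjective A B₂ (Localization.AtPrime P))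
    refine ⟨fun x y => ?_⟩
    have hz : ∀ z : ResidueField (Localization.AtPrime P) ⊗[Localization.AtPrime P]
        Ω[Localization.AtPrime P⁄B₂], z = 0 := by
      intro z
      obtain ⟨w, rfl⟩ := hsurj z
      obtain ⟨v, rfl⟩ := hκ.2 w
      exact hex.apply_apply_eq_zero v
    rw [hz x, hz y]
  exact Algebra.FormallyEtale.iff_formallyUnramified_and_formallySmooth.2 ⟨hunr, hsmooth⟩

end Main

end Groth.Agent.Lib.Helper19.EtSection
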