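import Mathlib
import Groth.Agent.Lib.Helper5.CartierMain
import Groth.Agent.Lib.Helper5.SepCartier2
import Groth.Agent.Lib.Helper5.JacLocF

set_option autoImplicit false
universe u

namespace Groth.Agent.Lib.Helper19.SepDim

open Groth.Agent.Lib.Helper5 Module

variable (k K : Type u) [Field k] [Field K] [Algebra k K] [Algebra.EssFiniteType k K]

/-- Cartier: for a separable finitely generated field extension, `dim Ω = trdeg`. -/
theorem finrank_kaehler_eq_trdeg [Algebra.FormallySmooth k K] :
    finrank K Ω[K⁄k] = Cardinal.toNat (Algebra.trdeg k K) := by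
  have h := Cartier.cdata_of_essFiniteType k K
  have h1 := h.finrank_eq
  have hinj := SepSmooth.mapBaseChange_injective_of_formallySmooth (k := k) (K := K) ℤ
  have hker : LinearMap.ker (KaehlerDifferential.mapBaseChange ℤ k K) = ⊥ :=
    LinearMap.ker_eq_bot.2 hinj
  rw [hker, finrank_bot] at h1
  have : (finrank K Ω[K⁄k] : ℤ) = Cardinal.toNat (Algebra.trdeg k K) := by simpa using h1
  exact_mod_cast this

/-- converse: `dim Ω ≤ trdeg` forces separability. -/
theorem geomReduced_of_finrank_le
    (hle : finrank K Ω[K⁄k] ≤ Cardinal.toNat (Algebra.trdeg k K)) :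
    Algebra.IsGeometricallyReduced k K := by
  have h := Cartier.cdata_of_essFiniteType k K
  have h1 := h.finrank_eq
  haveI := h.finKer
  have h2 : finrank K (LinearMap.ker (KaehlerDifferential.mapBaseChange ℤ k K)) = 0 := by
    have : (finrank K Ω[K⁄k] : ℤ) ≤ Cardinal.toNat (Algebra.trdeg k K) := by exact_mod_cast hle
    omega
  have hker : LinearMap.ker (KaehlerDifferential.mapBaseChange ℤ k K) = ⊥ :=
    Submodule.finrank_eq_zero.mp h2
  exact SepCartier.geomReduced_of_mapBaseChange_injective (LinearMap.ker_eq_bot.1 hker)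

end Groth.Agent.Lib.Helper19.SepDim
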