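import Mathlib
import Groth.Prelude.Def_Flat
import Groth.Agent.Lib.helper19.EtalePoly2
import Groth.Agent.Lib.Helper5.SepSmooth
import Groth.Agent.Lib.helper19.SepDim

set_option autoImplicit false
universe u

namespace Groth.Agent.Lib.Helper19.EtalePoly10

open IsLocalRing TensorProduct KaehlerDifferential Groth.Agent.Lib.Helper19 Module

theorem image_lt {α : Type*} (r t : ℕ) (g : Fin (r + t) → α) :
    g '' {i : Fin (r + t) | (i : ℕ) < r} = Set.range (fun j : Fin r => g (Fin.castAdd t j)) := by
  ext y
  constructor
  · rintro ⟨i, hi, rfl⟩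
    exact ⟨⟨i.1, hi⟩, rfl⟩
  · rintro ⟨j, rfl⟩
    exact ⟨Fin.castAdd t j, j.2, rfl⟩

theorem image_ge {α : Type*} (r t : ℕ) (g : Fin (r + t) → α) :
    g '' {i : Fin (r + t) | r ≤ (i : ℕ)} = Set.range (fun j : Fin t => g (Fin.natAdd r j)) := by
  ext y
  constructor
  · rintro ⟨i, hi, rfl⟩
    have hi' : r ≤ (i : ℕ) := hi
    refine ⟨⟨i.1 - r, by omega⟩, ?_⟩
    show g (Fin.natAdd r ⟨i.1 - r, _⟩) = g i
    congr 1
    apply Fin.ext
    simp only [Fin.natAdd_mk]
    omega
  · rintro ⟨j, rfl⟩
    exact ⟨Fin.natAdd r j, by simp, rfl⟩

variable (k A : Type u) [Field k] [CommRing A] [Algebra k A] [Algebra.FiniteType k A]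

include k in
theorem eq_add_trdeg (n r : ℕ) (p : Ideal A) [p.IsPrime]
    (hn : FlatMor.localDim (PrimeSpectrum A) ⟨p, inferInstance⟩ = (n : WithBot ℕ∞))
    (hr : ringKrullDim (Localization.AtPrime p) = (r : WithBot ℕ∞)) :
    ∃ t : ℕ, Algebra.trdeg k p.ResidueField = t ∧ n = r + t := by
  obtain ⟨t, ht, -⟩ := EtalePoly2.exists_trdeg_residueField (k := k) p
  refine ⟨t, ht, ?_⟩
  have h1 := Groth.Agent.Lib.lead.AffLocalDim.main (k := k) p t ht
  rw [hn, hr] at h1
  have : (n : WithBot ℕ∞) = ((r + t : ℕ) : WithBot ℕ∞) := by rw [h1]; push_cast; rfl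
  exact_mod_cast this

instance essFiniteType_residueField (p : Ideal A) [p.IsPrime] :
    Algebra.EssFiniteType k p.ResidueField := by
  haveI : Algebra.EssFiniteType A (Localization.AtPrime p) :=
    Algebra.EssFiniteType.of_isLocalization _ p.primeCompl
  haveI : Algebra.EssFiniteType k (Localization.AtPrime p) :=
    Algebra.EssFiniteType.comp k A (Localization.AtPrime p)
  haveI : Algebra.FiniteType (Localization.AtPrime p) p.ResidueField :=
    Algebra.FiniteType.of_surjective (Algebra.ofId _ _) IsLocalRing.residue_surjective
  exact Algebra.EssFiniteType.comp k (Localization.AtPrime p) p.ResidueField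

set_option maxHeartbeats 800000 in
theorem main5027 (n r : ℕ) (p : Ideal A) [p.IsPrime]
    (hn : FlatMor.localDim (PrimeSpectrum A) ⟨p, inferInstance⟩ = (n : WithBot ℕ∞))
    (hr : ringKrullDim (Localization.AtPrime p) = (r : WithBot ℕ∞)) :
    (IsRegularLocalRing (Localization.AtPrime p) ∧ Algebra.IsGeometricallyReduced k p.ResidueField) ↔
      ∃ g : Fin n → Localization.AtPrime p,
        Ideal.span (g '' {i : Fin n | (i : ℕ) < r}) = IsLocalRing.maximalIdeal (Localization.AtPrime p) ∧
          Submodule.span p.ResidueField ((fun i : Fin n =>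
            KaehlerDifferential.D k p.ResidueField (IsLocalRing.residue (Localization.AtPrime p) (g i))) ''
              {i : Fin n | r ≤ (i : ℕ)}) = ⊤ := by
  classical
  obtain ⟨t, ht, rfl⟩ := eq_add_trdeg k A n r p hn hr
  have htn : Cardinal.toNat (Algebra.trdeg k p.ResidueField) = t := by
    rw [ht, Cardinal.toNat_natCast]
  haveI : IsNoetherianRing A := Algebra.FiniteType.isNoetherianRing k A
  haveI : IsNoetherianRing (Localization.AtPrime p) := inferInstance
  constructor
  · rintro ⟨hreg, hgr⟩
    haveI : Algebra.FormallySmooth k p.ResidueField :=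
      Groth.Agent.Lib.Helper5.SepSmooth.formallySmooth_of_geomReduced
    have hfr : finrank p.ResidueField Ω[p.ResidueField⁄k] = t := by
      rw [SepDim.finrank_kaehler_eq_trdeg, htn]
    -- generators of the differentials
    have hspan : Submodule.span p.ResidueField (Set.range (D k p.ResidueField)) = ⊤ :=
      KaehlerDifferential.span_range_derivation k p.ResidueField
    obtain ⟨f, hfs, hfspan, -⟩ := Submodule.exists_fun_fin_finrank_span_eq p.ResidueField
      (Set.range (D k p.ResidueField))
    have hft : finrank p.ResidueField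
        (Submodule.span p.ResidueField (Set.range (D k p.ResidueField))) = t := by
      rw [hspan, finrank_top, hfr]
    choose y hy using hfs
    have hz : ∀ j, ∃ z : Localization.AtPrime p, residue (Localization.AtPrime p) z = y j :=
      fun j => IsLocalRing.residue_surjective (y j)
    choose z hz using hz
    let g₂ : Fin t → Localization.AtPrime p := fun j => z (Fin.cast hft.symm j)
    -- generators of the maximal ideal
    have hfg : (maximalIdeal (Localization.AtPrime p)).FG := IsNoetherian.noetherian _
    have hsf : (maximalIdeal (Localization.AtPrime p)).spanFinrank = r := by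
      have := hreg.spanFinrank_maximalIdeal
      rw [hr] at this
      exact_mod_cast this
    have hGfin := Submodule.FG.finite_generators hfg
    have hGcard : (Submodule.generators (maximalIdeal (Localization.AtPrime p))).ncard = r := by
      rw [Submodule.FG.generators_ncard hfg, hsf]
    haveI : Finite (Submodule.generators (maximalIdeal (Localization.AtPrime p))) := hGfin
    have hcard' : Nat.card (Submodule.generators (maximalIdeal (Localization.AtPrime p))) = r := by
      rw [Nat.card_coe_set_eq, hGcard]
    let e := Finite.equivFinOfCardEq hcard'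
    let g₁ : Fin r → Localization.AtPrime p := fun i => (e.symm i : Localization.AtPrime p)
    have hg₁ : Set.range g₁ = Submodule.generators (maximalIdeal (Localization.AtPrime p)) := by
      ext x
      constructor
      · rintro ⟨i, rfl⟩; exact (e.symm i).2
      · intro hx; exact ⟨e ⟨x, hx⟩, by simp [g₁]⟩
    refine ⟨Fin.append g₁ g₂, ?_, ?_⟩
    · rw [image_lt]
      simp only [Fin.append_left]
      change Ideal.span (Set.range g₁) = _
      rw [hg₁]
      exact Submodule.span_generators _
    · rw [image_ge]
      simp only [Fin.append_right]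
      rw [eq_top_iff, ← hspan, ← hfspan]
      apply Submodule.span_mono
      rintro _ ⟨j, rfl⟩
      refine ⟨Fin.cast hft j, ?_⟩
      simp only [g₂, Fin.cast_cast, Fin.cast_eq_self, hz, hy]
  · rintro ⟨g, ha, hb⟩
    constructor
    · apply IsRegularLocalRing.of_spanFinrank_maximalIdeal_le
      rw [hr, ← ha, image_lt]
      have h1 : (Set.range fun j : Fin r => g (Fin.castAdd t j)).Finite := Set.finite_range _
      have h2 := Submodule.spanFinrank_span_le_ncard_of_finite
        (R := Localization.AtPrime p) h1
      have h3 : (Set.range fun j : Fin r => g (Fin.castAdd t j)).ncard ≤ r := by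
        rw [← Set.image_univ]
        refine (Set.ncard_image_le Set.finite_univ).trans ?_
        rw [Set.ncard_univ, Nat.card_fin]
      have : (Ideal.span (Set.range fun j : Fin r => g (Fin.castAdd t j))).spanFinrank ≤ r :=
        h2.trans h3
      exact_mod_cast this
    · apply SepDim.geomReduced_of_finrank_le
      rw [htn]
      rw [image_ge] at hb
      have h1 := finrank_range_le_card (R := p.ResidueField)
        (fun j : Fin t => KaehlerDifferential.D k p.ResidueField
          (IsLocalRing.residue (Localization.AtPrime p) (g (Fin.natAdd r j))))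
      rw [Set.finrank, hb, finrank_top, Fintype.card_fin] at h1
      exact h1

end Groth.Agent.Lib.Helper19.EtalePoly10
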