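import Mathlib
import Groth.Agent.Lib.helper19.EtalePoly5

set_option autoImplicit false
universe u

namespace Groth.Agent.Lib.Helper19.EtalePoly6

open IsLocalRing Groth.Agent.Lib.Helper19

theorem eq_idealOfVars {k : Type*} [Field k] {σ : Type*} (q : Ideal (MvPolynomial σ k)) [q.IsPrime]
    (h : ∀ i, (MvPolynomial.X i : MvPolynomial σ k) ∈ q) : q = MvPolynomial.idealOfVars σ k := by
  apply le_antisymm
  · intro f hf
    have h1 : f - MvPolynomial.C (MvPolynomial.constantCoeff f) ∈ MvPolynomial.idealOfVars σ k := by
      have := (MvPolynomial.mem_pow_idealOfVars_iff' (σ := σ) (R := k) 1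
        (f - MvPolynomial.C (MvPolynomial.constantCoeff f))).mpr (by
          intro x hx
          have hx0 : x = 0 := by
            rw [Nat.lt_one_iff] at hx
            exact (Finsupp.degree_eq_zero_iff x).mp hx
          subst hx0
          simp [MvPolynomial.constantCoeff_eq])
      rwa [pow_one] at this
    have hle : MvPolynomial.idealOfVars σ k ≤ q := by
      rw [Ideal.span_le]; rintro _ ⟨i, rfl⟩; exact h i
    have h2 : MvPolynomial.C (MvPolynomial.constantCoeff f) ∈ q := by
      have := q.sub_mem hf (hle h1)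
      simpa using this
    by_cases hc : MvPolynomial.constantCoeff f = 0
    · rw [hc, map_zero, sub_zero] at h1; exact h1
    · exfalso
      apply Ideal.IsPrime.ne_top (I := q) inferInstance
      rw [Ideal.eq_top_iff_one]
      have := q.mul_mem_left (MvPolynomial.C (MvPolynomial.constantCoeff f)⁻¹) h2
      rwa [← map_mul, inv_mul_cancel₀ hc, map_one] at this
  · rw [Ideal.span_le]; rintro _ ⟨i, rfl⟩; exact h i

variable {k A : Type u} [Field k] [CommRing A] [Algebra k A] [Algebra.FiniteType k A] (n : ℕ)
  [Algebra (MvPolynomial (Fin n) k) A] [IsScalarTower k (MvPolynomial (Fin n) k) A]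

theorem main5001 (p : Ideal A) [p.IsPrime]
    (hn : FlatMor.localDim (PrimeSpectrum A) ⟨p, inferInstance⟩ = (n : WithBot ℕ∞))
    [Algebra.IsSeparable k p.ResidueField]
    (hg : ∀ i : Fin n, algebraMap (MvPolynomial (Fin n) k) A (MvPolynomial.X i) ∈ p) :
    Algebra.IsEtaleAt (MvPolynomial (Fin n) k) p ↔
      Ideal.span (Set.range fun i : Fin n =>
        algebraMap A (Localization.AtPrime p) (algebraMap (MvPolynomial (Fin n) k) A (MvPolynomial.X i))) =
        IsLocalRing.maximalIdeal (Localization.AtPrime p) := by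
  rw [EtalePoly5.isEtaleAt_iff_isUnramifiedAt n p hn]
  haveI hft := EtalePoly5.finiteType_mvPolynomial (k := k) (A := A) n
  haveI : p.LiesOver (p.under (MvPolynomial (Fin n) k)) := ⟨rfl⟩
  let _ := Localization.AtPrime.algebraOfLiesOver (p.under (MvPolynomial (Fin n) k)) p
  rw [Algebra.isUnramifiedAt_iff_map_eq (MvPolynomial (Fin n) k)
    (p.under (MvPolynomial (Fin n) k)) p]
  have hq : p.under (MvPolynomial (Fin n) k) = MvPolynomial.idealOfVars (Fin n) k :=
    eq_idealOfVars _ hg
  have hmap : (p.under (MvPolynomial (Fin n) k)).map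
      (algebraMap (MvPolynomial (Fin n) k) (Localization.AtPrime p)) =
      Ideal.span (Set.range fun i : Fin n =>
        algebraMap A (Localization.AtPrime p) (algebraMap (MvPolynomial (Fin n) k) A (MvPolynomial.X i))) := by
    rw [hq, MvPolynomial.idealOfVars, Ideal.map_span, ← Set.range_comp]
    congr 1
  rw [hmap]
  have hsep : Algebra.IsSeparable (p.under (MvPolynomial (Fin n) k)).ResidueField p.ResidueField :=
    Algebra.isSeparable_tower_top_of_isSeparable k _ _
  exact ⟨fun h => h.2, fun h => ⟨hsep, h⟩⟩

end Groth.Agent.Lib.Helper19.EtalePoly6
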