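import Mathlib
import Groth.Agent.Lib.helper19.EtalePoly5
import Groth.Agent.Lib.helper19.FlatHeight

set_option autoImplicit false
universe u

namespace Groth.Agent.Lib.Helper19.EtalePoly7

open IsLocalRing Groth.Agent.Lib.Helper19

theorem eq_univ_of_isOpen_of_maximal {A : Type*} [CommRing A] (U : Set (PrimeSpectrum A))
    (hU : IsOpen U) (h : ∀ m : PrimeSpectrum A, m.asIdeal.IsMaximal → m ∈ U) : U = Set.univ := by
  rw [← compl_compl U] at hU ⊢
  rw [isOpen_compl_iff, PrimeSpectrum.isClosed_iff_zeroLocus_ideal] at hU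
  obtain ⟨I, hI⟩ := hU
  rw [hI, Set.compl_univ_iff]
  by_contra hne
  have hItop : I ≠ ⊤ := by
    intro htop
    apply hne
    rw [htop]
    simp
  obtain ⟨m, hm, hIm⟩ := Ideal.exists_le_maximal I hItop
  have hmem : (⟨m, hm.isPrime⟩ : PrimeSpectrum A) ∈ PrimeSpectrum.zeroLocus (I : Set A) := hIm
  rw [← hI] at hmem
  exact hmem (h ⟨m, hm.isPrime⟩ hm)

section

variable {k A : Type u} [Field k] [CommRing A] [Algebra k A] [Algebra.FiniteType k A]

/-- the residue field at a maximal ideal of a finite type algebra over a field is algebraic. -/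
theorem isAlgebraic_residueField (m : Ideal A) [hm : m.IsMaximal] :
    Algebra.IsAlgebraic k m.ResidueField := by
  let _ : Field (A ⧸ m) := Ideal.Quotient.field m
  have hft : Algebra.FiniteType k (A ⧸ m) :=
    Algebra.FiniteType.of_surjective (Ideal.Quotient.mkₐ k m) Ideal.Quotient.mk_surjective
  have hfin : Module.Finite k (A ⧸ m) := finite_of_finite_type_of_isJacobsonRing k (A ⧸ m)
  haveI : Algebra.IsAlgebraic k (A ⧸ m) := Algebra.IsAlgebraic.of_finite k (A ⧸ m)
  haveI : IsScalarTower k (A ⧸ m) m.ResidueField := by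
    apply IsScalarTower.of_algebraMap_eq
    intro c
    rw [IsScalarTower.algebraMap_apply k A m.ResidueField,
      IsScalarTower.algebraMap_apply k A (A ⧸ m),
      ← IsScalarTower.algebraMap_apply A (A ⧸ m) m.ResidueField]
  haveI : Algebra.IsAlgebraic (A ⧸ m) m.ResidueField :=
    IsLocalization.isAlgebraic _ (nonZeroDivisors (A ⧸ m))
  exact Algebra.IsAlgebraic.trans k (A ⧸ m) m.ResidueField

theorem trdeg_residueField_eq_zero (m : Ideal A) [hm : m.IsMaximal] :
    Algebra.trdeg k m.ResidueField = ((0 : ℕ) : Cardinal) := by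
  haveI := isAlgebraic_residueField (k := k) m
  rw [trdeg_eq_zero]; simp

include k in
theorem localDim_eq_of_maximal (m : Ideal A) [hm : m.IsMaximal] :
    FlatMor.localDim (PrimeSpectrum A) ⟨m, inferInstance⟩ = ringKrullDim (Localization.AtPrime m) := by
  have := Groth.Agent.Lib.lead.AffLocalDim.main (k := k) m 0 (trdeg_residueField_eq_zero (k := k) m)
  rw [this]; simp

end

end Groth.Agent.Lib.Helper19.EtalePoly7

namespace Groth.Agent.Lib.Helper19.EtalePoly7

open IsLocalRing Groth.Agent.Lib.Helper19

theorem main9448 (k : Type u) [Field k] (n : ℕ)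
    (A : Type u) [CommRing A] [Algebra k A] [Algebra (MvPolynomial (Fin n) k) A]
    [IsScalarTower k (MvPolynomial (Fin n) k) A] [Algebra.FiniteType (MvPolynomial (Fin n) k) A] :
    Algebra.Etale (MvPolynomial (Fin n) k) A ↔
      (∀ (m : Ideal A) [m.IsMaximal], ringKrullDim (Localization.AtPrime m) = n) ∧
        Submodule.span A (Set.range fun i : Fin n =>
          KaehlerDifferential.D k A (algebraMap (MvPolynomial (Fin n) k) A (MvPolynomial.X i))) = ⊤ := by
  haveI hftk : Algebra.FiniteType k A :=
    Algebra.FiniteType.trans (R := k) (S := MvPolynomial (Fin n) k) (A := A) inferInstance inferInstance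
  haveI hfp : Algebra.FinitePresentation (MvPolynomial (Fin n) k) A :=
    Algebra.FinitePresentation.of_finiteType.mp inferInstance
  haveI : IsNoetherianRing A := Algebra.FiniteType.isNoetherianRing k A
  rw [EtalePoly4.span_D_eq_top_iff k (Fin n) A]
  constructor
  · intro het
    haveI : Algebra.FormallyUnramified (MvPolynomial (Fin n) k) A := inferInstance
    refine ⟨?_, inferInstance⟩
    intro m hm
    haveI : m.LiesOver (m.under (MvPolynomial (Fin n) k)) := ⟨rfl⟩
    let _ := Localization.AtPrime.algebraOfLiesOver (m.under (MvPolynomial (Fin n) k)) m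
    have hmap := ((Algebra.isUnramifiedAt_iff_map_eq (MvPolynomial (Fin n) k)
      (m.under (MvPolynomial (Fin n) k)) m).mp inferInstance).2
    have hsep := ((Algebra.isUnramifiedAt_iff_map_eq (MvPolynomial (Fin n) k)
      (m.under (MvPolynomial (Fin n) k)) m).mp inferInstance).1
    have hht := FlatHeight.height_eq_add (MvPolynomial (Fin n) k) A
      (m.under (MvPolynomial (Fin n) k)) m
    rw [hmap] at hht
    have hF : IsField (Localization.AtPrime m ⧸ IsLocalRing.maximalIdeal (Localization.AtPrime m)) :=
      (Ideal.Quotient.maximal_ideal_iff_isField_quotient _).mp inferInstance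
    rw [ringKrullDim_eq_zero_of_isField hF, add_zero] at hht
    rw [IsLocalization.AtPrime.ringKrullDim_eq_height m, hht,
      ← IsLocalization.AtPrime.ringKrullDim_eq_height (m.under (MvPolynomial (Fin n) k))
        (Localization.AtPrime (m.under (MvPolynomial (Fin n) k)))]
    -- `κ(q₀)` is algebraic over `k`
    have halg := isAlgebraic_residueField (k := k) m
    haveI : Algebra.IsAlgebraic k (m.under (MvPolynomial (Fin n) k)).ResidueField :=
      Algebra.IsAlgebraic.of_injective
        (IsScalarTower.toAlgHom k (m.under (MvPolynomial (Fin n) k)).ResidueField m.ResidueField)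
        (RingHom.injective _)
    have h0 : Algebra.trdeg k (m.under (MvPolynomial (Fin n) k)).ResidueField = ((0 : ℕ) : Cardinal) := by
      rw [trdeg_eq_zero]; simp
    have := EtalePoly2.mvPolynomial_dim_add k n (m.under (MvPolynomial (Fin n) k)) 0 h0
    simpa using this
  · rintro ⟨hdim, hunr⟩
    rw [← Algebra.etaleLocus_eq_univ_iff_etale]
    apply eq_univ_of_isOpen_of_maximal _ Algebra.isOpen_etaleLocus
    intro m hm
    haveI := hm
    rw [Algebra.mem_etaleLocus_iff]
    have hn : FlatMor.localDim (PrimeSpectrum A) ⟨m.asIdeal, inferInstance⟩ = (n : WithBot ℕ∞) := by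
      rw [localDim_eq_of_maximal (k := k) m.asIdeal, hdim m.asIdeal]
    haveI : Algebra.IsUnramifiedAt (MvPolynomial (Fin n) k) m.asIdeal := inferInstance
    exact (EtalePoly5.regular_and_etaleAt_of_unramifiedAt n m.asIdeal hn).2

end Groth.Agent.Lib.Helper19.EtalePoly7
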