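import Mathlib

set_option autoImplicit false
universe u

namespace Groth.Agent.Lib.Helper19.EtalePoly8

open IsLocalRing TensorProduct KaehlerDifferential

section

variable {k B : Type u} [Field k] [CommRing B] [IsLocalRing B] [Algebra k B]

/-- Nakayama: generation of a finite module can be checked after tensoring with the residue
field. -/
theorem span_eq_top_iff_tmul {M : Type*} [AddCommGroup M] [Module B M] [Module.Finite B M]
    {ι : Type*} (f : ι → M) :
    Submodule.span B (Set.range f) = ⊤ ↔
      Submodule.span (ResidueField B)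
        (Set.range fun i => (1 : ResidueField B) ⊗ₜ[B] f i) = ⊤ := by
  rw [← IsLocalRing.map_tensorProduct_mk_eq_top, Submodule.map_span,
    ← Submodule.restrictScalars_span B (ResidueField B) Ideal.Quotient.mk_surjective,
    Submodule.restrictScalars_eq_top_iff, ← Set.range_comp]
  rfl

variable (n r : ℕ) (b : Fin n → B)

theorem residue_surj : Function.Surjective (algebraMap B (ResidueField B)) :=
  IsLocalRing.residue_surjective

theorem mapBaseChange_v (i : Fin n) :
    mapBaseChange k B (ResidueField B) ((1 : ResidueField B) ⊗ₜ[B] D k B (b i)) =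
      D k (ResidueField B) (residue B (b i)) := by
  rw [mapBaseChange_tmul, one_smul, map_D]
  rfl

theorem core_mpr [Module.Finite B Ω[B⁄k]]
    (ha : Ideal.span (b '' {i : Fin n | (i : ℕ) < r}) = maximalIdeal B)
    (hb' : Submodule.span (ResidueField B) ((fun i : Fin n =>
      D k (ResidueField B) (residue B (b i))) '' {i : Fin n | r ≤ (i : ℕ)}) = ⊤) :
    Submodule.span B (Set.range fun i => D k B (b i)) = ⊤ := by
  rw [span_eq_top_iff_tmul]
  set Sp := Submodule.span (ResidueField B)
    (Set.range fun i => (1 : ResidueField B) ⊗ₜ[B] D k B (b i)) with hSp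
  -- Step 1
  have step1 : ∀ h ∈ maximalIdeal B, (1 : ResidueField B) ⊗ₜ[B] D k B h ∈ Sp := by
    intro h hh
    rw [← ha] at hh
    have key : h ∈ maximalIdeal B ∧ (1 : ResidueField B) ⊗ₜ[B] D k B h ∈ Sp := by
      refine Submodule.span_induction (p := fun h _ => h ∈ maximalIdeal B ∧
        (1 : ResidueField B) ⊗ₜ[B] D k B h ∈ Sp) ?_ ?_ ?_ ?_ hh
      · rintro _ ⟨i, hi, rfl⟩
        refine ⟨?_, Submodule.subset_span ⟨i, rfl⟩⟩
        rw [← ha]; exact Ideal.subset_span ⟨i, hi, rfl⟩
      · refine ⟨zero_mem _, ?_⟩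
        rw [map_zero, tmul_zero]; exact zero_mem _
      · rintro x y _ _ ⟨hx1, hx2⟩ ⟨hy1, hy2⟩
        refine ⟨add_mem hx1 hy1, ?_⟩
        rw [map_add, tmul_add]; exact add_mem hx2 hy2
      · rintro a x _ ⟨hx1, hx2⟩
        refine ⟨Ideal.mul_mem_left _ _ hx1, ?_⟩
        rw [smul_eq_mul, Derivation.leibniz, tmul_add, tmul_smul, tmul_smul]
        have h0 : x • ((1 : ResidueField B) ⊗ₜ[B] D k B a) = 0 := by
          rw [smul_tmul', Algebra.smul_def, mul_one]
          have : algebraMap B (ResidueField B) x = 0 := (residue_eq_zero_iff x).2 hx1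
          rw [this, zero_tmul]
        rw [h0, add_zero, ← algebraMap_smul (ResidueField B) a]
        exact Submodule.smul_mem _ _ hx2
    exact key.2
  rw [eq_top_iff]
  intro v _
  have hβ : mapBaseChange k B (ResidueField B) v ∈ Submodule.span (ResidueField B)
      ((fun i : Fin n => D k (ResidueField B) (residue B (b i))) '' {i : Fin n | r ≤ (i : ℕ)}) := by
    rw [hb']; trivial
  have himg : (fun i : Fin n => D k (ResidueField B) (residue B (b i))) '' {i : Fin n | r ≤ (i : ℕ)} =
      (mapBaseChange k B (ResidueField B)) ''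
        ((fun i : Fin n => (1 : ResidueField B) ⊗ₜ[B] D k B (b i)) '' {i : Fin n | r ≤ (i : ℕ)}) := by
    rw [Set.image_image]
    refine Set.image_congr ?_
    intro i _
    exact (mapBaseChange_v n b i).symm
  rw [himg, ← Submodule.map_span] at hβ
  obtain ⟨u, hu, huv⟩ := hβ
  have huSp : u ∈ Sp := by
    refine Submodule.span_mono ?_ hu
    rintro _ ⟨i, -, rfl⟩
    exact ⟨i, rfl⟩
  have hker : mapBaseChange k B (ResidueField B) (v - u) = 0 := by
    rw [map_sub, huv, sub_self]
  obtain ⟨t, ht⟩ := (exact_kerCotangentToTensor_mapBaseChange k B (ResidueField B)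
    residue_surj (v - u)).mp hker
  obtain ⟨⟨h, hh⟩, rfl⟩ := Ideal.toCotangent_surjective _ t
  rw [kerCotangentToTensor_toCotangent] at ht
  have hm : h ∈ maximalIdeal B := by
    have : RingHom.ker (algebraMap B (ResidueField B)) = maximalIdeal B := IsLocalRing.ker_residue
    rw [← this]; exact hh
  have := step1 h hm
  rw [ht] at this
  have hv : v = u + (v - u) := by abel
  rw [hv]
  exact add_mem huSp this

theorem exists_gamma (I : Ideal B) (hI : RingHom.ker (algebraMap B (ResidueField B)) = I) :
    ∃ γ : I.Cotangent →ₗ[B] ResidueField B ⊗[B] Ω[B⁄k],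
      ∀ x : I, γ (I.toCotangent x) = (1 : ResidueField B) ⊗ₜ[B] D k B x.1 := by
  subst hI
  exact ⟨kerCotangentToTensor k B (ResidueField B),
    fun x => kerCotangentToTensor_toCotangent k B (ResidueField B) x⟩

theorem core_mp [IsNoetherianRing B] (hrn : r ≤ n)
    (hbm : ∀ i : Fin n, (i : ℕ) < r → b i ∈ maximalIdeal B)
    (hreg : Module.finrank (ResidueField B) (CotangentSpace B) = r)
    (bas : Module.Basis (Fin n) B Ω[B⁄k]) (hbas : ∀ i, bas i = D k B (b i)) :
    Ideal.span (b '' {i : Fin n | (i : ℕ) < r}) = maximalIdeal B ∧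
    Submodule.span (ResidueField B) ((fun i : Fin n =>
      D k (ResidueField B) (residue B (b i))) '' {i : Fin n | r ≤ (i : ℕ)}) = ⊤ := by
  classical
  let v : Fin n → ResidueField B ⊗[B] Ω[B⁄k] := fun i => (1 : ResidueField B) ⊗ₜ[B] D k B (b i)
  have hvbas : ∀ i, (bas.baseChange (ResidueField B)) i = v i := by
    intro i
    rw [Module.Basis.baseChange_apply, hbas]
  have hvli : LinearIndependent (ResidueField B) v := by
    have := (bas.baseChange (ResidueField B)).linearIndependent
    convert this using 1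
    ext i
    exact (hvbas i).symm
  have hvspan : Submodule.span (ResidueField B) (Set.range v) = ⊤ := by
    have := (bas.baseChange (ResidueField B)).span_eq
    convert this using 2
    ext i
    constructor
    · rintro ⟨i, rfl⟩; exact ⟨i, hvbas i⟩
    · rintro ⟨i, rfl⟩; exact ⟨i, (hvbas i).symm⟩
  constructor
  · -- (a)
    obtain ⟨γ, hγ⟩ := exists_gamma (k := k) (maximalIdeal B) IsLocalRing.ker_residue
    let γ' : CotangentSpace B →ₗ[ResidueField B] ResidueField B ⊗[B] Ω[B⁄k] :=
      γ.extendScalarsOfSurjective residue_surj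
    let c : {i : Fin n // (i : ℕ) < r} → CotangentSpace B := fun j =>
      (maximalIdeal B).toCotangent ⟨b j.1, hbm j.1 j.2⟩
    have hcli : LinearIndependent (ResidueField B) c := by
      apply LinearIndependent.of_comp γ'
      have h1 : γ' ∘ c = v ∘ Subtype.val := by
        ext j
        show γ ((maximalIdeal B).toCotangent ⟨b j.1, hbm j.1 j.2⟩) = _
        rw [hγ]
        rfl
      rw [h1]
      exact hvli.comp _ Subtype.val_injective
    have hcard : Fintype.card {i : Fin n // (i : ℕ) < r} = r := by
      have e : {i : Fin n // (i : ℕ) < r} ≃ Fin r :=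
        { toFun := fun j => ⟨j.1.1, j.2⟩
          invFun := fun t => ⟨⟨t.1, lt_of_lt_of_le t.2 hrn⟩, t.2⟩
          left_inv := fun j => rfl
          right_inv := fun t => rfl }
      rw [Fintype.card_congr e, Fintype.card_fin]
    have hcspan := hcli.span_eq_top_of_card_eq_finrank' (by rw [hcard, hreg])
    let s : Set (maximalIdeal B) := Set.range fun j : {i : Fin n // (i : ℕ) < r} =>
      (⟨b j.1, hbm j.1 j.2⟩ : maximalIdeal B)
    have hs : Set.range c = (maximalIdeal B).toCotangent '' s := by
      rw [← Set.range_comp]; rfl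
    rw [hs, CotangentSpace.span_image_eq_top_iff] at hcspan
    have h2 := congrArg (Submodule.map (maximalIdeal B).subtype) hcspan
    rw [Submodule.map_span, Submodule.map_top, Submodule.range_subtype] at h2
    rw [← h2]
    congr 1
    ext y
    constructor
    · rintro ⟨i, hi, rfl⟩
      exact ⟨⟨b i, hbm i hi⟩, ⟨⟨i, hi⟩, rfl⟩, rfl⟩
    · rintro ⟨_, ⟨j, rfl⟩, rfl⟩
      exact ⟨j.1, j.2, rfl⟩
  · -- (b)
    have hβsurj := mapBaseChange_surjective k B (ResidueField B) residue_surj
    rw [eq_top_iff]
    intro w _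
    obtain ⟨x, rfl⟩ := hβsurj w
    have hx : x ∈ Submodule.span (ResidueField B) (Set.range v) := by rw [hvspan]; trivial
    have h3 : mapBaseChange k B (ResidueField B) x ∈
        Submodule.map (mapBaseChange k B (ResidueField B))
          (Submodule.span (ResidueField B) (Set.range v)) := ⟨x, hx, rfl⟩
    rw [Submodule.map_span] at h3
    refine Submodule.span_le.2 ?_ h3
    rintro _ ⟨_, ⟨i, rfl⟩, rfl⟩
    show mapBaseChange k B (ResidueField B) (v i) ∈ _
    rw [mapBaseChange_v]
    by_cases hi : r ≤ (i : ℕ)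
    · exact Submodule.subset_span ⟨i, hi, rfl⟩
    · have : residue B (b i) = 0 := (residue_eq_zero_iff _).2 (hbm i (not_le.mp hi))
      rw [this, map_zero]
      exact zero_mem _

end

end Groth.Agent.Lib.Helper19.EtalePoly8
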