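import Mathlib
import Groth.Prelude.Def_Flat
import Groth.Agent.Lib.helper19.EtalePoly5
import Groth.Agent.Lib.helper19.EtalePoly8

set_option autoImplicit false
universe u

namespace Groth.Agent.Lib.Helper19.EtalePoly9

open IsLocalRing TensorProduct KaehlerDifferential Groth.Agent.Lib.Helper19

variable (k A : Type u) [Field k] [CommRing A] [Algebra k A] [Algebra.FiniteType k A]
  (n r : ℕ) [Algebra (MvPolynomial (Fin n) k) A] [IsScalarTower k (MvPolynomial (Fin n) k) A]

include k in
theorem le_of_localDim (p : Ideal A) [p.IsPrime]
    (hn : FlatMor.localDim (PrimeSpectrum A) ⟨p, inferInstance⟩ = (n : WithBot ℕ∞))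
    (hr : ringKrullDim (Localization.AtPrime p) = (r : WithBot ℕ∞)) : r ≤ n := by
  obtain ⟨t, ht, -⟩ := EtalePoly2.exists_trdeg_residueField (k := k) p
  have h1 := Groth.Agent.Lib.lead.AffLocalDim.main (k := k) p t ht
  rw [hn, hr] at h1
  have : (n : WithBot ℕ∞) = ((r + t : ℕ) : WithBot ℕ∞) := by rw [h1]; push_cast; rfl
  have h2 : n = r + t := by exact_mod_cast this
  omega

set_option maxHeartbeats 800000 in
theorem main5026 (p : Ideal A) [p.IsPrime]
    (hn : FlatMor.localDim (PrimeSpectrum A) ⟨p, inferInstance⟩ = (n : WithBot ℕ∞))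
    (hr : ringKrullDim (Localization.AtPrime p) = (r : WithBot ℕ∞))
    (hg : ∀ i : Fin n, (i : ℕ) < r → algebraMap (MvPolynomial (Fin n) k) A (MvPolynomial.X i) ∈ p) :
    Algebra.IsEtaleAt (MvPolynomial (Fin n) k) p ↔
      Ideal.span ((fun i : Fin n =>
          algebraMap A (Localization.AtPrime p) (algebraMap (MvPolynomial (Fin n) k) A (MvPolynomial.X i))) ''
            {i : Fin n | (i : ℕ) < r}) = IsLocalRing.maximalIdeal (Localization.AtPrime p) ∧
        Submodule.span p.ResidueField ((fun i : Fin n =>
          KaehlerDifferential.D k p.ResidueField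
            (IsLocalRing.residue (Localization.AtPrime p)
              (algebraMap A (Localization.AtPrime p) (algebraMap (MvPolynomial (Fin n) k) A (MvPolynomial.X i))))) ''
            {i : Fin n | r ≤ (i : ℕ)}) = ⊤ := by
  haveI : IsNoetherianRing A := Algebra.FiniteType.isNoetherianRing k A
  haveI : Algebra.EssFiniteType A (Localization.AtPrime p) :=
    Algebra.EssFiniteType.of_isLocalization _ p.primeCompl
  haveI : Algebra.EssFiniteType k (Localization.AtPrime p) :=
    Algebra.EssFiniteType.comp k A (Localization.AtPrime p)
  let b : Fin n → Localization.AtPrime p := fun i =>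
    algebraMap A (Localization.AtPrime p) (algebraMap (MvPolynomial (Fin n) k) A (MvPolynomial.X i))
  have hbm : ∀ i : Fin n, (i : ℕ) < r → b i ∈ maximalIdeal (Localization.AtPrime p) := by
    intro i hi
    exact (IsLocalization.AtPrime.to_map_mem_maximal_iff _ p _).mpr (hg i hi)
  constructor
  · intro het
    haveI : Algebra.FormallyEtale (MvPolynomial (Fin n) k) (Localization.AtPrime p) := het
    haveI : Algebra.IsUnramifiedAt (MvPolynomial (Fin n) k) p :=
      show Algebra.FormallyUnramified (MvPolynomial (Fin n) k) (Localization.AtPrime p) from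
        inferInstance
    have hreg := (EtalePoly5.regular_and_etaleAt_of_unramifiedAt (k := k) n p hn).1
    have hfr : Module.finrank (ResidueField (Localization.AtPrime p))
        (CotangentSpace (Localization.AtPrime p)) = r := by
      have h1 := (IsRegularLocalRing.iff_finrank_cotangentSpace (Localization.AtPrime p)).mp hreg
      rw [hr] at h1
      exact_mod_cast h1
    let bas : Module.Basis (Fin n) (Localization.AtPrime p) Ω[Localization.AtPrime p⁄k] :=
      ((KaehlerDifferential.mvPolynomialBasis k (Fin n)).baseChange (Localization.AtPrime p)).map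
        (tensorKaehlerEquivOfFormallyEtale k (MvPolynomial (Fin n) k) (Localization.AtPrime p))
    have hbas : ∀ i, bas i = D k (Localization.AtPrime p) (b i) := by
      intro i
      simp only [bas, Module.Basis.map_apply, Module.Basis.baseChange_apply,
        KaehlerDifferential.mvPolynomialBasis_apply,
        tensorKaehlerEquivOfFormallyEtale_apply, mapBaseChange_tmul, one_smul, map_D]
      rw [IsScalarTower.algebraMap_apply (MvPolynomial (Fin n) k) A (Localization.AtPrime p)]
    exact EtalePoly8.core_mp n r b (le_of_localDim k A n r p hn hr) hbm hfr bas hbas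
  · rintro ⟨ha, hb⟩
    rw [EtalePoly5.main2790 (k := k) n p hn]
    exact EtalePoly8.core_mpr n r b ha hb

end Groth.Agent.Lib.Helper19.EtalePoly9
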