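import Mathlib

set_option autoImplicit false
universe u
open TensorProduct IsLocalRing

namespace Groth.Agent.Lib.Helper19.FinFlatIso3

theorem surjective_of_max {R A B : Type u} [CommRing R] [AddCommGroup A] [AddCommGroup B]
    [Module R A] [Module R B] [Module.Finite R A] (f : B →ₗ[R] A)
    (hmax : ∀ (m : Ideal R) [m.IsMaximal],
      Function.Surjective (LinearMap.lTensor m.ResidueField f)) : Function.Surjective f := by
  rw [← LinearMap.range_eq_top, ← Submodule.Quotient.subsingleton_iff]
  set N := LinearMap.range f with hN
  apply Module.subsingleton_of_localization_maximal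
    (fun P _ => Localization.AtPrime P ⊗[R] (A ⧸ N))
    (fun P _ => TensorProduct.mk R (Localization.AtPrime P) (A ⧸ N) 1)
  intro P hP
  rw [← IsLocalRing.subsingleton_tensorProduct (R := Localization.AtPrime P)]
  have h1 : Subsingleton (P.ResidueField ⊗[R] (A ⧸ N)) := by
    rw [subsingleton_iff_forall_eq 0]
    intro y
    obtain ⟨z, rfl⟩ := LinearMap.lTensor_surjective P.ResidueField N.mkQ_surjective y
    obtain ⟨w, rfl⟩ := hmax P z
    rw [← LinearMap.comp_apply, ← LinearMap.lTensor_comp]
    have : N.mkQ ∘ₗ f = 0 := by
      ext b
      simp only [LinearMap.comp_apply, Submodule.mkQ_apply, LinearMap.zero_apply,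
        Submodule.Quotient.mk_eq_zero]
      exact LinearMap.mem_range_self f b
    rw [this, LinearMap.lTensor_zero, LinearMap.zero_apply]
  exact (AlgebraTensorModule.cancelBaseChange R (Localization.AtPrime P) (Localization.AtPrime P)
      P.ResidueField (A ⧸ N)).toEquiv.subsingleton

end Groth.Agent.Lib.Helper19.FinFlatIso3
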