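import Groth.Agent.Lib.helper19.FinFlatIso1
import Groth.Agent.Lib.helper19.FinFlatIso2
import Groth.Agent.Lib.helper19.FinFlatIso3

set_option autoImplicit false
universe u
open TensorProduct IsLocalRing

namespace Groth.Agent.Lib.Helper19.FinFlatIso4

open FinFlatIso1 FinFlatIso2 FinFlatIso3

variable {R A B : Type u} [CommRing R] [CommRing A] [CommRing B] [Algebra R A] [Algebra R B]

theorem fibre_injective [Module.Finite R A] (f : B →ₐ[R] A) (hf : Function.Surjective f)
    (p : Ideal R) [p.IsPrime]
    (hrank : Module.rank p.ResidueField (p.ResidueField ⊗[R] B) =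
        Module.rank p.ResidueField (p.ResidueField ⊗[R] A)) :
    Function.Injective (LinearMap.lTensor p.ResidueField f.toLinearMap) := by
  let g : p.ResidueField ⊗[R] B →ₗ[p.ResidueField] p.ResidueField ⊗[R] A :=
    f.toLinearMap.baseChange p.ResidueField
  have hg : Function.Surjective g := by
    show Function.Surjective (LinearMap.lTensor p.ResidueField f.toLinearMap)
    exact LinearMap.lTensor_surjective _ hf
  haveI : Module.Finite p.ResidueField (p.ResidueField ⊗[R] B) := by
    rw [← Module.rank_lt_aleph0_iff, hrank]
    exact Module.rank_lt_aleph0 _ _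
  have hfr : Module.finrank p.ResidueField (p.ResidueField ⊗[R] B) =
      Module.finrank p.ResidueField (p.ResidueField ⊗[R] A) := congrArg Cardinal.toNat hrank
  exact (LinearMap.injective_iff_surjective_of_finrank_eq_finrank hfr).mpr hg

theorem key [Module.Finite R A] (f : B →ₐ[R] A) (hf : Function.Surjective f)
    (p : Ideal R) [p.IsPrime]
    (hrank : Module.rank p.ResidueField (p.ResidueField ⊗[R] B) =
        Module.rank p.ResidueField (p.ResidueField ⊗[R] A))
    (b : B) (hb : f b = 0) : ∃ t ∈ p.primeCompl, t • b ∈ (p • ⊤ : Submodule R B) := by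
  apply exists_smul_mem_of_tmul_eq_zero
  apply fibre_injective f hf p hrank
  rw [LinearMap.lTensor_tmul, map_zero, AlgHom.toLinearMap_apply, hb, TensorProduct.tmul_zero]

end Groth.Agent.Lib.Helper19.FinFlatIso4
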