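import Groth.Agent.Lib.helper19.FinFlatIso4

set_option autoImplicit false
universe u
open TensorProduct IsLocalRing

namespace Groth.Agent.Lib.Helper19.FinFlatIso5

open FinFlatIso1 FinFlatIso2 FinFlatIso3 FinFlatIso4

variable {R A B : Type u} [CommRing R] [CommRing A] [CommRing B] [Algebra R A] [Algebra R B]

theorem tmul_mem_of_mem (p : Ideal R) [p.IsPrime] (M : Type u) [AddCommGroup M] [Module R M]
    (y : M) (hy : y ∈ (p • ⊤ : Submodule R M)) :
    (1 : Localization.AtPrime p) ⊗ₜ[R] y ∈ (maximalIdeal (Localization.AtPrime p)) •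
      (⊤ : Submodule (Localization.AtPrime p) (Localization.AtPrime p ⊗[R] M)) := by
  refine Submodule.smul_induction_on hy ?_ ?_
  · intro π hπ n _
    have : (1 : Localization.AtPrime p) ⊗ₜ[R] (π • n) =
        (algebraMap R (Localization.AtPrime p) π) • ((1 : Localization.AtPrime p) ⊗ₜ[R] n) := by
      rw [algebraMap_smul, TensorProduct.tmul_smul]
    rw [this]
    exact Submodule.smul_mem_smul
      ((IsLocalization.AtPrime.to_map_mem_maximal_iff _ p π).mpr hπ) trivial
  · intro x y hx hy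
    rw [TensorProduct.tmul_add]
    exact Submodule.add_mem _ hx hy

/-- the local statement after localizing the base at `p`. -/
theorem local_at [Module.Finite R A] [Module.Flat R A] [Algebra.FiniteType R B]
    (f : B →ₐ[R] A) (hf : Function.Surjective f) (p : Ideal R) [p.IsPrime]
    (hkey : ∀ b : B, f b = 0 → ∃ t ∈ p.primeCompl, t • b ∈ (p • ⊤ : Submodule R B))
    (b : B) (hb : f b = 0) :
    ∃ (x : B) (s s' c c' : R) (y : B), s ∈ p.primeCompl ∧ s' ∈ p.primeCompl ∧ c ∈ p.primeCompl ∧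
      c' ∈ p.primeCompl ∧ y ∈ (p • ⊤ : Submodule R B) ∧ c • (x * b) = 0 ∧
      c' • (s' • x - (s' * s) • (1 : B) - s • y) = 0 := by
  let Rp := Localization.AtPrime p
  let fp : Rp ⊗[R] B →ₐ[Rp] Rp ⊗[R] A := Algebra.TensorProduct.map (AlgHom.id Rp Rp) f
  have hfp_apply : ∀ (r : Rp) (x : B), fp (r ⊗ₜ x) = r ⊗ₜ f x := by
    intro r x; simp [fp]
  have hfp_surj : Function.Surjective fp := by
    have : (fp : Rp ⊗[R] B → Rp ⊗[R] A) = LinearMap.lTensor Rp f.toLinearMap := by
      ext z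
      induction z using TensorProduct.induction_on with
      | zero => simp
      | tmul r x => simp [fp]
      | add x y hx hy => rw [map_add, map_add, hx, hy]
    rw [this]
    exact LinearMap.lTensor_surjective _ hf
  have hkerp : ∀ z ∈ RingHom.ker fp.toRingHom, z ∈ (maximalIdeal Rp • ⊤ : Submodule Rp (Rp ⊗[R] B)) := by
    intro z hz
    have hz' : fp z = 0 := hz
    obtain ⟨⟨x, s⟩, hs⟩ := IsLocalizedModule.surj p.primeCompl (TensorProduct.mk R Rp B 1) z
    simp only [TensorProduct.mk_apply] at hs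
    have h1 : (TensorProduct.mk R Rp A 1) (f x) = 0 := by
      rw [TensorProduct.mk_apply, ← hfp_apply, ← hs, Submonoid.smul_def, ← algebraMap_smul Rp (s : R) z,
        map_smul, hz', smul_zero]
    obtain ⟨c, hc⟩ := (IsLocalizedModule.eq_zero_iff p.primeCompl _).mp h1
    have h2 : f ((c : R) • x) = 0 := by rw [map_smul]; exact hc
    obtain ⟨t, ht, hmem⟩ := hkey _ h2
    have h3 := tmul_mem_of_mem p B _ hmem
    have h4 : (1 : Rp) ⊗ₜ[R] (t • (c : R) • x) = (algebraMap R Rp (t * c * s)) • z := by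
      rw [algebraMap_smul, mul_smul, mul_smul, ← Submonoid.smul_def s, hs, TensorProduct.tmul_smul,
        TensorProduct.tmul_smul]
    rw [h4] at h3
    have hu : IsUnit (algebraMap R Rp (t * c * s)) :=
      IsLocalization.map_units Rp (⟨t * c * s, p.primeCompl.mul_mem (p.primeCompl.mul_mem ht c.2) s.2⟩ :
        p.primeCompl)
    obtain ⟨u, hu'⟩ := hu
    have : z = (↑u⁻¹ : Rp) • ((algebraMap R Rp (t * c * s)) • z) := by
      rw [← hu', smul_smul, Units.inv_mul, one_smul]
    rw [this]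
    exact Submodule.smul_mem _ _ h3
  obtain ⟨e, he1, he2⟩ := local_kill fp hfp_surj hkerp
  obtain ⟨⟨x, s⟩, hs⟩ := IsLocalizedModule.surj p.primeCompl (TensorProduct.mk R Rp B 1) e
  simp only [TensorProduct.mk_apply] at hs
  have he1' : e - 1 ∈ (maximalIdeal Rp • ⊤ : Submodule Rp (Rp ⊗[R] B)) := by
    rw [Ideal.smul_top_eq_map]
    exact he1
  obtain ⟨s', hs', y, hy, e'⟩ := denoms p B _ he1'
  have hb' : (1 : Rp) ⊗ₜ[R] b ∈ RingHom.ker fp.toRingHom := by
    show fp (1 ⊗ₜ b) = 0
    rw [hfp_apply, hb, TensorProduct.tmul_zero]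
  have h5 := he2 _ hb'
  -- first relation
  have r1 : (TensorProduct.mk R Rp B 1) (x * b) = 0 := by
    rw [TensorProduct.mk_apply]
    have : (1 : Rp) ⊗ₜ[R] (x * b) = ((1 : Rp) ⊗ₜ[R] x) * ((1 : Rp) ⊗ₜ[R] b) := by
      rw [Algebra.TensorProduct.tmul_mul_tmul, one_mul]
    rw [this, ← hs, Submonoid.smul_def, smul_mul_assoc, h5, smul_zero]
  obtain ⟨c, hc⟩ := (IsLocalizedModule.eq_zero_iff p.primeCompl _).mp r1
  -- second relation
  have r2 : (TensorProduct.mk R Rp B 1) (s' • x - (s' * (s : R)) • (1 : B) - (s : R) • y) = 0 := by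
    rw [TensorProduct.mk_apply, TensorProduct.tmul_sub, TensorProduct.tmul_sub,
      TensorProduct.tmul_smul, TensorProduct.tmul_smul, TensorProduct.tmul_smul, ← e', ← hs,
      Submonoid.smul_def]
    have : (1 : Rp) ⊗ₜ[R] (1 : B) = 1 := rfl
    rw [this, smul_sub, smul_sub, mul_smul, smul_comm (s : R) s' e]
    rw [smul_comm (s : R) s' (1 : Rp ⊗[R] B)]
    abel
  obtain ⟨c', hc'⟩ := (IsLocalizedModule.eq_zero_iff p.primeCompl _).mp r2
  exact ⟨x, s, s', c, c', y, s.2, hs', c.2, c'.2, hy, hc, hc'⟩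

end Groth.Agent.Lib.Helper19.FinFlatIso5
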