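import Groth.Agent.Lib.helper19.FinFlatIso5

set_option autoImplicit false
universe u
open TensorProduct IsLocalRing

namespace Groth.Agent.Lib.Helper19.FinFlatIso6

open FinFlatIso1 FinFlatIso2 FinFlatIso3 FinFlatIso4 FinFlatIso5

theorem main {R A B : Type u} [CommRing R] [CommRing A] [CommRing B] [Algebra R A] [Algebra R B]
    [Module.Finite R A] [Module.Flat R A] [Algebra.FiniteType R B]
    (f : B →ₐ[R] A)
    (hrank : ∀ p : PrimeSpectrum R,
      Module.rank p.asIdeal.ResidueField (p.asIdeal.ResidueField ⊗[R] B) =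
        Module.rank p.asIdeal.ResidueField (p.asIdeal.ResidueField ⊗[R] A))
    (hmax : ∀ (m : Ideal R) [m.IsMaximal],
      Function.Bijective (LinearMap.lTensor m.ResidueField f.toLinearMap)) :
    Function.Bijective f := by
  have hf : Function.Surjective f :=
    surjective_of_max f.toLinearMap (fun m _ => (hmax m).2)
  refine ⟨?_, hf⟩
  rw [injective_iff_map_eq_zero]
  intro b hb
  by_contra hne
  -- annihilator of b
  let ann : Ideal B := Ideal.span {b} |>.annihilator
  have hann : ann ≠ ⊤ := by
    intro h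
    have h1 : (1 : B) ∈ ann := by rw [h]; trivial
    rw [Submodule.mem_annihilator_span_singleton, one_smul] at h1
    exact hne h1
  obtain ⟨q, hq, hle⟩ := Ideal.exists_le_maximal ann hann
  let p : Ideal R := q.comap (algebraMap R B)
  haveI : p.IsPrime := Ideal.comap_isPrime _ _
  have hkey : ∀ b : B, f b = 0 → ∃ t ∈ p.primeCompl, t • b ∈ (p • ⊤ : Submodule R B) :=
    fun b hb => key f hf p (hrank ⟨p, inferInstance⟩) b hb
  obtain ⟨x, s, s', c, c', y, hs, hs', hc, hc', hy, r1, r2⟩ := local_at f hf p hkey b hb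
  -- p • ⊤ ⊆ q
  have hpq : ∀ y ∈ (p • ⊤ : Submodule R B), y ∈ q := by
    intro y hy
    refine Submodule.smul_induction_on hy ?_ ?_
    · intro π hπ n _
      rw [Algebra.smul_def]
      exact q.mul_mem_right _ hπ
    · intro x y hx hy
      exact q.add_mem hx hy
  have h1 : c • x ∈ q := by
    apply hle
    rw [Submodule.mem_annihilator_span_singleton, smul_eq_mul, smul_mul_assoc]
    exact r1
  have h2 : c' • s' • x - (c' * s' * s) • (1 : B) ∈ q := by
    have : c' • s' • x - (c' * s' * s) • (1 : B) = c' • s • y := by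
      rw [smul_sub, smul_sub, sub_eq_zero] at r2
      rw [mul_assoc, mul_smul, r2]
    rw [this]
    exact hpq _ (Submodule.smul_mem _ _ (Submodule.smul_mem _ _ hy))
  have h3 : (c * (c' * s' * s)) • (1 : B) ∈ q := by
    have e1 : (c * (c' * s' * s)) • (1 : B) =
        c' • s' • (c • x) - c • (c' • s' • x - (c' * s' * s) • (1 : B)) := by
      rw [smul_sub, mul_smul c, smul_comm c c' (s' • x), smul_comm c s' x]
      abel
    rw [e1]
    refine q.sub_mem ?_ ?_
    · rw [Algebra.smul_def, Algebra.smul_def, ← mul_assoc]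
      exact q.mul_mem_left _ h1
    · rw [Algebra.smul_def]
      exact q.mul_mem_left _ h2
  have h4 : c * (c' * s' * s) ∈ p := by
    show algebraMap R B _ ∈ q
    rw [Algebra.algebraMap_eq_smul_one]
    exact h3
  exact p.primeCompl.mul_mem hc (p.primeCompl.mul_mem (p.primeCompl.mul_mem hc' hs') hs) h4

end Groth.Agent.Lib.Helper19.FinFlatIso6
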