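import Mathlib
import Groth.Agent.Lib.helper19.MonoHens
import Groth.Agent.Lib.Helper12.HenselFinite
import Groth.Agent.Lib.Helper12.IdemLift

set_option autoImplicit false
set_option linter.style.haveILetI false
universe u

namespace Groth.Agent.Lib.Helper19.FinLocProd

open IsLocalRing

/-- An idempotent in the Jacobson radical vanishes. -/
theorem eq_zero_of_idem_of_mem_jacobson {R : Type*} [CommRing R] {x : R}
    (hx : IsIdempotentElem x) (hj : x ∈ Ideal.jacobson (⊥ : Ideal R)) : x = 0 := by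
  have hu : IsUnit (x * (-1) + 1) := Ideal.mem_jacobson_bot.mp hj (-1)
  have h0 : x * (x * (-1) + 1) = 0 := by
    have : x * (x * (-1) + 1) = x - x * x := by ring
    rw [this, hx.eq, sub_self]
  exact (hu.mul_left_eq_zero).mp h0

/-- Complete orthogonal idempotents lift modulo an ideal in the Jacobson radical, given that
single idempotents lift. -/
theorem lift_coi {B : Type*} [CommRing B] (J : Ideal B) (hJ : J ≤ Ideal.jacobson ⊥)
    (hlift : Set.SurjOn (Ideal.Quotient.mk J) {e | IsIdempotentElem e} {e | IsIdempotentElem e})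
    {ι : Type*} [Fintype ι] (ē : ι → B ⧸ J) (hē : CompleteOrthogonalIdempotents ē) :
    ∃ e : ι → B, CompleteOrthogonalIdempotents e ∧ ∀ i, Ideal.Quotient.mk J (e i) = ē i := by
  classical
  have h1 : ∀ i, ∃ x : B, IsIdempotentElem x ∧ Ideal.Quotient.mk J x = ē i := fun i =>
    hlift (hē.idem i)
  choose e he hemk using h1
  have hzero : ∀ x : B, IsIdempotentElem x → Ideal.Quotient.mk J x = 0 → x = 0 := by
    intro x hx h0
    exact eq_zero_of_idem_of_mem_jacobson hx (hJ (Ideal.Quotient.eq_zero_iff_mem.1 h0))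
  have hortho : OrthogonalIdempotents e := by
    refine ⟨he, fun i j hij => ?_⟩
    apply hzero _ ((he i).mul (he j))
    rw [map_mul, hemk, hemk]
    exact hē.ortho hij
  refine ⟨e, ⟨hortho, ?_⟩, hemk⟩
  have hs : IsIdempotentElem (∑ j, e j) := hortho.isIdempotentElem_sum
  have h2 : (1 : B) - ∑ j, e j = 0 := by
    apply hzero _ hs.one_sub
    rw [map_sub, map_one, map_sum]
    simp only [hemk]
    rw [hē.complete, sub_self]
  exact (sub_eq_zero.mp h2).symm

/-- A ring surjecting onto a local ring with kernel in the Jacobson radical is local. -/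
theorem isLocalRing_of_surjective_of_ker_le_jacobson {R L : Type*} [CommRing R] [CommRing L]
    [IsLocalRing L] (f : R →+* L) (hf : Function.Surjective f)
    (hker : RingHom.ker f ≤ Ideal.jacobson ⊥) : IsLocalRing R := by
  haveI : IsLocalHom f := by
    constructor
    intro x hx
    obtain ⟨u, hu⟩ := hx
    obtain ⟨y, hy⟩ := hf (↑u⁻¹)
    have h1 : x * y - 1 ∈ RingHom.ker f := by
      rw [RingHom.mem_ker, map_sub, map_mul, map_one, hy, ← hu, Units.mul_inv, sub_self]
    have h2 := Ideal.mem_jacobson_bot.mp (hker h1) 1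
    have h3 : (x * y - 1) * 1 + 1 = x * y := by ring
    rw [h3] at h2
    exact isUnit_of_mul_isUnit_left h2
  exact RingHom.domain_isLocalRing f

theorem main (A : Type u) [CommRing A] [IsLocalRing A] (B : Type u) [CommRing B] [Algebra A B]
    [Module.Finite A B] :
    (∃ (ι : Type u) (_ : Fintype ι) (C : ι → Type u) (_ : ∀ j, CommRing (C j)),
        (∀ j, IsLocalRing (C j)) ∧ Nonempty (B ≃+* (∀ j, C j))) ↔
      Set.SurjOn (Ideal.Quotient.mk (Ideal.map (algebraMap A B) (IsLocalRing.maximalIdeal A)))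
        {e : B | IsIdempotentElem e} {e | IsIdempotentElem e} := by
  classical
  constructor
  · rintro ⟨ι, _, C, _, hloc, ⟨φ⟩⟩
    haveI := hloc
    intro ē hē
    obtain ⟨x, rfl⟩ := Ideal.Quotient.mk_surjective ē
    set J : Ideal B := Ideal.map (algebraMap A B) (maximalIdeal A) with hJ
    have hx : x * x - x ∈ J := by
      rw [← Ideal.Quotient.eq, map_mul]
      exact hē
    let J' : Ideal (∀ i, C i) := J.comap (φ.symm : (∀ i, C i) →+* B)
    have hx' : φ x * φ x - φ x ∈ J' := by
      show φ.symm (φ x * φ x - φ x) ∈ J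
      rw [map_sub, map_mul, φ.symm_apply_apply]
      exact hx
    obtain ⟨ε, hε, hεx⟩ := Groth.Agent.Lib.Helper19.MonoHens.lift_idem_pi C J' (φ x) hx'
    refine ⟨φ.symm ε, ?_, ?_⟩
    · show φ.symm ε * φ.symm ε = φ.symm ε
      rw [← map_mul, hε.eq]
    · rw [Ideal.Quotient.eq]
      have : φ.symm (ε - φ x) ∈ J := hεx
      rwa [map_sub, φ.symm_apply_apply] at this
  · intro hlift
    set 𝔪 := maximalIdeal A with h𝔪
    set J : Ideal B := Ideal.map (algebraMap A B) 𝔪 with hJ
    letI : Field (A ⧸ 𝔪) := Ideal.Quotient.field 𝔪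
    haveI : IsScalarTower A (A ⧸ 𝔪) (B ⧸ J) := IsScalarTower.of_algebraMap_eq fun a => rfl
    haveI : Module.Finite (A ⧸ 𝔪) (B ⧸ J) := Module.Finite.of_restrictScalars_finite A _ _
    obtain ⟨ι, _, ē, hē, hloc⟩ :=
      Groth.Agent.Lib.Helper12.exists_completeOrthogonalIdempotents_isLocalRing (A ⧸ 𝔪) (B ⧸ J)
    haveI : Algebra.IsIntegral A B := Algebra.IsIntegral.of_finite A B
    have hjac : 𝔪 ≤ Ideal.jacobson ⊥ := IsLocalRing.maximalIdeal_le_jacobson ⊥
    have hJjac : J ≤ Ideal.jacobson ⊥ :=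
      Groth.Agent.Lib.Helper12.map_le_jacobson_of_isIntegral hjac B
    obtain ⟨e, he, hemk⟩ := lift_coi J hJjac hlift ē hē
    refine ⟨ι, inferInstance, fun i => B ⧸ Ideal.span {1 - e i}, fun i => inferInstance, ?_,
      ⟨RingEquiv.ofBijective _ he.bijective_pi⟩⟩
    intro i
    haveI := hloc i
    -- the comparison map
    have hle : Ideal.span {1 - e i} ≤ (Ideal.span {1 - ē i}).comap (Ideal.Quotient.mk J) := by
      rw [Ideal.span_le]
      intro x hx
      rw [Set.mem_singleton_iff] at hx
      subst hx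
      rw [SetLike.mem_coe, Ideal.mem_comap, map_sub, map_one, hemk]
      exact Ideal.subset_span rfl
    let f : B ⧸ Ideal.span {1 - e i} →+* (B ⧸ J) ⧸ Ideal.span {1 - ē i} :=
      Ideal.quotientMap _ (Ideal.Quotient.mk J) hle
    have hf : Function.Surjective f :=
      Ideal.quotientMap_surjective Ideal.Quotient.mk_surjective
    apply isLocalRing_of_surjective_of_ker_le_jacobson f hf
    -- the kernel is `𝔪 (B / (1 - e i))`
    haveI : Algebra.IsIntegral A (B ⧸ Ideal.span {1 - e i}) := Algebra.IsIntegral.of_finite A _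
    have hJi := Groth.Agent.Lib.Helper12.map_le_jacobson_of_isIntegral hjac
      (B ⧸ Ideal.span {1 - e i})
    refine le_trans ?_ hJi
    intro x hx
    obtain ⟨b, rfl⟩ := Ideal.Quotient.mk_surjective x
    rw [RingHom.mem_ker] at hx
    have hx' : Ideal.Quotient.mk (Ideal.span {1 - ē i}) (Ideal.Quotient.mk J b) = 0 := hx
    rw [Ideal.Quotient.eq_zero_iff_mem, Ideal.mem_span_singleton'] at hx'
    obtain ⟨cb, hcb⟩ := hx'
    obtain ⟨c, rfl⟩ := Ideal.Quotient.mk_surjective cb
    have h1 : b - c * (1 - e i) ∈ J := by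
      rw [← Ideal.Quotient.eq, ← hcb, map_mul, map_sub, map_one, hemk]
    have h2 : Ideal.Quotient.mk (Ideal.span {1 - e i}) b =
        Ideal.Quotient.mk (Ideal.span {1 - e i}) (b - c * (1 - e i)) := by
      rw [Ideal.Quotient.eq, sub_sub_cancel]
      exact Ideal.mul_mem_left _ _ (Ideal.subset_span rfl)
    rw [h2]
    have h3 : (Ideal.map (algebraMap A (B ⧸ Ideal.span {1 - e i})) 𝔪) =
        J.map (Ideal.Quotient.mk (Ideal.span {1 - e i})) := by
      rw [hJ, Ideal.map_map]
      rfl
    rw [h3]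
    exact Ideal.mem_map_of_mem _ h1

end Groth.Agent.Lib.Helper19.FinLocProd
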