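import Mathlib
import Groth.Agent.Lib.helper19.ArtSm

namespace Groth.Agent.Lib.helper19.FinSm
universe u v

/-- A finite formally smooth algebra over an algebraically closed field is formally unramified. -/
theorem formallyUnramified_of_finite_formallySmooth (K : Type v) (D : Type u) [Field K]
    [IsAlgClosed K] [CommRing D] [Algebra K D] [Module.Finite K D] [Algebra.FormallySmooth K D] :
    Algebra.FormallyUnramified K D := by
  rw [Algebra.formallyUnramified_iff_forall]
  intro P
  have : IsArtinianRing D := IsArtinianRing.of_finite K D
  have hsurj : Function.Surjective (algebraMap D (Localization.AtPrime P.asIdeal)) :=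
    IsArtinianRing.localization_surjective P.asIdeal.primeCompl _
  have : Algebra.FormallyEtale D (Localization.AtPrime P.asIdeal) :=
    Algebra.FormallyEtale.of_isLocalization P.asIdeal.primeCompl
  have : Algebra.FormallySmooth K (Localization.AtPrime P.asIdeal) :=
    Algebra.FormallySmooth.comp K D _
  have hF : IsField (Localization.AtPrime P.asIdeal) :=
    ArtSm.isField_of_formallySmooth' K _
  have : IsDomain (Localization.AtPrime P.asIdeal) := hF.isDomain
  have : Module.Finite K (Localization.AtPrime P.asIdeal) :=
    Module.Finite.of_surjective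
      (IsScalarTower.toAlgHom K D (Localization.AtPrime P.asIdeal)).toLinearMap hsurj
  have hbij : Function.Bijective (algebraMap K (Localization.AtPrime P.asIdeal)) :=
    IsAlgClosed.algebraMap_bijective_of_isIntegral
  exact Algebra.FormallyUnramified.of_surjective (Algebra.ofId K _) hbij.2

end Groth.Agent.Lib.helper19.FinSm

namespace Groth.Agent.Lib.helper19.FinSm
universe u
open IsLocalRing TensorProduct
attribute [local instance] Algebra.TensorProduct.rightAlgebra

theorem subsingleton_kaehler_of_baseChange (A S K : Type u) [CommRing A] [CommRing S]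
    [Algebra A S] [Field K] [Algebra A K] (f : S →ₐ[A] K) [Module.Free S Ω[S⁄A]]
    [Module.Finite S Ω[S⁄A]] (h : Subsingleton Ω[K ⊗[A] S⁄K]) : Subsingleton Ω[S⁄A] := by
  have h2 : Subsingleton ((K ⊗[A] S) ⊗[S] Ω[S⁄A]) :=
    (KaehlerDifferential.tensorKaehlerEquiv A K S (K ⊗[A] S)).toEquiv.subsingleton
  let μ : K ⊗[A] S →ₐ[K] K := Algebra.TensorProduct.lift (Algebra.ofId K K) f
    (fun _ _ => Commute.all _ _)
  have : Nontrivial (K ⊗[A] S) := RingHom.domain_nontrivial μ.toRingHom
  have : Nontrivial S := RingHom.domain_nontrivial f.toRingHom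
  have h4 : Module.finrank S Ω[S⁄A] = 0 := by
    rw [← Module.finrank_baseChange (R := K ⊗[A] S) (S := S) (M' := Ω[S⁄A])]
    exact Module.finrank_zero_of_subsingleton
  exact (Module.finrank_eq_zero_iff_of_free S Ω[S⁄A]).mp h4

/-- A local, essentially finite type, formally smooth, quasi-finite algebra is formally
unramified. -/
theorem formallyUnramified_of_formallySmooth_of_quasiFinite (A S : Type u) [CommRing A]
    [CommRing S] [IsLocalRing S] [Algebra A S] [Algebra.EssFiniteType A S]
    [Algebra.FormallySmooth A S] [Algebra.QuasiFinite A S] : Algebra.FormallyUnramified A S := by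
  rw [Algebra.formallyUnramified_iff]
  have : Module.Free S Ω[S⁄A] := Module.free_of_flat_of_isLocalRing
  let K := AlgebraicClosure (ResidueField S)
  have : Module.Finite K (K ⊗[A] S) := Module.Finite.of_quasiFinite
  have : Algebra.FormallyUnramified K (K ⊗[A] S) :=
    formallyUnramified_of_finite_formallySmooth K (K ⊗[A] S)
  have h1 : Subsingleton Ω[K ⊗[A] S⁄K] := (Algebra.formallyUnramified_iff K _).mp inferInstance
  exact subsingleton_kaehler_of_baseChange A S K (IsScalarTower.toAlgHom A S K) h1

end Groth.Agent.Lib.helper19.FinSm
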