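import Mathlib
import Groth.Agent.Lib.helper19.FinEtTriv4

set_option autoImplicit false
set_option linter.style.haveILetI false
universe u

namespace Groth.Agent.Lib.Helper19.FinUnramTriv

open TensorProduct Groth.Agent.Lib.Helper19.FinEtTriv

/-- A finite unramified algebra is étale-locally (near any prime) a finite product of quotients of
the base. -/
theorem exists_trivialization (R : Type u) [CommRing R] (S : Type u) [CommRing S] [Algebra R S]
    [Module.Finite R S] [Algebra.FormallyUnramified R S] (p : Ideal R) [p.IsPrime] :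
    ∃ (R'' : Type u) (_ : CommRing R'') (_ : Algebra R R'') (_ : Algebra.Etale R R'')
      (p'' : Ideal R'') (_ : p''.IsPrime) (_ : p''.LiesOver p) (n : ℕ) (I : Fin n → Ideal R''),
      Nonempty (R'' ⊗[R] S ≃ₐ[R''] (∀ j, R'' ⧸ I j)) := by
  classical
  haveI : Algebra.Unramified R S := {}
  obtain ⟨R', _, _, _, p', _, _, n, I, B, _, _, ⟨e⟩, hI, hB⟩ :=
    Groth.Agent.Lib.Helper19.UnramProd.Q_of_unramified _ R S p rfl
  haveI : Module.Finite R' B := finite_B I B (R' ⊗[R] S) e
  obtain ⟨g, hgp, hg⟩ := exists_kill_B B p' hB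
  have hdisj : Disjoint (Submonoid.powers g : Set R') (p' : Set R') := by
    rwa [Ideal.disjoint_powers_iff_notMem_of_isPrime]
  haveI : Algebra.Etale R (Localization.Away g) := Algebra.Etale.comp R R' (Localization.Away g)
  let p'' : Ideal (Localization.Away g) := p'.map (algebraMap R' (Localization.Away g))
  haveI : p''.IsPrime :=
    IsLocalization.isPrime_of_isPrime_disjoint (Submonoid.powers g) _ p' inferInstance hdisj
  haveI : p''.LiesOver p' :=
    IsLocalization.liesOver_map_of_isPrime_disjoint (Submonoid.powers g) _ hdisj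
  haveI : p''.LiesOver p := Ideal.LiesOver.trans p'' p' p
  haveI : Subsingleton ((Localization.Away g) ⊗[R'] B) :=
    subsingleton_tensor g B g hg (dvd_refl g)
  refine ⟨Localization.Away g, inferInstance, inferInstance, inferInstance, p'', inferInstance,
    inferInstance, n, fun i => (I i).map (algebraMap R' (Localization.Away g)), ⟨?_⟩⟩
  let f1 : (Localization.Away g) ⊗[R] S ≃ₐ[Localization.Away g]
      (Localization.Away g) ⊗[R'] (R' ⊗[R] S) :=
    (Algebra.TensorProduct.cancelBaseChange R R' (Localization.Away g) (Localization.Away g) S).symm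
  let f2 : (Localization.Away g) ⊗[R'] (R' ⊗[R] S) ≃ₐ[Localization.Away g]
      (Localization.Away g) ⊗[R'] ((∀ i, R' ⧸ I i) × B) :=
    Algebra.TensorProduct.congr AlgEquiv.refl e
  let f3 : (Localization.Away g) ⊗[R'] ((∀ i, R' ⧸ I i) × B) ≃ₐ[Localization.Away g]
      (((Localization.Away g) ⊗[R'] (∀ i, R' ⧸ I i)) × ((Localization.Away g) ⊗[R'] B)) :=
    Algebra.TensorProduct.prodRight R' (Localization.Away g) (Localization.Away g) _ _
  let f4 := prodSubsingletonEquiv (Localization.Away g)
    ((Localization.Away g) ⊗[R'] (∀ i, R' ⧸ I i)) ((Localization.Away g) ⊗[R'] B)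
  let f5 : (Localization.Away g) ⊗[R'] (∀ i, R' ⧸ I i) ≃ₐ[Localization.Away g]
      (∀ i, (Localization.Away g) ⊗[R'] (R' ⧸ I i)) :=
    Algebra.TensorProduct.piRight R' (Localization.Away g) (Localization.Away g)
      (fun i => R' ⧸ I i)
  let f6 : (∀ i : Fin n, (Localization.Away g) ⊗[R'] (R' ⧸ I i)) ≃ₐ[Localization.Away g]
      (∀ i : Fin n, Localization.Away g ⧸ (I i).map (algebraMap R' (Localization.Away g))) :=
    AlgEquiv.piCongrRight
      (fun i => (Algebra.TensorProduct.quotIdealMapEquivTensorQuot (Localization.Away g)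
        (I i)).symm)
  exact f1.trans (f2.trans (f3.trans (f4.trans (f5.trans f6))))

end Groth.Agent.Lib.Helper19.FinUnramTriv
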