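import Mathlib
import Groth.Agent.Lib.helper19.FinUnramTriv1

set_option autoImplicit false
set_option linter.style.haveILetI false
universe u

open CategoryTheory CategoryTheory.Limits AlgebraicGeometry TensorProduct

namespace Groth.Agent.Lib.Helper19.FinUnramTriv

/-- S0096. -/
theorem main {X S : Scheme.{u}} (f : X ⟶ S) [IsFinite f] [FormallyUnramified f] (s : S) :
    ∃ (U : Scheme.{u}) (g : U ⟶ S) (_ : AlgebraicGeometry.Etale g) (u : U) (_ : g.base u = s)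
      (n : ℕ) (V : Fin n → Scheme.{u}) (c : ∀ j, V j ⟶ U) (_ : ∀ j, IsClosedImmersion (c j))
      (e : (∐ V) ≅ pullback f g), ∀ j, Sigma.ι V j ≫ e.hom ≫ pullback.snd f g = c j := by
  obtain ⟨_, ⟨W, hW, rfl⟩, hsW, -⟩ := S.isBasis_affineOpens.exists_subset_of_mem_open
    (Set.mem_univ s) isOpen_univ
  have hV : IsAffineOpen (f ⁻¹ᵁ W) := hW.preimage f
  let φ : Γ(S, W) ⟶ Γ(X, f ⁻¹ᵁ W) := f.appLE W (f ⁻¹ᵁ W) le_rfl
  have hφfin : φ.hom.Finite := by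
    have := IsFinite.finite_app f W hW
    rwa [Scheme.Hom.app_eq_appLE] at this
  have hφet : φ.hom.FormallyUnramified :=
    FormallyUnramified.formallyUnramified_appLE f hW hV le_rfl
  -- first pullback square
  have sq1 : IsPullback (Spec.map φ) hV.fromSpec hW.fromSpec f := by
    apply IsOpenImmersion.isPullback
    · exact (hW.SpecMap_appLE_fromSpec f hV le_rfl).symm
    · rw [hW.opensRange_fromSpec, hV.opensRange_fromSpec]
  letI : Algebra Γ(S, W) Γ(X, f ⁻¹ᵁ W) := φ.hom.toAlgebra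
  haveI : Module.Finite Γ(S, W) Γ(X, f ⁻¹ᵁ W) := hφfin
  haveI : Algebra.FormallyUnramified Γ(S, W) Γ(X, f ⁻¹ᵁ W) := hφet
  let p : Ideal Γ(S, W) := (hW.primeIdealOf ⟨s, hsW⟩).asIdeal
  obtain ⟨R'', _, _, _, p'', _, _, n, I, ⟨τ⟩⟩ :=
    exists_trivialization Γ(S, W) Γ(X, f ⁻¹ᵁ W) p
  let U : Scheme.{u} := Spec (CommRingCat.of R'')
  let ψ : Γ(S, W) ⟶ CommRingCat.of R'' := CommRingCat.ofHom (algebraMap Γ(S, W) R'')
  let g : U ⟶ S := Spec.map ψ ≫ hW.fromSpec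
  haveI : Etale (Spec.map ψ) :=
    HasRingHomProperty.Spec_iff.mpr (RingHom.etale_algebraMap.mpr ‹_›)
  haveI : Etale g := inferInstance
  let u : U := ⟨p'', inferInstance⟩
  have hu : g.base u = s := by
    have h1 : (Spec.map ψ).base u = hW.primeIdealOf ⟨s, hsW⟩ :=
      PrimeSpectrum.ext (Ideal.over_def p'' p).symm
    show hW.fromSpec.base ((Spec.map ψ).base u) = s
    rw [h1]
    exact hW.fromSpec_primeIdealOf ⟨s, hsW⟩
  -- second pullback square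
  let inl : CommRingCat.of R'' ⟶ CommRingCat.of (R'' ⊗[Γ(S, W)] Γ(X, f ⁻¹ᵁ W)) :=
    CommRingCat.ofHom Algebra.TensorProduct.includeLeftRingHom
  let inr : Γ(X, f ⁻¹ᵁ W) ⟶ CommRingCat.of (R'' ⊗[Γ(S, W)] Γ(X, f ⁻¹ᵁ W)) :=
    CommRingCat.ofHom Algebra.TensorProduct.includeRight.toRingHom
  have sq2 : IsPullback (Spec.map inl) (Spec.map inr) (Spec.map ψ) (Spec.map φ) :=
    isPullback_SpecMap_of_isPushout _ _ _ _
      (CommRingCat.isPushout_tensorProduct Γ(S, W) R'' Γ(X, f ⁻¹ᵁ W))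
  have sq3 : IsPullback (Spec.map inr ≫ hV.fromSpec) (Spec.map inl) f g :=
    sq2.flip.paste_horiz sq1.flip
  -- the trivialization
  let ε : ULift.{u} (Fin n) ≃ Fin n := Equiv.ulift
  let Rs : Fin n → CommRingCat.{u} := fun j => CommRingCat.of (R'' ⧸ I j)
  let Rs' : ULift.{u} (Fin n) → CommRingCat.{u} := fun j => CommRingCat.of (R'' ⧸ I j.down)
  let τ' : (R'' ⊗[Γ(S, W)] Γ(X, f ⁻¹ᵁ W)) ≃+* (∀ i, Rs' i) :=
    τ.toRingEquiv.trans (RingEquiv.piCongrLeft' (fun j : Fin n => R'' ⧸ I j) ε.symm)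
  have hτ' : ∀ x (j : Fin n), τ' x ⟨j⟩ = τ x j := fun x j => rfl
  let τc : CommRingCat.of (R'' ⊗[Γ(S, W)] Γ(X, f ⁻¹ᵁ W)) ≅ CommRingCat.of (∀ i, Rs' i) :=
    τ'.toCommRingCatIso
  let i1 : (∐ fun j => Spec (Rs j)) ≅ (∐ fun j => Spec (Rs' j)) :=
    (Sigma.reindex ε (fun j => Spec (Rs j))).symm
  let i : (∐ fun j => Spec (Rs j)) ≅ Spec (CommRingCat.of (R'' ⊗[Γ(S, W)] Γ(X, f ⁻¹ᵁ W))) :=
    i1 ≪≫ asIso (sigmaSpec Rs') ≪≫ asIso (Spec.map τc.hom)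
  have sq4 : IsPullback (i.hom ≫ Spec.map inr ≫ hV.fromSpec) (i.hom ≫ Spec.map inl) f g :=
    sq3.of_iso i.symm (Iso.refl _) (Iso.refl _) (Iso.refl _) (by simp) (by simp) (by simp)
      (by simp)
  have hc : ∀ j, Sigma.ι (fun j => Spec (Rs j)) j ≫ i.hom ≫ Spec.map inl =
      Spec.map (CommRingCat.ofHom (Ideal.Quotient.mk (I j))) := by
    intro j
    have h1 : inl ≫ τc.hom ≫ CommRingCat.ofHom (Pi.evalRingHom (fun i => Rs' i) ⟨j⟩) =
        CommRingCat.ofHom (Ideal.Quotient.mk (I j)) := by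
      ext r
      show τ' (r ⊗ₜ 1) ⟨j⟩ = _
      rw [hτ']
      have : (r ⊗ₜ[Γ(S, W)] (1 : Γ(X, f ⁻¹ᵁ W))) =
          algebraMap R'' (R'' ⊗[Γ(S, W)] Γ(X, f ⁻¹ᵁ W)) r := rfl
      rw [this, τ.commutes]
      rfl
    have h2 : Sigma.ι (fun j => Spec (Rs j)) j ≫ i1.hom = Sigma.ι (fun j => Spec (Rs' j)) ⟨j⟩ :=
      Sigma.ι_reindex_inv ε (fun j => Spec (Rs j)) ⟨j⟩
    show Sigma.ι _ j ≫ (i1.hom ≫ sigmaSpec Rs' ≫ Spec.map τc.hom) ≫ Spec.map inl = _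
    simp only [Category.assoc]
    rw [reassoc_of% h2, ι_sigmaSpec_assoc, ← Spec.map_comp, ← Spec.map_comp, Category.assoc, h1]
  refine ⟨U, g, inferInstance, u, hu, n, fun j => Spec (Rs j),
    fun j => Spec.map (CommRingCat.ofHom (Ideal.Quotient.mk (I j))),
    fun j => IsClosedImmersion.spec_of_surjective _ Ideal.Quotient.mk_surjective,
    sq4.isoPullback, fun j => ?_⟩
  rw [IsPullback.isoPullback_hom_snd]
  exact hc j

end Groth.Agent.Lib.Helper19.FinUnramTriv
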