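import Mathlib

namespace Helper19.FlatEt
universe u
open TensorProduct

variable {R T : Type u} [CommRing R] [CommRing T] [Algebra R T]
variable (N : Type u) [AddCommGroup N] [Module T N] [Module R N] [IsScalarTower R T N]

/-- `a ⊗ b ↦ a ⊗ b • n`. -/
noncomputable def phi (n : N) : T ⊗[R] T →ₗ[R] T ⊗[R] N :=
  LinearMap.lTensor T ((LinearMap.toSpanSingleton T N n).restrictScalars R)

lemma phi_tmul (n : N) (a b : T) : phi (R := R) N n (a ⊗ₜ b) = a ⊗ₜ (b • n) := rfl

lemma phi_add (n n' : N) (x : T ⊗[R] T) : phi N (n + n') x = phi N n x + phi N n' x := by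
  induction x with
  | zero => simp
  | tmul a b => simp [phi_tmul, smul_add, tmul_add]
  | add x y hx hy => rw [map_add, hx, hy, map_add, map_add]; abel

lemma phi_smul_right (n : N) (t : T) (x : T ⊗[R] T) :
    phi N (t • n) x = phi N n ((1 ⊗ₜ t) * x) := by
  induction x with
  | zero => simp
  | tmul a b => simp [phi_tmul, smul_smul, mul_comm]
  | add x y hx hy => rw [map_add, hx, hy, mul_add, map_add]

lemma phi_smul_left (n : N) (t : T) (x : T ⊗[R] T) :
    t • phi N n x = phi N n ((t ⊗ₜ 1) * x) := by
  induction x with
  | zero => simp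
  | tmul a b => simp [phi_tmul, smul_tmul']
  | add x y hx hy => rw [map_add, smul_add, hx, hy, mul_add, map_add]

lemma act_phi (n : N) (x : T ⊗[R] T) :
    (LinearMap.id : N →ₗ[R] N).liftBaseChange T (phi N n x) = (Algebra.TensorProduct.lmul' R x) • n := by
  induction x with
  | zero => simp
  | tmul a b => simp [phi_tmul, smul_smul]
  | add x y hx hy => rw [map_add, map_add, hx, hy, map_add, add_smul]

theorem flat_of_flat [Algebra.EssFiniteType R T] [Algebra.FormallyUnramified R T]
    [Module.Flat R N] : Module.Flat T N := by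
  obtain ⟨e, he1, he2⟩ := Algebra.FormallyUnramified.iff_exists_tensorProduct.mp
    (inferInstance : Algebra.FormallyUnramified R T)
  haveI : Module.Flat T (T ⊗[R] N) := inferInstance
  let s : N →ₗ[T] T ⊗[R] N :=
    { toFun := fun n => phi N n e
      map_add' := fun n n' => phi_add N n n' e
      map_smul' := fun t n => by
        simp only [RingHom.id_apply]
        rw [phi_smul_right, phi_smul_left]
        have := he1 t
        rw [sub_mul, sub_eq_zero] at this
        rw [this] }
  refine Module.Flat.of_retract s ((LinearMap.id : N →ₗ[R] N).liftBaseChange T) ?_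
  ext n
  change (LinearMap.id : N →ₗ[R] N).liftBaseChange T (phi N n e) = n
  rw [act_phi, he2, one_smul]

theorem flat_iff [Algebra.EssFiniteType R T] [Algebra.FormallyUnramified R T]
    [Module.Flat R T] : Module.Flat R N ↔ Module.Flat T N :=
  ⟨fun _ => flat_of_flat (R := R) N, fun _ => Module.Flat.trans R T N⟩

end Helper19.FlatEt
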