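import Mathlib
import Groth.Agent.Lib.Helper7.TsenLangNorm
import Groth.Agent.Lib.Helper7.TsenLangNrd
import Groth.Agent.Lib.Helper7.TsenLangTrdeg

set_option autoImplicit false
set_option linter.unusedSectionVars false
set_option linter.style.haveILetI false

/-! Over a `C_1` field the norm of every finite extension is surjective. -/

namespace Groth.Agent.Lib.helper19.GalNormA

open MvPolynomial
open Groth.Agent.Lib.Helper7

universe u

/-- a multiplicative map on a field extension of a `C_1` field which is given by a form of degree
`d` in `d` coordinates is surjective -/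
theorem surjective_of_isCr_one {K : Type*} [Field K] (hK : Curves.IsCr K 1)
    {D : Type*} [Field D] [Algebra K D] [FiniteDimensional K D]
    (d : ℕ) (hd : Module.finrank K D = d) (N : D →* K)
    {ι : Type*} [Fintype ι] (b : Module.Basis ι K D)
    (F : MvPolynomial ι K) (hF : F.IsHomogeneous d)
    (hNF : ∀ x : ι → K, N (∑ i, x i • b i) = MvPolynomial.eval x F) :
    Function.Surjective N := by
  classical
  have hdpos : 0 < d := by
    rw [← hd]; exact Module.finrank_pos
  have hcard : Fintype.card ι = d := by rw [← hd, Module.finrank_eq_card_basis b]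
  have hNne : ∀ y : D, y ≠ 0 → N y ≠ 0 := by
    intro y hy h0
    have : N (y * y⁻¹) = 1 := by rw [mul_inv_cancel₀ hy, map_one]
    rw [map_mul, h0, zero_mul] at this
    exact zero_ne_one this
  intro c
  let G : MvPolynomial (ι ⊕ Unit) K :=
    rename Sum.inl F - C c * (X (Sum.inr ())) ^ d
  have hG : G.IsHomogeneous d := by
    apply IsHomogeneous.sub
    · exact IsHomogeneous.rename_isHomogeneous hF
    · have := (isHomogeneous_C (ι ⊕ Unit) c).mul ((isHomogeneous_X K (Sum.inr () : ι ⊕ Unit)).pow d)
      simpa using this
  obtain ⟨a, ha, hz⟩ := TL.isCr_fintype hK (N := ι ⊕ Unit) G d hG hdpos (by simp [hcard])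
  have hz' : eval (a ∘ Sum.inl) F = c * (a (Sum.inr ())) ^ d := by
    have := hz
    simp only [G, map_sub, eval_rename, map_mul, eval_C, map_pow, eval_X, sub_eq_zero] at this
    exact this
  set x : ι → K := a ∘ Sum.inl with hx
  set t : K := a (Sum.inr ()) with ht
  have hy : N (∑ i, x i • b i) = c * t ^ d := by rw [hNF, hz']
  have ht0 : t ≠ 0 := by
    intro h0
    rw [h0, zero_pow (Nat.pos_iff_ne_zero.1 hdpos), mul_zero] at hy
    have hy0 : (∑ i, x i • b i) = 0 := by
      by_contra hne
      exact hNne _ hne hy
    have hx0 : ∀ i, x i = 0 := Fintype.linearIndependent_iff.1 b.linearIndependent x hy0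
    apply ha
    funext j
    rcases j with i | u
    · exact hx0 i
    · cases u; exact h0
  refine ⟨∑ i, (t⁻¹ * x i) • b i, ?_⟩
  rw [hNF, TL.eval_smul_of_isHomogeneous hF, hz', inv_pow]
  field_simp

/-- over a `C_1` field the norm of a finite extension is surjective -/
theorem norm_surjective_of_isCr_one {K : Type*} [Field K] (hK : Curves.IsCr K 1)
    {L : Type*} [Field L] [Algebra K L] [FiniteDimensional K L] :
    Function.Surjective (Algebra.norm K : L → K) := by
  classical
  let ω := Module.finBasis K L
  let F : MvPolynomial (Fin (Module.finrank K L)) K :=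
    rename (Prod.snd : Unit × Fin (Module.finrank K L) → Fin (Module.finrank K L))
      (TL.normForm ω (X () : MvPolynomial Unit L))
  have hF : F.IsHomogeneous (Module.finrank K L) := by
    have h1 := TL.normForm_isHomogeneous ω (isHomogeneous_X L ())
    rw [Fintype.card_fin, mul_one] at h1
    exact IsHomogeneous.rename_isHomogeneous h1
  have hNF : ∀ x : Fin (Module.finrank K L) → K,
      Algebra.norm K (∑ i, x i • ω i) = MvPolynomial.eval x F := by
    intro x
    rw [eval_rename, TL.eval_normForm, eval_X]
    rfl
  exact surjective_of_isCr_one hK (Module.finrank K L) rfl (Algebra.norm K) ω F hF hNF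

/-- function fields of transcendence degree one over an algebraically closed field are `C_1` -/
theorem isCr_one_of_trdeg_one (k : Type u) [Field k] [IsAlgClosed k] (K : Type u) [Field K]
    [Algebra k K] (htr : Algebra.trdeg k K = 1) : Curves.IsCr K 1 := by
  have h := TL.isCi_add_of_trdeg' 1 0 k K (TL.isCi_zero_of_isAlgClosed k) (by exact_mod_cast htr)
  rw [zero_add] at h
  intro n d f hf hd hdn
  obtain ⟨a, ha, hz⟩ := h 1 n (fun _ => f) (fun _ => d) (fun _ => hf) (fun _ => hd) (by simpa using hdn)
  exact ⟨a, ha, hz 0⟩

end Groth.Agent.Lib.helper19.GalNormA
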