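import Mathlib
import Groth.Agent.Lib.helper19.GalNormA

set_option autoImplicit false
set_option linter.unusedSectionVars false
set_option linter.style.haveILetI false

/-! Kernel of the norm of a Galois extension over a `C_1` field: transfer to subgroups. -/

namespace Groth.Agent.Lib.helper19.GalNormB

open IntermediateField

universe u

section

variable (K L : Type u) [Field K] [Field L] [Algebra K L]

/-- the subgroup of `Lˣ` generated by the `w / g w` -/
def IG : Subgroup Lˣ :=
  Subgroup.closure {v : Lˣ | ∃ (w : Lˣ) (g : L ≃ₐ[K] L), v = w / g • w}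

variable {K L}

theorem div_mem_IG (w : Lˣ) (g : L ≃ₐ[K] L) : w / g • w ∈ IG K L :=
  Subgroup.subset_closure ⟨w, g, rfl⟩

theorem div_mem_IG' (w : Lˣ) (g : L ≃ₐ[K] L) : g • w / w ∈ IG K L := by
  have := (IG K L).inv_mem (div_mem_IG w g)
  rwa [inv_div] at this

theorem IG_le_of_intermediate (M : IntermediateField K L) : IG M L ≤ IG K L := by
  unfold IG
  rw [Subgroup.closure_le]
  rintro v ⟨w, g, rfl⟩
  have : g • w = (g.restrictScalars K) • w := by
    ext; rfl
  rw [this]
  exact div_mem_IG w _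

variable [FiniteDimensional K L] [IsGalois K L]

theorem prod_aut_eq_one (u : Lˣ) (hu : Algebra.norm K (u : L) = 1) :
    ∏ g : L ≃ₐ[K] L, g (u : L) = 1 := by
  rw [← Algebra.norm_eq_prod_automorphisms, hu, map_one]

theorem norm_eq_one_of_prod (u : L) (hu : ∏ g : L ≃ₐ[K] L, g u = 1) :
    Algebra.norm K u = 1 := by
  apply (algebraMap K L).injective
  rw [Algebra.norm_eq_prod_automorphisms, hu, map_one]

/-- **transfer**: if the kernel of the norm of `L / L^H` is `I_H`, then the `[G:H]`-th power of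
every element of the kernel of the norm of `L / K` lies in `I_G` -/
theorem transfer (H : Subgroup (L ≃ₐ[K] L))
    (hM : ∀ v : Lˣ, Algebra.norm (fixedField H) (v : L) = 1 → v ∈ IG (fixedField H) L)
    (u : Lˣ) (hu : Algebra.norm K (u : L) = 1) : u ^ H.index ∈ IG K L := by
  classical
  obtain ⟨T, hT, -⟩ := Subgroup.exists_isComplement_right H 1
  haveI : Fintype T := Fintype.ofFinite T
  haveI : Fintype H := Fintype.ofFinite H
  let v : Lˣ := ∏ t : T, (t : L ≃ₐ[K] L) • u
  have hvval : (v : L) = ∏ t : T, (t : L ≃ₐ[K] L) (u : L) := by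
    simp only [v, Units.coe_prod]
    rfl
  have hv : Algebra.norm (fixedField H) (v : L) = 1 := by
    apply norm_eq_one_of_prod
    have h1 : ∏ τ : L ≃ₐ[fixedField H] L, τ (v : L) = ∏ h : H, (h : L ≃ₐ[K] L) (v : L) :=
      (Fintype.prod_equiv (subgroupEquivAlgEquiv H).toEquiv _ _ (fun h => rfl)).symm
    rw [h1]
    have h2 : ∀ h : H, (h : L ≃ₐ[K] L) (v : L) =
        ∏ t : T, ((h : L ≃ₐ[K] L) * (t : L ≃ₐ[K] L)) (u : L) := by
      intro h
      rw [hvval, map_prod]
      rfl
    simp_rw [h2]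
    rw [← Fintype.prod_prod_type' (f := fun (h : H) (t : T) =>
      ((h : L ≃ₐ[K] L) * (t : L ≃ₐ[K] L)) (u : L))]
    have h3 := Function.Bijective.prod_comp hT (fun g : L ≃ₐ[K] L => g (u : L))
    rw [prod_aut_eq_one u hu] at h3
    exact h3
  have hvIG : v ∈ IG K L := IG_le_of_intermediate _ (hM v hv)
  have hprod : u ^ H.index = v * ∏ t : T, (u / (t : L ≃ₐ[K] L) • u) := by
    rw [← Finset.prod_mul_distrib]
    simp only [mul_div_cancel]
    rw [Finset.prod_const, Finset.card_univ, ← Nat.card_eq_fintype_card, hT.card_right]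
  rw [hprod]
  exact (IG K L).mul_mem hvIG (Subgroup.prod_mem _ fun t _ => div_mem_IG u _)

/-- combination over all primes -/
theorem mem_of_forall_prime_pow_mem (S : Subgroup Lˣ) (u : Lˣ)
    (h : ∀ p : ℕ, p.Prime → ∃ m : ℕ, ¬ p ∣ m ∧ u ^ m ∈ S) : u ∈ S := by
  rw [← QuotientGroup.eq_one_iff]
  set x : Lˣ ⧸ S := (u : Lˣ ⧸ S) with hx
  by_contra hne
  have hfin : orderOf x ≠ 1 := by
    intro h1
    exact hne (orderOf_eq_one_iff.1 h1)
  obtain ⟨p, hp, hpd⟩ := Nat.exists_prime_and_dvd hfin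
  obtain ⟨m, hm, hmem⟩ := h p hp
  have : x ^ m = 1 := by
    rw [hx, ← QuotientGroup.mk_pow, QuotientGroup.eq_one_iff]
    exact hmem
  exact hm (hpd.trans (orderOf_dvd_of_pow_eq_one this))

end

end Groth.Agent.Lib.helper19.GalNormB
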