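import Mathlib
import Groth.Agent.Lib.helper19.CyclicNorm

set_option autoImplicit false
set_option linter.unusedSectionVars false
set_option linter.style.haveILetI false

/-! Hilbert 90 for cyclic extensions, universe polymorphic (Lagrange resolvent). -/

namespace Groth.Agent.Lib.helper19.GalNormH

open Groth.Agent.Lib.helper19

variable {k : Type*} [Field k] {K : Type*} [Field K] [Algebra k K]
  [FiniteDimensional k K] [IsGalois k K]

theorem hilbert90_cyclic (g : K ≃ₐ[k] K) (hg : ∀ τ : K ≃ₐ[k] K, τ ∈ Subgroup.zpowers g)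
    {x : K} (hx : Algebra.norm k x = 1) : ∃ z : Kˣ, (z : K) / g (z : K) = x := by
  classical
  set n := Module.finrank k K with hn
  have hnpos : 0 < n := Module.finrank_pos
  let a : ℕ → K := fun i => ∏ j ∈ Finset.range i, (g ^ j) x
  have ha0 : a 0 = 1 := by simp [a]
  have han : a n = 1 := by
    have := Cyc.norm_eq_prod_pow g hg x
    rw [hx, map_one] at this
    exact this.symm
  have hasucc : ∀ i, a (i + 1) = x * g (a i) := by
    intro i
    simp only [a]
    rw [Finset.prod_range_succ', pow_zero, map_prod, mul_comm]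
    congr 1
    refine Finset.prod_congr rfl fun j _ => ?_
    rw [pow_succ']
    rfl
  let R : K → K := fun θ => ∑ i ∈ Finset.range n, a i * (g ^ i) θ
  have hgn : g ^ n = 1 := Cyc.pow_finrank_eq_one g hg
  have hR : ∀ θ, x * g (R θ) = R θ := by
    intro θ
    simp only [R]
    rw [map_sum, Finset.mul_sum]
    have h1 : ∀ i ∈ Finset.range n, x * g (a i * (g ^ i) θ) = a (i + 1) * (g ^ (i + 1)) θ := by
      intro i _
      rw [map_mul, ← mul_assoc, ← hasucc, pow_succ']
      rfl
    rw [Finset.sum_congr rfl h1]
    have h2 := Finset.sum_range_succ' (fun i => a i * (g ^ i) θ) n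
    have h3 := Finset.sum_range_succ (fun i => a i * (g ^ i) θ) n
    rw [h3] at h2
    simp only [ha0, han, hgn, pow_zero] at h2
    exact (add_right_cancel h2).symm
  have hex : ∃ θ, R θ ≠ 0 := by
    by_contra hcon
    push_neg at hcon
    have hli : LinearIndependent K
        (fun j : Fin n => (((g ^ (j : ℕ) : K ≃ₐ[k] K) : K →* K) : K → K)) := by
      refine LinearIndependent.comp (linearIndependent_monoidHom K K)
        (fun j : Fin n => ((g ^ (j : ℕ) : K ≃ₐ[k] K) : K →* K)) ?_
      intro i j hij
      apply Cyc.pow_injective g hg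
      ext y
      exact DFunLike.congr_fun hij y
    have h0 := Fintype.linearIndependent_iff.1 hli (fun j => a j) (by
      funext θ
      have := hcon θ
      simp only [R] at this
      rw [← Fin.sum_univ_eq_sum_range (fun i => a i * (g ^ i) θ) n] at this
      simpa [Finset.sum_apply] using this) ⟨0, hnpos⟩
    simp only [ha0] at h0
    exact one_ne_zero h0
  obtain ⟨θ, hθ⟩ := hex
  refine ⟨Units.mk0 (R θ) hθ, ?_⟩
  have hgz : g (R θ) ≠ 0 := by
    rw [Ne, map_eq_zero]; exact hθ
  rw [Units.val_mk0, div_eq_iff hgz]
  exact (hR θ).symm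

end Groth.Agent.Lib.helper19.GalNormH
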