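import Mathlib
import Groth.Agent.Lib.helper19.GalNormB
import Groth.Agent.Lib.helper19.GalNormH

set_option autoImplicit false
set_option linter.unusedSectionVars false
set_option linter.style.haveILetI false

/-! Kernel of the norm of a Galois extension over a `C_1` field: the induction. -/

namespace Groth.Agent.Lib.helper19.GalNormC

open IntermediateField
open Groth.Agent.Lib.Helper7
open Groth.Agent.Lib.helper19.GalNormA Groth.Agent.Lib.helper19.GalNormB

universe u

section

variable {K L : Type u} [Field K] [Field L] [Algebra K L] [FiniteDimensional K L] [IsGalois K L]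

/-- step along a normal subgroup with cyclic quotient -/
theorem step_normal (hK1 : Curves.IsCr K 1) (H : Subgroup (L ≃ₐ[K] L)) [H.Normal]
    (hcyc : IsCyclic ((fixedField H) ≃ₐ[K] (fixedField H)))
    (hM : ∀ v : Lˣ, Algebra.norm (fixedField H) (v : L) = 1 → v ∈ IG (fixedField H) L)
    (u : Lˣ) (hu : Algebra.norm K (u : L) = 1) : u ∈ IG K L := by
  classical
  set M := fixedField H with hMdef
  haveI : IsGalois K M := IsGalois.of_fixedField_normal_subgroup H
  obtain ⟨g, hg⟩ := IsCyclic.exists_generator (α := M ≃ₐ[K] M)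
  let w : M := Algebra.norm M (u : L)
  have hw : Algebra.norm K w = 1 := by rw [Algebra.norm_norm, hu]
  obtain ⟨z, hz⟩ := Groth.Agent.Lib.helper19.GalNormH.hilbert90_cyclic g hg hw
  have hMC1 : Curves.IsCr M 1 := TL.isCr_one_of_finite hK1
  obtain ⟨y, hy⟩ := norm_surjective_of_isCr_one hMC1 (L := L) (z : M)
  have hy0 : y ≠ 0 := by
    intro h0
    rw [h0, Algebra.norm_zero] at hy
    exact z.ne_zero hy.symm
  let yu : Lˣ := Units.mk0 y hy0
  obtain ⟨σ, hσ⟩ := AlgEquiv.restrictNormalHom_surjective (F := K) (K₁ := M) (E := L) g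
  have he : RingHom.comp (algebraMap M L) ((g : M ≃+* M) : M →+* M) =
      RingHom.comp ((σ : L ≃+* L) : L →+* L) (algebraMap M L) := by
    ext x
    simp only [RingHom.coe_comp, RingHom.coe_coe, Function.comp_apply]
    rw [← hσ]
    exact AlgEquiv.restrictNormalHom_apply M σ x
  have hN : Algebra.norm M (σ y) = g (Algebra.norm M y) := by
    have h1 := Algebra.norm_eq_of_equiv_equiv (g : M ≃+* M) (σ : L ≃+* L) he y
    rw [h1]
    simp
  let u' : Lˣ := u * (σ • yu / yu)
  have hu' : Algebra.norm M (u' : L) = 1 := by
    have h1 : (u' : L) = (u : L) * (σ y / y) := by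
      simp only [u', Units.val_mul, Units.val_div_eq_div_val]
      rfl
    rw [h1, map_mul, div_eq_mul_inv, map_mul, Algebra.norm_inv, hN, hy]
    change w * _ = 1
    rw [← hz]
    have hz0 : (z : M) ≠ 0 := z.ne_zero
    have hgz0 : g (z : M) ≠ 0 := by
      rw [Ne, map_eq_zero]; exact hz0
    field_simp
  have h1 : u' ∈ IG K L := IG_le_of_intermediate _ (hM u' hu')
  have h2 : u = u' * (yu / σ • yu) := by
    change u = u * (σ • yu / yu) * (yu / σ • yu)
    rw [mul_assoc, div_mul_div_cancel, div_self', mul_one]
  rw [h2]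
  exact (IG K L).mul_mem h1 (div_mem_IG yu σ)

end

/-- kernel of the norm over a `C_1` field -/
theorem main : ∀ (n : ℕ) (K L : Type u) [Field K] [Field L] [Algebra K L] [FiniteDimensional K L]
    [IsGalois K L], Curves.IsCr K 1 → Module.finrank K L = n →
    ∀ u : Lˣ, Algebra.norm K (u : L) = 1 → u ∈ IG K L := by
  intro n
  induction n using Nat.strong_induction_on with
  | _ n IH =>
    intro K L _ _ _ _ _ hC hn u hu
    classical
    have hcard : Nat.card (L ≃ₐ[K] L) = n := by rw [IsGalois.card_aut_eq_finrank, hn]
    -- the induction hypothesis for proper subgroups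
    have IH' : ∀ H : Subgroup (L ≃ₐ[K] L), Nat.card H < n →
        ∀ v : Lˣ, Algebra.norm (fixedField H) (v : L) = 1 → v ∈ IG (fixedField H) L := by
      intro H hH v hv
      exact IH (Nat.card H) hH (fixedField H) L (TL.isCr_one_of_finite hC)
        (finrank_fixedField_eq_card H) v hv
    by_cases hp : ∃ p : ℕ, p.Prime ∧ IsPGroup p (L ≃ₐ[K] L)
    · obtain ⟨p, hpp, hpG⟩ := hp
      haveI : Fact p.Prime := ⟨hpp⟩
      obtain ⟨k, hk⟩ := IsPGroup.iff_card.1 hpG
      rcases Nat.eq_zero_or_pos k with hk0 | hkpos
      · -- trivial group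
        rw [hk0, pow_zero] at hk
        haveI : Subsingleton (L ≃ₐ[K] L) := (Nat.card_eq_one_iff_unique.1 hk).1
        have h1 := prod_aut_eq_one u hu
        rw [Fintype.prod_subsingleton _ (1 : L ≃ₐ[K] L)] at h1
        have : u = 1 := Units.ext h1
        rw [this]
        exact (IG K L).one_mem
      · obtain ⟨H, hH⟩ := Sylow.exists_subgroup_card_pow_prime (G := L ≃ₐ[K] L) p (n := k - 1)
          (by rw [hk]; exact pow_dvd_pow p (Nat.sub_le k 1))
        have hidx : H.index = p := by
          have h1 := H.card_mul_index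
          rw [hH, hk] at h1
          have h2 : p ^ (k - 1) * p = p ^ k := by
            rw [← pow_succ, Nat.sub_add_cancel hkpos]
          have h3 : p ^ (k - 1) * H.index = p ^ (k - 1) * p := by rw [h1, h2]
          exact Nat.eq_of_mul_eq_mul_left (pow_pos hpp.pos _) h3
        haveI : H.Normal := by
          apply Subgroup.normal_of_index_eq_minFac_card
          rw [hidx, hk, Nat.pow_minFac (Nat.pos_iff_ne_zero.1 hkpos), hpp.minFac_eq]
        haveI : IsGalois K (fixedField H) := IsGalois.of_fixedField_normal_subgroup H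
        have hfr : Module.finrank K (fixedField H) = p := by
          have h1 := Module.finrank_mul_finrank K (fixedField H) L
          rw [finrank_fixedField_eq_card, hH, hn, ← hcard, hk] at h1
          have h2 : p ^ (k - 1) * p = p ^ k := by
            rw [← pow_succ, Nat.sub_add_cancel hkpos]
          have h3 : Module.finrank K (fixedField H) * p ^ (k - 1) = p * p ^ (k - 1) := by
            rw [h1, ← h2, mul_comm]
          exact Nat.eq_of_mul_eq_mul_right (pow_pos hpp.pos _) h3
        have hcyc : IsCyclic ((fixedField H) ≃ₐ[K] (fixedField H)) := by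
          apply isCyclic_of_prime_card (p := p)
          rw [IsGalois.card_aut_eq_finrank, hfr]
        have hlt : Nat.card H < n := by
          rw [hH, ← hcard, hk]
          exact Nat.pow_lt_pow_right hpp.one_lt (Nat.sub_lt hkpos Nat.one_pos)
        exact step_normal hC H hcyc (IH' H hlt) u hu
    · apply mem_of_forall_prime_pow_mem
      intro p hpp
      haveI : Fact p.Prime := ⟨hpp⟩
      let P : Sylow p (L ≃ₐ[K] L) := default
      refine ⟨(P : Subgroup (L ≃ₐ[K] L)).index, Sylow.not_dvd_index P, ?_⟩
      have hlt : Nat.card (P : Subgroup (L ≃ₐ[K] L)) < n := by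
        rw [← hcard]
        refine lt_of_le_of_ne (Subgroup.card_le_card_group _) fun heq => hp ⟨p, hpp, ?_⟩
        obtain ⟨k, hk⟩ := IsPGroup.iff_card.1 P.isPGroup'
        exact IsPGroup.of_card (n := k) (by rw [← heq]; exact hk)
      exact transfer _ (IH' _ hlt) u hu

end Groth.Agent.Lib.helper19.GalNormC
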