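import Groth.Agent.Lib.helper19.GaloisDescent

set_option autoImplicit false

namespace Groth.Agent.Lib.helper19

open IntermediateField

universe u

/-- Additive Hilbert 90 for a finite Galois extension. -/
theorem additive_hilbert90_finite {K E : Type u} [Field K] [Field E] [Algebra K E]
    [FiniteDimensional K E] [IsGalois K E] (a : (E ≃ₐ[K] E) → E)
    (ha : ∀ σ τ : E ≃ₐ[K] E, a (σ * τ) = a σ + σ (a τ)) :
    ∃ y : E, ∀ σ : E ≃ₐ[K] E, a σ = σ y - y := by
  classical
  obtain ⟨θ, hθ⟩ := Algebra.trace_surjective K E 1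
  have htr : ∑ τ : E ≃ₐ[K] E, τ θ = 1 := by
    rw [← trace_eq_sum_automorphisms, hθ, map_one]
  let b : E := ∑ τ : E ≃ₐ[K] E, a τ * τ θ
  have hb : ∀ s : E ≃ₐ[K] E, s b = b - a s := by
    intro s
    have h1 : s b = ∑ τ : E ≃ₐ[K] E, (a (s * τ) - a s) * (s * τ) θ := by
      simp only [b, map_sum, map_mul]
      refine Finset.sum_congr rfl fun τ _ => ?_
      rw [ha s τ, add_sub_cancel_left]
      rfl
    have h2 : ∑ τ : E ≃ₐ[K] E, (a (s * τ) - a s) * (s * τ) θ =
        ∑ τ : E ≃ₐ[K] E, (a τ - a s) * τ θ :=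
      Fintype.sum_bijective (fun τ => s * τ) (Group.mulLeft_bijective s) _ _ (fun _ => rfl)
    rw [h1, h2]
    simp only [sub_mul, Finset.sum_sub_distrib, ← Finset.mul_sum, htr, mul_one, b]
  refine ⟨-b, fun σ => ?_⟩
  rw [map_neg, hb σ]
  ring

variable {K L : Type u} [Field K] [Field L] [Algebra K L] [IsGalois K L]

/-- Additive Hilbert 90 for locally constant cocycles on a (possibly infinite) Galois group. -/
theorem additive_hilbert90_locallyConstant (a : (L ≃ₐ[K] L) → L)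
    (ha : ∀ σ τ : L ≃ₐ[K] L, a (σ * τ) = a σ + σ (a τ)) (hlc : IsLocallyConstant a) :
    ∃ y : L, ∀ σ : L ≃ₐ[K] L, a σ = σ y - y := by
  have ha1 : a 1 = 0 := by
    have := ha 1 1
    rw [mul_one, AlgEquiv.one_apply] at this
    exact (add_eq_left.mp this.symm)
  have hnhds : a ⁻¹' {0} ∈ nhds (1 : L ≃ₐ[K] L) :=
    (hlc.isOpen_fiber 0).mem_nhds (by simp [ha1])
  obtain ⟨E₀, hE₀fd, hE₀⟩ := (krullTopology_mem_nhds_one_iff K L _).mp hnhds
  have hinv : ∀ σ : L ≃ₐ[K] L, ∀ u ∈ E₀.fixingSubgroup, a (σ * u) = a σ := by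
    intro σ u hu
    have hu1 : a u = 0 := hE₀ hu
    rw [ha, hu1, map_zero, add_zero]
  obtain ⟨E, hfd, hnorm, abar, habar⟩ := exists_descent a hlc E₀ hinv
  have hsurj := AlgEquiv.restrictNormalHom_surjective (F := K) (K₁ := E) L
  have hsep : Algebra.IsSeparable K E := Algebra.isSeparable_tower_bot_of_isSeparable K E L
  have hgal : IsGalois K E := ⟨⟩
  have hcoc : ∀ s t : E ≃ₐ[K] E, abar (s * t) = abar s + s (abar t) := by
    intro s t
    obtain ⟨σ, rfl⟩ := hsurj s
    obtain ⟨τ, rfl⟩ := hsurj t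
    apply Subtype.ext
    rw [← map_mul]
    simp only [AddMemClass.coe_add, AlgEquiv.restrictNormalHom_apply]
    rw [← habar, ← habar, ← habar, ha]
  obtain ⟨y, hy⟩ := additive_hilbert90_finite abar hcoc
  refine ⟨(y : L), fun σ => ?_⟩
  rw [habar σ, hy]
  simp only [AddSubgroupClass.coe_sub, AlgEquiv.restrictNormalHom_apply]

end Groth.Agent.Lib.helper19
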