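import Mathlib.FieldTheory.KrullTopology
import Mathlib.FieldTheory.Galois.Profinite
import Mathlib.FieldTheory.IsSepClosed
import Mathlib.Topology.LocallyConstant.Basic
import Mathlib.FieldTheory.Normal.Closure
import Mathlib.RepresentationTheory.Homological.GroupCohomology.Hilbert90
import Mathlib.RingTheory.Trace.Basic

set_option autoImplicit false

namespace Groth.Agent.Lib.helper19

open IntermediateField

universe u

variable {K L : Type u} [Field K] [Field L] [Algebra K L] [IsGalois K L]

/-- A locally constant function on the Galois group, right-invariant under an open subgroup,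
descends to a finite Galois level (including its values). -/
theorem exists_descent (a : (L ≃ₐ[K] L) → L) (hlc : IsLocallyConstant a)
    (E₀ : IntermediateField K L) [FiniteDimensional K E₀]
    (hinv : ∀ σ : L ≃ₐ[K] L, ∀ u ∈ E₀.fixingSubgroup, a (σ * u) = a σ) :
    ∃ (E : IntermediateField K L) (_ : FiniteDimensional K E) (_ : Normal K E)
      (abar : (E ≃ₐ[K] E) → E),
      ∀ σ : L ≃ₐ[K] L, a σ = (abar (AlgEquiv.restrictNormalHom E σ) : L) := by
  have hfin : (Set.range a).Finite := hlc.range_finite
  have : Finite (Set.range a) := hfin.to_subtype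
  have : FiniteDimensional K (adjoin K (Set.range a)) :=
    finiteDimensional_adjoin fun x _ => (Algebra.IsIntegral.isIntegral x)
  let E₁ : IntermediateField K L := E₀ ⊔ adjoin K (Set.range a)
  let E : IntermediateField K L := normalClosure K E₁ L
  have hfd : FiniteDimensional K E := normalClosure.is_finiteDimensional K E₁ L
  have hnorm : Normal K E := normalClosure.normal K E₁ L
  have hle : E₁ ≤ E := E₁.le_normalClosure
  have hsurj := AlgEquiv.restrictNormalHom_surjective (F := K) (K₁ := E) L
  let lift := Function.surjInv hsurj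
  have hmem : ∀ σ, a σ ∈ E := fun σ =>
    hle ((le_sup_right : adjoin K (Set.range a) ≤ E₁) (subset_adjoin K _ ⟨σ, rfl⟩))
  refine ⟨E, hfd, hnorm, fun s => ⟨a (lift s), hmem _⟩, fun σ => ?_⟩
  have h1 : AlgEquiv.restrictNormalHom E (lift (AlgEquiv.restrictNormalHom E σ)) =
      AlgEquiv.restrictNormalHom E σ := Function.surjInv_eq hsurj _
  have h2 : σ⁻¹ * lift (AlgEquiv.restrictNormalHom E σ) ∈ E.fixingSubgroup := by
    rw [← IntermediateField.restrictNormalHom_ker E, MonoidHom.mem_ker, map_mul, map_inv, h1,
      inv_mul_cancel]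
  have h3 : σ⁻¹ * lift (AlgEquiv.restrictNormalHom E σ) ∈ E₀.fixingSubgroup :=
    IntermediateField.fixingSubgroup_antitone (le_sup_left.trans hle) h2
  have h4 := hinv σ _ h3
  rw [mul_inv_cancel_left] at h4
  exact h4.symm

end Groth.Agent.Lib.helper19
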