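import Groth.Agent.Lib.helper19.GaloisDescent

set_option autoImplicit false

namespace Groth.Agent.Lib.helper19

open IntermediateField groupCohomology

universe u

variable {K L : Type u} [Field K] [Field L] [Algebra K L] [IsGalois K L]

/-- Hilbert 90 for locally constant cocycles on a (possibly infinite) Galois group. -/
theorem hilbert90_locallyConstant (a : (L ≃ₐ[K] L) → Lˣ)
    (ha : ∀ σ τ : L ≃ₐ[K] L, a (σ * τ) = a σ * σ • a τ) (hlc : IsLocallyConstant a) :
    ∃ c : Lˣ, ∀ σ : L ≃ₐ[K] L, a σ = c⁻¹ * σ • c := by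
  have ha1 : a 1 = 1 := by
    have := ha 1 1
    rw [mul_one, one_smul] at this
    exact (mul_eq_left.mp this.symm)
  have hnhds : a ⁻¹' {1} ∈ nhds (1 : L ≃ₐ[K] L) :=
    (hlc.isOpen_fiber 1).mem_nhds (by simp [ha1])
  obtain ⟨E₀, hE₀fd, hE₀⟩ := (krullTopology_mem_nhds_one_iff K L _).mp hnhds
  have hinv : ∀ σ : L ≃ₐ[K] L, ∀ u ∈ E₀.fixingSubgroup,
      ((a (σ * u) : Lˣ) : L) = ((a σ : Lˣ) : L) := by
    intro σ u hu
    have hu1 : a u = 1 := hE₀ hu
    rw [ha, hu1, smul_one, mul_one]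
  obtain ⟨E, hfd, hnorm, abar, habar⟩ := exists_descent (fun σ => ((a σ : Lˣ) : L))
    (hlc.comp _) E₀ hinv
  have hsurj := AlgEquiv.restrictNormalHom_surjective (F := K) (K₁ := E) L
  have hne : ∀ s : E ≃ₐ[K] E, abar s ≠ 0 := by
    intro s hs
    obtain ⟨σ, rfl⟩ := hsurj s
    have := habar σ
    rw [hs] at this
    exact (a σ).ne_zero (by simpa using this)
  let f : (E ≃ₐ[K] E) → Eˣ := fun s => Units.mk0 (abar s) (hne s)
  have hf : IsMulCocycle₁ f := by
    intro g h
    obtain ⟨σ, rfl⟩ := hsurj g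
    obtain ⟨τ, rfl⟩ := hsurj h
    apply Units.ext
    apply Subtype.ext
    rw [← map_mul]
    simp only [f, Units.val_mul, Units.val_mk0, AlgEquiv.smul_units_def, Units.coe_map,
      MonoidHom.coe_coe, MulMemClass.coe_mul]
    rw [← habar, ← habar, AlgEquiv.restrictNormalHom_apply, ← habar, ha]
    simp only [Units.val_mul, AlgEquiv.smul_units_def, Units.coe_map, MonoidHom.coe_coe]
    ring
  obtain ⟨β, hβ⟩ := isMulCoboundary₁_of_isMulCocycle₁_of_aut_to_units f hf
  refine ⟨Units.map (algebraMap E L : E →* L) β, fun σ => ?_⟩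
  apply Units.ext
  have h1 := hβ (AlgEquiv.restrictNormalHom E σ)
  have h2 : ((AlgEquiv.restrictNormalHom E σ • β : Eˣ) : E) =
      (β : E) * abar (AlgEquiv.restrictNormalHom E σ) := by
    rw [div_eq_iff_eq_mul] at h1
    rw [h1]
    simp [f, mul_comm]
  have h3 : σ ((β : E) : L) = ((β : E) : L) * ((a σ : Lˣ) : L) := by
    have := congrArg (fun x : E => (x : L)) h2
    simp only [AlgEquiv.smul_units_def, Units.coe_map, MonoidHom.coe_coe, MulMemClass.coe_mul,
      AlgEquiv.restrictNormalHom_apply, ← habar] at this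
    exact this
  have hβ0 : ((β : E) : L) ≠ 0 := by
    intro h
    exact β.ne_zero (Subtype.ext (by simpa using h))
  simp only [Units.val_mul, Units.val_inv_eq_inv_val, AlgEquiv.smul_units_def, Units.coe_map,
    MonoidHom.coe_coe, IntermediateField.algebraMap_apply]
  rw [h3]
  field_simp

end Groth.Agent.Lib.helper19
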