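import Mathlib
import Groth.Agent.Lib.Helper21.FibreStalk

set_option autoImplicit false
universe u
open CategoryTheory CategoryTheory.Limits AlgebraicGeometry TopologicalSpace

namespace Groth.Agent.Lib.Helper19.GenEtale1

open Groth.Agent.Lib.Helper21

variable {X Y : Scheme.{u}} (f : X ⟶ Y)

/-- the stalk map of `W.ι ≫ f` is the stalk map of `f` up to an isomorphism. -/
theorem formallyUnramified_stalkMap_of_nhd (W : X.Opens) [FormallyUnramified (W.ι ≫ f)]
    (x : X) (hx : x ∈ W) : (f.stalkMap x).hom.FormallyUnramified := by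
  let x' : W.toScheme := ⟨x, hx⟩
  have h1 := FormallyUnramified.stalkMap (W.ι ≫ f) x'
  have h0 : (W.ι ≫ f).stalkMap x' = f.stalkMap (W.ι x') ≫ W.ι.stalkMap x' :=
    Scheme.Hom.stalkMap_comp _ _ _
  rw [h0] at h1
  exact (RingHom.FormallyUnramified.respectsIso.cancel_right_isIso (f.stalkMap (W.ι x'))
    (W.ι.stalkMap x')).mp h1

theorem formallySmooth_stalkMap_of_nhd [LocallyOfFinitePresentation f] (W : X.Opens)
    [Smooth (W.ι ≫ f)] (x : X) (hx : x ∈ W) : (f.stalkMap x).hom.FormallySmooth := by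
  let x' : W.toScheme := ⟨x, hx⟩
  have h1 : x' ∈ (W.ι ≫ f).smoothLocus := by
    rw [Scheme.Hom.smoothLocus_eq_top]; trivial
  rw [← Scheme.Hom.preimage_smoothLocus_eq] at h1
  exact h1

/-- smooth at `x` and unramified near `x` gives étale near `x`. -/
theorem exists_etale_nhd [LocallyOfFinitePresentation f] (x : X)
    (hs : (f.stalkMap x).hom.FormallySmooth) (W : X.Opens) (hxW : x ∈ W)
    [hW : FormallyUnramified (W.ι ≫ f)] :
    ∃ U : X.Opens, x ∈ U ∧ Etale (U.ι ≫ f) := by
  refine ⟨W ⊓ f.smoothLocus, ⟨hxW, hs⟩, ?_⟩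
  set U : X.Opens := W ⊓ f.smoothLocus with hU
  have hUW : U ≤ W := inf_le_left
  have hUs : U ≤ f.smoothLocus := inf_le_right
  haveI : Smooth (U.ι ≫ f) := by
    rw [← Scheme.Hom.smoothLocus_eq_top_iff, ← Scheme.Hom.preimage_smoothLocus_eq]
    ext z
    constructor
    · intro _; trivial
    · intro _; exact hUs z.2
  haveI : FormallyUnramified (U.ι ≫ f) := by
    rw [← X.homOfLE_ι hUW, Category.assoc]
    haveI : FormallyUnramified (X.homOfLE hUW) := inferInstance
    exact MorphismProperty.comp_mem _ _ _ inferInstance hW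
  exact Etale.of_formallyUnramified_of_flat (U.ι ≫ f)

end Groth.Agent.Lib.Helper19.GenEtale1
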