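import Mathlib
import Groth.Agent.S9722

set_option autoImplicit false
universe u
open CategoryTheory CategoryTheory.Limits AlgebraicGeometry TopologicalSpace

namespace Groth.Agent.Lib.Helper19.GenEtale2

variable {X Y : Scheme.{u}} (f : X ⟶ Y)

set_option maxHeartbeats 800000 in
/-- if the stalk map at `x` is formally smooth and formally unramified (and `f` is locally of finite
presentation) then `f` is étale on a neighbourhood of `x`. -/
theorem exists_etale_nhd_of_stalk [LocallyOfFinitePresentation f] (x : X)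
    (hs : (f.stalkMap x).hom.FormallySmooth) (hu : (f.stalkMap x).hom.FormallyUnramified) :
    ∃ U : X.Opens, x ∈ U ∧ Etale (U.ι ≫ f) := by
  obtain ⟨_, ⟨V, hV, rfl⟩, hxV, -⟩ :=
    Y.isBasis_affineOpens.exists_subset_of_mem_open (Set.mem_univ (f x)) isOpen_univ
  obtain ⟨_, ⟨U₀, hU₀, rfl⟩, hxU₀, e₀⟩ :=
    X.isBasis_affineOpens.exists_subset_of_mem_open hxV (V.2.preimage f.continuous)
  have hfp := f.finitePresentation_appLE hV hU₀ e₀
  algebraize [(f.appLE V U₀ e₀).hom]
  let p := (hV.primeIdealOf ⟨f x, e₀ hxU₀⟩).asIdeal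
  let q := (hU₀.primeIdealOf ⟨x, hxU₀⟩).asIdeal
  haveI : q.LiesOver p :=
    ⟨congr($(IsAffineOpen.comap_primeIdealOf_appLE V hV U₀ hU₀ e₀ hxU₀).1).symm⟩
  letI := Localization.AtPrime.algebraOfLiesOver p q
  haveI hsm : Algebra.IsSmoothAt Γ(Y, V) q :=
    (formallySmooth_stalkMap_iff V hV U₀ hU₀ e₀ hxU₀).mp hs
  haveI hunr : Algebra.FormallyUnramified Γ(Y, V) (Localization.AtPrime q) := by
    have h1 : Algebra.FormallyUnramified (Localization.AtPrime p) (Localization.AtPrime q) := by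
      rw [← RingHom.formallyUnramified_algebraMap]
      exact (RingHom.FormallyUnramified.respectsIso.arrow_mk_iso_iff
        (IsAffineOpen.arrowStalkMapIso f V hV U₀ hU₀ e₀ hxU₀)).mp hu
    exact Algebra.FormallyUnramified.comp Γ(Y, V) (Localization.AtPrime p) (Localization.AtPrime q)
  haveI het : Algebra.IsEtaleAt Γ(Y, V) q :=
    Algebra.FormallyEtale.of_formallyUnramified_and_formallySmooth
  obtain ⟨g, hgq, hg⟩ := Algebra.IsEtaleAt.exists_isStandardEtale (R := Γ(Y, V)) q
  have hloc := hU₀.isLocalization_basicOpen g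
  refine (Groth.Agent.S9722.result f x V hV (e₀ hxU₀)).mpr
    ⟨X.basicOpen g, hU₀.basicOpen g, ?_, (X.basicOpen_le g).trans e₀, ?_⟩
  · rw [← PrimeSpectrum.mem_basicOpen, IsAffineOpen.primeIdealOf,
      ← hU₀.fromSpec_preimage_basicOpen] at hgq
    change hU₀.fromSpec (hU₀.isoSpec.hom ⟨x, hxU₀⟩) ∈ X.basicOpen g at hgq
    rwa [← Scheme.Hom.comp_apply, IsAffineOpen.isoSpec_hom, IsAffineOpen.toSpecΓ_fromSpec] at hgq
  · letI := (f.appLE V (X.basicOpen g) ((X.basicOpen_le g).trans e₀)).hom.toAlgebra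
    haveI : IsScalarTower Γ(Y, V) Γ(X, U₀) Γ(X, X.basicOpen g) := by
      refine IsScalarTower.of_algebraMap_eq' ?_
      simp only [RingHom.algebraMap_toAlgebra]
      rw [← CommRingCat.hom_comp, Scheme.Hom.appLE_map]
    exact Algebra.IsStandardEtale.of_equiv
      ((IsLocalization.algEquiv (.powers g) (Localization.Away g)
        Γ(X, X.basicOpen g)).restrictScalars Γ(Y, V))

end Groth.Agent.Lib.Helper19.GenEtale2
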