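import Mathlib
import Groth.Agent.Lib.Helper21.FibreStalk
import Groth.Agent.Lib.helper19.GenEtale1
import Groth.Agent.Lib.helper19.GenEtale2

set_option autoImplicit false
universe u
open CategoryTheory CategoryTheory.Limits AlgebraicGeometry TopologicalSpace

namespace Groth.Agent.Lib.Helper19.GenEtale3

open Groth.Agent.Lib.Helper21

variable {X Y : Scheme.{u}} [IsIntegral X] [IsIntegral Y] (f : X ⟶ Y)
  (e : f (genericPoint X) = genericPoint Y)

theorem genericPoint_mem (U : X.Opens) (hU : (U : Set X).Nonempty) : genericPoint X ∈ U := by
  have := (genericPoint_spec X).mem_open_set_iff U.2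
  exact this.mpr (by simpa using hU)

/-- the function-field map -/
noncomputable abbrev phi : Y.functionField ⟶ X.functionField :=
  Y.presheaf.stalkSpecializes (specializes_of_eq e) ≫ f.stalkMap (genericPoint X)

theorem isIso_sigma : IsIso (Y.presheaf.stalkSpecializes (specializes_of_eq e)) :=
  FibreStalk.isIso_stalkSpecializes_of_eq e

theorem fu_iff : (phi f e).hom.FormallyUnramified ↔
    (f.stalkMap (genericPoint X)).hom.FormallyUnramified := by
  haveI := isIso_sigma f e
  exact RingHom.FormallyUnramified.respectsIso.cancel_left_isIso _ _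

theorem fs_iff : (phi f e).hom.FormallySmooth ↔
    (f.stalkMap (genericPoint X)).hom.FormallySmooth := by
  haveI := isIso_sigma f e
  exact RingHom.FormallySmooth.respectsIso.cancel_left_isIso _ _

theorem essFiniteType_phi [LocallyOfFiniteType f] : (phi f e).hom.EssFiniteType := by
  haveI := isIso_sigma f e
  exact (RingHom.EssFiniteType.respectsIso.cancel_left_isIso _ _).mpr
    (LocallyOfFiniteType.stalkMap f (genericPoint X))

/-- field theory: unramified ⟹ finite separable ⟹ smooth. -/
theorem field_facts [LocallyOfFiniteType f] (hu : (phi f e).hom.FormallyUnramified) :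
    letI := (phi f e).hom.toAlgebra
    FiniteDimensional Y.functionField X.functionField ∧
      Algebra.IsSeparable Y.functionField X.functionField ∧ (phi f e).hom.FormallySmooth := by
  letI := (phi f e).hom.toAlgebra
  haveI : Algebra.EssFiniteType Y.functionField X.functionField := essFiniteType_phi f e
  haveI : Algebra.FormallyUnramified Y.functionField X.functionField := hu
  haveI hsep : Algebra.IsSeparable Y.functionField X.functionField :=
    Algebra.FormallyUnramified.isSeparable _ _
  refine ⟨Algebra.FormallyUnramified.finite_of_free _ _, hsep, ?_⟩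
  haveI : Algebra.FormallyEtale Y.functionField X.functionField :=
    Algebra.FormallyEtale.of_isSeparable _ _
  show Algebra.FormallySmooth Y.functionField X.functionField
  infer_instance

theorem of_sep [LocallyOfFiniteType f]
    (h : letI := (phi f e).hom.toAlgebra
      Algebra.IsSeparable Y.functionField X.functionField) :
    (phi f e).hom.FormallySmooth ∧ (phi f e).hom.FormallyUnramified := by
  letI := (phi f e).hom.toAlgebra
  haveI := h
  haveI : Algebra.FormallyEtale Y.functionField X.functionField :=
    Algebra.FormallyEtale.of_isSeparable _ _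
  exact ⟨show Algebra.FormallySmooth Y.functionField X.functionField from inferInstance,
    show Algebra.FormallyUnramified Y.functionField X.functionField from inferInstance⟩

theorem main [LocallyOfFinitePresentation f] :
    letI := (phi f e).hom.toAlgebra
    ((∃ U : X.Opens, (U : Set X).Nonempty ∧ FormallyUnramified (U.ι ≫ f)) ↔
      (∃ U : X.Opens, (U : Set X).Nonempty ∧ Etale (U.ι ≫ f))) ∧
    ((∃ U : X.Opens, (U : Set X).Nonempty ∧ Etale (U.ι ≫ f)) ↔
      (FiniteDimensional Y.functionField X.functionField ∧
        Algebra.IsSeparable Y.functionField X.functionField)) := by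
  letI := (phi f e).hom.toAlgebra
  have key : ∀ U : X.Opens, (U : Set X).Nonempty → FormallyUnramified (U.ι ≫ f) →
      (phi f e).hom.FormallyUnramified := by
    intro U hU hUf
    haveI := hUf
    exact (fu_iff f e).mpr
      (GenEtale1.formallyUnramified_stalkMap_of_nhd f U _ (genericPoint_mem U hU))
  constructor
  · constructor
    · rintro ⟨U, hU, hUf⟩
      haveI := hUf
      have hu := key U hU hUf
      have hs := (fs_iff f e).mp (field_facts f e hu).2.2
      obtain ⟨U', hxU', hU'⟩ := GenEtale1.exists_etale_nhd f (genericPoint X) hs U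
        (genericPoint_mem U hU)
      exact ⟨U', ⟨_, hxU'⟩, hU'⟩
    · rintro ⟨U, hU, hUf⟩
      haveI := hUf
      exact ⟨U, hU, inferInstance⟩
  · constructor
    · rintro ⟨U, hU, hUf⟩
      haveI := hUf
      have hu := key U hU inferInstance
      exact ⟨(field_facts f e hu).1, (field_facts f e hu).2.1⟩
    · rintro ⟨-, hsep⟩
      obtain ⟨hs, hu⟩ := of_sep f e hsep
      obtain ⟨U, hxU, hU⟩ := GenEtale2.exists_etale_nhd_of_stalk f (genericPoint X)
        ((fs_iff f e).mp hs) ((fu_iff f e).mp hu)
      exact ⟨U, ⟨_, hxU⟩, hU⟩

end Groth.Agent.Lib.Helper19.GenEtale3
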