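import Mathlib
import Groth.Prelude.Def_Coh
import Groth.Agent.Lib.Helper5.ClosedFibre
import Groth.Agent.Lib.Helper22.SmoothGeomRed

set_option autoImplicit false
universe u
open CategoryTheory CategoryTheory.Limits AlgebraicGeometry IsLocalRing

namespace Groth.Agent.Lib.Helper19.GenFib1

/-- the maximal ideal of the local ring of `Spec R` at a point `y` is generated by `y`. -/
theorem map_toStalk (R : Type u) [CommRing R] (y : Spec (CommRingCat.of R)) :
    Ideal.map (((Spec (CommRingCat.of R)).presheaf.germ ⊤ y trivial).hom.comp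
      (Scheme.ΓSpecIso (CommRingCat.of R)).inv.hom) y.asIdeal =
      maximalIdeal ((Spec (CommRingCat.of R)).presheaf.stalk y) := by
  letI k : Algebra R ((Spec (CommRingCat.of R)).presheaf.stalk y) := StructureSheaf.stalkAlgebra R y
  haveI : IsLocalization.AtPrime ((Spec (CommRingCat.of R)).presheaf.stalk y) y.asIdeal :=
    StructureSheaf.IsLocalization.to_stalk R y
  have := IsLocalization.AtPrime.map_eq_maximalIdeal y.asIdeal
    ((Spec (CommRingCat.of R)).presheaf.stalk y)
  rw [← this]
  rfl

theorem main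
    (R : Type u) [CommRing R] [IsLocalRing R]
    (X : Scheme.{u}) (f : X ⟶ Spec (CommRingCat.of R))
    (Xs : Scheme.{u}) (gs : Xs ⟶ X) (fs : Xs ⟶ Spec (CommRingCat.of (IsLocalRing.ResidueField R)))
    (hs : IsPullback gs fs f (Spec.map (CommRingCat.ofHom (IsLocalRing.residue R))))
    [IsReduced Xs]
    (ξ : Xs) (hξ : closure ({ξ} : Set Xs) ∈ irreducibleComponents Xs)
    (B : Type u) [CommRing B] [IsLocalRing B] [Algebra R B]
    (e : X.presheaf.stalk (gs.base ξ) ≅ CommRingCat.of B)
    (he : e.hom.hom.comp ((X.presheaf.germ ⊤ (gs.base ξ) trivial).hom.comp (Coh.toGlobal f)) =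
      algebraMap R B) :
    IsLocalRing.maximalIdeal B = Ideal.map (algebraMap R B) (IsLocalRing.maximalIdeal R) := by
  have hF : IsField (Xs.presheaf.stalk ξ) :=
    Groth.Agent.Lib.Helper22.SmoothGeomRed.isField_stalk_of_isGenericPoint hξ
      (isGenericPoint_closure)
  obtain ⟨φ⟩ := Groth.Agent.Lib.Helper5.ClosedFibre.nonempty_stalk_equiv f gs fs hs ξ
  have hmax : ((maximalIdeal ((Spec (CommRingCat.of R)).presheaf.stalk (f (gs.base ξ)))).map
      (f.stalkMap (gs.base ξ)).hom).IsMaximal := by
    apply Ideal.Quotient.maximal_of_isField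
    exact φ.symm.toMulEquiv.isField hF
  have hIm := IsLocalRing.eq_maximalIdeal hmax
  -- the point `f x` is the closed point
  have hy : f (gs.base ξ) = closedPoint R := by
    have h1 : f (gs.base ξ) = (Spec.map (CommRingCat.ofHom (IsLocalRing.residue R))) (fs ξ) := by
      have := congrArg (fun g => g ξ) hs.w
      simpa using this
    rw [h1]
    apply PrimeSpectrum.ext
    change Ideal.comap (IsLocalRing.residue R) _ = maximalIdeal R
    apply IsLocalRing.eq_maximalIdeal
    have : ((fs ξ).asIdeal) = ⊥ := by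
      have := (fs ξ).isPrime
      exact ((Ideal.eq_bot_or_top _).resolve_right this.ne_top)
    rw [this]
    change (RingHom.ker (IsLocalRing.residue R)).IsMaximal
    rw [IsLocalRing.ker_residue]
    infer_instance
  have hyI : (f (gs.base ξ)).asIdeal = maximalIdeal R := by rw [hy]; rfl
  -- maximal ideal of B
  have hB : maximalIdeal B = (maximalIdeal (X.presheaf.stalk (gs.base ξ))).map e.hom.hom := by
    symm
    apply IsLocalRing.eq_maximalIdeal
    exact Ideal.map_isMaximal_of_equiv e.commRingCatIsoToRingEquiv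
  rw [hB, ← hIm, ← map_toStalk R (f (gs.base ξ)), hyI, Ideal.map_map, Ideal.map_map, ← he]
  congr 1
  rw [RingHom.comp_assoc]
  congr 1
  unfold Coh.toGlobal
  rw [← RingHom.comp_assoc, ← RingHom.comp_assoc]
  congr 1
  have := Scheme.Hom.germ_stalkMap f ⊤ (gs.base ξ) trivial
  exact congrArg CommRingCat.Hom.hom this

end Groth.Agent.Lib.Helper19.GenFib1
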