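import Mathlib

set_option autoImplicit false
universe u
open TensorProduct KaehlerDifferential

namespace Groth.Agent.Lib.Helper19.GenInj

variable {R A B K : Type u} [CommRing R] [CommRing A] [CommRing B] [CommRing K]
  [Algebra R A] [Algebra R B] [Algebra A B] [IsScalarTower R A B]
  [Algebra R K] [Algebra A K] [Algebra B K] [IsScalarTower R A K] [IsScalarTower A B K]
  [IsScalarTower R B K]

/-- If `B → K` is injective, `Ω[A/R]` is flat and `K ⊗_A Ω[A/R] → Ω[K/R]` is injective (e.g. `A → K` formally
smooth), then `B ⊗_A Ω[A/R] → Ω[B/R]` is injective. -/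
theorem injective_mapBaseChange_of_injective [Module.Flat A Ω[A⁄R]]
    (hBK : Function.Injective (algebraMap B K))
    (hK : Function.Injective (mapBaseChange R A K)) :
    Function.Injective (mapBaseChange R A B) := by
  let ι : B →ₗ[A] K := (IsScalarTower.toAlgHom A B K).toLinearMap
  have hι : Function.Injective ι := hBK
  let ψ : B ⊗[A] Ω[A⁄R] →ₗ[A] K ⊗[A] Ω[A⁄R] := ι.rTensor Ω[A⁄R]
  have hψ : Function.Injective ψ := Module.Flat.rTensor_preserves_injective_linearMap ι hι
  have hcomm : ∀ x : B ⊗[A] Ω[A⁄R],
      mapBaseChange R A K (ψ x) = KaehlerDifferential.map R R B K (mapBaseChange R A B x) := by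
    intro x
    induction x using TensorProduct.induction_on with
    | zero => simp
    | add x y hx hy => rw [map_add, map_add, map_add, map_add, hx, hy]
    | tmul b ω =>
      change mapBaseChange R A K (algebraMap B K b ⊗ₜ ω) = _
      rw [mapBaseChange_tmul, mapBaseChange_tmul]
      have hω : ω ∈ Submodule.span A (Set.range (D R A)) := by
        rw [span_range_derivation]; trivial
      induction hω using Submodule.span_induction with
      | mem y hy =>
        obtain ⟨a, rfl⟩ := hy
        rw [map_D, map_D, map_smul, map_D, ← IsScalarTower.algebraMap_apply A B K]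
        rw [algebraMap_smul]
      | zero => simp
      | add y z _ _ hy hz => rw [map_add, smul_add, hy, map_add, smul_add, map_add, hz]
      | smul a y _ hy =>
        rw [LinearMap.map_smul (KaehlerDifferential.map R R A K) a y,
          LinearMap.map_smul (KaehlerDifferential.map R R A B) a y, smul_comm, hy, smul_comm b a]
        exact (LinearMap.map_smul_of_tower (KaehlerDifferential.map R R B K) a _).symm
  rw [injective_iff_map_eq_zero]
  intro x hx
  apply hψ
  rw [map_zero]
  apply hK
  rw [hcomm, hx, map_zero, map_zero]

end Groth.Agent.Lib.Helper19.GenInj
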