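import Groth.Agent.Lib.helper19.GenInj
import Groth.Agent.Lib.helper19.DiffApps3

set_option autoImplicit false
universe u
open CategoryTheory CategoryTheory.Limits AlgebraicGeometry Opposite TensorProduct

namespace Groth.Agent.Lib.Helper19.GenMono

open Groth.Agent.Lib.Helper19.RestrUniv Groth.Agent.Lib.Helper29 Groth.Agent.Lib.Helper29.OmegaLoc
open Groth.Agent.Lib.Helper19.DiffChart Groth.Agent.Lib.Helper19.DiffChart2
  Groth.Agent.Lib.Helper19.DiffChart3 Groth.Agent.Lib.Helper19.DiffApps3

variable {X Y S : Scheme.{u}} (g : Y ⟶ S) (h : X ⟶ S) (f : X ⟶ Y) (w : f ≫ g = h)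

/-- evaluation at a point is compatible with `appLE`. -/
theorem evaluation_appLE {W : Y.Opens} {W' : X.Opens} (hle : W' ≤ f ⁻¹ᵁ W) (x : X) (hx : x ∈ W')
    (a : Γ(Y, W)) :
    (X.evaluation W' x hx).hom ((f.appLE W W' hle).hom a) =
      (f.residueFieldMap x).hom ((Y.evaluation W (f x) (hle hx)).hom a) := by
  have h1 := Scheme.evaluation_naturality_apply f x (hle hx) a
  rw [h1]
  unfold Scheme.Hom.appLE Scheme.evaluation
  simp only [CommRingCat.hom_comp, RingHom.coe_comp, Function.comp_apply]
  congr 1
  exact (X.presheaf.germ_res_apply (homOfLE hle) x hx _)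


variable [IsIntegral X] [IsIntegral Y]

include w in
/-- the chart-level injectivity: generic separability + smoothness of `Y/S`. -/
theorem injective_mapBaseChange_of_generic (hdom : DenseRange f.base)
    (hsep : letI := (f.residueFieldMap (genericPoint X)).hom.toAlgebra
      Algebra.IsSeparable (Y.residueField (f.base (genericPoint X))) (X.residueField (genericPoint X)))
    [Smooth g] (T : TChart g f) :
    letI := alg g T.eWV
    letI := alg h (T.le g h f w)
    letI := (f.appLE T.W T.W' T.hle).hom.toAlgebra
    ∀ [IsScalarTower Γ(S, T.V) Γ(Y, T.W) Γ(X, T.W')],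
      Function.Injective (KaehlerDifferential.mapBaseChange Γ(S, T.V) Γ(Y, T.W) Γ(X, T.W')) := by
  letI algRA := alg g T.eWV
  letI algRB := alg h (T.le g h f w)
  letI algAB := (f.appLE T.W T.W' T.hle).hom.toAlgebra
  intro _
  by_cases hne : (T.W' : Set X).Nonempty
  swap
  · haveI : Subsingleton Γ(X, T.W') := by
      have hbot : T.W' = ⊥ := by
        ext x
        simp only [TopologicalSpace.Opens.coe_bot, Set.mem_empty_iff_false, iff_false]
        exact fun hx => hne ⟨x, hx⟩
      rw [hbot]
      infer_instance
    haveI : Subsingleton (Γ(X, T.W') ⊗[Γ(Y, T.W)] Ω[Γ(Y, T.W)⁄Γ(S, T.V)]) :=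
      Module.subsingleton Γ(X, T.W') _
    exact Function.injective_of_subsingleton _
  have hξ : genericPoint X ∈ T.W' := by
    rw [← SetLike.mem_coe, (genericPoint_spec X).mem_open_set_iff T.W'.isOpen]
    simpa using hne
  have hη : f (genericPoint X) ∈ T.W := T.hle hξ
  letI algBK : Algebra Γ(X, T.W') (X.residueField (genericPoint X)) :=
    (X.evaluation T.W' (genericPoint X) hξ).hom.toAlgebra
  letI algAK : Algebra Γ(Y, T.W) (X.residueField (genericPoint X)) :=
    ((X.evaluation T.W' (genericPoint X) hξ).hom.comp (f.appLE T.W T.W' T.hle).hom).toAlgebra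
  letI algRK : Algebra Γ(S, T.V) (X.residueField (genericPoint X)) :=
    ((algebraMap Γ(Y, T.W) (X.residueField (genericPoint X))).comp
      (algebraMap Γ(S, T.V) Γ(Y, T.W))).toAlgebra
  haveI : IsScalarTower Γ(Y, T.W) Γ(X, T.W') (X.residueField (genericPoint X)) :=
    IsScalarTower.of_algebraMap_eq (fun _ => rfl)
  haveI : IsScalarTower Γ(S, T.V) Γ(Y, T.W) (X.residueField (genericPoint X)) :=
    IsScalarTower.of_algebraMap_eq (fun _ => rfl)
  haveI : IsScalarTower Γ(S, T.V) Γ(X, T.W') (X.residueField (genericPoint X)) :=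
    IsScalarTower.of_algebraMap_eq (fun r => by
      show algebraMap Γ(Y, T.W) (X.residueField (genericPoint X)) (algebraMap Γ(S, T.V) Γ(Y, T.W) r) =
        algebraMap Γ(X, T.W') (X.residueField (genericPoint X)) (algebraMap Γ(S, T.V) Γ(X, T.W') r)
      rw [IsScalarTower.algebraMap_apply Γ(S, T.V) Γ(Y, T.W) Γ(X, T.W')]
      rfl)
  letI algAKY : Algebra Γ(Y, T.W) (Y.residueField (f (genericPoint X))) :=
    (Y.evaluation T.W (f (genericPoint X)) hη).hom.toAlgebra
  letI algKYK : Algebra (Y.residueField (f (genericPoint X))) (X.residueField (genericPoint X)) :=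
    (f.residueFieldMap (genericPoint X)).hom.toAlgebra
  haveI : IsScalarTower Γ(Y, T.W) (Y.residueField (f (genericPoint X)))
      (X.residueField (genericPoint X)) :=
    IsScalarTower.of_algebraMap_eq (fun a => evaluation_appLE f T.hle (genericPoint X) hξ a)
  -- `A → κ(η)` is formally smooth
  haveI : Algebra.FormallySmooth Γ(Y, T.W) (Y.residueField (f (genericPoint X))) := by
    letI : Algebra Γ(Y, T.W) (Y.presheaf.stalk (f (genericPoint X))) :=
      Y.presheaf.algebra_section_stalk ⟨f (genericPoint X), hη⟩
    haveI := T.hW.isLocalization_stalk ⟨f (genericPoint X), hη⟩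
    haveI : Algebra.FormallySmooth Γ(Y, T.W) (Y.presheaf.stalk (f (genericPoint X))) :=
      Algebra.FormallySmooth.of_isLocalization
        (T.hW.primeIdealOf ⟨f (genericPoint X), hη⟩).asIdeal.primeCompl
    have hcl : closure ({f (genericPoint X)} : Set Y) = Set.univ := by
      have h1 := (genericPoint_spec X).image f.continuous
      rw [Set.image_univ, hdom.closure_range] at h1
      exact h1
    have hfield : IsField (Y.presheaf.stalk (f (genericPoint X))) :=
      isField_stalk_of_closure_mem_irreducibleComponents Y _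
        (by rw [hcl]; simp [irreducibleComponents_eq_singleton])
    have hbij : Function.Bijective (Y.residue (f (genericPoint X))).hom := by
      refine ⟨?_, Y.residue_surjective _⟩
      letI := hfield.toField
      exact RingHom.injective _
    let e : Y.presheaf.stalk (f (genericPoint X)) ≃ₐ[Γ(Y, T.W)]
        Y.residueField (f (genericPoint X)) :=
      AlgEquiv.ofBijective ⟨(Y.residue (f (genericPoint X))).hom, fun _ => rfl⟩ hbij
    exact Algebra.FormallySmooth.of_equiv e
  haveI : Algebra.IsSeparable (Y.residueField (f (genericPoint X))) (X.residueField (genericPoint X)) :=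
    hsep
  haveI : Algebra.FormallyEtale (Y.residueField (f (genericPoint X))) (X.residueField (genericPoint X)) :=
    Algebra.FormallyEtale.of_isSeparable _ _
  haveI : Algebra.FormallySmooth Γ(Y, T.W) (X.residueField (genericPoint X)) :=
    Algebra.FormallySmooth.comp Γ(Y, T.W) (Y.residueField (f (genericPoint X))) _
  have hK : Function.Injective (KaehlerDifferential.mapBaseChange Γ(S, T.V) Γ(Y, T.W)
      (X.residueField (genericPoint X))) := by
    rw [injective_iff_map_eq_zero]
    intro x hx
    obtain ⟨x, rfl⟩ := (Algebra.H1Cotangent.exact_δ_mapBaseChange Γ(S, T.V) Γ(Y, T.W)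
      (X.residueField (genericPoint X)) x).mp hx
    rw [Subsingleton.elim x 0, map_zero]
  have hBK : Function.Injective (algebraMap Γ(X, T.W') (X.residueField (genericPoint X))) := by
    have h1 : Function.Injective (X.presheaf.germ T.W' (genericPoint X) hξ).hom :=
      germ_injective_of_isIntegral X (genericPoint X) hξ
    have h2 : Function.Injective (X.residue (genericPoint X)).hom := by
      have : Function.Injective
          ((X.residue (genericPoint X)).hom : X.functionField →+* X.residueField (genericPoint X)) :=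
        RingHom.injective _
      exact this
    exact h2.comp h1
  haveI : Module.Flat Γ(Y, T.W) Ω[Γ(Y, T.W)⁄Γ(S, T.V)] := by
    have hsm : (g.appLE T.V T.W T.eWV).hom.Smooth := g.smooth_appLE T.hV T.hW T.eWV
    haveI : Algebra.Smooth Γ(S, T.V) Γ(Y, T.W) := hsm
    infer_instance
  exact Groth.Agent.Lib.Helper19.GenInj.injective_mapBaseChange_of_injective hBK hK


variable (ΩY : Y.Modules) (dY : OmegaSh.Der g ΩY) (hY : OmegaSh.IsUniversal dY)
  (ΩX : X.Modules) (dX : OmegaSh.Der h ΩX) (hX : OmegaSh.IsUniversal dX)
  (c : (Scheme.Modules.pullback f).obj ΩY ⟶ ΩX) (hc : OmegaSh.IsDiffCompat f dY dX c)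

include hY hX hc w in
/-- S13458. -/
theorem mono_of_generic (hdom : DenseRange f.base)
    (hsep : letI := (f.residueFieldMap (genericPoint X)).hom.toAlgebra
      Algebra.IsSeparable (Y.residueField (f.base (genericPoint X))) (X.residueField (genericPoint X)))
    [Smooth g] : Mono c := by
  refine mono_of_chart_family g h f (𝟙 S) dY hY dX hX c hc
    (fun T : TChart g f => T.toChart g h f w)
    (fun x => exists_tchart_mem g f x) (fun T => ?_)
  refine chartProp_of_tower g h f w _ T ?_
  letI := alg g T.eWV
  letI := alg h (T.le g h f w)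
  letI := (f.appLE T.W T.W' T.hle).hom.toAlgebra
  intro _ L hL
  have hfun : (L : _ → _) = KaehlerDifferential.mapBaseChange Γ(S, T.V) Γ(Y, T.W) Γ(X, T.W') :=
    funext (Groth.Agent.Lib.Helper19.DiffAlg.L_eq_mapBaseChange L hL)
  rw [hfun]
  exact injective_mapBaseChange_of_generic g h f w hdom hsep T

end Groth.Agent.Lib.Helper19.GenMono
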