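import Groth.Agent.Lib.Helper22.GenericSmooth
import Groth.Agent.Lib.lead.SmoothDimSp
import Groth.Agent.Lib.lead.FibreDimFormula
import Groth.Agent.Lib.Helper24.FibreDim.Main3448

set_option autoImplicit false
universe u
open CategoryTheory CategoryTheory.Limits AlgebraicGeometry Opposite TensorProduct IsLocalRing

namespace Groth.Agent.Lib.Helper19.GenSmSrc

open Groth.Agent.Lib.lead Groth.Agent.Lib.Helper24

theorem injective_of_isField {R S : Type*} [CommRing R] [CommRing S] [Nontrivial S]
    (hR : IsField R) (f : R →+* S) : Function.Injective f := by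
  rw [injective_iff_map_eq_zero]
  intro a ha
  by_contra h
  obtain ⟨b, hb⟩ := hR.mul_inv_cancel h
  have : f (a * b) = 1 := by rw [hb, map_one]
  rw [map_mul, ha, zero_mul] at this
  exact zero_ne_one this

/-- transcendence degree of a tower of rings with surjective residue maps. -/
theorem trdeg_eq_of_square {R T κR κT : Type u} [CommRing R] [CommRing T] [Field κR] [Field κT]
    [Algebra R T] [Algebra R κR] [Algebra T κT] [Algebra κR κT] [Algebra R κT]
    [IsScalarTower R T κT] [IsScalarTower R κR κT]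
    (hR : IsField R) (hT : IsField T)
    (hsR : Function.Surjective (algebraMap R κR)) (hsT : Function.Surjective (algebraMap T κT)) :
    Algebra.trdeg R T = Algebra.trdeg κR κT := by
  haveI : Nontrivial R := hR.nontrivial
  haveI : Nontrivial T := hT.nontrivial
  haveI : FaithfulSMul R T :=
    (faithfulSMul_iff_algebraMap_injective R T).2 (injective_of_isField hR _)
  haveI : FaithfulSMul T κT :=
    (faithfulSMul_iff_algebraMap_injective T κT).2 (injective_of_isField hT _)
  haveI : FaithfulSMul R κR :=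
    (faithfulSMul_iff_algebraMap_injective R κR).2 (injective_of_isField hR _)
  haveI : FaithfulSMul κR κT :=
    (faithfulSMul_iff_algebraMap_injective κR κT).2 (algebraMap κR κT).injective
  haveI : NoZeroDivisors T := by
    letI := hT.toField
    infer_instance
  haveI : Algebra.IsAlgebraic T κT := ⟨fun z => by
    obtain ⟨r, rfl⟩ := hsT z
    exact isAlgebraic_algebraMap r⟩
  haveI : Algebra.IsAlgebraic R κR := ⟨fun z => by
    obtain ⟨r, rfl⟩ := hsR z
    exact isAlgebraic_algebraMap r⟩
  have h1 := trdeg_add_eq R T (A := κT)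
  have h2 := trdeg_add_eq R κR (A := κT)
  rw [trdeg_eq_zero (R := T) (A := κT), add_zero] at h1
  rw [trdeg_eq_zero (R := R) (A := κR), zero_add] at h2
  rw [h1, h2]

theorem main (X Y : Scheme.{u}) [IsIntegral X] [IsIntegral Y] [IsNoetherian X] [IsNoetherian Y]
    (π : X ⟶ Y) [LocallyOfFiniteType π]
    (hdom : π.base (genericPoint X) = genericPoint Y) [CharZero Y.functionField]
    (n : ℕ) (hn : @Algebra.trdeg (Y.presheaf.stalk (π.base (genericPoint X))) X.functionField _ _
      (π.stalkMap (genericPoint X)).hom.toAlgebra = n) :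
    ∃ U : X.Opens, (U : Set X).Nonempty ∧ SmoothOfRelativeDimension n (U.ι ≫ π) := by
  haveI : LocallyOfFinitePresentation π :=
    LocallyOfFinitePresentation.iff_locallyOfFiniteType.2 inferInstance
  haveI : PerfectField Y.functionField := inferInstance
  set ξ := genericPoint X with hξ
  have hregξ : IsRegularLocalRing (X.presheaf.stalk ξ) :=
    (inferInstance : IsRegularLocalRing X.functionField)
  have h2 : ξ ∈ π.smoothLocus :=
    Groth.Agent.Lib.Helper22.GenericSmooth.mem_smoothLocus_of_regular π ξ hdom hregξ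
  -- fibre dimension at the generic point
  have hG : FibreOrder.G π ξ = ((0 : ℕ) : ℕ∞) := by
    unfold FibreOrder.G
    rw [Nat.cast_zero, Order.coheight_eq_zero]
    intro b _
    show b.1 ≤ ξ
    rw [Scheme.le_iff_specializes]
    exact (genericPoint_spec X).specializes trivial
  have hfd : FlatMor.fibreDimAt π ξ = (n : WithBot ℕ∞) := by
    rw [FibreDimFormula.fibreDimAt_eq π ξ 0 hG, add_zero]
    have h3 := FibreDim.tr_spec π ξ
    have hRf : IsField (Y.presheaf.stalk (π ξ)) := by
      rw [hdom]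
      exact isField_stalk_of_closure_mem_irreducibleComponents Y _
        (by simp [irreducibleComponents_eq_singleton])
    have hTf : IsField (X.presheaf.stalk ξ) := Field.toIsField X.functionField
    letI a1 : Algebra (Y.presheaf.stalk (π ξ)) (X.presheaf.stalk ξ) := (π.stalkMap ξ).hom.toAlgebra
    letI a2 : Algebra (Y.presheaf.stalk (π ξ)) (Y.residueField (π ξ)) :=
      (Y.residue (π ξ)).hom.toAlgebra
    letI a3 : Algebra (X.presheaf.stalk ξ) (X.residueField ξ) := (X.residue ξ).hom.toAlgebra
    letI a4 : Algebra (Y.residueField (π ξ)) (X.residueField ξ) :=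
      (π.residueFieldMap ξ).hom.toAlgebra
    letI a5 : Algebra (Y.presheaf.stalk (π ξ)) (X.residueField ξ) :=
      ((π.stalkMap ξ) ≫ X.residue ξ).hom.toAlgebra
    haveI t1 : IsScalarTower (Y.presheaf.stalk (π ξ)) (X.presheaf.stalk ξ) (X.residueField ξ) :=
      IsScalarTower.of_algebraMap_eq (fun c => rfl)
    haveI t2 : IsScalarTower (Y.presheaf.stalk (π ξ)) (Y.residueField (π ξ)) (X.residueField ξ) :=
      IsScalarTower.of_algebraMap_eq (fun c => by
        have := congrArg (fun g => CommRingCat.Hom.hom g c) (Scheme.residue_residueFieldMap π ξ)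
        exact this.symm)
    have key := trdeg_eq_of_square (R := Y.presheaf.stalk (π ξ)) (T := X.presheaf.stalk ξ)
      (κR := Y.residueField (π ξ)) (κT := X.residueField ξ) hRf hTf
      (Y.residue_surjective (π ξ)) (X.residue_surjective ξ)
    have h4 : (FibreDim.tr π ξ : Cardinal) = (n : Cardinal) := by
      rw [← h3, ← key]
      exact hn
    have h5 : FibreDim.tr π ξ = n := by exact_mod_cast h4
    rw [h5]
  refine ⟨π.smoothLocus, ⟨ξ, h2⟩, ?_⟩
  set U := π.smoothLocus with hU
  haveI hsm : Smooth (U.ι ≫ π) := by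
    rw [← Scheme.Hom.smoothLocus_eq_top_iff, ← Scheme.Hom.preimage_smoothLocus_eq]
    ext w
    simp only [TopologicalSpace.Opens.coe_top, Set.mem_univ, iff_true]
    exact w.2
  refine ⟨fun x => ?_⟩
  obtain ⟨V', hV', W, hW, hxW, e, hφ⟩ := Smooth.exists_isStandardSmooth (U.ι ≫ π) x
  obtain ⟨m, hm⟩ : ∃ m, ((U.ι ≫ π).appLE V' W e).hom.IsStandardSmoothOfRelativeDimension m := by
    obtain ⟨ι, σ, hσ, hι, ⟨P⟩⟩ := hφ
    letI := ((U.ι ≫ π).appLE V' W e).hom.toAlgebra
    exact ⟨P.dimension, ⟨ι, σ, hσ, hι, P, rfl⟩⟩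
  let ξU : U.toScheme := ⟨ξ, h2⟩
  have hξW : ξU ∈ W := by
    have hsp : ξU ⤳ x := by
      rw [← U.ι.isOpenEmbedding.isInducing.specializes_iff]
      exact (genericPoint_spec X).specializes trivial
    exact hsp.mem_open W.isOpen hxW
  have hfdU : FlatMor.fibreDimAt (U.ι ≫ π) ξU = (m : WithBot ℕ∞) := by
    haveI : LocallyOfFiniteType (U.ι ≫ π) := inferInstance
    have hxr : ξU ∈ Set.range hW.fromSpec := by rw [hW.range_fromSpec]; exact hξW
    obtain ⟨w, hw⟩ := hxr
    rw [← hw]
    have comm := IsAffineOpen.SpecMap_appLE_fromSpec (U.ι ≫ π) hV' hW e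
    have hfp : ((U.ι ≫ π).appLE V' W e).hom.FinitePresentation :=
      HasRingHomProperty.appLE (P := @LocallyOfFinitePresentation) (U.ι ≫ π) inferInstance
        ⟨V', hV'⟩ ⟨W, hW⟩ e
    haveI : LocallyOfFiniteType (Spec.map ((U.ι ≫ π).appLE V' W e)) := by
      rw [HasRingHomProperty.Spec_iff (P := @LocallyOfFiniteType)]
      exact RingHom.FiniteType.of_finitePresentation hfp
    rw [Groth.Agent.Lib.Helper18.Chev.fibreDimAt_eq_of_openImmersion_square _ hV'.fromSpec
      hW.fromSpec (U.ι ≫ π) comm w]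
    exact SmoothRelDim.fibreDimAt_of_isStandardSmoothOfRelativeDimension
      ((U.ι ≫ π).appLE V' W e).hom m hm w
  have hcomp : FlatMor.fibreDimAt π (U.ι ξU) = FlatMor.fibreDimAt (U.ι ≫ π) ξU := by
    have comm : (U.ι ≫ π) ≫ 𝟙 Y = U.ι ≫ π := Category.comp_id _
    exact Groth.Agent.Lib.Helper18.Chev.fibreDimAt_eq_of_openImmersion_square (U.ι ≫ π) (𝟙 Y)
      U.ι π comm ξU
  have hιξ : U.ι ξU = ξ := rfl
  rw [hιξ, hfd, hfdU] at hcomp
  have hmn : n = m := by exact_mod_cast hcomp
  subst hmn
  exact ⟨V', hV', W, hW, hxW, e, hm⟩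

end Groth.Agent.Lib.Helper19.GenSmSrc
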