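import Mathlib
import Groth.Prelude.Def_StCurv2

set_option autoImplicit false
set_option linter.style.haveILetI false
universe u

namespace Groth.Agent.Lib.Helper19.GeomFib1

open CategoryTheory CategoryTheory.Limits AlgebraicGeometry IsLocalRing TopologicalSpace

variable (S : Scheme.{u}) (k : Type u) [Field k] (t : Spec (CommRingCat.of k) ⟶ S)
  (X : Scheme.{u}) (p : X ⟶ Spec (CommRingCat.of k))

/-- unfolding `GeomFib` for the family of a scheme over a field: scheme-level pullback squares. -/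
theorem geomFib_iff
    (P : ∀ (Ω : Type u) [Field Ω] [IsAlgClosed Ω] (X' : Scheme.{u}),
      (X' ⟶ Spec (CommRingCat.of Ω)) → Prop) :
    CurvSt.GeomFib (fun Ω _ _ X' q _ => P Ω X' q)
      ((CurvSt.toSpFam S 0).obj ⟨Over.mk t, X, p, Fin.elim0, fun i => i.elim0⟩) ↔
    ∀ (Ω : Type u) [Field Ω] [IsAlgClosed Ω] (t' : Spec (CommRingCat.of Ω) ⟶ Spec (CommRingCat.of k))
      (X' : Scheme.{u}) (q : X' ⟶ Spec (CommRingCat.of Ω)) (i' : X' ⟶ X),
      IsPullback i' q p t' → P Ω X' q := by
  constructor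
  · intro h Ω _ _ t' X' q i' sq
    let A : CurvSt.SpFamObj S 0 :=
      (CurvSt.toSpFam S 0).obj ⟨Over.mk t, X, p, Fin.elim0, fun i => i.elim0⟩
    let iO : A.ptOver (q ≫ t') ⟶ Over.mk (p ≫ t) :=
      Over.homMk i' (by
        change i' ≫ p ≫ t = (q ≫ t') ≫ t
        rw [← Category.assoc, sq.w])
    have hO : IsPullback iO (A.fibHom t' q) (Over.homMk p rfl : Over.mk (p ≫ t) ⟶ Over.mk t)
        (A.ptHom t') :=
      IsPullback.of_map (Over.forget S) (Over.OverMorphism.ext sq.w) sq
    exact h Ω t' X' q ((AlgSp.yon S).map iO) (hO.map (AlgSp.yon S))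
  · intro h Ω _ _ t' X' q i hP
    let A : CurvSt.SpFamObj S 0 :=
      (CurvSt.toSpFam S 0).obj ⟨Over.mk t, X, p, Fin.elim0, fun i => i.elim0⟩
    let iO : A.ptOver (q ≫ t') ⟶ Over.mk (p ≫ t) := (AlgSp.yon S).preimage i
    have hiO : (AlgSp.yon S).map iO = i := (AlgSp.yon S).map_preimage _
    have hO : IsPullback iO (A.fibHom t' q) (Over.homMk p rfl : Over.mk (p ≫ t) ⟶ Over.mk t)
        (A.ptHom t') := by
      refine IsPullback.of_map (AlgSp.yon S) ?_ ?_
      · apply (AlgSp.yon S).map_injective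
        rw [Functor.map_comp, Functor.map_comp, hiO]
        exact hP.w
      · rw [hiO]; exact hP
    exact h Ω t' X' q iO.left (hO.map (Over.forget S))

end Groth.Agent.Lib.Helper19.GeomFib1
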