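import Mathlib
import Groth.Prelude.Def_StCurv2
import Groth.Agent.Lib.helper19.GeomFib1
import Groth.Agent.Lib.Helper3.AlgSpChartSurj

set_option autoImplicit false
set_option linter.style.haveILetI false
universe u

namespace Groth.Agent.Lib.Helper19.GeomFib2

open CategoryTheory CategoryTheory.Limits AlgebraicGeometry IsLocalRing TopologicalSpace

theorem flat_surjective_spec_field (K L : Type u) [Field K] [Field L] [Algebra K L] :
    Flat (Spec.map (CommRingCat.ofHom (algebraMap K L))) ∧
      Surjective (Spec.map (CommRingCat.ofHom (algebraMap K L))) := by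
  constructor
  · rw [HasRingHomProperty.Spec_iff (P := @Flat)]
    rw [CommRingCat.hom_ofHom, RingHom.flat_algebraMap_iff]
    infer_instance
  · constructor
    intro x
    refine ⟨⟨⊥, Ideal.isPrime_bot⟩, ?_⟩
    apply PrimeSpectrum.ext
    have hx : x.asIdeal = ⊥ := by
      have := x.isPrime
      exact (Ideal.eq_bot_or_top x.asIdeal).resolve_right this.ne_top
    rw [hx]
    change Ideal.comap (algebraMap K L) ⊥ = ⊥
    exact (Ideal.comap_bot_of_injective _ (algebraMap K L).injective)

variable {X : Scheme.{u}} (k : Type u) [Field k] (p : X ⟶ Spec (CommRingCat.of k))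

theorem reduced_iff :
    (∀ (Ω : Type u) [Field Ω] [IsAlgClosed Ω]
      (t' : Spec (CommRingCat.of Ω) ⟶ Spec (CommRingCat.of k))
      (X' : Scheme.{u}) (q : X' ⟶ Spec (CommRingCat.of Ω)) (i' : X' ⟶ X),
      IsPullback i' q p t' → IsReduced X') ↔ GeometricallyReduced p := by
  constructor
  · intro h
    constructor
    intro K _ y Z fst snd sq
    let φ := Spec.map (CommRingCat.ofHom (algebraMap K (AlgebraicClosure K)))
    obtain ⟨hφ1, hφ2⟩ := flat_surjective_spec_field K (AlgebraicClosure K)
    have sq2 : IsPullback (pullback.fst snd φ) (pullback.snd snd φ) snd φ :=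
      IsPullback.of_hasPullback snd φ
    have sq3 : IsPullback (pullback.fst snd φ ≫ fst) (pullback.snd snd φ) p (φ ≫ y) :=
      sq2.paste_horiz sq
    haveI : IsReduced (pullback snd φ) := h (AlgebraicClosure K) (φ ≫ y) _ _ _ sq3
    haveI : Flat (pullback.fst snd φ) := MorphismProperty.pullback_fst _ _ hφ1
    haveI : Surjective (pullback.fst snd φ) := MorphismProperty.pullback_fst _ _ hφ2
    exact Groth.Agent.Lib.Helper3.isReduced_of_flat_surjective (pullback.fst snd φ)
  · intro h Ω _ _ t' X' q i' sq
    exact GeometricallyReduced.geometrically_isReduced t' i' q sq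

end Groth.Agent.Lib.Helper19.GeomFib2
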