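import Mathlib
import Groth.Prelude.Def_StCurv2
import Groth.Agent.Lib.helper19.GeomFib2
import Groth.Agent.S2155
import Groth.Agent.S2793

set_option autoImplicit false
set_option linter.style.haveILetI false
universe u

namespace Groth.Agent.Lib.Helper19.GeomFib3

open CategoryTheory CategoryTheory.Limits AlgebraicGeometry IsLocalRing TopologicalSpace

/-- the non-smooth locus, in the form of the statements. -/
def nonsm {X Y : Scheme.{u}} (g : X ⟶ Y) : Set X :=
  {x | ¬ ∃ U : X.Opens, x ∈ U ∧ Smooth (U.ι ≫ g)}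

theorem nonsm_eq {X Y : Scheme.{u}} (g : X ⟶ Y) [LocallyOfFinitePresentation g] :
    nonsm g = ((g.smoothLocus : Set X))ᶜ := by
  ext x
  simp only [nonsm, Set.mem_setOf_eq, Set.mem_compl_iff, SetLike.mem_coe]
  rw [Groth.Agent.S2793.nhd_smooth_iff g x, ← Scheme.Hom.mem_smoothLocus]

theorem isClosed_nonsm {X Y : Scheme.{u}} (g : X ⟶ Y) [LocallyOfFinitePresentation g] :
    IsClosed (nonsm g) := by
  rw [nonsm_eq]
  exact g.smoothLocus.2.isClosed_compl

theorem nonsm_pullback {X S X' S' : Scheme.{u}} (p : X ⟶ S) (t' : S' ⟶ S) (q : X' ⟶ S')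
    (i' : X' ⟶ X) (sq : IsPullback i' q p t') [LocallyOfFinitePresentation p] [Flat p] :
    nonsm q = i' ⁻¹' nonsm p := by
  haveI : LocallyOfFinitePresentation q := MorphismProperty.of_isPullback sq inferInstance
  rw [nonsm_eq, nonsm_eq, Groth.Agent.S2155.result p t' q i' sq (Or.inl inferInstance)]
  rfl

theorem isClosed_singleton_of_finite_closed {X : Type*} [TopologicalSpace X] [JacobsonSpace X]
    (Z : Set X) (hfin : Z.Finite) (hcl : IsClosed Z) (x : X) (hx : x ∈ Z) :
    IsClosed ({x} : Set X) := by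
  set T := closure {x} ∩ closedPoints X with hT
  have hsub : closure {x} ⊆ Z := hcl.closure_subset_iff.mpr (Set.singleton_subset_iff.mpr hx)
  have hTfin : T.Finite := hfin.subset (Set.inter_subset_left.trans hsub)
  have hTcl : IsClosed T := by
    have : T = ⋃ y ∈ T, {y} := by ext; simp
    rw [this]
    exact hTfin.isClosed_biUnion (fun y hy => hy.2)
  have h1 : closure T = closure {x} :=
    JacobsonSpace.closure_inter_closedPoints isClosed_closure
  rw [hTcl.closure_eq] at h1
  have h2 : x ∈ T := by rw [h1]; exact subset_closure rfl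
  exact h2.2

theorem finite_fibre (k Ω : Type u) [Field k] [Field Ω] {X X' : Scheme.{u}}
    (p : X ⟶ Spec (CommRingCat.of k)) [LocallyOfFiniteType p]
    (t' : Spec (CommRingCat.of Ω) ⟶ Spec (CommRingCat.of k))
    (q : X' ⟶ Spec (CommRingCat.of Ω)) (i' : X' ⟶ X) (sq : IsPullback i' q p t')
    (x : X) (hx : IsClosed ({x} : Set X)) : (i' ⁻¹' {x}).Finite := by
  haveI : JacobsonSpace X := LocallyOfFiniteType.jacobsonSpace p
  have hfin : IsFinite (X.fromSpecResidueField x ≫ p) := by
    rw [isClosed_singleton_iff_isClosedImmersion] at hx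
    rw [isFinite_iff_locallyOfFiniteType_of_jacobsonSpace]
    infer_instance
  have sq1 : IsPullback (i'.fiberι x) (i'.fiberToSpecResidueField x) i'
      (X.fromSpecResidueField x) := IsPullback.of_hasPullback _ _
  have sq2 : IsPullback (i'.fiberToSpecResidueField x) (i'.fiberι x ≫ q)
      (X.fromSpecResidueField x ≫ p) t' := sq1.flip.paste_vert sq
  haveI : IsFinite (i'.fiberι x ≫ q) := MorphismProperty.of_isPullback sq2 hfin
  have h1 : ((i'.fiberι x ≫ q) ⁻¹' {IsLocalRing.closedPoint Ω}).Finite :=
    Scheme.Hom.finite_preimage_singleton _ _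
  have h2 : (Set.univ : Set (i'.fiber x)).Finite := by
    refine h1.subset ?_
    intro z _
    exact Subsingleton.elim _ _
  rw [← Scheme.Hom.range_fiberι, ← Set.image_univ]
  exact h2.image _

end Groth.Agent.Lib.Helper19.GeomFib3

namespace Groth.Agent.Lib.Helper19.GeomFib3

open CategoryTheory CategoryTheory.Limits AlgebraicGeometry IsLocalRing TopologicalSpace

theorem finite_iff (k : Type u) [Field k] {X : Scheme.{u}} (p : X ⟶ Spec (CommRingCat.of k))
    [LocallyOfFiniteType p] :
    (∀ (Ω : Type u) [Field Ω] [IsAlgClosed Ω]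
      (t' : Spec (CommRingCat.of Ω) ⟶ Spec (CommRingCat.of k))
      (X' : Scheme.{u}) (q : X' ⟶ Spec (CommRingCat.of Ω)) (i' : X' ⟶ X),
      IsPullback i' q p t' → (nonsm q).Finite) ↔ (nonsm p).Finite := by
  haveI : LocallyOfFinitePresentation p :=
    LocallyOfFinitePresentation.iff_locallyOfFiniteType.mpr inferInstance
  haveI : Flat p := inferInstance
  haveI : JacobsonSpace X := LocallyOfFiniteType.jacobsonSpace p
  constructor
  · intro h
    let φ := Spec.map (CommRingCat.ofHom (algebraMap k (AlgebraicClosure k)))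
    obtain ⟨hφ1, hφ2⟩ := GeomFib2.flat_surjective_spec_field k (AlgebraicClosure k)
    have sq : IsPullback (pullback.fst p φ) (pullback.snd p φ) p φ := IsPullback.of_hasPullback p φ
    have h1 := h (AlgebraicClosure k) φ _ _ _ sq
    haveI : Surjective (pullback.fst p φ) := MorphismProperty.pullback_fst _ _ hφ2
    rw [nonsm_pullback p φ _ _ sq] at h1
    have h2 : nonsm p = (pullback.fst p φ) '' ((pullback.fst p φ) ⁻¹' nonsm p) :=
      (Set.image_preimage_eq _ (pullback.fst p φ).surjective).symm
    rw [h2]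
    exact h1.image _
  · intro h Ω _ _ t' X' q i' sq
    rw [nonsm_pullback p t' q i' sq]
    exact h.preimage' (fun x hx => finite_fibre k Ω p t' q i' sq x
      (isClosed_singleton_of_finite_closed _ h (isClosed_nonsm p) x hx))

end Groth.Agent.Lib.Helper19.GeomFib3
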