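import Mathlib
import Groth.Agent.Lib.helper19.GeomFib1
import Groth.Agent.Lib.helper19.GeomFib2
import Groth.Agent.Lib.lead.FibreDimBC

set_option autoImplicit false
set_option linter.style.haveILetI false
universe u

namespace Groth.Agent.Lib.Helper19.GeomFib4

open CategoryTheory CategoryTheory.Limits AlgebraicGeometry IsLocalRing TopologicalSpace

variable {X : Scheme.{u}} (k : Type u) [Field k] (p : X ⟶ Spec (CommRingCat.of k))

theorem connected_iff :
    (∀ (Ω : Type u) [Field Ω] [IsAlgClosed Ω]
      (t' : Spec (CommRingCat.of Ω) ⟶ Spec (CommRingCat.of k))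
      (X' : Scheme.{u}) (q : X' ⟶ Spec (CommRingCat.of Ω)) (i' : X' ⟶ X),
      IsPullback i' q p t' → ConnectedSpace X') ↔ GeometricallyConnected p := by
  constructor
  · intro h
    constructor
    intro K _ y Z fst snd sq
    let φ := Spec.map (CommRingCat.ofHom (algebraMap K (AlgebraicClosure K)))
    obtain ⟨hφ1, hφ2⟩ := Groth.Agent.Lib.Helper19.GeomFib2.flat_surjective_spec_field K
      (AlgebraicClosure K)
    have sq2 : IsPullback (pullback.fst snd φ) (pullback.snd snd φ) snd φ :=
      IsPullback.of_hasPullback snd φ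
    have sq3 : IsPullback (pullback.fst snd φ ≫ fst) (pullback.snd snd φ) p (φ ≫ y) :=
      sq2.paste_horiz sq
    haveI : ConnectedSpace ↥(pullback snd φ) := h (AlgebraicClosure K) (φ ≫ y) _ _ _ sq3
    haveI : Surjective (pullback.fst snd φ) := MorphismProperty.pullback_fst _ _ hφ2
    have hsurj : Function.Surjective (pullback.fst snd φ).base := (pullback.fst snd φ).surjective
    have hconn : _root_.IsConnected (Set.univ : Set ↥Z) := by
      rw [← hsurj.range_eq, ← Set.image_univ]
      exact (isConnected_univ).image _ (pullback.fst snd φ).continuous.continuousOn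
    exact connectedSpace_iff_univ.2 hconn
  · intro h Ω _ _ t' X' q i' sq
    exact GeometricallyConnected.geometrically_connectedSpace t' i' q sq

theorem dim_iff [LocallyOfFiniteType p] (n : ℕ) :
    (∀ (Ω : Type u) [Field Ω] [IsAlgClosed Ω]
      (t' : Spec (CommRingCat.of Ω) ⟶ Spec (CommRingCat.of k))
      (X' : Scheme.{u}) (q : X' ⟶ Spec (CommRingCat.of Ω)) (i' : X' ⟶ X),
      IsPullback i' q p t' → topologicalKrullDim ↥X' = n) ↔ topologicalKrullDim ↥X = n := by
  have key : ∀ (Ω : Type u) [Field Ω]
      (t' : Spec (CommRingCat.of Ω) ⟶ Spec (CommRingCat.of k))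
      (X' : Scheme.{u}) (q : X' ⟶ Spec (CommRingCat.of Ω)) (i' : X' ⟶ X),
      IsPullback i' q p t' → topologicalKrullDim ↥X' = topologicalKrullDim ↥X := by
    intro Ω _ t' X' q i' sq
    have ht' : t' = Spec.map (Spec.preimage t') := (Spec.map_preimage t').symm
    rw [ht'] at sq
    exact Groth.Agent.Lib.lead.FibreDimBC.dim_pullback_field (K := CommRingCat.of k)
      (L := CommRingCat.of Ω) (Field.toIsField k) (Field.toIsField Ω) p (Spec.preimage t') i' q sq
  constructor
  · intro h
    let φ := Spec.map (CommRingCat.ofHom (algebraMap k (AlgebraicClosure k)))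
    have sq : IsPullback (pullback.fst p φ) (pullback.snd p φ) p φ := IsPullback.of_hasPullback p φ
    rw [← key (AlgebraicClosure k) φ _ _ _ sq]
    exact h (AlgebraicClosure k) φ _ _ _ sq
  · intro h Ω _ _ t' X' q i' sq
    rw [key Ω t' X' q i' sq]
    exact h

end Groth.Agent.Lib.Helper19.GeomFib4
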