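import Mathlib
import Groth.Agent.Lib.helper19.DualEpi

set_option autoImplicit false
universe u

open CategoryTheory AlgebraicGeometry TopologicalSpace Opposite

namespace Groth.Agent.Lib.helper19.QuotMor

variable {U V W : Scheme.{u}} (h : U ⟶ V) [IsIso h.c]

instance isIso_app (V' : V.Opens) : IsIso (h.app V') := by
  show IsIso (h.c.app (op V'))
  infer_instance

theorem eq_of_comp_eq (hs : Function.Surjective h.base) (v₁ v₂ : V ⟶ W) (e : h ≫ v₁ = h ≫ v₂) :
    v₁ = v₂ := by
  haveI : Epi h := Groth.Agent.Lib.helper19.DualEpi.epi_of_surjective_of_app_injective h hs (fun V' =>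
    (ConcreteCategory.bijective_of_isIso (h.app V')).1)
  exact (cancel_epi h).1 e

variable (u : U ⟶ W) (b : (V : TopCat) ⟶ (W : TopCat)) (hb : h.base ≫ b = u.base)

include hb in
theorem preimage_eq (T : W.Opens) : h ⁻¹ᵁ ((Opens.map b).obj T) = u ⁻¹ᵁ T := by
  ext x
  have : b (h.base x) = u.base x := by
    rw [← hb]; rfl
  show b (h.base x) ∈ T ↔ u.base x ∈ T
  rw [this]

/-- the sheaf map of the descended morphism -/
noncomputable def cmap : W.presheaf ⟶ b _* V.presheaf where
  app T := u.app T.unop ≫ U.presheaf.map (eqToHom (preimage_eq h u b hb T.unop)).op ≫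
    inv (h.app ((Opens.map b).obj T.unop))
  naturality T₁ T₂ i := by
    have h1 := u.naturality i
    have h2 := h.naturality ((Opens.map b).op.map i)
    rw [← cancel_mono (h.app ((Opens.map b).obj T₂.unop))]
    have h3 : ((TopCat.Presheaf.pushforward CommRingCat b).obj V.presheaf).map i =
      V.presheaf.map ((Opens.map b).op.map i) := rfl
    simp only [Category.assoc, IsIso.inv_hom_id, Category.comp_id]
    rw [h3, h2, IsIso.inv_hom_id_assoc, reassoc_of% h1, ← Functor.map_comp, ← Functor.map_comp]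
    rfl

/-- the descended morphism of presheafed spaces -/
noncomputable def vpsh : V.toPresheafedSpace ⟶ W.toPresheafedSpace where
  base := b
  c := cmap h u b hb

theorem fac_psh : (h.toLRSHom.toHom : U.toPresheafedSpace ⟶ V.toPresheafedSpace) ≫ vpsh h u b hb =
    (u.toLRSHom.toHom : U.toPresheafedSpace ⟶ W.toPresheafedSpace) := by
  refine PresheafedSpace.ext _ _ hb ?_
  apply NatTrans.ext
  funext T
  rw [NatTrans.comp_app, PresheafedSpace.comp_c_app, Functor.whiskerRight_app, eqToHom_app, eqToHom_map]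
  change (u.app T.unop ≫ U.presheaf.map (eqToHom (preimage_eq h u b hb T.unop)).op ≫
    inv (h.app ((Opens.map b).obj T.unop))) ≫ h.app ((Opens.map b).obj T.unop) ≫ eqToHom _ = u.app T.unop
  simp only [Category.assoc, IsIso.inv_hom_id_assoc, eqToHom_op, eqToHom_map, eqToHom_trans, eqToHom_refl,
    Category.comp_id]

theorem isLocalHom_of_comp_eq {A B C : CommRingCat.{u}} (f : A ⟶ B) (g : B ⟶ C) (k : A ⟶ C) (e : f ≫ g = k)
    (hk : IsLocalHom k.hom) : IsLocalHom f.hom := by
  subst e
  rw [CommRingCat.hom_comp] at hk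
  exact isLocalHom_of_comp _ g.hom

theorem isLocalHom_eqToHom_comp {A A' C : CommRingCat.{u}} (p : A = A') (q : A' ⟶ C)
    (hq : IsLocalHom q.hom) : IsLocalHom (eqToHom p ≫ q).hom := by
  subst p
  simpa using hq

theorem isLocalHom_vpsh (hs : Function.Surjective h.base) (x : V) :
    IsLocalHom ((vpsh h u b hb).stalkMap x).hom := by
  obtain ⟨y, rfl⟩ := hs x
  have h1 := PresheafedSpace.stalkMap.comp
    (h.toLRSHom.toHom : U.toPresheafedSpace ⟶ V.toPresheafedSpace) (vpsh h u b hb) y
  have h2 := PresheafedSpace.stalkMap.congr_hom _ _ (fac_psh h u b hb) y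
  rw [h1] at h2
  refine isLocalHom_of_comp_eq _ _ _ h2 ?_
  exact isLocalHom_eqToHom_comp _ _ (LocallyRingedSpace.isLocalHomStalkMap' _ y)

/-- the descended morphism of schemes -/
noncomputable def desc (hs : Function.Surjective h.base) : V ⟶ W :=
  Scheme.Hom.mk ⟨vpsh h u b hb, isLocalHom_vpsh h u b hb hs⟩

theorem fac (hs : Function.Surjective h.base) : h ≫ desc h u b hb hs = u := by
  apply Scheme.Hom.ext'
  apply LocallyRingedSpace.Hom.ext'
  exact fac_psh h u b hb

theorem main (h : U ⟶ V) [Surjective h] [IsIso h.c] (hq : Topology.IsQuotientMap h.base) (W : Scheme.{u}) :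
    (∀ v₁ v₂ : V ⟶ W, h ≫ v₁ = h ≫ v₂ → v₁ = v₂) ∧
      ∀ u : U ⟶ W, (∀ x y : U, h.base x = h.base y → u.base x = u.base y) → ∃ v : V ⟶ W, h ≫ v = u := by
  refine ⟨fun v₁ v₂ e => eq_of_comp_eq h h.surjective v₁ v₂ e, fun u hu => ?_⟩
  let g : V → W := fun x => u.base (Function.surjInv h.surjective x)
  have hg : ∀ y, g (h.base y) = u.base y := fun y => hu _ _ (Function.surjInv_eq h.surjective (h.base y))
  have hc : Continuous g := by
    rw [hq.continuous_iff]
    have : g ∘ h.base = u.base := funext hg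
    rw [this]
    exact u.continuous
  let b : (V : TopCat) ⟶ (W : TopCat) := TopCat.ofHom ⟨g, hc⟩
  have hb : h.base ≫ b = u.base := by
    ext y
    exact hg y
  exact ⟨desc h u b hb h.surjective, fac h u b hb h.surjective⟩

end Groth.Agent.Lib.helper19.QuotMor
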