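import Mathlib

set_option autoImplicit false
universe u v

open CategoryTheory TopologicalSpace Opposite AlgebraicGeometry Topology

namespace Groth.Agent.Lib.helper19.RSQuot

variable {X Y Z : PresheafedSpace CommRingCat.{u}} (π : X ⟶ Y)

theorem comp_map_eqToHom_self {A : CommRingCat.{u}} {W : (Opens X)ᵒᵖ} (g : A ⟶ X.presheaf.obj W)
    (p : W = W) : g ≫ X.presheaf.map (eqToHom p) = g := by
  simp

theorem eq_of_comp_eq (hs : Function.Surjective π.base)
    (hinj : ∀ V : Opens Y, Function.Injective (π.c.app (op V))) (β₁ β₂ : Y ⟶ Z)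
    (e : π ≫ β₁ = π ≫ β₂) : β₁ = β₂ := by
  have hb : β₁.base = β₂.base := by
    have h1 : π.base ≫ β₁.base = π.base ≫ β₂.base := congrArg PresheafedSpace.Hom.base e
    have : Epi π.base := (TopCat.epi_iff_surjective _).2 hs
    exact (cancel_epi π.base).1 h1
  obtain ⟨b₁, c₁⟩ := β₁
  obtain ⟨b₂, c₂⟩ := β₂
  have hb' : b₁ = b₂ := hb
  subst hb'
  have hc : c₁ = c₂ := by
    apply NatTrans.ext
    funext T
    have : Mono (π.c.app (op ((Opens.map b₁).obj T.unop))) :=
      ConcreteCategory.mono_of_injective _ (hinj _)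
    have h2 := PresheafedSpace.congr_app e T
    rw [PresheafedSpace.comp_c_app, PresheafedSpace.comp_c_app] at h2
    have h3 : c₁.app T ≫ π.c.app (op ((Opens.map b₁).obj T.unop)) =
        c₂.app T ≫ π.c.app (op ((Opens.map b₁).obj T.unop)) := by
      exact h2.trans (comp_map_eqToHom_self _ _)
    exact (cancel_mono _).1 h3
  rw [hc]

theorem exists_lift_of_injective {R S P : CommRingCat.{u}} (j : S ⟶ P) (hj : Function.Injective j.hom)
    (F : R ⟶ P) (hF : ∀ r, F.hom r ∈ Set.range j.hom) : ∃ G : R ⟶ S, G ≫ j = F := by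
  choose σ hσ using hF
  refine ⟨CommRingCat.ofHom
    { toFun := σ
      map_one' := hj (by rw [hσ, map_one, map_one])
      map_mul' := fun x y => hj (by rw [hσ, map_mul, map_mul, hσ, hσ])
      map_zero' := hj (by rw [hσ, map_zero, map_zero])
      map_add' := fun x y => hj (by rw [hσ, map_add, map_add, hσ, hσ]) }, ?_⟩
  ext r
  exact hσ r

variable (f : X ⟶ Z) (b : (Y : TopCat) ⟶ (Z : TopCat)) (hb : π.base ≫ b = f.base)

include hb in
theorem preimage_eq (T : Opens Z) :
    (Opens.map π.base).obj ((Opens.map b).obj T) = (Opens.map f.base).obj T := by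
  rw [← hb]
  rfl

/-- `f♯` with target transported to `π⁻¹ b⁻¹ T` -/
noncomputable def F (T : (Opens Z)ᵒᵖ) :
    Z.presheaf.obj T ⟶ X.presheaf.obj (op ((Opens.map π.base).obj ((Opens.map b).obj T.unop))) :=
  f.c.app T ≫ X.presheaf.map (eqToHom (congrArg op (preimage_eq π f b hb T.unop).symm))

theorem F_naturality {T₁ T₂ : (Opens Z)ᵒᵖ} (i : T₁ ⟶ T₂) :
    Z.presheaf.map i ≫ F π f b hb T₂ =
      F π f b hb T₁ ≫ X.presheaf.map ((Opens.map π.base).op.map ((Opens.map b).op.map i)) := by
  have h1 := f.c.naturality i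
  have h2 : (f.base _* X.presheaf).map i = X.presheaf.map ((Opens.map f.base).op.map i) := rfl
  rw [h2] at h1
  unfold F
  rw [reassoc_of% h1, Category.assoc, ← Functor.map_comp, ← Functor.map_comp]
  rfl

variable (hinj : ∀ V : Opens Y, Function.Injective (π.c.app (op V)))
  (hrange : ∀ (T : (Opens Z)ᵒᵖ) (s : Z.presheaf.obj T),
    (F π f b hb T).hom s ∈ Set.range (π.c.app (op ((Opens.map b).obj T.unop))).hom)

noncomputable def capp (T : (Opens Z)ᵒᵖ) : Z.presheaf.obj T ⟶ Y.presheaf.obj (op ((Opens.map b).obj T.unop)) :=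
  Classical.choose (exists_lift_of_injective (π.c.app (op ((Opens.map b).obj T.unop))) (hinj _)
    (F π f b hb T) (hrange T))

theorem capp_spec (T : (Opens Z)ᵒᵖ) :
    capp π f b hb hinj hrange T ≫ π.c.app (op ((Opens.map b).obj T.unop)) = F π f b hb T :=
  Classical.choose_spec (exists_lift_of_injective (π.c.app (op ((Opens.map b).obj T.unop))) (hinj _)
    (F π f b hb T) (hrange T))

noncomputable def cmap : Z.presheaf ⟶ b _* Y.presheaf where
  app T := capp π f b hb hinj hrange T
  naturality T₁ T₂ i := by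
    have : Mono (π.c.app (op ((Opens.map b).obj T₂.unop))) :=
      ConcreteCategory.mono_of_injective _ (hinj _)
    rw [← cancel_mono (π.c.app (op ((Opens.map b).obj T₂.unop)))]
    have h3 : (b _* Y.presheaf).map i = Y.presheaf.map ((Opens.map b).op.map i) := rfl
    have h4 : Y.presheaf.map ((Opens.map b).op.map i) ≫ π.c.app (op ((Opens.map b).obj T₂.unop)) =
        π.c.app (op ((Opens.map b).obj T₁.unop)) ≫
          X.presheaf.map ((Opens.map π.base).op.map ((Opens.map b).op.map i)) :=
      π.c.naturality ((Opens.map b).op.map i)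
    rw [Category.assoc, Category.assoc, capp_spec, h3, h4, ← Category.assoc, capp_spec, F_naturality]

/-- the descended morphism -/
noncomputable def desc : Y ⟶ Z where
  base := b
  c := cmap π f b hb hinj hrange

theorem fac : π ≫ desc π f b hb hinj hrange = f := by
  refine PresheafedSpace.ext _ _ hb ?_
  apply NatTrans.ext
  funext T
  rw [NatTrans.comp_app, PresheafedSpace.comp_c_app, Functor.whiskerRight_app, eqToHom_app, eqToHom_map]
  change (capp π f b hb hinj hrange T ≫ π.c.app (op ((Opens.map b).obj T.unop))) ≫ eqToHom _ = f.c.app T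
  rw [capp_spec]
  unfold F
  simp only [Category.assoc, eqToHom_op, eqToHom_map, eqToHom_trans, eqToHom_refl, Category.comp_id]

omit π in
theorem invariant_of_comp_eq (a : X ⟶ X) (f : X ⟶ Z) (haf : a ≫ f = f) (T : (Opens Z)ᵒᵖ)
    (W : (Opens X)ᵒᵖ) (e₁ : op ((Opens.map f.base).obj T.unop) = W)
    (q : W = op ((Opens.map a.base).obj W.unop)) :
    (f.c.app T ≫ X.presheaf.map (eqToHom e₁)) ≫ a.c.app W =
      (f.c.app T ≫ X.presheaf.map (eqToHom e₁)) ≫ X.presheaf.map (eqToHom q) := by
  subst e₁
  have h1 := PresheafedSpace.congr_app haf T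
  rw [PresheafedSpace.comp_c_app] at h1
  rw [eqToHom_refl]
  erw [X.presheaf.map_id]
  erw [Category.comp_id]
  exact h1

omit π in
theorem main (X Y : SheafedSpace CommRingCat.{u}) (Γ : Type v) [Group Γ]
    (τ : Γ →* Aut X) (π : X ⟶ Y) (hτ : ∀ g : Γ, (τ g).hom ≫ π = π)
    (h1 : IsQuotientMap π.hom.base)
    (h2 : ∀ x x' : X, π.hom.base x = π.hom.base x' ↔ ∃ g : Γ, (τ g).hom.hom.base x = x')
    (h3 : ∀ V : Opens Y, Function.Injective (π.hom.c.app (op V)) ∧
      Set.range (π.hom.c.app (op V)) =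
        {s | ∀ g : Γ, (τ g).hom.hom.c.app (op ((Opens.map π.hom.base).obj V)) s =
          X.presheaf.map (eqToHom (congrArg (fun f : X ⟶ Y => op ((Opens.map f.hom.base).obj V)) (hτ g).symm)) s})
    (Z : SheafedSpace CommRingCat.{u}) (f : X ⟶ Z) (hf : ∀ g : Γ, (τ g).hom ≫ f = f) :
    ∃! fbar : Y ⟶ Z, π ≫ fbar = f := by
  have hinj : ∀ V : Opens Y, Function.Injective (π.hom.c.app (op V)) := fun V => (h3 V).1
  have hconst : ∀ x x' : X, π.hom.base x = π.hom.base x' → f.hom.base x = f.hom.base x' := by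
    intro x x' hxx'
    obtain ⟨g, rfl⟩ := (h2 x x').1 hxx'
    have := congrArg (fun k => k.hom.base x) (hf g)
    exact this.symm
  let bf : Y → Z := fun y => f.hom.base (Function.surjInv h1.surjective y)
  have hbf : ∀ x, bf (π.hom.base x) = f.hom.base x := fun x =>
    hconst _ _ (Function.surjInv_eq h1.surjective _)
  have hc : Continuous bf := by
    rw [h1.continuous_iff]
    have : bf ∘ π.hom.base = f.hom.base := funext hbf
    rw [this]
    exact f.hom.base.hom.continuous
  let b : (Y : TopCat) ⟶ (Z : TopCat) := TopCat.ofHom ⟨bf, hc⟩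
  have hb : π.hom.base ≫ b = f.hom.base := by
    ext x
    exact hbf x
  have hrange : ∀ (T : (Opens Z)ᵒᵖ) (s : Z.presheaf.obj T), (F π.hom f.hom b hb T).hom s ∈
      Set.range (π.hom.c.app (op ((Opens.map b).obj T.unop))).hom := by
    intro T s
    have h4 := (h3 ((Opens.map b).obj T.unop)).2
    have h5 : (F π.hom f.hom b hb T).hom s ∈ {s | ∀ g : Γ, (τ g).hom.hom.c.app
        (op ((Opens.map π.hom.base).obj ((Opens.map b).obj T.unop))) s =
          X.presheaf.map (eqToHom (congrArg (fun f : X ⟶ Y =>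
            op ((Opens.map f.hom.base).obj ((Opens.map b).obj T.unop))) (hτ g).symm)) s} := by
      intro g
      have h6 := invariant_of_comp_eq (τ g).hom.hom f.hom (congrArg InducedCategory.Hom.hom (hf g)) T
        (op ((Opens.map π.hom.base).obj ((Opens.map b).obj T.unop)))
        (congrArg op (preimage_eq π.hom f.hom b hb T.unop).symm)
        (congrArg (fun f : X ⟶ Y => op ((Opens.map f.hom.base).obj ((Opens.map b).obj T.unop))) (hτ g).symm)
      exact congrArg (fun k => k.hom s) h6
    rw [← h4] at h5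
    exact h5
  refine ⟨InducedCategory.homMk (desc π.hom f.hom b hb hinj hrange), ?_, ?_⟩
  · exact InducedCategory.hom_ext (fac π.hom f.hom b hb hinj hrange)
  · intro β hβ
    apply InducedCategory.hom_ext
    exact eq_of_comp_eq π.hom h1.surjective hinj _ _
      ((congrArg InducedCategory.Hom.hom hβ).trans (fac π.hom f.hom b hb hinj hrange).symm)

end Groth.Agent.Lib.helper19.RSQuot
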