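import Mathlib
import Groth.Agent.Lib.helper19.QuotMor
import Groth.Agent.Lib.helper19.RSQuot

set_option autoImplicit false
universe u

open CategoryTheory AlgebraicGeometry TopologicalSpace Opposite

namespace Groth.Agent.Lib.helper19.GeomQuotA

open Groth.Agent.Lib.helper19

variable {U V W : Scheme.{u}} (h : U ⟶ V) (u : U ⟶ W)

theorem isLocalHom_of_fac (β : V.toPresheafedSpace ⟶ W.toPresheafedSpace)
    (fac : (h.toLRSHom.toHom : U.toPresheafedSpace ⟶ V.toPresheafedSpace) ≫ β =
      (u.toLRSHom.toHom : U.toPresheafedSpace ⟶ W.toPresheafedSpace))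
    (hs : Function.Surjective h.base) (x : V) : IsLocalHom (β.stalkMap x).hom := by
  obtain ⟨y, rfl⟩ := hs x
  have h1 := PresheafedSpace.stalkMap.comp
    (h.toLRSHom.toHom : U.toPresheafedSpace ⟶ V.toPresheafedSpace) β y
  have h2 := PresheafedSpace.stalkMap.congr_hom _ _ fac y
  rw [h1] at h2
  refine QuotMor.isLocalHom_of_comp_eq _ _ _ h2 ?_
  exact QuotMor.isLocalHom_eqToHom_comp _ _ (LocallyRingedSpace.isLocalHomStalkMap' _ y)

/-- descent of a morphism along a surjective quotient map `h` with `h♯` injective, when `u` is constant on the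
fibres of `h` and `u♯` lands in the image of `h♯` -/
theorem exists_desc (hq : Topology.IsQuotientMap h.base)
    (hconst : ∀ x y : U, h.base x = h.base y → u.base x = u.base y)
    (hinj : ∀ V' : V.Opens, Function.Injective (h.app V'))
    (hrange : ∀ (T : W.Opens) (V' : V.Opens) (e : h ⁻¹ᵁ V' = u ⁻¹ᵁ T) (s : Γ(W, T)),
      (u.app T ≫ U.presheaf.map (eqToHom (congrArg op e.symm))).hom s ∈ Set.range (h.app V').hom) :
    ∃ v : V ⟶ W, h ≫ v = u := by
  have hs : Function.Surjective h.base := hq.surjective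
  let g : V → W := fun x => u.base (Function.surjInv hs x)
  have hg : ∀ y, g (h.base y) = u.base y := fun y => hconst _ _ (Function.surjInv_eq hs (h.base y))
  have hc : Continuous g := by
    rw [hq.continuous_iff]
    have : g ∘ h.base = u.base := funext hg
    rw [this]
    exact u.continuous
  let b : (V : TopCat) ⟶ (W : TopCat) := TopCat.ofHom ⟨g, hc⟩
  have hb : (h.toLRSHom.toHom : U.toPresheafedSpace ⟶ V.toPresheafedSpace).base ≫ b =
      (u.toLRSHom.toHom : U.toPresheafedSpace ⟶ W.toPresheafedSpace).base := by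
    ext y
    exact hg y
  have hinj' : ∀ V' : Opens V.toPresheafedSpace, Function.Injective
      ((h.toLRSHom.toHom : U.toPresheafedSpace ⟶ V.toPresheafedSpace).c.app (op V')) := fun V' => hinj V'
  have hrange' : ∀ (T : (Opens W.toPresheafedSpace)ᵒᵖ) (s : W.toPresheafedSpace.presheaf.obj T),
      (RSQuot.F (h.toLRSHom.toHom : U.toPresheafedSpace ⟶ V.toPresheafedSpace)
        (u.toLRSHom.toHom : U.toPresheafedSpace ⟶ W.toPresheafedSpace) b hb T).hom s ∈
      Set.range ((h.toLRSHom.toHom : U.toPresheafedSpace ⟶ V.toPresheafedSpace).c.app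
        (op ((Opens.map b).obj T.unop))).hom := by
    intro T s
    exact hrange T.unop ((Opens.map b).obj T.unop)
      (RSQuot.preimage_eq (h.toLRSHom.toHom : U.toPresheafedSpace ⟶ V.toPresheafedSpace)
        (u.toLRSHom.toHom : U.toPresheafedSpace ⟶ W.toPresheafedSpace) b hb T.unop) s
  let β := RSQuot.desc (h.toLRSHom.toHom : U.toPresheafedSpace ⟶ V.toPresheafedSpace)
    (u.toLRSHom.toHom : U.toPresheafedSpace ⟶ W.toPresheafedSpace) b hb hinj' hrange'
  have fac := RSQuot.fac (h.toLRSHom.toHom : U.toPresheafedSpace ⟶ V.toPresheafedSpace)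
    (u.toLRSHom.toHom : U.toPresheafedSpace ⟶ W.toPresheafedSpace) b hb hinj' hrange'
  refine ⟨Scheme.Hom.mk ⟨β, isLocalHom_of_fac h u β fac hs⟩, ?_⟩
  apply Scheme.Hom.ext'
  apply LocallyRingedSpace.Hom.ext'
  exact fac

end Groth.Agent.Lib.helper19.GeomQuotA
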