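import Mathlib
import Groth.Prelude.Def_W4bk4git07Quot
import Groth.Prelude.Def_AlgGrp
import Groth.Agent.Lib.helper19.DualEpi
import Groth.Agent.Lib.helper19.GeomQuotA

set_option autoImplicit false
universe u

open CategoryTheory MonoidalCategory CartesianMonoidalCategory MonObj AlgebraicGeometry TopologicalSpace Opposite

namespace Groth.Agent.Lib.helper19.GeomQuotB

open Groth.Agent.Lib.helper19

variable {S : Scheme.{u}} {G X Y : Over S} [GrpObj G] (a : AlgGrp.Action G X) (φ : X ⟶ Y)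

theorem appLE_congr_hom {A B : Scheme.{u}} (k₁ k₂ : A ⟶ B) (hk : k₁ = k₂) (T : B.Opens) (W : A.Opens)
    (e : W ≤ k₁ ⁻¹ᵁ T) : k₁.appLE T W e = k₂.appLE T W (hk ▸ e) := by
  subst hk
  rfl

omit φ in
theorem aux {Z : Over S} (ψ : X ⟶ Z)
    (hψl : a.act.left ≫ ψ.left = (snd G X).left ≫ ψ.left)
    (T : Z.left.Opens) (P : X.left.Opens) (e : P = ψ.left ⁻¹ᵁ T) (s : Γ(Z.left, T)) :
    a.act.left.appLE P (a.act.left ⁻¹ᵁ P ⊓ (snd G X).left ⁻¹ᵁ P) inf_le_left
      ((ψ.left.app T ≫ X.left.presheaf.map (eqToHom (congrArg op e.symm))).hom s) =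
    (snd G X).left.appLE P (a.act.left ⁻¹ᵁ P ⊓ (snd G X).left ⁻¹ᵁ P) inf_le_right
      ((ψ.left.app T ≫ X.left.presheaf.map (eqToHom (congrArg op e.symm))).hom s) := by
  subst e
  have h1 : ∀ (W : (G ⊗ X).left.Opens) (e₁ : W ≤ a.act.left ⁻¹ᵁ (ψ.left ⁻¹ᵁ T))
      (e₂ : W ≤ (snd G X).left ⁻¹ᵁ (ψ.left ⁻¹ᵁ T)),
      ψ.left.app T ≫ a.act.left.appLE (ψ.left ⁻¹ᵁ T) W e₁ =
        ψ.left.app T ≫ (snd G X).left.appLE (ψ.left ⁻¹ᵁ T) W e₂ := by
    intro W e₁ e₂
    rw [← Scheme.Hom.comp_appLE, ← Scheme.Hom.comp_appLE]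
    exact appLE_congr_hom _ _ hψl T W _
  have h2 := h1 _ inf_le_left inf_le_right
  have h3 := congrArg (fun k => k.hom s) h2
  have e0 : (ψ.left.app T ≫ X.left.presheaf.map (eqToHom (congrArg op (Eq.refl (ψ.left ⁻¹ᵁ T)).symm))) =
      ψ.left.app T := by
    simp
  rw [e0]
  exact h3

theorem isInvSection_of_invariant {Z : Over S} (ψ : X ⟶ Z)
    (hψl : a.act.left ≫ ψ.left = (snd G X).left ≫ ψ.left)
    (T : Z.left.Opens) (V' : Y.left.Opens) (e : φ.left ⁻¹ᵁ V' = ψ.left ⁻¹ᵁ T) (s : Γ(Z.left, T)) :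
    GIT.IsInvSection a φ V'
      ((ψ.left.app T ≫ X.left.presheaf.map (eqToHom (congrArg op e.symm))).hom s) :=
  aux a ψ hψl T (φ.left ⁻¹ᵁ V') e s

theorem isCatQuot_of_isGeomQuot (h : GIT.IsGeomQuot a φ) : GIT.IsCatQuot a φ := by
  refine ⟨h.inv, fun Z ψ hψ => ?_⟩
  have hψl : a.act.left ≫ ψ.left = (snd G X).left ≫ ψ.left := GIT.IsInvariant.left hψ
  have hq : Topology.IsQuotientMap φ.left.base :=
    (MorphismProperty.universally_le (topologically @Topology.IsQuotientMap)) _ h.subm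
  have hinj : ∀ V' : Y.left.Opens, Function.Injective (φ.left.app V') := fun V' => (h.sections V').1
  have hepi : Epi φ.left := DualEpi.epi_of_surjective_of_app_injective φ.left h.surj (fun V' => hinj V')
  have hconst : ∀ x y : X.left, φ.left.base x = φ.left.base y → ψ.left.base x = ψ.left.base y := by
    intro x y hxy
    obtain ⟨z, hz1, hz2⟩ := Scheme.Pullback.exists_preimage_pullback (f := φ.left) (g := φ.left) x y hxy
    obtain ⟨w, rfl⟩ := h.orbit z
    have e1 : a.act.left.base w = x := by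
      rw [← hz1]
      exact (congrArg (fun k => k.base w) (Limits.pullback.lift_fst a.act.left (snd G X).left h.inv.left)).symm
    have e2 : (snd G X).left.base w = y := by
      rw [← hz2]
      exact (congrArg (fun k => k.base w) (Limits.pullback.lift_snd a.act.left (snd G X).left h.inv.left)).symm
    rw [← e1, ← e2]
    exact congrArg (fun k => k.base w) hψl
  have hrange : ∀ (T : Z.left.Opens) (V' : Y.left.Opens) (e : φ.left ⁻¹ᵁ V' = ψ.left ⁻¹ᵁ T) (s : Γ(Z.left, T)),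
      (ψ.left.app T ≫ X.left.presheaf.map (eqToHom (congrArg op e.symm))).hom s ∈
        Set.range (φ.left.app V').hom := by
    intro T V' e s
    have h5 : (ψ.left.app T ≫ X.left.presheaf.map (eqToHom (congrArg op e.symm))).hom s ∈
        {f | GIT.IsInvSection a φ V' f} := isInvSection_of_invariant a φ ψ hψl T V' e s
    rw [← (h.sections V').2] at h5
    exact h5
  obtain ⟨v, hv⟩ := GeomQuotA.exists_desc φ.left ψ.left hq hconst hinj hrange
  have hvZ : v ≫ Z.hom = Y.hom := by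
    rw [← cancel_epi φ.left, ← Category.assoc, hv, Over.w ψ, Over.w φ]
  refine ⟨Over.homMk v hvZ, ?_, ?_⟩
  · ext1
    exact hv
  · intro χ hχ
    ext1
    rw [← cancel_epi φ.left]
    exact (congrArg CommaMorphism.left hχ).trans hv.symm

theorem main (h : GIT.IsGeomQuot a φ) :
    GIT.IsCatQuot a φ ∧ (GIT.IsUnivGeomQuot a φ → GIT.IsUnivCatQuot a φ) := by
  refine ⟨isCatQuot_of_isGeomQuot a φ h, fun hu => ⟨isCatQuot_of_isGeomQuot a φ h, ?_⟩⟩
  intro X' Y' pr φ' g hQ hpb a' ha' hinv'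
  exact isCatQuot_of_isGeomQuot a' φ' (hu.2 pr φ' g hQ hpb a' ha' hinv')

end Groth.Agent.Lib.helper19.GeomQuotB
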