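import Mathlib
import Groth.Prelude.Def_W4bk4git07Quot
import Groth.Prelude.Def_AlgGrp
import Groth.Agent.Lib.helper19.DualEpi
import Groth.Agent.Lib.helper19.GeomQuotB

set_option autoImplicit false
universe u

open CategoryTheory MonoidalCategory CartesianMonoidalCategory MonObj AlgebraicGeometry TopologicalSpace Opposite

namespace Groth.Agent.Lib.helper19.GeomQuotC

open Groth.Agent.Lib.helper19

variable {S : Scheme.{u}} {G X Y : Over S} [GrpObj G] (a : AlgGrp.Action G X) (φ : X ⟶ Y)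

/-- categorical quotient from: invariance, `O_Y` = invariant functions, quotient topology, and constancy of
invariant morphisms on the fibres of `φ` -/
theorem isCatQuot_of (hi : GIT.IsInvariant a φ)
    (hii : ∀ U : Y.left.Opens,
      Function.Injective (φ.left.app U) ∧ Set.range (φ.left.app U) = {f | GIT.IsInvSection a φ U f})
    (hq : Topology.IsQuotientMap φ.left.base)
    (hconst : ∀ (Z : Over S) (ψ : X ⟶ Z), GIT.IsInvariant a ψ →
      ∀ x y : X.left, φ.left.base x = φ.left.base y → ψ.left.base x = ψ.left.base y) :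
    GIT.IsCatQuot a φ := by
  refine ⟨hi, fun Z ψ hψ => ?_⟩
  have hψl : a.act.left ≫ ψ.left = (snd G X).left ≫ ψ.left := GIT.IsInvariant.left hψ
  have hinj : ∀ V' : Y.left.Opens, Function.Injective (φ.left.app V') := fun V' => (hii V').1
  have hepi : Epi φ.left := DualEpi.epi_of_surjective_of_app_injective φ.left hq.surjective (fun V' => hinj V')
  have hrange : ∀ (T : Z.left.Opens) (V' : Y.left.Opens) (e : φ.left ⁻¹ᵁ V' = ψ.left ⁻¹ᵁ T) (s : Γ(Z.left, T)),
      (ψ.left.app T ≫ X.left.presheaf.map (eqToHom (congrArg op e.symm))).hom s ∈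
        Set.range (φ.left.app V').hom := by
    intro T V' e s
    have h5 : (ψ.left.app T ≫ X.left.presheaf.map (eqToHom (congrArg op e.symm))).hom s ∈
        {f | GIT.IsInvSection a φ V' f} := GeomQuotB.isInvSection_of_invariant a φ ψ hψl T V' e s
    rw [← (hii V').2] at h5
    exact h5
  obtain ⟨v, hv⟩ := GeomQuotA.exists_desc φ.left ψ.left hq (hconst Z ψ hψ) hinj hrange
  have hvZ : v ≫ Z.hom = Y.hom := by
    rw [← cancel_epi φ.left, ← Category.assoc, hv, Over.w ψ, Over.w φ]
  refine ⟨Over.homMk v hvZ, ?_, ?_⟩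
  · ext1
    exact hv
  · intro χ hχ
    ext1
    rw [← cancel_epi φ.left]
    exact (congrArg CommaMorphism.left hχ).trans hv.symm

omit φ in
/-- restrictions of pulled back sections are invariant -/
theorem appLE_invariant {Z : Over S} (ψ : X ⟶ Z)
    (hψl : a.act.left ≫ ψ.left = (snd G X).left ≫ ψ.left)
    (T : Z.left.Opens) (P : X.left.Opens) (e : P ≤ ψ.left ⁻¹ᵁ T) (s : Γ(Z.left, T)) :
    a.act.left.appLE P (a.act.left ⁻¹ᵁ P ⊓ (snd G X).left ⁻¹ᵁ P) inf_le_left
      ((ψ.left.appLE T P e).hom s) =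
    (snd G X).left.appLE P (a.act.left ⁻¹ᵁ P ⊓ (snd G X).left ⁻¹ᵁ P) inf_le_right
      ((ψ.left.appLE T P e).hom s) := by
  have h1 : ∀ (W : (G ⊗ X).left.Opens) (e₁ : W ≤ a.act.left ⁻¹ᵁ P)
      (e₂ : W ≤ (snd G X).left ⁻¹ᵁ P),
      ψ.left.appLE T P e ≫ a.act.left.appLE P W e₁ =
        ψ.left.appLE T P e ≫ (snd G X).left.appLE P W e₂ := by
    intro W e₁ e₂
    rw [Scheme.Hom.appLE_comp_appLE, Scheme.Hom.appLE_comp_appLE]
    exact GeomQuotB.appLE_congr_hom _ _ hψl T W _
  have h2 := h1 _ inf_le_left inf_le_right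
  exact congrArg (fun k => k.hom s) h2

end Groth.Agent.Lib.helper19.GeomQuotC
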