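import Mathlib
import Groth.Prelude.Def_W4bk4git07Quot
import Groth.Prelude.Def_AlgGrp
import Groth.Agent.Lib.helper19.GeomQuotC

set_option autoImplicit false
universe u

open CategoryTheory MonoidalCategory CartesianMonoidalCategory MonObj AlgebraicGeometry TopologicalSpace Opposite

namespace Groth.Agent.Lib.helper19.GeomQuotD

open Groth.Agent.Lib.helper19

variable {S : Scheme.{u}} {G X Y : Over S} [GrpObj G] (a : AlgGrp.Action G X) (φ : X ⟶ Y)

/-- preimages under invariant morphisms are invariant subsets -/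
theorem invariant_preimage {Z : Over S} (ψ : X ⟶ Z)
    (hψl : a.act.left ≫ ψ.left = (snd G X).left ≫ ψ.left) (V : Set Z.left) :
    a.act.left.base '' ((snd G X).left.base ⁻¹' (ψ.left.base ⁻¹' V)) ⊆ ψ.left.base ⁻¹' V := by
  rintro _ ⟨w, hw, rfl⟩
  have h1 : ψ.left.base (a.act.left.base w) = ψ.left.base ((snd G X).left.base w) :=
    congrArg (fun k => k.base w) hψl
  show ψ.left.base (a.act.left.base w) ∈ V
  rw [h1]
  exact hw

variable (hi : GIT.IsInvariant a φ)
    (hii : ∀ U : Y.left.Opens,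
      Function.Injective (φ.left.app U) ∧ Set.range (φ.left.app U) = {f | GIT.IsInvSection a φ U f})
    (hiii : ∀ W : Set X.left, IsClosed W → a.act.left.base '' ((snd G X).left.base ⁻¹' W) ⊆ W →
      IsClosed (φ.left.base '' W))
    (hiii' : ∀ (J : Type u) (W : J → Set X.left),
      (∀ i, IsClosed (W i) ∧ a.act.left.base '' ((snd G X).left.base ⁻¹' W i) ⊆ W i) →
      φ.left.base '' (⋂ i, W i) = ⋂ i, φ.left.base '' W i)

include hiii' in
theorem surjective : Function.Surjective φ.left.base := by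
  have h1 := hiii' PEmpty (fun i => i.elim) (fun i => i.elim)
  simp only [Set.iInter_of_empty, Set.image_univ] at h1
  exact Set.range_eq_univ.1 h1

include hi hiii hiii' in
theorem isQuotientMap : Topology.IsQuotientMap φ.left.base := by
  rw [Topology.isQuotientMap_iff_isClosed]
  refine ⟨surjective a φ hiii', fun s => ⟨fun hs => hs.preimage φ.left.continuous, fun hs => ?_⟩⟩
  have h1 := hiii (φ.left.base ⁻¹' s) hs (invariant_preimage a φ hi.left s)
  rwa [Set.image_preimage_eq _ (surjective a φ hiii')] at h1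

include hii hiii in
theorem mem_basicOpen_transfer {Z : Over S} (ψ : X ⟶ Z)
    (hψl : a.act.left ≫ ψ.left = (snd G X).left ≫ ψ.left) (x x' : X.left)
    (hxx' : φ.left.base x = φ.left.base x')
    (V : Z.left.Opens) (hV : ∀ p, φ.left.base p = φ.left.base x → ψ.left.base p ∈ V)
    (r : Γ(Z.left, V)) (hr : ψ.left.base x ∈ Z.left.basicOpen r) :
    ψ.left.base x' ∈ Z.left.basicOpen r := by
  let Wc : Set X.left := (ψ.left.base ⁻¹' (V : Set Z.left))ᶜ
  have hWc_closed : IsClosed Wc := (V.isOpen.preimage ψ.left.continuous).isClosed_compl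
  have hWc_inv : a.act.left.base '' ((snd G X).left.base ⁻¹' Wc) ⊆ Wc := by
    have := invariant_preimage a ψ hψl ((V : Set Z.left)ᶜ)
    simpa [Wc, Set.preimage_compl] using this
  have hcl : IsClosed (φ.left.base '' Wc) := hiii Wc hWc_closed hWc_inv
  let UV : Y.left.Opens := ⟨(φ.left.base '' Wc)ᶜ, hcl.isOpen_compl⟩
  have hle : φ.left ⁻¹ᵁ UV ≤ ψ.left ⁻¹ᵁ V := by
    intro p hp
    by_contra hpV
    exact hp ⟨p, hpV, rfl⟩
  have hxU : ∀ p, φ.left.base p = φ.left.base x → p ∈ φ.left ⁻¹ᵁ UV := by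
    intro p hp
    rintro ⟨p', hp'W, hp'⟩
    exact hp'W (hV p' (hp'.trans hp))
  have hinv : GIT.IsInvSection a φ UV ((ψ.left.appLE V (φ.left ⁻¹ᵁ UV) hle).hom r) :=
    GeomQuotC.appLE_invariant a ψ hψl V _ hle r
  have hmem : (ψ.left.appLE V (φ.left ⁻¹ᵁ UV) hle).hom r ∈ Set.range (φ.left.app UV) := by
    rw [(hii UV).2]
    exact hinv
  obtain ⟨τ, hτ⟩ := hmem
  have key : ∀ p, φ.left.base p = φ.left.base x →
      (ψ.left.base p ∈ Z.left.basicOpen r ↔ φ.left.base p ∈ Y.left.basicOpen τ) := by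
    intro p hp
    have h1 : (ψ.left.base p ∈ Z.left.basicOpen r) ↔ p ∈ X.left.basicOpen (ψ.left.app V r) := by
      rw [← Scheme.Hom.preimage_basicOpen]
      rfl
    have h2 : X.left.basicOpen ((ψ.left.appLE V (φ.left ⁻¹ᵁ UV) hle).hom r) =
        φ.left ⁻¹ᵁ UV ⊓ X.left.basicOpen (ψ.left.app V r) := by
      unfold Scheme.Hom.appLE
      exact Scheme.basicOpen_res _ _ _
    have h3 : (φ.left.base p ∈ Y.left.basicOpen τ) ↔ p ∈ X.left.basicOpen (φ.left.app UV τ) := by
      rw [← Scheme.Hom.preimage_basicOpen]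
      rfl
    rw [h1, h3]
    have h4 : X.left.basicOpen (φ.left.app UV τ) = φ.left ⁻¹ᵁ UV ⊓ X.left.basicOpen (ψ.left.app V r) := by
      rw [← h2]
      exact congrArg _ hτ
    rw [h4]
    exact ⟨fun h => ⟨hxU p hp, h⟩, fun h => h.2⟩
  rw [key x' hxx'.symm, ← hxx', ← key x rfl]
  exact hr

include hii hiii hiii' in
theorem const_on_fibres {Z : Over S} (ψ : X ⟶ Z) (hψ : GIT.IsInvariant a ψ) (x x' : X.left)
    (hxx' : φ.left.base x = φ.left.base x') : ψ.left.base x = ψ.left.base x' := by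
  have hψl := hψ.left
  obtain ⟨V, hVaff, hV⟩ : ∃ V : Z.left.Opens, IsAffineOpen V ∧
      ∀ p, φ.left.base p = φ.left.base x → ψ.left.base p ∈ V := by
    by_contra hcon
    push_neg at hcon
    have h1 := hiii' Z.left.affineOpens (fun V => (ψ.left.base ⁻¹' (V.1 : Set Z.left))ᶜ)
      (fun V => ⟨(V.1.isOpen.preimage ψ.left.continuous).isClosed_compl, by
        have := invariant_preimage a ψ hψl ((V.1 : Set Z.left)ᶜ)
        simpa [Set.preimage_compl] using this⟩)
    have h2 : (⋂ V : Z.left.affineOpens, (ψ.left.base ⁻¹' (V.1 : Set Z.left))ᶜ) = ∅ := by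
      ext p
      simp only [Set.mem_iInter, Set.mem_compl_iff, Set.mem_preimage, Set.mem_empty_iff_false, iff_false,
        not_forall, not_not]
      obtain ⟨V, hVa, hpV, -⟩ := Z.left.isBasis_affineOpens.exists_subset_of_mem_open
        (Set.mem_univ (ψ.left.base p)) isOpen_univ
      obtain ⟨V', hV', rfl⟩ := hVa
      exact ⟨⟨V', hV'⟩, hpV⟩
    rw [h2, Set.image_empty] at h1
    have h3 : φ.left.base x ∈ ⋂ V : Z.left.affineOpens,
        φ.left.base '' (ψ.left.base ⁻¹' (V.1 : Set Z.left))ᶜ := by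
      rw [Set.mem_iInter]
      intro V
      obtain ⟨p, hp, hpV⟩ := hcon V.1 V.2
      exact ⟨p, hpV, hp⟩
    rw [← h1] at h3
    exact h3
  apply (inseparable_iff_eq).1
  rw [inseparable_iff_forall_isOpen]
  intro O hO
  constructor
  · intro hxO
    obtain ⟨r, hrO, hxr⟩ := hVaff.exists_basicOpen_le (V := ⟨O, hO⟩) ⟨ψ.left.base x, hxO⟩ (hV x rfl)
    exact hrO (mem_basicOpen_transfer a φ hii hiii ψ hψl x x' hxx' V hV r hxr)
  · intro hx'O
    obtain ⟨r, hrO, hxr⟩ := hVaff.exists_basicOpen_le (V := ⟨O, hO⟩) ⟨ψ.left.base x', hx'O⟩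
      (hV x' hxx'.symm)
    exact hrO (mem_basicOpen_transfer a φ hii hiii ψ hψl x' x hxx'.symm V
      (fun p hp => hV p (hp.trans hxx'.symm)) r hxr)

include hi hii hiii hiii' in
theorem main : GIT.IsCatQuot a φ ∧ Topology.IsQuotientMap φ.left.base :=
  ⟨GeomQuotC.isCatQuot_of a φ hi hii (isQuotientMap a φ hi hiii hiii')
    (fun Z ψ hψ x y hxy => const_on_fibres a φ hii hiii hiii' ψ hψ x y hxy),
    isQuotientMap a φ hi hiii hiii'⟩

end Groth.Agent.Lib.helper19.GeomQuotD
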