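import Mathlib

set_option autoImplicit false
universe u
open CategoryTheory CategoryTheory.Limits AlgebraicGeometry

namespace Groth.Agent.Lib.Helper19.HensFinPart

/-- A point of the source of a closed map to a local spectrum specializes to a point over the
closed point. -/
theorem exists_specializes_closedPoint (R : Type u) [CommRing R] [IsLocalRing R]
    {Z : Scheme.{u}} (h : Z ⟶ Spec (CommRingCat.of R)) (hcl : IsClosedMap h.base) (z : Z) :
    ∃ z₀ : Z, z ⤳ z₀ ∧ h.base z₀ = IsLocalRing.closedPoint R := by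
  have h1 : IsClosed (h.base '' closure {z}) := hcl _ isClosed_closure
  have h2 : h.base z ∈ h.base '' closure {z} := ⟨z, subset_closure rfl, rfl⟩
  have h3 : h.base z ⤳ IsLocalRing.closedPoint R := IsLocalRing.specializes_closedPoint _
  obtain ⟨z₀, hz₀, hz₀'⟩ := h3.mem_closed h1 h2
  exact ⟨z₀, specializes_iff_mem_closure.mpr hz₀, hz₀'⟩

/-- Functoriality of the finite part (no henselian hypothesis needed). -/
theorem functorial (R : Type u) [CommRing R] [IsLocalRing R]
    {X Y : Scheme.{u}} (f : X ⟶ Spec (CommRingCat.of R)) (f' : Y ⟶ Spec (CommRingCat.of R))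
    (WX : X.Opens) (hWX : IsClosedMap (WX.ι ≫ f).base)
    (WY : Y.Opens) (hWY : ∀ x : ↥Y, f'.base x = IsLocalRing.closedPoint R → x ∈ WY)
    (g : X ⟶ Y) (hg : g ≫ f' = f) (x : X) (hx : x ∈ WX) :
    g.base x ∈ WY := by
  obtain ⟨z₀, hz, hz₀⟩ := exists_specializes_closedPoint R (WX.ι ≫ f) hWX ⟨x, hx⟩
  have h1 : x ⤳ WX.ι.base z₀ := by
    have := hz.map WX.ι.base.hom.2
    simpa using this
  have h2 : g.base x ⤳ g.base (WX.ι.base z₀) := h1.map g.base.hom.2
  have h3 : g.base (WX.ι.base z₀) ∈ WY := by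
    apply hWY
    rw [← hz₀, ← hg]
    simp
  exact h2.mem_open WY.2 h3

end Groth.Agent.Lib.Helper19.HensFinPart

namespace Groth.Agent.Lib.Helper19.HensFinPart

theorem pullback_part (R : Type u) [CommRing R] [IsLocalRing R]
    {X Y : Scheme.{u}} (f : X ⟶ Spec (CommRingCat.of R)) (f' : Y ⟶ Spec (CommRingCat.of R))
    (WX : X.Opens) (hWXf : IsFinite (WX.ι ≫ f))
    (hWX : ∀ x : ↥X, f.base x = IsLocalRing.closedPoint R → x ∈ WX)
    (WY : Y.Opens) (hWYf : IsFinite (WY.ι ≫ f'))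
    (hWY : ∀ x : ↥Y, f'.base x = IsLocalRing.closedPoint R → x ∈ WY)
    (W : (pullback f f').Opens)
    (hWf : IsFinite (W.ι ≫ (pullback.fst f f' ≫ f)))
    (hW : ∀ x : ↥(pullback f f'),
      (pullback.fst f f' ≫ f).base x = IsLocalRing.closedPoint R → x ∈ W)
    (z : ↥(pullback f f')) :
    z ∈ W ↔ ((pullback.fst f f').base z ∈ WX ∧ (pullback.snd f f').base z ∈ WY) := by
  constructor
  · intro hz
    refine ⟨?_, ?_⟩
    · exact functorial R (pullback.fst f f' ≫ f) f W (W.ι ≫ (pullback.fst f f' ≫ f)).isClosedMap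
        WX hWX (pullback.fst f f') rfl z hz
    · exact functorial R (pullback.fst f f' ≫ f) f' W (W.ι ≫ (pullback.fst f f' ≫ f)).isClosedMap
        WY hWY (pullback.snd f f') pullback.condition.symm z hz
  · rintro ⟨h1, h2⟩
    let m : pullback (WX.ι ≫ f) (WY.ι ≫ f') ⟶ pullback f f' :=
      pullback.map (WX.ι ≫ f) (WY.ι ≫ f') f f' WX.ι WY.ι (𝟙 _) (by simp) (by simp)
    have hr : z ∈ Set.range m.base := by
      rw [Scheme.Pullback.range_map]
      refine ⟨?_, ?_⟩
      · simpa using h1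
      · simpa using h2
    obtain ⟨z', rfl⟩ := hr
    haveI := hWXf
    haveI := hWYf
    have hfin : IsFinite (pullback.fst (WX.ι ≫ f) (WY.ι ≫ f') ≫ (WX.ι ≫ f)) := inferInstance
    obtain ⟨z₀, hz, hz₀⟩ := exists_specializes_closedPoint R
      (pullback.fst (WX.ι ≫ f) (WY.ι ≫ f') ≫ (WX.ι ≫ f))
      (pullback.fst (WX.ι ≫ f) (WY.ι ≫ f') ≫ (WX.ι ≫ f)).isClosedMap z'
    have h3 : m.base z' ⤳ m.base z₀ := hz.map m.base.hom.2
    have h4 : m.base z₀ ∈ W := by
      apply hW
      have hm : m ≫ (pullback.fst f f' ≫ f) =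
          pullback.fst (WX.ι ≫ f) (WY.ι ≫ f') ≫ (WX.ι ≫ f) := by
        simp only [m, pullback.map]
        rw [pullback.lift_fst_assoc, Category.assoc]
      rw [← hz₀, ← hm]
      simp
    exact h3.mem_open W.2 h4

end Groth.Agent.Lib.Helper19.HensFinPart
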