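import Mathlib
import Groth.Agent.Lib.helper19.HensFinPart
import Groth.Agent.Lib.helper19.HensFinPart2
import Groth.Agent.Lib.helper19.QFL6

set_option autoImplicit false
set_option linter.style.haveILetI false
universe u
open CategoryTheory CategoryTheory.Limits AlgebraicGeometry

namespace Groth.Agent.Lib.Helper19.HensFinPart3

theorem existsUnique_finite_part (R : Type u) [CommRing R] [HenselianLocalRing R]
    {X : Scheme.{u}} (f : X ⟶ Spec (CommRingCat.of R))
    [LocallyQuasiFinite f] [LocallyOfFiniteType f] [QuasiCompact f] [IsSeparated f] :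
    ∃! W : X.Opens, IsClosed (W : Set X) ∧ IsFinite (W.ι ≫ f) ∧
      ∀ x : X, f.base x = IsLocalRing.closedPoint R → x ∈ W := by
  classical
  have hfin : (f.base ⁻¹' {IsLocalRing.closedPoint R}).Finite :=
    f.finite_preimage_singleton _
  haveI : Finite ↥(f.base ⁻¹' {IsLocalRing.closedPoint R}) := hfin.to_subtype
  obtain ⟨n, ⟨eqv⟩⟩ := Finite.exists_equiv_fin ↥(f.base ⁻¹' {IsLocalRing.closedPoint R})
  let x : Fin n → X := fun i => (eqv.symm i).1
  have hs : ∀ i, f.base (x i) = IsLocalRing.closedPoint R := fun i => (eqv.symm i).2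
  have hV : ∀ i, ∃ V : X.Opens, x i ∈ V ∧ IsFinite (V.ι ≫ f) := fun i =>
    Groth.Agent.Lib.Helper19.HensFinPart2.exists_finite_nhd R f (x i) (hs i) (f.quasiFiniteAt (x i))
  choose V hxV hVf using hV
  have hVc : ∀ i, IsClosed (V i : Set X) := fun i =>
    Groth.Agent.Lib.Helper19.QFL6.isClosed_of_finite f (V i) (hVf i)
  obtain ⟨hWc, hWf⟩ := Groth.Agent.Lib.Helper19.QFL6.finite_finsetSup f V hVc hVf Finset.univ
  have hall : ∀ y : X, f.base y = IsLocalRing.closedPoint R → y ∈ Finset.univ.sup V := by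
    intro y hy
    have h1 : x (eqv ⟨y, hy⟩) = y := by simp [x]
    have h2 : V (eqv ⟨y, hy⟩) ≤ Finset.univ.sup V := Finset.le_sup (Finset.mem_univ _)
    have h3 : x (eqv ⟨y, hy⟩) ∈ V (eqv ⟨y, hy⟩) := hxV _
    rw [h1] at h3
    exact h2 h3
  refine ⟨Finset.univ.sup V, ⟨hWc, hWf, hall⟩, ?_⟩
  · rintro W' ⟨hW'c, hW'f, hW'⟩
    apply le_antisymm
    · intro y hy
      have := Groth.Agent.Lib.Helper19.HensFinPart.functorial R f f W' (W'.ι ≫ f).isClosedMap
        (Finset.univ.sup V) hall (𝟙 X) (Category.id_comp f) y hy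
      simpa using this
    · intro y hy
      have := Groth.Agent.Lib.Helper19.HensFinPart.functorial R f f (Finset.univ.sup V)
        ((Finset.univ.sup V).ι ≫ f).isClosedMap W' hW' (𝟙 X) (Category.id_comp f) y hy
      simpa using this

end Groth.Agent.Lib.Helper19.HensFinPart3
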