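import Mathlib
import Groth.Agent.Lib.helper19.HensFinPart2

set_option autoImplicit false
set_option linter.style.haveILetI false
universe u
open CategoryTheory CategoryTheory.Limits AlgebraicGeometry

namespace Groth.Agent.Lib.Helper19.HensFinPart4

theorem exists_open_finite_surjective (A : Type u) [CommRing A] [HenselianLocalRing A]
    (T : Scheme.{u}) (f : T ⟶ Spec (CommRingCat.of A)) [Etale f] [Surjective f] :
    ∃ U : T.Opens, IsFinite (U.ι ≫ f) ∧ Surjective (U.ι ≫ f) := by
  obtain ⟨t, ht⟩ := f.surjective (IsLocalRing.closedPoint A)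
  haveI : LocallyQuasiFinite f := by
    rw [HasRingHomProperty.iff_appLE (P := @LocallyQuasiFinite)]
    intro U V e
    have h1 := HasRingHomProperty.appLE (P := @Etale) f inferInstance U V e
    algebraize [(f.appLE U V e).hom]
    haveI : Algebra.Etale Γ(Spec (CommRingCat.of A), U.1) Γ(T, V.1) :=
      RingHom.etale_algebraMap.mp h1
    exact RingHom.quasiFinite_algebraMap.mpr inferInstance
  obtain ⟨V, htV, hVf⟩ :=
    Groth.Agent.Lib.Helper19.HensFinPart2.exists_finite_nhd A f t ht (f.quasiFiniteAt t)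
  refine ⟨V, hVf, ⟨fun y => ?_⟩⟩
  have hgen : GeneralizingMap (V.ι ≫ f).base := Flat.generalizingMap (V.ι ≫ f)
  have h1 : y ⤳ IsLocalRing.closedPoint A := IsLocalRing.specializes_closedPoint y
  have h2 : (V.ι ≫ f).base ⟨t, htV⟩ = IsLocalRing.closedPoint A := by
    simpa using ht
  obtain ⟨z, -, hz⟩ := hgen (h2 ▸ h1)
  exact ⟨z, hz⟩

end Groth.Agent.Lib.Helper19.HensFinPart4
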