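import Mathlib
import Groth.Agent.Lib.helper19.HensSec1

set_option autoImplicit false
set_option linter.style.haveILetI false
universe u
open CategoryTheory CategoryTheory.Limits AlgebraicGeometry Polynomial IsLocalRing

namespace Groth.Agent.Lib.Helper19.HensSec2

/-- The section property for étale `A`-schemes. -/
def SecProp (A : Type u) [CommRing A] [IsLocalRing A] : Prop :=
  ∀ (X : Scheme.{u}) (f : X ⟶ Spec (CommRingCat.of A)), Etale f →
    ∀ x : X, f.base x = IsLocalRing.closedPoint A →
      ∃ u : Spec (CommRingCat.of A) ⟶ X, u ≫ f = 𝟙 _ ∧ u.base (IsLocalRing.closedPoint A) = x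

theorem ring_section (A : Type u) [CommRing A] [IsLocalRing A] (H : SecProp A)
    (B : Type u) [CommRing B] [Algebra A B] [Algebra.Etale A B]
    (K : Type u) [Field K] [Algebra A K] (hK : RingHom.ker (algebraMap A K) = maximalIdeal A)
    (ψ : B →ₐ[A] K) :
    ∃ φ : B →ₐ[A] A, Ideal.comap φ.toRingHom (maximalIdeal A) = RingHom.ker ψ.toRingHom := by
  let f : Spec (CommRingCat.of B) ⟶ Spec (CommRingCat.of A) :=
    Spec.map (CommRingCat.ofHom (algebraMap A B))
  have hf : Etale f := by
    rw [HasRingHomProperty.Spec_iff (P := @Etale)]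
    exact RingHom.etale_algebraMap.mpr inferInstance
  haveI : (RingHom.ker ψ.toRingHom).IsPrime := RingHom.ker_isPrime _
  let x : Spec (CommRingCat.of B) := ⟨RingHom.ker ψ.toRingHom, inferInstance⟩
  have hx : f.base x = IsLocalRing.closedPoint A := by
    apply PrimeSpectrum.ext
    show Ideal.comap (algebraMap A B) (RingHom.ker ψ.toRingHom) = maximalIdeal A
    rw [← hK]
    ext a
    simp [RingHom.mem_ker]
  obtain ⟨u, hu, hux⟩ := H _ f hf x hx
  let φ' : CommRingCat.of B ⟶ CommRingCat.of A := Spec.preimage u
  have hφ' : Spec.map φ' = u := Spec.map_preimage u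
  have h1 : CommRingCat.ofHom (algebraMap A B) ≫ φ' = 𝟙 _ := by
    apply Spec.map_injective
    rw [Spec.map_comp, hφ', Spec.map_id]
    exact hu
  have h2 : ∀ a : A, φ'.hom (algebraMap A B a) = a := by
    intro a
    have := congrArg (fun F => F.hom a) h1
    exact this
  let φ : B →ₐ[A] A := { φ'.hom with commutes' := h2 }
  refine ⟨φ, ?_⟩
  have h3 := congrArg PrimeSpectrum.asIdeal hux
  rw [← hφ'] at h3
  exact h3

theorem henselian (A : Type u) [CommRing A] [IsLocalRing A] (H : SecProp A) :
    HenselianLocalRing A := by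
  refine { toIsLocalRing := inferInstance, is_henselian := ?_ }
  intro f hf a₀ h₁ h₂
  let P : StandardEtalePair A := ⟨f, hf, derivative f, ⟨1, 0, 1, by simp⟩⟩
  let K := ResidueField A
  have hK : RingHom.ker (algebraMap A K) = maximalIdeal A := IsLocalRing.ker_residue
  have hmap : P.HasMap (residue A a₀) := by
    constructor
    · show aeval (residue A a₀) f = 0
      have : aeval (residue A a₀) f = residue A (f.eval a₀) := by
        show aeval (algebraMap A K a₀) f = algebraMap A K (f.eval a₀)
        rw [Polynomial.aeval_algebraMap_apply, Polynomial.coe_aeval_eq_eval]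
      rw [this]
      exact (residue_eq_zero_iff _).mpr h₁
    · show IsUnit (aeval (residue A a₀) (derivative f))
      have : aeval (residue A a₀) (derivative f) = residue A ((derivative f).eval a₀) := by
        show aeval (algebraMap A K a₀) (derivative f) = algebraMap A K ((derivative f).eval a₀)
        rw [Polynomial.aeval_algebraMap_apply, Polynomial.coe_aeval_eq_eval]
      rw [this]
      exact h₂.map _
  obtain ⟨φ, hφ⟩ := ring_section A H P.Ring K hK (P.lift _ hmap)
  refine ⟨φ P.X, ?_, ?_⟩
  · have h3 : P.HasMap (φ P.X) := P.hasMap_X.map φ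
    have := h3.1
    show f.eval (φ P.X) = 0
    rw [← Polynomial.coe_aeval_eq_eval]
    exact this
  · have h4 : P.X - algebraMap A P.Ring a₀ ∈ RingHom.ker (P.lift _ hmap).toRingHom := by
      rw [RingHom.mem_ker]
      show (P.lift _ hmap) (P.X - algebraMap A P.Ring a₀) = 0
      rw [map_sub, StandardEtalePair.lift_X, AlgHom.commutes]
      exact sub_self _
    rw [← hφ, Ideal.mem_comap] at h4
    have h5 : φ.toRingHom (P.X - algebraMap A P.Ring a₀) = φ P.X - a₀ := by
      show φ (P.X - algebraMap A P.Ring a₀) = _
      rw [map_sub, AlgHom.commutes]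
      rfl
    rw [h5] at h4
    exact h4

theorem sepClosed (A : Type u) [CommRing A] [IsLocalRing A] (H : SecProp A) :
    IsSepClosed (ResidueField A) := by
  apply IsSepClosed.of_exists_root
  intro p hpm hpi hps
  have hlift : p ∈ Polynomial.lifts (residue A) := by
    rw [Polynomial.mem_lifts]
    exact Polynomial.map_surjective _ residue_surjective p
  obtain ⟨g, hgp, -, hgm⟩ := Polynomial.lifts_and_degree_eq_and_monic hlift hpm
  let P : StandardEtalePair A := ⟨g, hgm, derivative g, ⟨1, 0, 1, by simp⟩⟩
  haveI : Fact (Irreducible p) := ⟨hpi⟩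
  let K := AdjoinRoot p
  have hK : RingHom.ker (algebraMap A K) = maximalIdeal A := by
    rw [IsScalarTower.algebraMap_eq A (ResidueField A) K, ← RingHom.comap_ker,
      (RingHom.injective_iff_ker_eq_bot _).mp (algebraMap (ResidueField A) K).injective]
    show RingHom.ker (residue A) = _
    exact IsLocalRing.ker_residue
  have hgp' : g.map (algebraMap A (ResidueField A)) = p := hgp
  have haeval : ∀ h : A[X], aeval (AdjoinRoot.root p) h =
      aeval (AdjoinRoot.root p) (h.map (algebraMap A (ResidueField A))) := by
    intro h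
    rw [Polynomial.aeval_map_algebraMap]
  have hmap : P.HasMap (AdjoinRoot.root p) := by
    constructor
    · show aeval (AdjoinRoot.root p) g = 0
      rw [haeval, hgp', AdjoinRoot.aeval_eq, AdjoinRoot.mk_self]
    · show IsUnit (aeval (AdjoinRoot.root p) (derivative g))
      rw [haeval, ← Polynomial.derivative_map, hgp']
      obtain ⟨a, b, hab⟩ := hps
      have h1 := congrArg (aeval (AdjoinRoot.root p)) hab
      rw [map_add, map_mul, map_mul, AdjoinRoot.aeval_eq (f := p) p, AdjoinRoot.mk_self, mul_zero,
        zero_add, map_one] at h1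
      exact IsUnit.of_mul_eq_one _ (by rw [mul_comm]; exact h1)
  obtain ⟨φ, -⟩ := ring_section A H P.Ring K hK (P.lift _ hmap)
  refine ⟨residue A (φ P.X), ?_⟩
  have h3 : P.HasMap (φ P.X) := P.hasMap_X.map φ
  have h4 : g.eval (φ P.X) = 0 := by
    rw [← Polynomial.coe_aeval_eq_eval]
    exact h3.1
  rw [← hgp, Polynomial.eval_map, Polynomial.eval₂_hom, h4, map_zero]

theorem main (A : Type u) [CommRing A] [IsLocalRing A] :
    (HenselianLocalRing A ∧ IsSepClosed (IsLocalRing.ResidueField A)) ↔
      ∀ (X : Scheme.{u}) (f : X ⟶ Spec (CommRingCat.of A)), Etale f →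
        ∀ x : X, f.base x = IsLocalRing.closedPoint A →
          ∃ u : Spec (CommRingCat.of A) ⟶ X, u ≫ f = 𝟙 _ ∧
            u.base (IsLocalRing.closedPoint A) = x := by
  constructor
  · rintro ⟨h1, h2⟩ X f hf x hx
    exact HensSec1.exists_section_through A f x hx
  · intro H
    exact ⟨henselian A H, sepClosed A H⟩

end Groth.Agent.Lib.Helper19.HensSec2
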