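import Mathlib

set_option autoImplicit false
universe u

namespace Groth.Agent.Lib.helper19.HensSigmaA

variable {Y A : Type*} [TopologicalSpace Y] [TopologicalSpace A]

/-- clopen subsets lift uniquely along `e` -/
def P (e : A → Y) : Prop :=
  ∀ V : Set A, IsClopen V → ∃! U : Set Y, IsClopen U ∧ e ⁻¹' U = V

theorem P_of_partition {ι : Type*} {Yj : ι → Type*} [∀ j, TopologicalSpace (Yj j)]
    {Aj : ι → Type*} [∀ j, TopologicalSpace (Aj j)]
    (e : A → Y) (he : Topology.IsEmbedding e)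
    (p : ∀ j, Yj j → Y) (hp : ∀ j, Topology.IsOpenEmbedding (p j))
    (hdisj : ∀ j j' (y : Yj j) (y' : Yj j'), p j y = p j' y' → j = j')
    (hcov : ∀ y : Y, ∃ j y', p j y' = y)
    (ej : ∀ j, Aj j → Yj j) (hej : ∀ j, Continuous (ej j))
    (hrange : ∀ j, Set.range (ej j) = p j ⁻¹' Set.range e)
    (h : ∀ j, P (ej j)) : P e := by
  intro V hV
  obtain ⟨O, hO, hOV⟩ := he.isInducing.isOpen_iff.1 hV.isOpen
  obtain ⟨C, hC, hCV⟩ := he.isInducing.isClosed_iff.1 hV.isClosed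
  -- every point of `Aj` maps into the range of `e`
  have hlift : ∀ j (a' : Aj j), ∃ a : A, e a = p j (ej j a') := by
    intro j a'
    have : ej j a' ∈ p j ⁻¹' Set.range e := by rw [← hrange j]; exact ⟨a', rfl⟩
    exact this
  have hOC : ∀ j (a' : Aj j), p j (ej j a') ∈ O ↔ p j (ej j a') ∈ C := by
    intro j a'
    obtain ⟨a, ha⟩ := hlift j a'
    rw [← ha]
    have h1 : e a ∈ O ↔ a ∈ V := by rw [← hOV]; rfl
    have h2 : e a ∈ C ↔ a ∈ V := by rw [← hCV]; rfl
    rw [h1, h2]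
  let Vj : ∀ j, Set (Aj j) := fun j => (fun a' => p j (ej j a')) ⁻¹' O
  have hVj : ∀ j, IsClopen (Vj j) := by
    intro j
    refine ⟨?_, hO.preimage ((hp j).continuous.comp (hej j))⟩
    have : Vj j = (fun a' => p j (ej j a')) ⁻¹' C := by
      ext a'; exact hOC j a'
    rw [this]
    exact hC.preimage ((hp j).continuous.comp (hej j))
  choose Uj hUj hUjuniq using fun j => h j (Vj j) (hVj j)
  let U : Set Y := ⋃ j, p j '' Uj j
  have memU : ∀ j (y' : Yj j), p j y' ∈ U ↔ y' ∈ Uj j := by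
    intro j y'
    constructor
    · intro hy
      obtain ⟨j'', y'', hy'', heq⟩ := Set.mem_iUnion.1 hy
      have hj : j'' = j := hdisj _ _ _ _ heq
      subst hj
      rwa [← (hp j'').injective heq]
    · intro hy
      exact Set.mem_iUnion.2 ⟨j, y', hy, rfl⟩
  have hUclopen : IsClopen U := by
    refine ⟨?_, isOpen_iUnion fun j => (hp j).isOpenMap _ (hUj j).1.isOpen⟩
    rw [← isOpen_compl_iff]
    have : Uᶜ = ⋃ j, p j '' (Uj j)ᶜ := by
      ext y
      constructor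
      · intro hy
        obtain ⟨j, y', rfl⟩ := hcov y
        exact Set.mem_iUnion.2 ⟨j, y', fun h' => hy ((memU j y').2 h'), rfl⟩
      · intro hy
        obtain ⟨j, y', hy', rfl⟩ := Set.mem_iUnion.1 hy
        exact fun h' => hy' ((memU j y').1 h')
    rw [this]
    exact isOpen_iUnion fun j => (hp j).isOpenMap _ (hUj j).1.isClosed.isOpen_compl
  refine ⟨U, ⟨hUclopen, ?_⟩, ?_⟩
  · ext a
    obtain ⟨j, y', hy'⟩ := hcov (e a)
    have hy'r : y' ∈ Set.range (ej j) := by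
      rw [hrange j]; exact ⟨a, hy'.symm⟩
    obtain ⟨a', rfl⟩ := hy'r
    show e a ∈ U ↔ a ∈ V
    rw [← hy', memU]
    have h1 : ej j a' ∈ Uj j ↔ a' ∈ Vj j := by rw [← (hUj j).2]; rfl
    rw [h1]
    show p j (ej j a') ∈ O ↔ a ∈ V
    rw [hy', ← hOV]; rfl
  · rintro U' ⟨hU'clopen, hU'V⟩
    have hpre : ∀ j, p j ⁻¹' U' = Uj j := by
      intro j
      apply hUjuniq j
      refine ⟨hU'clopen.preimage (hp j).continuous, ?_⟩
      ext a'
      obtain ⟨a, ha⟩ := hlift j a'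
      show p j (ej j a') ∈ U' ↔ p j (ej j a') ∈ O
      rw [← ha]
      have h1 : e a ∈ U' ↔ a ∈ V := by rw [← hU'V]; rfl
      have h2 : e a ∈ O ↔ a ∈ V := by rw [← hOV]; rfl
      rw [h1, h2]
    ext y
    obtain ⟨j, y', rfl⟩ := hcov y
    rw [memU, ← hpre j]
    rfl

end Groth.Agent.Lib.helper19.HensSigmaA
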