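import Groth.Agent.Lib.helper19.HensSigmaA
import Groth.Statements.S17964

set_option autoImplicit false
universe u
open CategoryTheory CategoryTheory.Limits AlgebraicGeometry

namespace Groth.Agent.Lib.helper19.HensSigmaB

variable {ι : Type u} (X X₀ : ι → Scheme.{u}) (i : ∀ j, X₀ j ⟶ X j)

example (j : ι) : IsOpenImmersion (Sigma.ι X j) := inferInstance

theorem exists_sigmaι_eq (z : ↥(∐ X)) : ∃ j x, (Sigma.ι X j).base x = z := by
  obtain ⟨⟨j, x⟩, rfl⟩ := (sigmaMk X).surjective z
  exact ⟨j, x, (sigmaMk_mk X j x).symm⟩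

theorem map_ι_apply (j : ι) (z : X₀ j) :
    (Limits.Sigma.map i).base ((Sigma.ι X₀ j).base z) = (Sigma.ι X j).base ((i j).base z) := by
  have h : Sigma.ι X₀ j ≫ Limits.Sigma.map i = i j ≫ Sigma.ι X j := Limits.Sigma.ι_map _ _
  have h2 : (Sigma.ι X₀ j ≫ Limits.Sigma.map i).base z = (i j ≫ Sigma.ι X j).base z := by rw [h]
  exact h2

theorem ι_preimage_range_map (j : ι) :
    (Sigma.ι X j).base ⁻¹' Set.range (Limits.Sigma.map i).base = Set.range (i j).base := by
  ext x
  constructor
  · rintro ⟨z, hz⟩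
    obtain ⟨j', z', rfl⟩ := exists_sigmaι_eq X₀ z
    rw [map_ι_apply] at hz
    have := (sigmaι_eq_iff X j' j _ _).1 hz
    cases this
    exact ⟨z', rfl⟩
  · rintro ⟨z', rfl⟩
    exact ⟨(Sigma.ι X₀ j).base z', map_ι_apply X X₀ i j z'⟩

theorem map_preimage_range_ι (j : ι) :
    (Limits.Sigma.map i).base ⁻¹' Set.range (Sigma.ι X j).base = Set.range (Sigma.ι X₀ j).base := by
  ext z
  constructor
  · rintro ⟨x, hx⟩
    obtain ⟨j', z', rfl⟩ := exists_sigmaι_eq X₀ z
    rw [map_ι_apply] at hx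
    have := (sigmaι_eq_iff X j j' _ _).1 hx
    cases this
    exact ⟨z', rfl⟩
  · rintro ⟨z', rfl⟩
    exact ⟨(i j).base z', (map_ι_apply X X₀ i j z').symm⟩

instance isClosedImmersion_ι (j : ι) : IsClosedImmersion (Sigma.ι X j) := by
  apply IsClosedImmersion.of_isPreimmersion
  rw [← isOpen_compl_iff]
  have : (Set.range (Sigma.ι X j).base)ᶜ =
      ⋃ (j' : {j' // j' ≠ j}), Set.range (Sigma.ι X j'.1).base := by
    ext z
    constructor
    · intro hz
      obtain ⟨j', x, rfl⟩ := exists_sigmaι_eq X z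
      have hne : j' ≠ j := by
        rintro rfl
        exact hz ⟨x, rfl⟩
      exact Set.mem_iUnion.2 ⟨⟨j', hne⟩, x, rfl⟩
    · intro hz
      obtain ⟨⟨j', hj'⟩, x, rfl⟩ := Set.mem_iUnion.1 hz
      rintro ⟨x', hx'⟩
      have := (sigmaι_eq_iff X j j' _ _).1 hx'
      cases this
      exact hj' rfl
  rw [this]
  exact isOpen_iUnion fun j' => (Sigma.ι X j'.1).isOpenEmbedding.isOpen_range

instance isClosedImmersion_map [∀ j, IsClosedImmersion (i j)] :
    IsClosedImmersion (Limits.Sigma.map i) := by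
  rw [IsZariskiLocalAtTarget.iff_of_openCover (P := @IsClosedImmersion) (sigmaOpenCover X)]
  intro j
  have hrange : Set.range (Sigma.ι X₀ j).base =
      Set.range (pullback.fst (Limits.Sigma.map i) (Sigma.ι X j)).base := by
    rw [Scheme.Pullback.range_fst, map_preimage_range_ι]
  let φ := IsOpenImmersion.isoOfRangeEq (Sigma.ι X₀ j)
    (pullback.fst (Limits.Sigma.map i) (Sigma.ι X j)) hrange
  have hφ : φ.hom ≫ pullback.fst (Limits.Sigma.map i) (Sigma.ι X j) = Sigma.ι X₀ j :=
    IsOpenImmersion.isoOfRangeEq_hom_fac _ _ _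
  have h1 : φ.hom ≫ pullback.snd (Limits.Sigma.map i) (Sigma.ι X j) = i j := by
    rw [← cancel_mono (Sigma.ι X j), Category.assoc, ← pullback.condition, reassoc_of% hφ,
      Limits.Sigma.ι_map]
  have h2 : pullback.snd (Limits.Sigma.map i) (Sigma.ι X j) = φ.inv ≫ i j := by
    rw [← h1, Iso.inv_hom_id_assoc]
  show IsClosedImmersion (pullback.snd (Limits.Sigma.map i) (Sigma.ι X j))
  rw [h2]
  infer_instance

open Groth.Agent.Lib.helper19.HensSigmaA

theorem cond_apply {Y : Scheme.{u}} (g : Y ⟶ ∐ X) (j : ι) (y : ↥(pullback g (Sigma.ι X j))) :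
    g.base ((pullback.fst g (Sigma.ι X j)).base y) =
      (Sigma.ι X j).base ((pullback.snd g (Sigma.ι X j)).base y) := by
  have h : pullback.fst g (Sigma.ι X j) ≫ g = pullback.snd g (Sigma.ι X j) ≫ Sigma.ι X j :=
    pullback.condition
  have h2 : (pullback.fst g (Sigma.ι X j) ≫ g).base y =
      (pullback.snd g (Sigma.ι X j) ≫ Sigma.ι X j).base y := by rw [h]
  exact h2

theorem main [∀ j, IsClosedImmersion (i j)] :
    (∀ (Y : Scheme.{u}) (g : Y ⟶ ∐ X), IsFinite g →
      ∀ V : Set ↥(pullback g (Limits.Sigma.map i)), IsClopen V →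
        ∃! U : Set ↥Y, IsClopen U ∧ (pullback.fst g (Limits.Sigma.map i)).base ⁻¹' U = V) ↔
    ∀ j : ι, ∀ (Y : Scheme.{u}) (g : Y ⟶ X j), IsFinite g →
      ∀ V : Set ↥(pullback g (i j)), IsClopen V →
        ∃! U : Set ↥Y, IsClopen U ∧ (pullback.fst g (i j)).base ⁻¹' U = V := by
  constructor
  · intro H j Y g hg
    haveI := hg
    have hfin : IsFinite (g ≫ Sigma.ι X j) := inferInstance
    have h1 : P (pullback.fst (g ≫ Sigma.ι X j) (Limits.Sigma.map i)).base := H Y _ hfin
    refine P_of_partition (ι := Unit) (Yj := fun _ => ↥Y)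
      (Aj := fun _ => ↥(pullback (g ≫ Sigma.ι X j) (Limits.Sigma.map i)))
      (pullback.fst g (i j)).base (pullback.fst g (i j)).isClosedEmbedding.isEmbedding
      (fun _ => id) (fun _ => Topology.IsOpenEmbedding.id) (fun _ _ _ _ _ => rfl)
      (fun y => ⟨(), y, rfl⟩)
      (fun _ => (pullback.fst (g ≫ Sigma.ι X j) (Limits.Sigma.map i)).base)
      (fun _ => Scheme.Hom.continuous _) ?_ (fun _ => h1)
    intro _
    rw [Scheme.Pullback.range_fst, Scheme.Pullback.range_fst, ← ι_preimage_range_map X X₀ i j]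
    rfl
  · intro H Y g hg
    haveI := hg
    refine P_of_partition (ι := ι) (Yj := fun j => ↥(pullback g (Sigma.ι X j)))
      (Aj := fun j => ↥(pullback (pullback.snd g (Sigma.ι X j)) (i j)))
      (pullback.fst g (Limits.Sigma.map i)).base
      (pullback.fst g (Limits.Sigma.map i)).isClosedEmbedding.isEmbedding
      (fun j => (pullback.fst g (Sigma.ι X j)).base)
      (fun j => (pullback.fst g (Sigma.ι X j)).isOpenEmbedding) ?_ ?_
      (fun j => (pullback.fst (pullback.snd g (Sigma.ι X j)) (i j)).base)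
      (fun j => Scheme.Hom.continuous _) ?_
      (fun j => H j _ (pullback.snd g (Sigma.ι X j)) inferInstance)
    · intro j j' y y' hyy
      have h1 := cond_apply X g j y
      have h2 := cond_apply X g j' y'
      rw [hyy, h2] at h1
      have := (sigmaι_eq_iff X j' j _ _).1 h1
      exact (congrArg Sigma.fst this).symm
    · intro y
      obtain ⟨j, x, hx⟩ := exists_sigmaι_eq X (g.base y)
      have : y ∈ Set.range (pullback.fst g (Sigma.ι X j)).base := by
        rw [Scheme.Pullback.range_fst]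
        exact ⟨x, hx⟩
      obtain ⟨y', hy'⟩ := this
      exact ⟨j, y', hy'⟩
    · intro j
      rw [Scheme.Pullback.range_fst, Scheme.Pullback.range_fst, ← ι_preimage_range_map X X₀ i j]
      ext y
      have hc := cond_apply X g j y
      simp only [Set.mem_preimage]
      rw [hc]

end Groth.Agent.Lib.helper19.HensSigmaB
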