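import Mathlib
import Groth.Prelude.Def_Hens2
import Groth.Agent.Lib.helper19.HfpEt
import Groth.Agent.Lib.Helper12.PairUniv
import Groth.Agent.Lib.Helper12.PairUnique
import Groth.Agent.Lib.Helper12.HfpIff
import Groth.Agent.Lib.Helper12.HfpSurj
import Groth.Agent.Lib.Helper12.HfpHom

set_option autoImplicit false
set_option linter.style.haveILetI false
universe u

namespace Groth.Agent.Lib.Helper19.HfpEt

open TensorProduct MvPolynomial Groth.Agent.Lib.Helper12 Groth.Agent.Lib.Helper12.PairNbhd

/-- A surjective henselian finitely presented map has finitely generated kernel. -/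
theorem fg_ker_of_surjective (H : Type u) [CommRing H] (J : Ideal H) [HenselianRing H J]
    (T : Type u) [CommRing T] [Algebra H T] [Algebra.FinitePresentation H T]
    (B : Type u) [CommRing B] [Algebra T B] [Algebra H B] [IsScalarTower H T B]
    (hB : Hens2.IsPairHenselization T (J.map (algebraMap H T)) B)
    (hsurj : Function.Surjective (algebraMap H B)) : (RingHom.ker (algebraMap H B)).FG := by
  classical
  obtain ⟨n, π, hπ, hfg⟩ := Algebra.FinitePresentation.out (R := H) (A := T)
  let P := MvPolynomial (Fin n) H
  let JP : Ideal P := J.map (algebraMap H P)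
  let PH := Lim P JP
  have hP : Hens2.IsPairHenselization P JP PH := Lim.isPairHenselization P JP
  letI : Algebra H PH := ((algebraMap P PH).comp (algebraMap H P)).toAlgebra
  haveI : IsScalarTower H P PH := IsScalarTower.of_algebraMap_eq fun _ => rfl
  obtain ⟨Φ, hΦs, hΦk⟩ := Hfp.exists_surjective_of_fp H J P PH hP T π hπ B hB
  choose h hh using fun i => hsurj (Φ (algebraMap P PH (X i)))
  let ev : P →ₐ[H] H := aeval h
  have hle : JP.map (ev : P →+* H) ≤ J := by
    show (J.map (algebraMap H P)).map (ev : P →+* H) ≤ J
    rw [Ideal.map_map]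
    have : (ev : P →+* H).comp (algebraMap H P) = RingHom.id H := by
      ext x
      exact ev.commutes x
    rw [this, Ideal.map_id]
  obtain ⟨ev', hev', -⟩ := hP.2 H J (ev : P →+* H) inferInstance hle
  have hev'' : ∀ p : P, ev' (algebraMap P PH p) = ev p := fun p => RingHom.congr_fun hev' p
  -- the henselian pair structure on `B`
  let JB : Ideal B := (J.map (algebraMap H T)).map (algebraMap T B)
  haveI : HenselianRing B JB := hB.1
  let f : P →+* B := (Φ : PH →+* B).comp (algebraMap P PH)
  have hfC : ∀ j : H, f (C j) = algebraMap H B j := by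
    intro j
    show Φ (algebraMap P PH (algebraMap H P j)) = _
    rw [← IsScalarTower.algebraMap_apply H P PH, Φ.commutes]
  have hle' : JP.map f ≤ JB := by
    show (J.map (algebraMap H P)).map f ≤ JB
    rw [Ideal.map_map, Ideal.map_le_iff_le_comap]
    intro j hj
    rw [Ideal.mem_comap, RingHom.comp_apply]
    show f (C j) ∈ JB
    rw [hfC, IsScalarTower.algebraMap_apply H T B]
    exact Ideal.mem_map_of_mem _ (Ideal.mem_map_of_mem _ hj)
  obtain ⟨g, -, huniq⟩ := hP.2 B JB f inferInstance hle'
  have h1 : (Φ : PH →+* B) = g := huniq _ rfl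
  have h2 : (algebraMap H B).comp ev' = g := by
    apply huniq
    rw [RingHom.comp_assoc, hev']
    apply MvPolynomial.ringHom_ext
    · intro j
      rw [hfC]
      show algebraMap H B (ev (C j)) = _
      have : ev (C j) = j := by
        show aeval h (C j) = j
        rw [aeval_C]
        rfl
      rw [this]
    · intro i
      show algebraMap H B (ev (X i)) = Φ (algebraMap P PH (X i))
      have : ev (X i) = h i := aeval_X h i
      rw [this, hh]
  have h3 : ∀ p : PH, algebraMap H B (ev' p) = Φ p := by
    intro p
    have := RingHom.congr_fun (h2.trans h1.symm) p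
    exact this
  have hsec : ∀ j : H, ev' (algebraMap H PH j) = j := by
    intro j
    rw [IsScalarTower.algebraMap_apply H P PH, hev'']
    exact ev.commutes j
  have hker : RingHom.ker (algebraMap H B) = (RingHom.ker (Φ : PH →+* B)).map ev' := by
    apply le_antisymm
    · intro j hj
      rw [← hsec j]
      apply Ideal.mem_map_of_mem
      rw [RingHom.mem_ker]
      show Φ (algebraMap H PH j) = 0
      rw [Φ.commutes]
      exact hj
    · rw [Ideal.map_le_iff_le_comap]
      intro p hp
      rw [Ideal.mem_comap, RingHom.mem_ker, h3]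
      exact hp
  rw [hker]
  apply Ideal.FG.map
  show (RingHom.ker Φ).FG
  rw [hΦk]
  exact hfg.map _

end Groth.Agent.Lib.Helper19.HfpEt
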