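import Mathlib
import Groth.Prelude.Def_Hens2
import Groth.Agent.Lib.helper19.HfpEt2
import Groth.Agent.Lib.helper19.EtLift
import Groth.Agent.Lib.Helper12.EtaleHomLift
import Groth.Agent.Lib.Helper12.PairTrunc
import Groth.Agent.Lib.Helper12.PairLocal

set_option autoImplicit false
set_option linter.style.haveILetI false
universe u

namespace Groth.Agent.Lib.Helper19.HfpEt

open TensorProduct MvPolynomial Groth.Agent.Lib.Helper12 Groth.Agent.Lib.Helper12.PairNbhd

theorem main_etale (A : Type u) [CommRing A] (I : Ideal A)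
    [HenselianRing A I] (R₀ : Type u) [CommRing R₀] [Algebra A R₀] [Algebra.FinitePresentation A R₀]
    (B : Type u) [CommRing B] [Algebra R₀ B] [Algebra A B] [IsScalarTower A R₀ B]
    (hB : Hens2.IsPairHenselization R₀ (I.map (algebraMap A R₀)) B)
    (het : ∀ r : ℕ, 1 ≤ r → Algebra.Etale (A ⧸ I ^ r) (B ⧸ (I ^ r).map (algebraMap A B))) :
    ∃ (R : Type u) (_ : CommRing R) (_ : Algebra A R) (H : Type u) (_ : CommRing H) (_ : Algebra R H)
      (_ : Algebra A H) (_ : IsScalarTower A R H),
      Algebra.Etale A R ∧ Hens2.IsPairHenselization R (I.map (algebraMap A R)) H ∧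
      ∃ φ : H →ₐ[A] B, Function.Surjective φ ∧ (RingHom.ker φ).FG ∧
        ∀ n : ℕ, RingHom.ker φ ≤ (I ^ n).map (algebraMap A H) := by
  classical
  have hIB : (I.map (algebraMap A R₀)).map (algebraMap R₀ B) = I.map (algebraMap A B) := by
    rw [Ideal.map_map, ← IsScalarTower.algebraMap_eq]
  haveI hBh : HenselianRing B (I.map (algebraMap A B)) := hIB ▸ hB.1
  have hI1 : (I ^ 1).map (algebraMap A B) = I.map (algebraMap A B) := by rw [pow_one]
  haveI hBh1 : HenselianRing B ((I ^ 1).map (algebraMap A B)) := hI1.symm ▸ hBh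
  haveI := het 1 le_rfl
  obtain ⟨R, _, _, hRet, ⟨e⟩⟩ :=
    _root_.Helper19.EtLift.main A (I ^ 1) (B ⧸ (I ^ 1).map (algebraMap A B))
  haveI : IsScalarTower A (A ⧸ I ^ 1) (B ⧸ (I ^ 1).map (algebraMap A B)) :=
    IsScalarTower.of_algebraMap_eq fun a => rfl
  let g : R →ₐ[A] B ⧸ (I ^ 1).map (algebraMap A B) :=
    (e.toAlgHom.restrictScalars A).comp Algebra.TensorProduct.includeRight
  have hg : ∀ r, g r = e (1 ⊗ₜ r) := fun r => rfl
  obtain ⟨ψ, hψ⟩ := exists_algHom_lift_of_etale_of_henselianRing ((I ^ 1).map (algebraMap A B)) g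
  have key : ∀ t : (A ⧸ I ^ 1) ⊗[A] R, ∃ r : R, (1 : A ⧸ I ^ 1) ⊗ₜ[A] r = t := by
    intro t
    induction t using TensorProduct.induction_on with
    | zero => exact ⟨0, by simp⟩
    | tmul x y =>
      obtain ⟨a, rfl⟩ := Ideal.Quotient.mk_surjective x
      refine ⟨a • y, ?_⟩
      rw [TensorProduct.tmul_smul, TensorProduct.smul_tmul', Algebra.smul_def, mul_one]
      rfl
    | add x y hx hy =>
      obtain ⟨r1, rfl⟩ := hx
      obtain ⟨r2, rfl⟩ := hy
      exact ⟨r1 + r2, TensorProduct.tmul_add _ _ _⟩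
  have M1 : ∀ b : B, ∃ r : R, b - ψ r ∈ I.map (algebraMap A B) := by
    intro b
    obtain ⟨t, ht⟩ := e.surjective (Ideal.Quotient.mk _ b)
    obtain ⟨r, rfl⟩ := key t
    refine ⟨r, ?_⟩
    rw [← hI1, ← Ideal.Quotient.eq, hψ, hg, ht]
  have M2 : ∀ r : R, ψ r ∈ I.map (algebraMap A B) → r ∈ I.map (algebraMap A R) := by
    intro r hr
    have h0 : g r = 0 := by
      rw [← hψ, Ideal.Quotient.eq_zero_iff_mem, hI1]
      exact hr
    have h1 : (1 : A ⧸ I ^ 1) ⊗ₜ[A] r = 0 := e.injective (by rw [← hg, h0, map_zero])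
    have h2 : Algebra.TensorProduct.quotIdealMapEquivQuotTensor R (I ^ 1)
        (Ideal.Quotient.mk _ r) = 0 := by
      rw [← h1]
      rfl
    have h3 := (Algebra.TensorProduct.quotIdealMapEquivQuotTensor R (I ^ 1)).injective
      (h2.trans (map_zero _).symm)
    rw [Ideal.Quotient.eq_zero_iff_mem, pow_one] at h3
    exact h3
  -- the henselization
  let IR : Ideal R := I.map (algebraMap A R)
  let H := Lim R IR
  have hH : Hens2.IsPairHenselization R IR H := Lim.isPairHenselization R IR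
  letI : Algebra A H := ((algebraMap R H).comp (algebraMap A R)).toAlgebra
  haveI : IsScalarTower A R H := IsScalarTower.of_algebraMap_eq fun _ => rfl
  have hIH : IR.map (algebraMap R H) = I.map (algebraMap A H) := by
    show (I.map (algebraMap A R)).map (algebraMap R H) = _
    rw [Ideal.map_map, ← IsScalarTower.algebraMap_eq]
  haveI hHh : HenselianRing H (I.map (algebraMap A H)) := hIH ▸ hH.1
  have hψA : (ψ : R →+* B).comp (algebraMap A R) = algebraMap A B := by
    ext a
    exact ψ.commutes a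
  have hleψ : IR.map (ψ : R →+* B) ≤ I.map (algebraMap A B) := by
    show (I.map (algebraMap A R)).map (ψ : R →+* B) ≤ _
    rw [Ideal.map_map, hψA]
  obtain ⟨φ₀, hφ₀, -⟩ := hH.2 B (I.map (algebraMap A B)) (ψ : R →+* B) hBh hleψ
  have hφ₀' : ∀ r, φ₀ (algebraMap R H r) = ψ r := fun r => RingHom.congr_fun hφ₀ r
  let φ : H →ₐ[A] B :=
    { φ₀ with
      commutes' := fun a => by
        show φ₀ (algebraMap R H (algebraMap A R a)) = _
        rw [hφ₀', ψ.commutes] }
  have hφ : ∀ h, φ h = φ₀ h := fun _ => rfl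
  letI : Algebra H B := φ₀.toAlgebra
  haveI : IsScalarTower A H B := IsScalarTower.of_algebraMap_eq fun a => (φ.commutes a).symm
  have hIHB : (I.map (algebraMap A H)).map (algebraMap H B) = I.map (algebraMap A B) := by
    rw [Ideal.map_map, ← IsScalarTower.algebraMap_eq]
  obtain ⟨T, _, _, _, _, hTfp, hT⟩ := Hfp.hfp_of_algHom A I R H hH R₀ B hB
  have hsurj : Function.Surjective (algebraMap H B) := by
    apply HfpSurj.surjective_of_quotient_surjective H (I.map (algebraMap A H)) T B hT
    intro y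
    obtain ⟨b, rfl⟩ := Ideal.Quotient.mk_surjective y
    obtain ⟨r, hr⟩ := M1 b
    refine ⟨Ideal.Quotient.mk _ (algebraMap R H r), ?_⟩
    rw [Ideal.quotientMap_mk, Ideal.Quotient.eq, hIHB]
    show φ₀ (algebraMap R H r) - b ∈ _
    rw [hφ₀', ← neg_sub]
    exact neg_mem hr
  have hfg : (RingHom.ker (algebraMap H B)).FG :=
    fg_ker_of_surjective H (I.map (algebraMap A H)) T B hT hsurj
  -- every element of `H` is congruent to an element of `R`
  have H1 : ∀ h : H, ∃ r : R, h - algebraMap R H r ∈ I.map (algebraMap A H) := by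
    intro h
    have hb := PairUnique.quotientMap_pow_bijective hH 1
    obtain ⟨y, hy⟩ := hb.2 (Ideal.Quotient.mk _ h)
    obtain ⟨r, rfl⟩ := Ideal.Quotient.mk_surjective y
    refine ⟨r, ?_⟩
    rw [Ideal.quotientMap_mk, Ideal.Quotient.eq, pow_one, hIH] at hy
    rw [← neg_sub]
    exact neg_mem hy
  have hφI : ∀ h : H, φ₀ h ∈ I.map (algebraMap A B) → h ∈ I.map (algebraMap A H) := by
    intro h hh
    obtain ⟨r, hr⟩ := H1 h
    have h1 : φ₀ (h - algebraMap R H r) ∈ I.map (algebraMap A B) := by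
      rw [← hIHB]
      exact Ideal.mem_map_of_mem (algebraMap H B) hr
    rw [map_sub, hφ₀'] at h1
    have h2 : ψ r ∈ I.map (algebraMap A B) := by
      have := sub_mem hh h1
      rwa [sub_sub_cancel] at this
    have h3 : algebraMap R H r ∈ I.map (algebraMap A H) := by
      rw [← hIH]
      exact Ideal.mem_map_of_mem _ (M2 r h2)
    have := add_mem hr h3
    rwa [sub_add_cancel] at this
  refine ⟨R, inferInstance, inferInstance, H, inferInstance, inferInstance, inferInstance,
    inferInstance, hRet, hH, φ, hsurj, hfg, ?_⟩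
  intro n x hx
  rcases Nat.eq_zero_or_pos n with rfl | hn
  · rw [pow_zero, Ideal.one_eq_top, Ideal.map_top]
    trivial
  haveI := het n hn
  haveI : Algebra.Etale (A ⧸ I ^ n) (H ⧸ (I ^ n).map (algebraMap A H)) :=
    PairUnique.etale_truncation A I R H hH n
  have hφA : (φ₀ : H →+* B).comp (algebraMap A H) = algebraMap A B := by
    ext a
    exact φ.commutes a
  have hle : (I ^ n).map (algebraMap A H) ≤ ((I ^ n).map (algebraMap A B)).comap φ₀ := by
    rw [← Ideal.map_le_iff_le_comap, Ideal.map_map, hφA]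
  let f₀ : H ⧸ (I ^ n).map (algebraMap A H) →+* B ⧸ (I ^ n).map (algebraMap A B) :=
    Ideal.quotientMap _ φ₀ hle
  let f : (H ⧸ (I ^ n).map (algebraMap A H)) →ₐ[A ⧸ I ^ n] (B ⧸ (I ^ n).map (algebraMap A B)) :=
    { f₀ with
      commutes' := fun x => by
        obtain ⟨a, rfl⟩ := Ideal.Quotient.mk_surjective x
        show f₀ (algebraMap (A ⧸ I ^ n) (H ⧸ (I ^ n).map (algebraMap A H))
          (Ideal.Quotient.mk _ a)) = _
        rw [Ideal.Quotient.algebraMap_quotient_map_quotient, Ideal.quotientMap_mk,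
          Ideal.Quotient.algebraMap_quotient_map_quotient]
        congr 1
        exact φ.commutes a }
  have hf : ∀ h : H, f (Ideal.Quotient.mk _ h) = Ideal.Quotient.mk _ (φ₀ h) := fun h => rfl
  let J₁ : Ideal (H ⧸ (I ^ n).map (algebraMap A H)) :=
    (I.map (algebraMap A H)).map (Ideal.Quotient.mk _)
  let J₂ : Ideal (B ⧸ (I ^ n).map (algebraMap A B)) :=
    (I.map (algebraMap A B)).map (Ideal.Quotient.mk _)
  have hJ₁ : IsNilpotent J₁ := by
    refine ⟨n, ?_⟩
    show ((I.map (algebraMap A H)).map (Ideal.Quotient.mk _)) ^ n = 0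
    rw [← Ideal.map_pow, ← Ideal.map_pow, Ideal.map_quotient_self]
    rfl
  have hpowle : (I ^ n).map (algebraMap A B) ≤ I.map (algebraMap A B) :=
    Ideal.map_mono (Ideal.pow_le_self hn.ne')
  have hpowleH : (I ^ n).map (algebraMap A H) ≤ I.map (algebraMap A H) :=
    Ideal.map_mono (Ideal.pow_le_self hn.ne')
  have hmemJ₂ : ∀ b : B, Ideal.Quotient.mk ((I ^ n).map (algebraMap A B)) b ∈ J₂ ↔
      b ∈ I.map (algebraMap A B) := by
    intro b
    constructor
    · intro hb
      obtain ⟨c, hc, hcb⟩ := (Ideal.mem_map_iff_of_surjective _ Ideal.Quotient.mk_surjective).1 hb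
      rw [Ideal.Quotient.eq] at hcb
      have := sub_mem hc (hpowle hcb)
      rwa [sub_sub_cancel] at this
    · intro hb
      exact Ideal.mem_map_of_mem _ hb
  have hleJ : J₁ ≤ J₂.comap f := by
    show (I.map (algebraMap A H)).map (Ideal.Quotient.mk _) ≤ _
    rw [Ideal.map_le_iff_le_comap]
    intro h hh
    rw [Ideal.mem_comap, Ideal.mem_comap, hf, hmemJ₂, ← hIHB]
    exact Ideal.mem_map_of_mem (algebraMap H B) hh
  have hbij : Function.Bijective (Ideal.quotientMapₐ J₂ f hleJ) := by
    constructor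
    · rw [injective_iff_map_eq_zero]
      intro z hz
      obtain ⟨z', rfl⟩ := Ideal.Quotient.mk_surjective z
      obtain ⟨h, rfl⟩ := Ideal.Quotient.mk_surjective z'
      have h1 : Ideal.Quotient.mk J₂ (f (Ideal.Quotient.mk _ h)) = 0 := hz
      rw [Ideal.Quotient.eq_zero_iff_mem, hf, hmemJ₂] at h1
      rw [Ideal.Quotient.eq_zero_iff_mem]
      exact Ideal.mem_map_of_mem _ (hφI h h1)
    · intro z
      obtain ⟨z', rfl⟩ := Ideal.Quotient.mk_surjective z
      obtain ⟨b, rfl⟩ := Ideal.Quotient.mk_surjective z'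
      obtain ⟨r, hr⟩ := M1 b
      refine ⟨Ideal.Quotient.mk _ (Ideal.Quotient.mk _ (algebraMap R H r)), ?_⟩
      show Ideal.Quotient.mk J₂ (f (Ideal.Quotient.mk _ (algebraMap R H r))) = _
      rw [hf, hφ₀', Ideal.Quotient.eq, ← map_sub, hmemJ₂, ← neg_sub]
      exact neg_mem hr
  have hinj := injective_of_nilpotent f J₁ J₂ hJ₁ hleJ hbij
  have hx0 : f (Ideal.Quotient.mk _ x) = 0 := by
    rw [hf]
    have : φ₀ x = 0 := hx
    rw [this, map_zero]
  have := hinj (hx0.trans (map_zero f).symm)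
  rwa [Ideal.Quotient.eq_zero_iff_mem] at this

/-- From a surjection `H → B` with small finitely generated kernel and `B` flat: `B` is itself a
henselization. -/
theorem of_flat (A : Type u) [CommRing A] (I : Ideal A) (B : Type u) [CommRing B] [Algebra A B]
    [Module.Flat A B]
    (R : Type u) [CommRing R] [Algebra A R] (H : Type u) [CommRing H] [Algebra R H]
    [Algebra A H] [IsScalarTower A R H]
    (hH : Hens2.IsPairHenselization R (I.map (algebraMap A R)) H)
    (φ : H →ₐ[A] B) (hφ : Function.Surjective φ) (hfg : (RingHom.ker φ).FG)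
    (hker : ∀ n : ℕ, RingHom.ker φ ≤ (I ^ n).map (algebraMap A H)) :
    ∃ (_ : Algebra R B) (_ : IsScalarTower A R B),
      Hens2.IsPairHenselization R (I.map (algebraMap A R)) B := by
  have hIH : (I.map (algebraMap A R)).map (algebraMap R H) = I.map (algebraMap A H) := by
    rw [Ideal.map_map, ← IsScalarTower.algebraMap_eq]
  haveI hHh : HenselianRing H (I.map (algebraMap A H)) := hIH ▸ hH.1
  have hK : RingHom.ker φ = ⊥ := by
    apply Submodule.eq_bot_of_le_smul_of_le_jacobson_bot (I.map (algebraMap A H)) _ hfg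
    · intro x hx
      have h1 : x ∈ I.map (algebraMap A H) := by
        have := hker 1 hx
        rwa [pow_one] at this
      have := mem_mul_ker_of_flat I φ hφ hx h1
      rwa [← smul_eq_mul] at this
    · exact HenselianRing.jac
  have hinj : Function.Injective φ := (RingHom.injective_iff_ker_eq_bot _).2 hK
  let e : H ≃ₐ[A] B := AlgEquiv.ofBijective φ ⟨hinj, hφ⟩
  letI : Algebra R B := ((φ : H →+* B).comp (algebraMap R H)).toAlgebra
  have hRB : ∀ r, algebraMap R B r = φ (algebraMap R H r) := fun _ => rfl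
  haveI : IsScalarTower A R B := IsScalarTower.of_algebraMap_eq fun a => by
    rw [hRB, ← IsScalarTower.algebraMap_apply A R H, φ.commutes]
  let e' : H ≃ₐ[R] B := { e.toRingEquiv with commutes' := fun r => rfl }
  exact ⟨inferInstance, inferInstance, PairUnique.isPairHenselization_of_algEquiv hH e'⟩

theorem main_etale_flat (A : Type u) [CommRing A] (I : Ideal A)
    [HenselianRing A I] (R₀ : Type u) [CommRing R₀] [Algebra A R₀] [Algebra.FinitePresentation A R₀]
    (B : Type u) [CommRing B] [Algebra R₀ B] [Algebra A B] [IsScalarTower A R₀ B]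
    (hB : Hens2.IsPairHenselization R₀ (I.map (algebraMap A R₀)) B) [Module.Flat A B]
    (het : ∀ r : ℕ, 1 ≤ r → Algebra.Etale (A ⧸ I ^ r) (B ⧸ (I ^ r).map (algebraMap A B))) :
    ∃ (R : Type u) (_ : CommRing R) (_ : Algebra A R) (_ : Algebra R B) (_ : IsScalarTower A R B),
      Algebra.Etale A R ∧ Hens2.IsPairHenselization R (I.map (algebraMap A R)) B := by
  obtain ⟨R, _, _, H, _, _, _, _, hRet, hH, φ, hφ, hfg, hker⟩ := main_etale A I R₀ B hB het
  obtain ⟨i1, i2, h⟩ := of_flat A I B R H hH φ hφ hfg hker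
  exact ⟨R, inferInstance, inferInstance, i1, i2, hRet, h⟩

end Groth.Agent.Lib.Helper19.HfpEt
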