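import Groth.Agent.Lib.helper19.FinEtLift2
import Groth.Prelude.Def_Hens2

set_option autoImplicit false
set_option linter.style.haveILetI false
universe u
open TensorProduct

namespace Groth.Agent.Lib.helper19.FinEtLift
open Groth.Agent.Lib.Helper12

theorem hfp_finite (A : Type u) [CommRing A] (I : Ideal A)
    [HenselianRing A I] (R : Type u) [CommRing R] [Algebra A R] [Algebra.FinitePresentation A R]
    (B : Type u) [CommRing B] [Algebra R B] [Algebra A B] [IsScalarTower A R B]
    (hB : Hens2.IsPairHenselization R (I.map (algebraMap A R)) B)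
    (hfin : (Ideal.quotientMap (I.map (algebraMap A B)) (algebraMap A B) Ideal.le_comap_map).Finite) :
    Module.Finite A B ∧ Algebra.FinitePresentation A B := by
  classical
  set JR := I.map (algebraMap A R) with hJR
  set K₀ := I.map (algebraMap A B) with hK₀
  -- step 1
  have h1 : Module.Finite A (B ⧸ K₀) := by
    rw [← RingHom.finite_algebraMap]
    have : (algebraMap A (B ⧸ K₀)) =
        (Ideal.quotientMap K₀ (algebraMap A B) Ideal.le_comap_map).comp (Ideal.Quotient.mk I) := by
      ext a; rfl
    rw [this]
    exact hfin.comp (RingHom.Finite.of_surjective _ Ideal.Quotient.mk_surjective)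
  have hK : (JR ^ 1).map (algebraMap R B) = K₀ := by
    rw [pow_one, hJR, Ideal.map_map, ← IsScalarTower.algebraMap_eq]
  have hbij := PairUnique.quotientMap_pow_bijective hB 1
  haveI : Module.Finite A (B ⧸ (JR ^ 1).map (algebraMap R B)) :=
    Module.Finite.equiv (Ideal.quotientEquivAlgOfEq A hK.symm).toLinearEquiv
  let ℓ : (R ⧸ JR ^ 1) →ₐ[A] (B ⧸ (JR ^ 1).map (algebraMap R B)) :=
    Ideal.quotientMapₐ _ (IsScalarTower.toAlgHom A R B) Ideal.le_comap_map
  have hℓ : Function.Bijective ℓ := hbij
  haveI : Module.Finite A (R ⧸ JR ^ 1) :=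
    Module.Finite.equiv (LinearEquiv.ofBijective ℓ.toLinearMap hℓ).symm
  haveI : Module.Finite A (R ⧸ JR) :=
    Module.Finite.equiv (Ideal.quotientEquivAlgOfEq A (pow_one JR)).toLinearEquiv
  -- step 2
  obtain ⟨e, he, he1, hfinR₁⟩ := exists_idem_finite' I R
  haveI := hfinR₁
  let R₁ := R ⧸ Ideal.span {1 - e}
  haveI : Algebra.IsIntegral A R₁ := inferInstance
  have hR₁ : Hens2.IsPairHenselization R JR R₁ := by
    constructor
    · have := henselianRing_map_of_isIntegral A I R₁
      have h2 : JR.map (algebraMap R R₁) = I.map (algebraMap A R₁) := by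
        rw [hJR, Ideal.map_map, ← IsScalarTower.algebraMap_eq]
      rw [h2]; exact this
    · intro C _ J f hJ hle
      have hfe : f e = 1 := by
        refine PairCRT.idem_eq_one (HenselianRing.jac (I := J)) (he.map f) ?_
        have : f e - 1 = f (e - 1) := by simp
        rw [this]
        exact hle (Ideal.mem_map_of_mem f he1)
      have hker : ∀ x ∈ Ideal.span {1 - e}, f x = 0 := by
        intro x hx
        rw [Ideal.mem_span_singleton] at hx
        obtain ⟨c, rfl⟩ := hx
        rw [map_mul, map_sub, map_one, hfe, sub_self, zero_mul]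
      refine ⟨Ideal.Quotient.lift _ f hker, ?_, ?_⟩
      · ext x; rfl
      · intro g' hg'
        ext x
        exact RingHom.congr_fun hg' x
  obtain ⟨ε⟩ := PairUnique.nonempty_algEquiv hB hR₁
  have εA : B ≃ₐ[A] R₁ := ε.restrictScalars A
  refine ⟨Module.Finite.equiv εA.symm.toLinearEquiv, ?_⟩
  haveI : Algebra.FinitePresentation A R₁ :=
    Algebra.FinitePresentation.quotient ⟨{1 - e}, by simp⟩
  exact Algebra.FinitePresentation.equiv εA.symm

end Groth.Agent.Lib.helper19.FinEtLift
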