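import Groth.Agent.Lib.helper19.LinProj5

/-!
# Projection from a point of projective space: algebra (helper19)
-/

set_option autoImplicit false
universe u
open CategoryTheory CategoryTheory.Limits AlgebraicGeometry Opposite TopologicalSpace

noncomputable section

namespace Groth.Agent.Lib.helper19.NoethNorm2

open Groth.Agent.Lib.helper19.LinProj1 Groth.Agent.Lib.helper19.LinProj2 Groth.Agent.Lib.helper19.LinProj3
open Groth.Agent.Lib.Helper28

attribute [local instance] MvPolynomial.gradedAlgebra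

section hom

variable {σ : Type*} {k D : Type*} [CommSemiring k] [CommSemiring D] [Algebra k D]

theorem aeval_smul_of_isHomogeneous (F : MvPolynomial σ k) (e : ℕ) (hF : F.IsHomogeneous e)
    (a : σ → k) (t : D) :
    MvPolynomial.aeval (fun j => a j • t) F = (MvPolynomial.eval a F) • t ^ e := by
  conv_lhs => rw [F.as_sum]
  conv_rhs => rw [F.as_sum]
  rw [map_sum, map_sum, Finset.sum_smul]
  refine Finset.sum_congr rfl fun d hd => ?_
  have hdeg : ∑ i ∈ d.support, d i = e := (hF.degree_eq_sum_deg_support hd).symm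
  rw [MvPolynomial.aeval_monomial, MvPolynomial.eval_monomial, Algebra.smul_def, map_mul, mul_assoc]
  congr 1
  simp only [Finsupp.prod]
  rw [map_prod]
  have : ∀ i ∈ d.support, (a i • t) ^ d i = algebraMap k D (a i ^ d i) * t ^ d i := by
    intro i _
    rw [Algebra.smul_def, mul_pow, map_pow]
  rw [Finset.prod_congr rfl this, Finset.prod_mul_distrib, Finset.prod_pow_eq_pow_sum, hdeg]

end hom

variable (k : Type u) [Field k] (m : ℕ)

/-- the linear forms defining the projection from the point `(1 : a₀ : … : aₘ)` -/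
def ℓ (a : Fin (m + 1) → k) (i : Fin (m + 1)) : MvPolynomial (Fin (m + 1 + 1)) k :=
  MvPolynomial.X i.succ - MvPolynomial.C (a i) * MvPolynomial.X 0

theorem ℓ_isHomogeneous (a : Fin (m + 1) → k) (i : Fin (m + 1)) : (ℓ k m a i).IsHomogeneous 1 := by
  unfold ℓ
  refine MvPolynomial.IsHomogeneous.sub (MvPolynomial.isHomogeneous_X k _) ?_
  exact MvPolynomial.isHomogeneous_C_mul_X _ _

/-- the graded homomorphism of the projection -/
def φ (a : Fin (m + 1) → k) : CohB1.polyGrading m k →+*ᵍ CohB1.polyGrading (m + 1) k where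
  toRingHom := (MvPolynomial.aeval (ℓ k m a) :
    MvPolynomial (Fin (m + 1)) k →ₐ[k] MvPolynomial (Fin (m + 1 + 1)) k).toRingHom
  map_mem := by
    intro i x hx
    have h := MvPolynomial.IsHomogeneous.aeval
      ((MvPolynomial.mem_homogeneousSubmodule i x).1 hx) (ℓ k m a) (ℓ_isHomogeneous k m a)
    rw [one_mul] at h
    exact (MvPolynomial.mem_homogeneousSubmodule i _).2 h

theorem φ_apply (a : Fin (m + 1) → k) (x : MvPolynomial (Fin (m + 1)) k) :
    φ k m a x = MvPolynomial.aeval (ℓ k m a) x := rfl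

theorem φ_X (a : Fin (m + 1) → k) (i : Fin (m + 1)) : φ k m a (MvPolynomial.X i) = ℓ k m a i := by
  rw [φ_apply, MvPolynomial.aeval_X]

/-- the index of the coordinate `Z_i` -/
def idx (i : Fin (m + 1)) : Idx (CohB1.polyGrading m k) where
  deg := 1
  pos := one_pos
  elt := MvPolynomial.X i
  mem := (MvPolynomial.mem_homogeneousSubmodule 1 _).mpr (MvPolynomial.isHomogeneous_X k i)

/-- the point `(1 : a₀ : … : aₘ)` -/
def pt (a : Fin (m + 1) → k) : Fin (m + 1 + 1) → k := Fin.cons 1 a

/-- the key algebraic fact: a prime containing the linear forms and a form not vanishing at the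
centre of the projection contains all the coordinates -/
theorem X_mem_of_mem (a : Fin (m + 1) → k) (p : Ideal (MvPolynomial (Fin (m + 1 + 1)) k))
    [p.IsPrime] (F : MvPolynomial (Fin (m + 1 + 1)) k) (e : ℕ) (hF : F.IsHomogeneous e)
    (hFa : MvPolynomial.eval (pt k m a) F ≠ 0) (hFp : F ∈ p) (hℓ : ∀ i, ℓ k m a i ∈ p)
    (j : Fin (m + 1 + 1)) : MvPolynomial.X j ∈ p := by
  have h0 : (MvPolynomial.X 0 : MvPolynomial (Fin (m + 1 + 1)) k) ∈ p := by
    -- work in the quotient
    set mk : MvPolynomial (Fin (m + 1 + 1)) k →ₐ[k] (MvPolynomial (Fin (m + 1 + 1)) k ⧸ p) :=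
      Ideal.Quotient.mkₐ k p with hmk
    set t := mk (MvPolynomial.X 0) with ht
    have hX : ∀ j, mk (MvPolynomial.X j) = pt k m a j • t := by
      intro j
      refine Fin.cases ?_ (fun i => ?_) j
      · show mk (MvPolynomial.X 0) = (1 : k) • t
        rw [one_smul]
      · show mk (MvPolynomial.X i.succ) = a i • t
        have h1 : mk (ℓ k m a i) = 0 := Ideal.Quotient.eq_zero_iff_mem.mpr (hℓ i)
        unfold ℓ at h1
        rw [map_sub, map_mul, sub_eq_zero] at h1
        rw [h1, ← MvPolynomial.algebraMap_eq, AlgHom.commutes, ← Algebra.smul_def]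
    have h2 : mk F = MvPolynomial.aeval (fun j => pt k m a j • t) F := by
      conv_lhs => rw [MvPolynomial.aeval_unique mk]
      have : (⇑mk ∘ MvPolynomial.X) = fun j => pt k m a j • t := funext hX
      rw [this]
    rw [aeval_smul_of_isHomogeneous F e hF] at h2
    have h3 : mk F = 0 := Ideal.Quotient.eq_zero_iff_mem.mpr hFp
    rw [h3] at h2
    have h4 : t ^ e = 0 := by
      have := congrArg (fun z => (MvPolynomial.eval (pt k m a) F)⁻¹ • z) h2
      simp only [smul_zero, smul_smul, inv_mul_cancel₀ hFa, one_smul] at this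
      exact this.symm
    have h5 : (MvPolynomial.X 0 : MvPolynomial (Fin (m + 1 + 1)) k) ^ e ∈ p := by
      apply Ideal.Quotient.eq_zero_iff_mem.mp
      rw [map_pow]
      exact h4
    exact Ideal.IsPrime.mem_of_pow_mem inferInstance e h5
  refine Fin.cases h0 (fun i => ?_) j
  have h1 := hℓ i
  unfold ℓ at h1
  have h2 : (MvPolynomial.X i.succ : MvPolynomial (Fin (m + 1 + 1)) k) =
      (MvPolynomial.X i.succ - MvPolynomial.C (a i) * MvPolynomial.X 0) +
        MvPolynomial.C (a i) * MvPolynomial.X 0 := by ring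
  rw [h2]
  exact p.add_mem h1 (p.mul_mem_left _ h0)

theorem adjoin_X (n : ℕ) : Algebra.adjoin k
    (Set.range (MvPolynomial.X : Fin (n + 1) → MvPolynomial (Fin (n + 1)) k)) = ⊤ :=
  MvPolynomial.adjoin_range_X

/-- points off a hypersurface not containing the centre lie in the domain of the projection -/
theorem mem_U (a : Fin (m + 1) → k) (F : MvPolynomial (Fin (m + 1 + 1)) k) (e : ℕ)
    (hF : F.IsHomogeneous e) (hFa : MvPolynomial.eval (pt k m a) F ≠ 0)
    (y : Proj (CohB1.polyGrading (m + 1) k))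
    (hy : y ∉ Proj.basicOpen (CohB1.polyGrading (m + 1) k) F) : y ∈ U (φ k m a) := by
  rw [mem_U_iff]
  by_contra hcon
  push Not at hcon
  have hFp : F ∈ y.asHomogeneousIdeal.toIdeal := by
    by_contra h
    exact hy ((Proj.mem_basicOpen _ _ _).mpr h)
  have hℓ : ∀ i, ℓ k m a i ∈ y.asHomogeneousIdeal.toIdeal := by
    intro i
    have := hcon (idx k m i)
    rw [Proj.mem_basicOpen, not_not] at this
    have h2 : φ k m a (idx k m i).elt = ℓ k m a i := φ_X k m a i
    rw [h2] at this
    exact this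
  haveI : (y.asHomogeneousIdeal.toIdeal).IsPrime := y.isPrime
  obtain ⟨j, hj⟩ := Segre5.cover_of_adjoin (CohB1.polyGrading (m + 1) k)
    (fun j : Fin (m + 1 + 1) => (MvPolynomial.X j : MvPolynomial (Fin (m + 1 + 1)) k))
    (fun j => (MvPolynomial.mem_homogeneousSubmodule 1 _).mpr (MvPolynomial.isHomogeneous_X k j))
    (adjoin_X k (m + 1)) y
  rw [Proj.mem_basicOpen] at hj
  exact hj (X_mem_of_mem k m a _ F e hF hFa hFp hℓ j)

/-- existence of a centre off a given hypersurface -/
theorem exists_pt [Infinite k] (F : MvPolynomial (Fin (m + 1 + 1)) k) (e : ℕ)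
    (hF : F.IsHomogeneous e) (hne : F ≠ 0) :
    ∃ a : Fin (m + 1) → k, MvPolynomial.eval (pt k m a) F ≠ 0 := by
  have hG : F * MvPolynomial.X 0 ≠ 0 := mul_ne_zero hne (MvPolynomial.X_ne_zero 0)
  obtain ⟨c, hc⟩ : ∃ c : Fin (m + 1 + 1) → k, MvPolynomial.eval c (F * MvPolynomial.X 0) ≠ 0 := by
    by_contra h
    push Not at h
    exact hG (MvPolynomial.funext (fun x => by rw [h x, map_zero]))
  rw [map_mul, MvPolynomial.eval_X] at hc
  have hc0 : c 0 ≠ 0 := right_ne_zero_of_mul hc
  have hcF : MvPolynomial.eval c F ≠ 0 := left_ne_zero_of_mul hc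
  refine ⟨fun i => c i.succ * (c 0)⁻¹, ?_⟩
  have hpt : pt k m (fun i => c i.succ * (c 0)⁻¹) = fun j => c j • (c 0)⁻¹ := by
    funext j
    refine Fin.cases ?_ (fun i => ?_) j
    · show (1 : k) = c 0 • (c 0)⁻¹
      rw [smul_eq_mul, mul_inv_cancel₀ hc0]
    · rfl
  have h := aeval_smul_of_isHomogeneous (D := k) F e hF c (c 0)⁻¹
  rw [hpt]
  have h2 : MvPolynomial.eval (fun j => c j • (c 0)⁻¹) F =
      MvPolynomial.aeval (fun j => c j • (c 0)⁻¹) F := by
    rw [MvPolynomial.aeval_def, MvPolynomial.eval, Algebra.algebraMap_self]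
    rfl
  rw [h2, h]
  exact smul_ne_zero hcF (pow_ne_zero _ (inv_ne_zero hc0))

end Groth.Agent.Lib.helper19.NoethNorm2
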