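import Groth.Agent.Lib.helper19.ClImmB
import Groth.Agent.Lib.helper19.NoethNorm2

/-!
# A hyperplane of projective space: the algebra (helper19)

For a linear form `ℓ = ∑ c_i X_i` with `c_p ≠ 0` we construct the surjection
`ψ : k[X_0..X_{n+1}] → k[Y_0..Y_n]` of graded rings with kernel `(ℓ)` and compute the kernels of
the induced maps on the standard charts.
-/

set_option autoImplicit false
universe u
open CategoryTheory AlgebraicGeometry Opposite TopologicalSpace HomogeneousLocalization
open MvPolynomial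

noncomputable section

namespace Groth.Agent.Lib.helper19.HypA

open Groth.Agent.Lib.Helper19.ClImmB

variable (k : Type u) [Field k] (n : ℕ) (c : Fin (n + 1 + 1) → k) (p : Fin (n + 1 + 1))

local notation "𝒜" => CohB1.polyGrading (n + 1) k
local notation "ℬ" => CohB1.polyGrading n k
local notation "AA" => MvPolynomial (Fin (n + 1 + 1)) k
local notation "BB" => MvPolynomial (Fin (n + 1)) k

/-- the image of `X_p` -/
def w : BB := - C (c p)⁻¹ * ∑ j : Fin (n + 1), C (c (p.succAbove j)) * X j

/-- the images of the variables -/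
def img : Fin (n + 1 + 1) → BB := p.insertNth (w k n c p) (fun j => (X j : BB))

theorem img_same : img k n c p p = w k n c p := by
  unfold img; exact Fin.insertNth_apply_same _ _ _

theorem img_succAbove (j : Fin (n + 1)) : img k n c p (p.succAbove j) = X j := by
  unfold img; exact Fin.insertNth_apply_succAbove _ _ _ _

theorem w_isHomogeneous : (w k n c p).IsHomogeneous 1 := by
  unfold w
  have h0 : (-(C (c p)⁻¹ : BB)).IsHomogeneous 0 := (MvPolynomial.isHomogeneous_C _ _).neg
  have h1 : (∑ j : Fin (n + 1), C (c (p.succAbove j)) * (X j : BB)).IsHomogeneous 1 :=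
    MvPolynomial.IsHomogeneous.sum _ _ _ fun j _ => MvPolynomial.isHomogeneous_C_mul_X _ _
  have := h0.mul h1
  rw [zero_add] at this
  rwa [neg_mul] at this ⊢

theorem img_isHomogeneous (i : Fin (n + 1 + 1)) : (img k n c p i).IsHomogeneous 1 := by
  rcases Fin.eq_self_or_eq_succAbove p i with h | ⟨j, h⟩
  · rw [h, img_same]; exact w_isHomogeneous k n c p
  · rw [h, img_succAbove]; exact MvPolynomial.isHomogeneous_X k j

/-- the graded surjection -/
def ψ : 𝒜 →+*ᵍ ℬ where
  toRingHom := (MvPolynomial.aeval (img k n c p) : AA →ₐ[k] BB).toRingHom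
  map_mem := by
    intro i x hx
    have h := MvPolynomial.IsHomogeneous.aeval
      ((MvPolynomial.mem_homogeneousSubmodule i x).1 hx) (img k n c p) (img_isHomogeneous k n c p)
    rw [one_mul] at h
    exact (MvPolynomial.mem_homogeneousSubmodule i _).2 h

theorem ψ_apply (x : AA) : ψ k n c p x = MvPolynomial.aeval (img k n c p) x := rfl

theorem ψ_X_same : ψ k n c p (X p) = w k n c p := by
  rw [ψ_apply, aeval_X, img_same]

theorem ψ_X_succAbove (j : Fin (n + 1)) : ψ k n c p (X (p.succAbove j)) = X j := by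
  rw [ψ_apply, aeval_X, img_succAbove]

theorem ψ_C (a : k) : ψ k n c p (C a) = C a := by
  rw [ψ_apply, aeval_C]; rfl

theorem ψ_lin (hp : c p ≠ 0) : ψ k n c p (lin c) = 0 := by
  unfold lin
  rw [map_sum, Fin.sum_univ_succAbove _ p]
  simp only [map_mul, ψ_C, ψ_X_same, ψ_X_succAbove]
  unfold w
  have h1 : (C (c p) : BB) * C (c p)⁻¹ = 1 := by
    rw [← C_mul, mul_inv_cancel₀ hp, C_1]
  linear_combination (-(∑ j : Fin (n + 1), C (c (p.succAbove j)) * (X j : BB))) * h1

/-- the section of `ψ` -/
def sec : BB →ₐ[k] AA := MvPolynomial.aeval (fun j => (X (p.succAbove j) : AA))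

theorem ψ_sec (b : BB) : ψ k n c p (sec k n p b) = b := by
  have h : ((MvPolynomial.aeval (img k n c p) : AA →ₐ[k] BB).comp (sec k n p)) = AlgHom.id k BB := by
    apply MvPolynomial.algHom_ext
    intro j
    simp only [AlgHom.comp_apply, sec, aeval_X, AlgHom.id_apply, img_succAbove]
  exact congrArg (fun f : BB →ₐ[k] BB => f b) h

theorem ψ_surjective : Function.Surjective (ψ k n c p) := fun b => ⟨_, ψ_sec k n c p b⟩

theorem sub_sec_mem (hp : c p ≠ 0) (a : AA) :
    a - sec k n p (ψ k n c p a) ∈ Ideal.span {lin c} := by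
  rw [← Ideal.Quotient.eq]
  have h : ((Ideal.Quotient.mkₐ k (Ideal.span {lin c})).comp
      ((sec k n p).comp (MvPolynomial.aeval (img k n c p) : AA →ₐ[k] BB))) =
      Ideal.Quotient.mkₐ k (Ideal.span {lin c}) := by
    apply MvPolynomial.algHom_ext
    intro i
    simp only [AlgHom.comp_apply, aeval_X, Ideal.Quotient.mkₐ_eq_mk]
    rw [Ideal.Quotient.eq]
    rcases Fin.eq_self_or_eq_succAbove p i with h | ⟨j, h⟩
    · rw [h, img_same]
      unfold w
      simp only [sec, map_mul, map_neg, map_sum, aeval_X, aeval_C]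
      rw [Ideal.mem_span_singleton']
      refine ⟨- C (c p)⁻¹, ?_⟩
      unfold lin
      rw [Fin.sum_univ_succAbove _ p]
      have h1 : (C (c p)⁻¹ : AA) * C (c p) = 1 := by
        rw [← C_mul, inv_mul_cancel₀ hp, C_1]
      simp only [algebraMap_eq]
      linear_combination (-(X p : AA)) * h1
    · rw [h, img_succAbove]
      simp only [sec, aeval_X, sub_self]
      exact Ideal.zero_mem _
  have := congrArg (fun f : AA →ₐ[k] (AA ⧸ Ideal.span {lin c}) => f a) h
  simp only [AlgHom.comp_apply, Ideal.Quotient.mkₐ_eq_mk] at this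
  exact this.symm

theorem mem_span_of_ψ_eq_zero (hp : c p ≠ 0) (a : AA) (ha : ψ k n c p a = 0) :
    a ∈ Ideal.span {lin c} := by
  have h := sub_sec_mem k n c p hp a
  rwa [ha, map_zero, sub_zero] at h

theorem hXA (i : Fin (n + 1 + 1)) : (X i : AA) ∈ 𝒜 1 := hX (k := k) (n := n + 1) i

theorem hXB (j : Fin (n + 1)) : (X j : BB) ∈ ℬ 1 := hX (k := k) (n := n) j

/-- the kernel of the chart map of `ψ` is generated by `ℓ / X_i` -/
theorem ker_away_map (hp : c p ≠ 0) (i : Fin (n + 1 + 1)) :
    RingHom.ker (Away.map (ψ k n c p) (X i : AA)) =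
      Ideal.span {Away.mk 𝒜 (hXA k n i) 1 (lin c)
        (Groth.Agent.Lib.Helper28.ProjFrac.mem_smul_one 𝒜 (lin_mem c))} := by
  classical
  apply le_antisymm
  · intro z hz
    obtain ⟨d, a, ha, rfl⟩ := Away.mk_surjective 𝒜 (hXA k n i) z
    rw [RingHom.mem_ker, Away.map_mk] at hz
    have h1 := congrArg HomogeneousLocalization.val hz
    rw [Away.val_mk, HomogeneousLocalization.val_zero, Localization.mk_eq_mk',
      IsLocalization.mk'_eq_zero_iff] at h1
    obtain ⟨⟨_, N, rfl⟩, hN⟩ := h1
    have hN' : ψ k n c p (X i) ^ N * ψ k n c p a = 0 := hN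
    have h2 : ψ k n c p (X i ^ (N + 1) * a) = 0 := by
      rw [map_mul, map_pow, pow_succ', mul_assoc, hN', mul_zero]
    obtain ⟨b, hb⟩ := Ideal.mem_span_singleton'.1 (mem_span_of_ψ_eq_zero k n c p hp _ h2)
    have ha' : a ∈ 𝒜 d := by simpa using ha
    have hmem : (X i ^ (N + 1) * a : AA) ∈ 𝒜 (N + d + 1) := by
      have h := SetLike.mul_mem_graded
        (Groth.Agent.Lib.Helper28.TwistGen.pow_mem_one 𝒜 (hXA k n i) (N + 1)) ha'
      have e : N + 1 + d = N + d + 1 := by omega
      rwa [e] at h
    have h3 : ((DirectSum.decompose 𝒜 b (N + d) : 𝒜 (N + d)) : AA) * lin c = X i ^ (N + 1) * a := by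
      have h := DirectSum.coe_decompose_mul_add_of_right_mem 𝒜 (i := N + d) (a := b)
        (lin_mem (k := k) (n := n + 1) c)
      rw [hb, DirectSum.decompose_of_mem_same 𝒜 hmem] at h
      exact h.symm
    rw [Ideal.mem_span_singleton']
    refine ⟨Away.mk 𝒜 (hXA k n i) (N + d) (DirectSum.decompose 𝒜 b (N + d) : 𝒜 (N + d))
      (Groth.Agent.Lib.Helper28.ProjFrac.mem_smul_one 𝒜 (SetLike.coe_mem _)), ?_⟩
    apply HomogeneousLocalization.val_injective
    rw [HomogeneousLocalization.val_mul, Away.val_mk, Away.val_mk, Away.val_mk, Localization.mk_mul,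
      Localization.mk_eq_mk_iff, Localization.r_iff_exists]
    refine ⟨1, ?_⟩
    simp only [OneMemClass.coe_one, one_mul, Submonoid.coe_mul]
    rw [h3]
    ring
  · rw [Ideal.span_le, Set.singleton_subset_iff, SetLike.mem_coe, RingHom.mem_ker, Away.map_mk]
    apply HomogeneousLocalization.val_injective
    rw [Away.val_mk, HomogeneousLocalization.val_zero]
    have h0 : ψ k n c p (lin c) = 0 := ψ_lin k n c p hp
    simp only [h0]
    exact Localization.mk_zero _

end Groth.Agent.Lib.helper19.HypA
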