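import Groth.Agent.Lib.Helper28.TwistGen
import Groth.Agent.Lib.Helper17.ProjSpaceGamma

/-!
# Global sections of `O(1)` on projective space are linear forms (helper19)
-/

set_option autoImplicit false
universe u
open CategoryTheory AlgebraicGeometry Opposite TopologicalSpace HomogeneousLocalization
open MvPolynomial

noncomputable section

namespace Groth.Agent.Lib.helper19.HypB

open Groth.Agent.Lib.Helper28 Groth.Agent.Lib.Helper28.QCohLoc
open Groth.Agent.Lib.Helper17.ProjSpaceGamma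

variable (N : ℕ) (k : Type u) [Field k]

local notation "𝒜" => CohB1.polyGrading N k
local notation "AA" => MvPolynomial (Fin (N + 1)) k

theorem mem_bot_iff (a : AA) : a ∈ (⊥ : HomogeneousIdeal 𝒜) ↔ a = 0 := by
  rw [← HomogeneousIdeal.mem_iff, HomogeneousIdeal.toIdeal_bot, Ideal.mem_bot]

/-- the generic point of projective space -/
def gpt : ProjectiveSpectrum 𝒜 where
  asHomogeneousIdeal := ⊥
  isPrime := by
    rw [HomogeneousIdeal.toIdeal_bot]
    exact Ideal.isPrime_bot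
  not_irrelevant_le := by
    intro h
    have h1 : (X 0 : AA) ∈ (HomogeneousIdeal.irrelevant 𝒜) := by
      rw [HomogeneousIdeal.mem_irrelevant_iff]
      have := DirectSum.decompose_of_mem_ne 𝒜 (hX N k 0) (one_ne_zero)
      exact this
    have h2 := h h1
    have h3 : (X 0 : AA) = 0 := (mem_bot_iff N k _).1 h2
    exact X_ne_zero 0 h3

theorem not_mem_gpt {a : AA} (ha : a ≠ 0) : a ∉ (gpt N k).asHomogeneousIdeal := by
  intro h
  exact ha ((mem_bot_iff N k _).1 h)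

theorem gpt_mem_basicOpen {a : AA} (ha : a ≠ 0) :
    (show Proj 𝒜 from gpt N k) ∈ Proj.basicOpen 𝒜 a :=
  (Proj.mem_basicOpen 𝒜 a _).2 (not_mem_gpt N k ha)

/-- equality of fractions at the generic point -/
theorem eq_of_mk_eq {a b : AA} (s t : (gpt N k).asHomogeneousIdeal.toIdeal.primeCompl)
    (h : (Localization.mk a s : Twist.Loc 𝒜 (gpt N k)) = Localization.mk b t) :
    a * t.1 = b * s.1 := by
  rw [Localization.mk_eq_mk_iff, Localization.r_iff_exists] at h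
  obtain ⟨c, hc⟩ := h
  have hc0 : (c : AA) ≠ 0 := by
    intro h0
    apply c.2
    rw [h0]
    exact Ideal.zero_mem _
  have := mul_left_cancel₀ hc0 hc
  rw [mul_comm (t : AA), mul_comm (s : AA)] at this
  exact this

variable {N k}

/-- on the chart `D₊(X_i)` a global section of `O(1)` is a linear form -/
theorem exists_lin_chart (σ : Γ(Twist.twist 𝒜 ((1 : ℕ) : ℤ), ⊤)) {i j : Fin (N + 1)} (hij : i ≠ j) :
    ∃ (ℓ : AA) (_ : ℓ ∈ 𝒜 1), ∀ x : Proj.basicOpen 𝒜 (X i : AA),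
      TwistQC.val 𝒜 σ ⟨x.1, trivial⟩ =
        Localization.mk ℓ (1 : (show ProjectiveSpectrum 𝒜 from x.1).asHomogeneousIdeal.toIdeal.primeCompl) := by
  classical
  obtain ⟨ki, di, mi, hmi, hdi, hvi⟩ := TwistQC.exists_frac 𝒜 (hX N k i) one_pos ((1 : ℕ) : ℤ)
    (res (Twist.twist 𝒜 ((1 : ℕ) : ℤ)) le_top σ)
  obtain ⟨kj, dj, mj, hmj, hdj, hvj⟩ := TwistQC.exists_frac 𝒜 (hX N k j) one_pos ((1 : ℕ) : ℤ)
    (res (Twist.twist 𝒜 ((1 : ℕ) : ℤ)) le_top σ)
  have hgi := hvi ⟨gpt N k, gpt_mem_basicOpen N k (X_ne_zero i)⟩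
  have hgj := hvj ⟨gpt N k, gpt_mem_basicOpen N k (X_ne_zero j)⟩
  rw [TwistQC.val_res] at hgi hgj
  have heq := eq_of_mk_eq N k _ _ (hgi.symm.trans hgj)
  obtain ⟨c, hc⟩ := dvd_of_mul_X_pow_eq hij ki kj mi mj heq
  have hXk : (X i ^ ki : AA) ∈ 𝒜 ki := TwistGen.pow_mem_one 𝒜 (hX N k i) ki
  have hd : di = 1 + ki := by
    have : (di : ℤ) = ki * ((1 : ℕ) : ℤ) + ((1 : ℕ) : ℤ) := hdi
    push_cast at this
    omega
  have h1 := DirectSum.coe_decompose_mul_add_of_right_mem 𝒜 (i := 1) (a := c) hXk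
  rw [← hc, ← hd, DirectSum.decompose_of_mem_same 𝒜 hmi] at h1
  refine ⟨DirectSum.decompose 𝒜 c 1, SetLike.coe_mem _, fun x => ?_⟩
  have h2 := hvi x
  rw [TwistQC.val_res] at h2
  rw [h2, Localization.mk_eq_mk_iff, Localization.r_iff_exists]
  refine ⟨1, ?_⟩
  simp only [OneMemClass.coe_one, one_mul]
  rw [h1]
  ring

/-- **global sections of `O(1)` on `P^N_k`, `N ≥ 1`, are linear forms** -/
theorem exists_gsec (hN : 1 ≤ N) (σ : Γ(Twist.twist 𝒜 ((1 : ℕ) : ℤ), ⊤)) :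
    ∃ (ℓ : AA) (hℓ : ℓ ∈ 𝒜 1), σ = TwistGen.gsec 𝒜 ℓ hℓ := by
  classical
  haveI : Nontrivial (Fin (N + 1)) := Fin.nontrivial_iff_two_le.2 (by omega)
  have hch : ∀ i : Fin (N + 1), ∃ (ℓ : AA) (_ : ℓ ∈ 𝒜 1), ∀ x : Proj.basicOpen 𝒜 (X i : AA),
      TwistQC.val 𝒜 σ ⟨x.1, trivial⟩ =
        Localization.mk ℓ (1 : (show ProjectiveSpectrum 𝒜 from x.1).asHomogeneousIdeal.toIdeal.primeCompl) := by
    intro i
    obtain ⟨j, hj⟩ := exists_ne i
    exact exists_lin_chart σ hj.symm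
  choose ℓ hℓ hv using hch
  have hsame : ∀ i, ℓ i = ℓ 0 := by
    intro i
    have h1 := hv i ⟨gpt N k, gpt_mem_basicOpen N k (X_ne_zero i)⟩
    have h2 := hv 0 ⟨gpt N k, gpt_mem_basicOpen N k (X_ne_zero 0)⟩
    have := eq_of_mk_eq N k _ _ (h1.symm.trans h2)
    simpa using this
  refine ⟨ℓ 0, hℓ 0, ?_⟩
  apply TwistQC.ext_val
  intro x
  have hx : x.1 ∈ ⨆ i, U N k i := by
    rw [iSup_U N k]; trivial
  obtain ⟨i, hi⟩ := Opens.mem_iSup.1 hx
  have h1 := hv i ⟨x.1, hi⟩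
  rw [TwistGen.val_gsec, ← hsame i]
  exact h1

end Groth.Agent.Lib.helper19.HypB
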