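import Groth.Agent.Lib.Helper28.ProjUPUniq1
import Groth.Agent.Lib.Helper28.ProjUPGeom3

/-!
# `Proj.map` pulls `O(1)` back to `O(1)` (helper19)
-/

set_option autoImplicit false
universe u
open CategoryTheory CategoryTheory.Limits AlgebraicGeometry Opposite TopologicalSpace
open HomogeneousLocalization
open scoped HomogeneousIdeal

noncomputable section

namespace Groth.Agent.Lib.helper19.HypC

open Groth.Agent.Lib.Helper28
open Groth.Agent.Lib.Helper28.QCohLoc Groth.Agent.Lib.Helper28.GenLocus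
  Groth.Agent.Lib.Helper28.PullbackInv Groth.Agent.Lib.Helper28.ProjUPGeom
  Groth.Agent.Lib.Helper28.ProjUPUniq

variable {R R' A B : Type u} [CommRing R] [CommRing R'] [CommRing A] [CommRing B]
  [Algebra R A] [Algebra R' B]
  (𝒜 : ℕ → Submodule R A) (ℬ : ℕ → Submodule R' B) [GradedAlgebra 𝒜] [GradedAlgebra ℬ]
  (φ : 𝒜 →+*ᵍ ℬ) (hφ : ℬ₊ ≤ (𝒜₊).map φ)

/-- the comorphism of `Proj.map` on a fraction of degree one elements -/
theorem appLE_fr {f g : A} (hf : f ∈ 𝒜 1) (hg : g ∈ 𝒜 1) :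
    (Proj.map φ hφ).appLE (Proj.basicOpen 𝒜 g) (Proj.basicOpen ℬ (φ g)) le_rfl
        (ProjFrac.fr 𝒜 hg 1 f hf) =
      ProjFrac.fr ℬ (φ.map_mem hg) 1 (φ f) (φ.map_mem hf) := by
  have h := Proj.awayToSection_comp_appLE φ hφ hg
  have h2 := congrArg (fun χ => χ.hom (Away.mk 𝒜 hg 1 f (ProjFrac.mem_smul_one 𝒜 hf))) h
  simp only [CommRingCat.hom_comp, RingHom.comp_apply, CommRingCat.hom_ofHom] at h2
  have h3 : Away.map φ g (Away.mk 𝒜 hg 1 f (ProjFrac.mem_smul_one 𝒜 hf)) =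
      Away.mk ℬ (φ.map_mem hg) 1 (φ f) (ProjFrac.mem_smul_one ℬ (φ.map_mem hf)) :=
    Away.map_mk φ _ hg 1 _ _
  rw [h3] at h2
  exact h2

/-- **`Proj.map φ` pulls `O(1)` back to `O(1)`**, when `Proj 𝒜` is covered by the standard opens of
degree one elements -/
theorem exists_pullback_iso {J : Type*} (xs : J → A) (hxs : ∀ j, xs j ∈ 𝒜 1)
    (hcov : ∀ x : Proj 𝒜, ∃ j, x ∈ Proj.basicOpen 𝒜 (xs j)) :
    Nonempty ((Scheme.Modules.pullback (Proj.map φ hφ)).obj (Twist.twist 𝒜 ((1 : ℕ) : ℤ)) ≅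
      Twist.twist ℬ ((1 : ℕ) : ℤ)) := by
  obtain ⟨ψ, -⟩ := exists_iso_of_sections
    ((Scheme.Modules.pullback (Proj.map φ hφ)).obj (Twist.twist 𝒜 ((1 : ℕ) : ℤ)))
    (Twist.twist ℬ ((1 : ℕ) : ℤ))
    (fun j => Proj.basicOpen ℬ (φ (xs j)))
    (fun j => pbs (Proj.map φ hφ) (Twist.twist 𝒜 ((1 : ℕ) : ℤ)) ⊤ (TwistGen.gsec 𝒜 (xs j) (hxs j)))
    (fun j => TwistGen.gsec ℬ (φ (xs j)) (φ.map_mem (hxs j)))
    (fun j => isGen_pbs_gsec 𝒜 (Proj.map φ hφ) (hxs j) (Proj.basicOpen ℬ (φ (xs j))) le_rfl)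
    (fun j => isGen_gsec ℬ (φ.map_mem (hxs j)))
    (fun x => by
      obtain ⟨j, hj⟩ := hcov ((Proj.map φ hφ) x)
      exact ⟨j, hj⟩)
    (fun i j => (Proj.map φ hφ).appLE (Proj.basicOpen 𝒜 (xs j)) (Proj.basicOpen ℬ (φ (xs j))) le_rfl
      (ProjFrac.fr 𝒜 (hxs j) 1 (xs i) (hxs i)))
    (fun i j => pbs_gsec_coef 𝒜 (Proj.map φ hφ) (hxs i) (hxs j) (Proj.basicOpen ℬ (φ (xs j))) le_rfl)
    (fun i j => by
      rw [appLE_fr 𝒜 ℬ φ hφ (hxs i) (hxs j)]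
      exact gsec_eq_fr_smul ℬ (φ.map_mem (hxs i)) (φ.map_mem (hxs j)))
  exact ⟨ψ⟩

end Groth.Agent.Lib.helper19.HypC
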