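import Groth.Agent.Lib.helper19.HypA
import Groth.Agent.Lib.helper19.HypB
import Groth.Agent.Lib.helper19.HypC
import Groth.Agent.Lib.Helper29.ZeroMul
import Groth.Agent.Lib.Helper28.ProjClosed2
import Groth.Agent.Lib.Helper28.TwistCov

/-!
# A hyperplane of projective space is a projective space (helper19)
-/

set_option autoImplicit false
universe u
open CategoryTheory CategoryTheory.Limits AlgebraicGeometry Opposite TopologicalSpace
open HomogeneousLocalization MvPolynomial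
open scoped HomogeneousIdeal

noncomputable section

namespace Groth.Agent.Lib.helper19.HypD

open Groth.Agent.Lib.Helper28
open Groth.Agent.Lib.Helper28.QCohLoc
open Groth.Agent.Lib.Helper19.ClImmB
open Groth.Agent.Lib.helper19.HypA

section abstract

/-- transporting a principal kernel along a commutative square with bijective/injective sides -/
theorem ker_eq_span_of_sq {R R' S S' : Type*} [CommRing R] [CommRing R'] [CommRing S] [CommRing S']
    (e : R →+* S) (he : Function.Bijective e) (e' : R' →+* S') (he' : Function.Injective e')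
    (G : R →+* R') (F : S →+* S') (hsq : F.comp e = e'.comp G) (g : R)
    (hG : RingHom.ker G = Ideal.span {g}) :
    RingHom.ker F = Ideal.span {e g} := by
  ext z
  obtain ⟨y, rfl⟩ := he.2 z
  have h1 : F (e y) = e' (G y) := congrArg (fun χ : R →+* S' => χ y) hsq
  rw [RingHom.mem_ker, h1, map_eq_zero_iff e' he', ← RingHom.mem_ker, hG,
    Ideal.mem_span_singleton', Ideal.mem_span_singleton']
  constructor
  · rintro ⟨a, rfl⟩
    exact ⟨e a, (map_mul e a g).symm⟩
  · rintro ⟨b, hb⟩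
    obtain ⟨a, rfl⟩ := he.2 b
    exact ⟨a, he.1 (by rw [map_mul, hb])⟩

end abstract

variable (k : Type u) [Field k] (n : ℕ) (c : Fin (n + 1 + 1) → k) (p : Fin (n + 1 + 1))

local notation "𝒜" => CohB1.polyGrading (n + 1) k
local notation "ℬ" => CohB1.polyGrading n k
local notation "AA" => MvPolynomial (Fin (n + 1 + 1)) k
local notation "BB" => MvPolynomial (Fin (n + 1)) k

theorem hirr : ℬ₊ ≤ (𝒜₊).map (ψ k n c p) :=
  ProjClosed.irrelevant_le_map (ψ k n c p) (ψ_surjective k n c p)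

/-- the linear embedding `P^n → P^{n+1}` onto the hyperplane -/
abbrev f : Proj ℬ ⟶ Proj 𝒜 := Proj.map (ψ k n c p) (hirr k n c p)

instance : IsClosedImmersion (f k n c p) :=
  ProjMapG.isClosedImmersion_map (ψ k n c p) (hirr k n c p) (ψ_surjective k n c p)

theorem awayToSection_bijective {R A : Type u} [CommRing R] [CommRing A] [Algebra R A]
    (𝒮 : ℕ → Submodule R A) [GradedAlgebra 𝒮] {g : A} {m : ℕ} (hg : g ∈ 𝒮 m) (hm : 0 < m) :
    Function.Bijective (Proj.awayToSection 𝒮 g).hom := by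
  have h : IsIso (Proj.awayToSection 𝒮 g) := by
    rw [← Proj.basicOpenIsoAway_hom 𝒮 g hg hm]
    infer_instance
  exact ConcreteCategory.bijective_of_isIso (Proj.awayToSection 𝒮 g)

/-- the standard chart as an affine open -/
def Ui (i : Fin (n + 1 + 1)) : (Proj 𝒜).affineOpens :=
  ⟨Proj.basicOpen 𝒜 (X i : AA), Proj.isAffineOpen_basicOpen 𝒜 (X i) (hXA k n i) Nat.one_pos⟩

theorem ker_ideal (hp : c p ≠ 0) (i : Fin (n + 1 + 1)) :
    (f k n c p).ker.ideal (Ui k n i) =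
      Ideal.span {ProjFrac.fr 𝒜 (hXA k n i) 1 (lin c) (lin_mem c)} := by
  rw [Scheme.Hom.ker_apply]
  have hsq := Proj.awayToSection_comp_appLE (ψ k n c p) (hirr k n c p) (hXA k n i)
  have h := ker_eq_span_of_sq (Proj.awayToSection 𝒜 (X i : AA)).hom
    (awayToSection_bijective 𝒜 (hXA k n i) Nat.one_pos)
    (Proj.awayToSection ℬ (ψ k n c p (X i))).hom
    (awayToSection_bijective ℬ ((ψ k n c p).map_mem (hXA k n i)) Nat.one_pos).1
    (Away.map (ψ k n c p) (X i : AA))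
    ((f k n c p).appLE (Proj.basicOpen 𝒜 (X i : AA)) (Proj.basicOpen ℬ (ψ k n c p (X i))) le_rfl).hom
    (by
      have := congrArg CommRingCat.Hom.hom hsq
      simpa only [CommRingCat.hom_comp, CommRingCat.hom_ofHom] using this)
    _ (ker_away_map k n c p hp i)
  rw [Scheme.Hom.app_eq_appLE]
  exact h

theorem gsec_zero {R A : Type u} [CommRing R] [CommRing A] [Algebra R A]
    (𝒮 : ℕ → Submodule R A) [GradedAlgebra 𝒮] (d : ℕ) :
    TwistGen.gsec 𝒮 (0 : A) (zero_mem (𝒮 d)) = 0 := by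
  apply TwistQC.ext_val
  intro x
  rw [TwistGen.val_gsec, TwistQC.val_zero]
  exact Localization.mk_zero _

theorem gsec_congr {R A : Type u} [CommRing R] [CommRing A] [Algebra R A]
    (𝒮 : ℕ → Submodule R A) [GradedAlgebra 𝒮] {d : ℕ} {a b : A} (ha : a ∈ 𝒮 d) (hb : b ∈ 𝒮 d)
    (h : a = b) : TwistGen.gsec 𝒮 a ha = TwistGen.gsec 𝒮 b hb := by
  subst h; rfl

theorem coverA (x : Proj 𝒜) : ∃ i : Fin (n + 1 + 1), x ∈ Proj.basicOpen 𝒜 (X i : AA) := by
  have hx : x ∈ ⨆ i, Groth.Agent.Lib.Helper17.ProjSpaceGamma.U (n + 1) k i := by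
    rw [Groth.Agent.Lib.Helper17.ProjSpaceGamma.iSup_U (n + 1) k]; trivial
  exact Opens.mem_iSup.1 hx

/-- **a hyperplane of `P^{n+1}_k` is isomorphic to `P^n_k`, compatibly with `O(1)`** -/
theorem main (s : Coh.structureModule (Proj 𝒜) ⟶ Twist.twist 𝒜 ((1 : ℕ) : ℤ)) (hs : s ≠ 0) :
    ∃ φ : Proj ℬ ≅ (PicF2.zeroScheme _ s).subscheme,
      Nonempty ((Scheme.Modules.pullback (φ.hom ≫ (PicF2.zeroScheme _ s).subschemeι)).obj
          (Twist.twist 𝒜 ((1 : ℕ) : ℤ)) ≅ Twist.twist ℬ ((1 : ℕ) : ℤ)) := by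
  classical
  obtain ⟨ℓ, hℓ, hσ⟩ := Groth.Agent.Lib.helper19.HypB.exists_gsec (N := n + 1) (k := k) (by omega)
    (Groth.Agent.Lib.Helper29.ZeroSch.σ _ s ⊤)
  have hℓ' : ℓ ∈ Submodule.span k (Set.range (X : Fin (n + 1 + 1) → AA)) := by
    rw [← MvPolynomial.homogeneousSubmodule_one_eq_span_X]; exact hℓ
  obtain ⟨c, hc⟩ := (Submodule.mem_span_range_iff_exists_fun k).1 hℓ'
  have hlin : ℓ = lin c := by
    rw [← hc]; unfold lin
    refine Finset.sum_congr rfl fun i _ => ?_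
    rw [MvPolynomial.smul_eq_C_mul]
  have hσ' : Groth.Agent.Lib.Helper29.ZeroSch.σ _ s ⊤ = TwistGen.gsec 𝒜 (lin c) (lin_mem c) := by
    rw [hσ]; exact gsec_congr 𝒜 _ _ hlin
  have hc0 : ∃ p, c p ≠ 0 := by
    by_contra hcon
    push Not at hcon
    apply hs
    apply Groth.Agent.Lib.Helper29.ZeroSch.eq_zero_of_σ_top_eq_zero
    rw [hσ']
    have h0 : lin c = 0 := by
      unfold lin
      refine Finset.sum_eq_zero fun i _ => ?_
      rw [hcon i, C_0, zero_mul]
    rw [gsec_congr 𝒜 (lin_mem c) (zero_mem _) h0]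
    exact gsec_zero 𝒜 1
  obtain ⟨p, hp⟩ := hc0
  have hL : PicF.IsInvertible (Twist.twist 𝒜 ((1 : ℕ) : ℤ)) :=
    TwistCov.isInvertible_twist 𝒜 (fun x => by
      obtain ⟨i, hi⟩ := coverA k n x
      exact ⟨_, hXA k n i, hi⟩) _
  have hker : (f k n c p).ker = PicF2.zeroScheme _ s := by
    refine Scheme.IdealSheafData.ext_of_iSup_eq_top (Ui k n)
      (Groth.Agent.Lib.Helper17.ProjSpaceGamma.iSup_U (n + 1) k) fun i => ?_
    rw [ker_ideal k n c p hp i]
    symm
    refine Groth.Agent.Lib.Helper29.ZeroSch.zeroScheme_ideal_eq_span hL (Ui k n i)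
      (e := res (Twist.twist 𝒜 ((1 : ℕ) : ℤ)) le_top (TwistGen.gsec 𝒜 (X i) (hXA k n i)))
      (Groth.Agent.Lib.Helper29.ZeroSch.isGen_of_isGen28
        (Groth.Agent.Lib.Helper28.ProjUPGeom.isGen_gsec 𝒜 (hXA k n i))) ?_
    rw [← Groth.Agent.Lib.Helper29.ZeroSch.res_σ _ s (le_top : (Ui k n i).1 ≤ ⊤), hσ']
    exact Groth.Agent.Lib.Helper28.ProjUPGeom.gsec_eq_fr_smul 𝒜 (lin_mem c) (hXA k n i)
  obtain ⟨τ⟩ := Groth.Agent.Lib.helper19.HypC.exists_pullback_iso 𝒜 ℬ (ψ k n c p) (hirr k n c p)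
    (fun i : Fin (n + 1 + 1) => (X i : AA)) (hXA k n) (coverA k n)
  have key : ∀ (I : (Proj 𝒜).IdealSheafData), (f k n c p).ker = I →
      ∃ φ : Proj ℬ ≅ I.subscheme,
        Nonempty ((Scheme.Modules.pullback (φ.hom ≫ I.subschemeι)).obj
          (Twist.twist 𝒜 ((1 : ℕ) : ℤ)) ≅ Twist.twist ℬ ((1 : ℕ) : ℤ)) := by
    rintro _ rfl
    refine ⟨asIso (f k n c p).toImage, ?_⟩
    have h1 : (asIso (f k n c p).toImage).hom ≫ (f k n c p).ker.subschemeι = f k n c p :=
      (f k n c p).toImage_imageι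
    rw [h1]
    exact ⟨τ⟩
  exact key _ hker

end Groth.Agent.Lib.helper19.HypD
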