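import Mathlib.AlgebraicGeometry.IdealSheaf.Functorial
import Mathlib.AlgebraicGeometry.Morphisms.Affine

/-!
# The inverse image ideal under an affine morphism, computed on charts (helper19)
-/

set_option autoImplicit false
universe u
open CategoryTheory CategoryTheory.Limits AlgebraicGeometry Opposite TopologicalSpace

noncomputable section

namespace Groth.Agent.Lib.helper19.HypSecA

variable {X Y : Scheme.{u}} (f : X ⟶ Y) [IsAffineHom f]

/-- the preimage of an affine open under an affine morphism, as an affine open -/
abbrev pre (U : Y.affineOpens) : X.affineOpens := ⟨f ⁻¹ᵁ U.1, U.2.preimage f⟩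

/-- **the inverse image ideal sheaf under an affine morphism is determined on charts**: if `J` is an ideal sheaf
on `X` whose ideal on `f⁻¹ U_i` is the extension of the ideal of `I` on `U_i`, for a cover `U_i` of `Y` by affine
opens, then `J` is the inverse image of `I`. -/
theorem comap_eq_of_charts (I : Y.IdealSheafData) (J : X.IdealSheafData) {ι : Type*}
    (U : ι → Y.affineOpens) (hU : ⨆ i, (U i).1 = ⊤)
    (H : ∀ i, J.ideal (pre f (U i)) = (I.ideal (U i)).map (f.app (U i).1).hom) :
    I.comap f = J := by
  have hpre : ⨆ i, (pre f (U i)).1 = ⊤ := by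
    rw [eq_top_iff]
    rintro x -
    have hx : f x ∈ ⨆ i, (U i).1 := by rw [hU]; trivial
    obtain ⟨i, hi⟩ := Opens.mem_iSup.1 hx
    exact Opens.mem_iSup.2 ⟨i, hi⟩
  apply le_antisymm
  · rw [← Scheme.IdealSheafData.le_map_iff_comap_le]
    refine Scheme.IdealSheafData.le_of_iSup_eq_top U hU fun i => ?_
    rw [Scheme.IdealSheafData.ideal_map_of_isAffineHom]
    change _ ≤ (J.ideal (pre f (U i))).comap _
    rw [H i]
    exact Ideal.le_comap_map
  · refine Scheme.IdealSheafData.le_of_iSup_eq_top (fun i => pre f (U i)) hpre fun i => ?_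
    rw [H i]
    have h1 := Scheme.IdealSheafData.le_map_comap f (J := I) (U i)
    rw [Scheme.IdealSheafData.ideal_map_of_isAffineHom] at h1
    exact Ideal.map_le_iff_le_comap.2 h1

end Groth.Agent.Lib.helper19.HypSecA
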