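import Groth.Agent.Lib.helper19.BertiniGlue

/-!
# Smoothness of a closed subscheme of a `k`-scheme, checked on affine charts (helper19)
-/

set_option autoImplicit false
set_option linter.unusedVariables false
set_option linter.style.haveILetI false
universe u

namespace Groth.Agent.Lib.helper19.HypSecB

open CategoryTheory CategoryTheory.Limits AlgebraicGeometry TopologicalSpace Opposite
open Groth.Agent.Lib.Helper19.BertiniGlue

variable {X : Scheme.{u}} {k : Type u} [Field k] [X.Over (Spec (CommRingCat.of k))]

/-- a closed subscheme `Z` of a `k`-scheme is smooth over `k` as soon as, for a cover of `X` by affine opens `W`,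
the `k`-algebras `Γ(X, W) / Z(W)` are smooth -/
theorem smooth_subschemeι_of_charts (Z : X.IdealSheafData) {ι : Type*} (W : ι → X.affineOpens)
    (hW : ∀ x : X, ∃ i, x ∈ (W i).1)
    (H : ∀ i, ((Ideal.Quotient.mk (Z.ideal (W i))).comp (ρ (k := k) (W i).1)).Smooth) :
    Smooth (Z.subschemeι ≫ (X ↘ Spec (CommRingCat.of k))) := by
  apply IsZariskiLocalAtSource.of_iSup_eq_top (P := @Smooth)
    (fun i : ι => Z.subschemeι ⁻¹ᵁ (W i).1)
  · rw [eq_top_iff]
    rintro z -
    obtain ⟨i, hi⟩ := hW (Z.subschemeι z)
    exact Opens.mem_iSup.2 ⟨i, hi⟩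
  · intro i
    have hrange : Set.range (Z.subschemeCover.f (W i)) =
        Set.range (Z.subschemeι ⁻¹ᵁ (W i).1).ι := by
      rw [Scheme.Opens.range_ι, ← Z.opensRange_subschemeCover_map (W i)]
      rfl
    have hcomp : Z.subschemeCover.f (W i) ≫ Z.subschemeι ≫ (X ↘ Spec (CommRingCat.of k)) =
        Spec.map (CommRingCat.ofHom ((Ideal.Quotient.mk (Z.ideal (W i))).comp
          (ρ (k := k) (W i).1))) := by
      rw [CommRingCat.ofHom_comp, Spec.map_comp, ← fromSpec_comp_over (k := k) (W i).2,
        ← Category.assoc, ← Category.assoc, Z.subschemeCover_map_subschemeι, Z.glueDataObjι_ι]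
      rfl
    rw [← IsOpenImmersion.isoOfRangeEq_inv_fac (Z.subschemeCover.f (W i))
      (Scheme.Opens.ι _) hrange, Category.assoc,
      MorphismProperty.cancel_left_of_respectsIso (P := @Smooth), hcomp]
    exact (HasRingHomProperty.Spec_iff (P := @Smooth)).2 (H i)

end Groth.Agent.Lib.helper19.HypSecB
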