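import Groth.Agent.Lib.helper19.ProjBertC
import Groth.Agent.Lib.helper19.BertiniGlue
import Groth.Agent.Lib.Helper2.ProjCoh6
import Groth.Agent.Lib.Helper28.ProjFrac

/-!
# The charts of a closed subscheme of `P^n_k` as `k`-algebras (helper19)

For `ι : Z ⟶ P^n_k`, with `Z` a `k`-scheme through `ι`, the structure map `k → Γ(Z, ι⁻¹ D₊(X_j))` is the restriction
of the coordinate map `π ι j : k[X_0..X_n] → Γ(Z, ι⁻¹ D₊(X_j))` to the constants.
-/

set_option autoImplicit false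
set_option linter.unusedVariables false
set_option linter.style.haveILetI false
universe u

namespace Groth.Agent.Lib.helper19.HypSecC

open CategoryTheory AlgebraicGeometry MvPolynomial HomogeneousLocalization
open Groth.Agent.Lib.Helper28 Groth.Agent.Lib.Helper28.ProjClosed Groth.Agent.Lib.Helper19.ProjBertA
  Groth.Agent.Lib.Helper19.ProjBertB Groth.Agent.Lib.Helper19.BertiniGlue

variable {k : Type u} [Field k] {n : ℕ} {Z : Scheme.{u}}

local notation "𝒜" => CohB1.polyGrading n k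
local notation "AA" => MvPolynomial (Fin (n + 1)) k

theorem C_mem (c : k) : (C c : AA) ∈ 𝒜 0 := MvPolynomial.isHomogeneous_C _ c

/-- the dehomogenised constant `c` is `c / 1` -/
theorem e_symm_C (j : Fin (n + 1)) (c : k) :
    (e k n j).symm (Ideal.Quotient.mk (Ideal.span {(X j - 1 : AA)}) (C c)) =
      fromZeroRingHom 𝒜 (Submonoid.powers (X j : AA)) (algebraMap k (𝒜 0) c) := by
  apply HomogeneousLocalization.val_injective
  rw [e_spec k n j 0 (C c) (C_mem c)]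
  rfl

/-- the dehomogenised linear form `h` is `h / X_j` -/
theorem e_symm_lin (j : Fin (n + 1)) (h : AA) (hh : h ∈ 𝒜 1) :
    (e k n j).symm (Ideal.Quotient.mk (Ideal.span {(X j - 1 : AA)}) h) =
      Away.mk 𝒜 (hX k n j) 1 h (ProjFrac.mem_smul_one 𝒜 hh) := by
  apply HomogeneousLocalization.val_injective
  rw [e_spec k n j 1 h hh, Away.val_mk]

theorem π_lin (ι : Z ⟶ Proj 𝒜) (j : Fin (n + 1)) (h : AA) (hh : h ∈ 𝒜 1) :
    π ι j h = (ι.app (Proj.basicOpen 𝒜 (X j : AA))).hom (ProjFrac.fr 𝒜 (hX k n j) 1 h hh) := by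
  rw [π_apply, e_symm_lin j h hh]
  rfl

/-- the structure morphism of `P^n_k` on functions over a standard chart -/
theorem toSpec_appLE (j : Fin (n + 1)) :
    (CohB1.ProjSpace.toSpec n k).appLE ⊤ (Proj.basicOpen 𝒜 (X j : AA)) le_top =
      (Scheme.ΓSpecIso (CommRingCat.of k)).hom ≫ CommRingCat.ofHom (algebraMap k (𝒜 0)) ≫
        CommRingCat.ofHom (fromZeroRingHom 𝒜 (Submonoid.powers (X j : AA))) ≫
          Proj.awayToSection 𝒜 (X j : AA) := by
  have h1 := Groth.Agent.Lib.Helper2.ProjCoh6.toSpecZero_appTop_res 𝒜 (hX k n j) Nat.one_pos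
  have h2 : (CohB1.ProjSpace.toSpec n k).appLE ⊤ (Proj.basicOpen 𝒜 (X j : AA)) le_top =
      (Spec.map (CommRingCat.ofHom (algebraMap k (𝒜 0)))).appLE ⊤ ⊤ le_top ≫
        (Proj.toSpecZero 𝒜).appLE ⊤ (Proj.basicOpen 𝒜 (X j : AA)) le_top :=
    (Scheme.Hom.appLE_comp_appLE (Proj.toSpecZero 𝒜)
      (Spec.map (CommRingCat.ofHom (algebraMap k (𝒜 0)))) ⊤ ⊤ (Proj.basicOpen 𝒜 (X j : AA))
      le_top le_top).symm
  have h3 : (Proj.toSpecZero 𝒜).appLE ⊤ (Proj.basicOpen 𝒜 (X j : AA)) le_top =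
      (Proj.toSpecZero 𝒜).appTop ≫
        (Proj 𝒜).presheaf.map (homOfLE (le_top : Proj.basicOpen 𝒜 (X j : AA) ≤ ⊤)).op := rfl
  have h4 : (Spec.map (CommRingCat.ofHom (algebraMap k (𝒜 0)))).appLE ⊤ ⊤ le_top =
      (Spec.map (CommRingCat.ofHom (algebraMap k (𝒜 0)))).appTop := Scheme.Hom.appLE_eq_app _
  have h5 := Scheme.ΓSpecIso_naturality (CommRingCat.ofHom (algebraMap k (𝒜 0)))
  rw [h2, h3, h1, h4, ← Category.assoc, h5, Category.assoc]

theorem ΓSpecIso_hom_inv (c : k) : (Scheme.ΓSpecIso (CommRingCat.of k)).hom.hom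
    ((Scheme.ΓSpecIso (CommRingCat.of k)).inv.hom c) = c := by
  have := congrArg (fun φ => φ.hom c) (Scheme.ΓSpecIso (CommRingCat.of k)).inv_hom_id
  exact this

theorem toSpec_appLE_apply (j : Fin (n + 1)) (c : k) :
    ((CohB1.ProjSpace.toSpec n k).appLE ⊤ (Proj.basicOpen 𝒜 (X j : AA)) le_top).hom
        ((Scheme.ΓSpecIso (CommRingCat.of k)).inv.hom c) =
      (Proj.awayToSection 𝒜 (X j : AA)).hom
        (fromZeroRingHom 𝒜 (Submonoid.powers (X j : AA)) (algebraMap k (𝒜 0) c)) := by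
  rw [toSpec_appLE j]
  change (Proj.awayToSection 𝒜 (X j : AA)).hom
    (fromZeroRingHom 𝒜 (Submonoid.powers (X j : AA)) (algebraMap k (𝒜 0)
      ((Scheme.ΓSpecIso (CommRingCat.of k)).hom.hom
        ((Scheme.ΓSpecIso (CommRingCat.of k)).inv.hom c)))) = _
  rw [ΓSpecIso_hom_inv]

/-- **the structure map of a chart is the coordinate map on constants** -/
theorem ρ_eq_π_comp_C (ι : Z ⟶ Proj 𝒜) (j : Fin (n + 1)) :
    letI : Z.Over (Spec (CommRingCat.of k)) := ⟨ι ≫ CohB1.ProjSpace.toSpec n k⟩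
    ρ (k := k) (W ι j) = (π ι j).comp MvPolynomial.C := by
  letI : Z.Over (Spec (CommRingCat.of k)) := ⟨ι ≫ CohB1.ProjSpace.toSpec n k⟩
  have h1 : (ι ≫ CohB1.ProjSpace.toSpec n k).appLE ⊤ (W ι j) le_top =
      (CohB1.ProjSpace.toSpec n k).appLE ⊤ (Proj.basicOpen 𝒜 (X j : AA)) le_top ≫
        ι.appLE (Proj.basicOpen 𝒜 (X j : AA)) (W ι j) le_rfl :=
    (Scheme.Hom.appLE_comp_appLE ι (CohB1.ProjSpace.toSpec n k) ⊤ (Proj.basicOpen 𝒜 (X j : AA))
      (W ι j) le_top le_rfl).symm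
  ext c
  rw [ρ_eq]
  change ((ι ≫ CohB1.ProjSpace.toSpec n k).appLE ⊤ (W ι j) le_top).hom
    ((Scheme.ΓSpecIso (CommRingCat.of k)).inv.hom c) = π ι j (C c)
  rw [h1]
  change (ι.appLE (Proj.basicOpen 𝒜 (X j : AA)) (W ι j) le_rfl).hom
    (((CohB1.ProjSpace.toSpec n k).appLE ⊤ (Proj.basicOpen 𝒜 (X j : AA)) le_top).hom
      ((Scheme.ΓSpecIso (CommRingCat.of k)).inv.hom c)) = π ι j (C c)
  rw [toSpec_appLE_apply j c, π_apply, e_symm_C j c, Scheme.Hom.appLE_eq_app]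
  rfl

end Groth.Agent.Lib.helper19.HypSecC
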