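import Groth.Agent.Lib.helper19.HypSecA
import Groth.Agent.Lib.helper19.HypSecB
import Groth.Agent.Lib.helper19.HypSecC
import Groth.Agent.Lib.helper19.JetsCore2
import Groth.Agent.Lib.helper19.ClImmB
import Groth.Agent.Lib.Helper29.ZeroMul
import Groth.Agent.Lib.Helper28.ProjUPUniq1
import Groth.Agent.Lib.Helper28.ProjUPGeom3
import Groth.Agent.Lib.Helper28.PullbackInv2
import Groth.Agent.Lib.Helper28.TwistCov

/-!
# Smooth hyperplane sections of smooth projective schemes over an infinite field (helper19)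
-/

set_option autoImplicit false
set_option linter.unusedVariables false
set_option linter.style.haveILetI false
universe u

noncomputable section

namespace Groth.Agent.Lib.helper19.HypSecD

open CategoryTheory CategoryTheory.Limits AlgebraicGeometry MvPolynomial HomogeneousLocalization
  TopologicalSpace Opposite
open Groth.Agent.Lib.Helper28 Groth.Agent.Lib.Helper28.QCohLoc
  Groth.Agent.Lib.Helper28.PullbackInv Groth.Agent.Lib.Helper28.GenLocus
open Groth.Agent.Lib.Helper19.ProjBertA Groth.Agent.Lib.Helper19.ProjBertB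
  Groth.Agent.Lib.Helper19.ProjBertC Groth.Agent.Lib.Helper19.BertiniGlue
open Groth.Agent.Lib.helper19.HypSecA Groth.Agent.Lib.helper19.HypSecB Groth.Agent.Lib.helper19.HypSecC

variable {k : Type u} [Field k] {n : ℕ} {Z : Scheme.{u}}

local notation "𝒜" => CohB1.polyGrading n k
local notation "AA" => MvPolynomial (Fin (n + 1)) k
local notation "L1" => Twist.twist (CohB1.polyGrading n k) ((1 : ℕ) : ℤ)

/-- the standard chart as an affine open -/
abbrev Ui (k : Type u) [Field k] (n : ℕ) (j : Fin (n + 1)) :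
    (Proj (CohB1.polyGrading n k)).affineOpens :=
  ⟨Proj.basicOpen (CohB1.polyGrading n k) (X j : MvPolynomial (Fin (n + 1)) k),
    Proj.isAffineOpen_basicOpen (CohB1.polyGrading n k) (X j : MvPolynomial (Fin (n + 1)) k)
      (Groth.Agent.Lib.Helper19.ProjBertA.hX k n j) Nat.one_pos⟩

theorem cover (x : Proj 𝒜) : ∃ j : Fin (n + 1), x ∈ Proj.basicOpen 𝒜 (X j : AA) :=
  exists_chart x

theorem iSup_Ui : ⨆ j : Fin (n + 1), (Ui k n j).1 = ⊤ := by
  rw [eq_top_iff]
  rintro x -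
  obtain ⟨j, hj⟩ := cover x
  exact Opens.mem_iSup.2 ⟨j, hj⟩

theorem isInvertible_L1 : PicF.IsInvertible L1 :=
  TwistCov.isInvertible_twist 𝒜 (fun x => by
    obtain ⟨j, hj⟩ := cover x
    exact ⟨_, hX k n j, hj⟩) _

/-- the section of `O(1)` given by a linear form -/
def sec (h : AA) (hh : h ∈ 𝒜 1) : Coh.structureModule (Proj 𝒜) ⟶ L1 :=
  TwistGen.ofSection L1 (TwistGen.gsec 𝒜 h hh)

/-- the hyperplane of a linear form -/
abbrev Hyp (h : AA) (hh : h ∈ 𝒜 1) : (Proj 𝒜).IdealSheafData := PicF2.zeroScheme L1 (sec h hh)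

theorem σ_sec (h : AA) (hh : h ∈ 𝒜 1) (U : (Proj 𝒜).Opens) :
    Groth.Agent.Lib.Helper29.ZeroSch.σ L1 (sec h hh) U =
      res L1 (le_top : U ≤ ⊤) (TwistGen.gsec 𝒜 h hh) := by
  have h1 : Groth.Agent.Lib.Helper29.ZeroSch.σ L1 (sec h hh) U =
      res L1 (le_top : U ≤ ⊤) (secOf (sec h hh)) := sectwist_val (sec h hh) U
  rw [h1]
  unfold sec
  rw [secOf_ofSection]

/-- the ideal of the hyperplane on a standard chart -/
theorem Hyp_ideal (h : AA) (hh : h ∈ 𝒜 1) (j : Fin (n + 1)) :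
    (Hyp h hh).ideal (Ui k n j) = Ideal.span {ProjFrac.fr 𝒜 (hX k n j) 1 h hh} := by
  refine Groth.Agent.Lib.Helper29.ZeroSch.zeroScheme_ideal_eq_span isInvertible_L1 (Ui k n j)
    (e := res L1 le_top (TwistGen.gsec 𝒜 (X j) (hX k n j)))
    (Groth.Agent.Lib.Helper29.ZeroSch.isGen_of_isGen28
      (Groth.Agent.Lib.Helper28.ProjUPGeom.isGen_gsec 𝒜 (hX k n j))) ?_
  rw [σ_sec]
  exact Groth.Agent.Lib.Helper28.ProjUPGeom.gsec_eq_fr_smul 𝒜 hh (hX k n j)

section comap

/-- the ideal of the pulled back section on a chart -/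
theorem pb_ideal (ι : Z ⟶ Proj 𝒜) [IsClosedImmersion ι] (h : AA) (hh : h ∈ 𝒜 1) (j : Fin (n + 1)) :
    (PicF2.zeroScheme ((Scheme.Modules.pullback ι).obj L1) (pbSec ι (sec h hh))).ideal
        (pre ι (Ui k n j)) =
      Ideal.span {(ι.app (Proj.basicOpen 𝒜 (X j : AA))).hom (ProjFrac.fr 𝒜 (hX k n j) 1 h hh)} := by
  have hL' : PicF.IsInvertible ((Scheme.Modules.pullback ι).obj L1) :=
    isInvertible_pullback ι isInvertible_L1
  refine Groth.Agent.Lib.Helper29.ZeroSch.zeroScheme_ideal_eq_span hL' (pre ι (Ui k n j))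
    (e := res ((Scheme.Modules.pullback ι).obj L1) le_top
      (pbs ι L1 ⊤ (TwistGen.gsec 𝒜 (X j) (hX k n j))))
    (Groth.Agent.Lib.Helper29.ZeroSch.isGen_of_isGen28
      (Groth.Agent.Lib.Helper28.ProjUPUniq.isGen_pbs_gsec 𝒜 ι (hX k n j) (W ι j) le_rfl)) ?_
  have h1 : Groth.Agent.Lib.Helper29.ZeroSch.σ ((Scheme.Modules.pullback ι).obj L1)
      (pbSec ι (sec h hh)) (W ι j) =
      res ((Scheme.Modules.pullback ι).obj L1) (le_top : W ι j ≤ ⊤)
        (secOf (pbSec ι (sec h hh))) := sectwist_val (pbSec ι (sec h hh)) (W ι j)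
  have h2 : secOf (sec (k := k) (n := n) h hh) = TwistGen.gsec 𝒜 h hh := by
    unfold sec
    rw [secOf_ofSection]
  change Groth.Agent.Lib.Helper29.ZeroSch.σ ((Scheme.Modules.pullback ι).obj L1)
      (pbSec ι (sec h hh)) (W ι j) = _
  rw [h1, secOf_pbSec, h2,
    Groth.Agent.Lib.Helper28.ProjUPUniq.pbs_gsec_coef 𝒜 ι hh (hX k n j) (W ι j) le_rfl,
    Scheme.Hom.appLE_eq_app]

/-- **the inverse image of a hyperplane in a closed subscheme, on a chart** -/
theorem comap_ideal (ι : Z ⟶ Proj 𝒜) [IsClosedImmersion ι] (h : AA) (hh : h ∈ 𝒜 1) (j : Fin (n + 1)) :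
    ((Hyp h hh).comap ι).ideal (pre ι (Ui k n j)) = Ideal.span {π ι j h} := by
  have h1 : (Hyp h hh).comap ι =
      PicF2.zeroScheme ((Scheme.Modules.pullback ι).obj L1) (pbSec ι (sec h hh)) := by
    refine comap_eq_of_charts ι _ _ (Ui k n) iSup_Ui fun i => ?_
    rw [pb_ideal ι h hh i, Hyp_ideal h hh i, Ideal.map_span, Set.image_singleton]
  rw [h1, pb_ideal ι h hh j, π_lin ι j h hh]

end comap

section smooth

/-- Bertini on a chart -/
theorem chart_smooth (ι : Z ⟶ Proj 𝒜) [IsClosedImmersion ι] [hS : Smooth (ι ≫ CohB1.ProjSpace.toSpec n k)] (j : Fin (n + 1)) :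
    letI : Z.Over (Spec (CommRingCat.of k)) := ⟨ι ≫ CohB1.ProjSpace.toSpec n k⟩
    ∃ p : AA, p ≠ 0 ∧ ∀ (h : AA) (hh : h ∈ 𝒜 1),
      MvPolynomial.eval (fun i => coeff (Finsupp.single i 1) h) p ≠ 0 →
        ((Ideal.Quotient.mk (Ideal.span {π ι j h})).comp (ρ (k := k) (W ι j))).Smooth := by
  letI : Z.Over (Spec (CommRingCat.of k)) := ⟨ι ≫ CohB1.ProjSpace.toSpec n k⟩
  haveI : Smooth (Z ↘ Spec (CommRingCat.of k)) := hS
  have hρ := ρ_eq_π_comp_C ι j
  have hsm : (ρ (k := k) (W ι j)).Smooth := ρ_smooth (k := k) (isAffineOpen_W ι j)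
  rw [hρ] at hsm
  letI := algK ι j
  haveI : Algebra.Smooth k Γ(Z, W ι j) := hsm
  obtain ⟨p, hp0, hp⟩ := Groth.Agent.Lib.Helper19.JetsCore2.exists_poly_of_surj k
    (0 : Γ(Z, W ι j)) (fun i => π ι j (X i)) (surj ι j)
  refine ⟨p, hp0, fun h hh hc => ?_⟩
  have h1 := hp _ hc
  rw [zero_add, ← π_eq_sum ι j h hh] at h1
  rw [hρ]
  exact RingHom.smooth_algebraMap.2 h1

/-- **Bertini for hyperplane sections**: there is a nonzero polynomial in the coefficients of the linear form off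
whose zero set the hyperplane section is smooth and does not contain `Z` -/
theorem exists_poly (ι : Z ⟶ Proj 𝒜) [IsClosedImmersion ι] [hS : Smooth (ι ≫ CohB1.ProjSpace.toSpec n k)] [Nonempty Z] :
    ∃ g : AA, g ≠ 0 ∧ ∀ (h : AA) (hh : h ∈ 𝒜 1),
      MvPolynomial.eval (fun i => coeff (Finsupp.single i 1) h) g ≠ 0 →
        (∃ x : Z, ι.base x ∉ (Hyp h hh).support) ∧
        Smooth (pullback.fst ι (Hyp h hh).subschemeι ≫ ι ≫ CohB1.ProjSpace.toSpec n k) := by
  classical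
  letI : Z.Over (Spec (CommRingCat.of k)) := ⟨ι ≫ CohB1.ProjSpace.toSpec n k⟩
  choose p hp0 hp using fun j => chart_smooth ι j
  obtain ⟨x₀⟩ := ‹Nonempty Z›
  obtain ⟨j₀, hj₀⟩ := exists_chart (ι.base x₀)
  obtain ⟨ℓ, hℓ0, hℓ⟩ := exists_linear (ι.base x₀).asHomogeneousIdeal.toIdeal j₀ hj₀
  refine ⟨ℓ * ∏ j, p j, mul_ne_zero hℓ0 (Finset.prod_ne_zero_iff.2 fun j _ => hp0 j), ?_⟩
  intro h hh hg
  rw [map_mul, map_prod, mul_ne_zero_iff, Finset.prod_ne_zero_iff] at hg
  constructor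
  · refine ⟨x₀, fun hmem => ?_⟩
    have hx0 : ι.base x₀ ∈ (Ui k n j₀).1 := hj₀
    rw [Scheme.IdealSheafData.mem_support_iff_of_mem (U := Ui k n j₀) hx0, Hyp_ideal h hh j₀,
      Scheme.mem_zeroLocus_iff] at hmem
    have h1 := hmem _ (Ideal.subset_span rfl)
    apply h1
    rw [ProjFrac.basicOpen_fr]
    exact ⟨hj₀, (Proj.mem_basicOpen 𝒜 h _).2 fun hmem' => hg.1 (hℓ h hh hmem')⟩
  · have hsm : Smooth (((Hyp h hh).comap ι).subschemeι ≫ (Z ↘ Spec (CommRingCat.of k))) := by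
      refine smooth_subschemeι_of_charts (k := k) ((Hyp h hh).comap ι) (fun j => pre ι (Ui k n j))
        (fun x => ?_) (fun j => ?_)
      · obtain ⟨j, hj⟩ := exists_chart (ι.base x)
        exact ⟨j, hj⟩
      · have key : ∀ J : Ideal Γ(Z, W ι j), J = Ideal.span {π ι j h} →
            ((Ideal.Quotient.mk J).comp (ρ (k := k) (W ι j))).Smooth := by
          rintro _ rfl
          exact hp j h hh (hg.2 j (Finset.mem_univ j))
        exact key _ (comap_ideal ι h hh j)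
    have h2 : pullback.fst ι (Hyp h hh).subschemeι =
        ((Hyp h hh).comapIso ι).inv ≫ ((Hyp h hh).comap ι).subschemeι :=
      ((Hyp h hh).comapIso_inv_subschemeι ι).symm
    rw [h2, Category.assoc, MorphismProperty.cancel_left_of_respectsIso (P := @Smooth)]
    exact hsm

end smooth

theorem coeff_lin (c : Fin (n + 1) → k) (i : Fin (n + 1)) :
    coeff (Finsupp.single i 1) (Groth.Agent.Lib.Helper19.ClImmB.lin c) = c i := by
  classical
  unfold Groth.Agent.Lib.Helper19.ClImmB.lin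
  rw [coeff_sum]
  simp only [coeff_C_mul, coeff_X', Finsupp.single_left_inj one_ne_zero, mul_ite, mul_one, mul_zero]
  rw [Finset.sum_ite_eq' Finset.univ i]
  simp

/-- **smooth hyperplane sections over an infinite field** -/
theorem main [Infinite k] (ι : Z ⟶ Proj 𝒜) [IsClosedImmersion ι]
    [hS : Smooth (ι ≫ CohB1.ProjSpace.toSpec n k)] [Nonempty Z] :
    ∃ (h : AA) (hh : h ∈ 𝒜 1), (∃ x : Z, ι.base x ∉ (Hyp h hh).support) ∧
      Smooth (pullback.fst ι (Hyp h hh).subschemeι ≫ ι ≫ CohB1.ProjSpace.toSpec n k) := by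
  obtain ⟨g, hg0, hg⟩ := exists_poly ι
  obtain ⟨c, hc⟩ : ∃ c : Fin (n + 1) → k, MvPolynomial.eval c g ≠ 0 := by
    by_contra hcon
    push Not at hcon
    exact hg0 (MvPolynomial.funext fun x => by rw [hcon x, map_zero])
  have hcoef : (fun i => coeff (Finsupp.single i 1) (Groth.Agent.Lib.Helper19.ClImmB.lin c)) = c :=
    funext fun i => coeff_lin c i
  obtain ⟨h1, h2⟩ := hg (Groth.Agent.Lib.Helper19.ClImmB.lin c)
    (Groth.Agent.Lib.Helper19.ClImmB.lin_mem c) (by rw [hcoef]; exact hc)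
  exact ⟨_, _, h1, h2⟩

end Groth.Agent.Lib.helper19.HypSecD
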