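import Mathlib
import Groth.Prelude.Def_Smoothing

namespace Groth.Agent.Lib.helper19.IndSm
universe u
open TensorProduct MvPolynomial

section Flat
variable {R : Type u} [CommRing R] {S : Type u} [CommRing S] [Algebra R S]

theorem flat_of_indSmooth (hS : Smoothing.IndSmooth R S) : Module.Flat R S := by
  apply Module.Flat.of_forall_isTrivialRelation
  intro l f x hfx
  let rel : MvPolynomial (Fin l) R := ∑ i, C (f i) * X i
  let A₀ := MvPolynomial (Fin l) R ⧸ Ideal.span {rel}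
  haveI : Algebra.FinitePresentation R A₀ :=
    Algebra.FinitePresentation.quotient ⟨{rel}, by simp⟩
  have hrel : (aeval x : MvPolynomial (Fin l) R →ₐ[R] S) rel = 0 := by
    simp only [rel, map_sum, map_mul, aeval_C, aeval_X]
    rw [← hfx]
    exact Finset.sum_congr rfl fun i _ => (Algebra.smul_def _ _).symm
  let g₀ : A₀ →ₐ[R] S := Ideal.Quotient.liftₐ _ (aeval x) (by
    intro a ha
    rw [Ideal.mem_span_singleton] at ha
    obtain ⟨b, rfl⟩ := ha
    rw [map_mul, hrel, zero_mul])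
  obtain ⟨T, _, _, hT, g, h, hgh⟩ := hS A₀ inferInstance g₀
  let t : Fin l → T := fun i => g (Ideal.Quotient.mk _ (X i))
  have ht : ∑ i, f i • t i = 0 := by
    have : g (Ideal.Quotient.mk _ rel) = 0 := by
      rw [Ideal.Quotient.eq_zero_iff_mem.mpr (Ideal.mem_span_singleton_self rel), map_zero]
    rw [← this]
    simp only [rel, map_sum, map_mul, t]
    refine Finset.sum_congr rfl fun i _ => ?_
    rw [Algebra.smul_def]
    congr 1
    have hC : (Ideal.Quotient.mk (Ideal.span {rel})) (C (f i)) = algebraMap R A₀ (f i) := rfl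
    rw [hC, AlgHom.commutes]
  haveI : Algebra.Smooth R T := hT
  obtain ⟨k, a, y, hay, haf⟩ :=
    Module.Flat.isTrivialRelation_of_sum_smul_eq_zero (R := R) (M := T) ht
  refine ⟨k, a, fun j => h (y j), fun i => ?_, haf⟩
  have hx : x i = h (t i) := by
    have := AlgHom.congr_fun hgh (Ideal.Quotient.mk _ (X i))
    simp only [AlgHom.comp_apply] at this
    rw [this]
    exact (aeval_X x i).symm
  rw [hx, hay, map_sum]
  exact Finset.sum_congr rfl fun j _ => by rw [map_smul]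

end Flat


section Nat
variable {R : Type u} [CommRing R] {B : Type u} [CommRing B] [Algebra R B]
variable {Q₁ Q₂ : Type u} [CommRing Q₁] [CommRing Q₂] [Algebra R Q₁] [Algebra R Q₂]

/-- base change of an algebra map along `B`. -/
noncomputable abbrev Φ (g : Q₁ →ₐ[R] Q₂) : Q₁ ⊗[R] B →ₐ[R] Q₂ ⊗[R] B :=
  Algebra.TensorProduct.map g (AlgHom.id R B)

lemma Φ_comp_algebraMap (g : Q₁ →ₐ[R] Q₂) :
    ((Φ (B := B) g : Q₁ ⊗[R] B →ₐ[R] Q₂ ⊗[R] B) : Q₁ ⊗[R] B →+* Q₂ ⊗[R] B).comp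
      (algebraMap Q₁ (Q₁ ⊗[R] B)) = (algebraMap Q₂ (Q₂ ⊗[R] B)).comp (g : Q₁ →+* Q₂) := by
  ext q
  simp [Algebra.TensorProduct.algebraMap_apply]

lemma Φ_eval₂ (g : Q₁ →ₐ[R] Q₂) (z₁ : Q₁ ⊗[R] B) (p₁ : Polynomial Q₁) :
    Φ g (p₁.eval₂ (algebraMap Q₁ (Q₁ ⊗[R] B)) z₁) =
      (p₁.map (g : Q₁ →+* Q₂)).eval₂ (algebraMap Q₂ (Q₂ ⊗[R] B)) (Φ g z₁) := by
  rw [Polynomial.eval₂_map, ← Φ_comp_algebraMap]
  exact Polynomial.hom_eval₂ p₁ _ ((Φ (B := B) g : Q₁ ⊗[R] B →ₐ[R] Q₂ ⊗[R] B) :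
    Q₁ ⊗[R] B →+* Q₂ ⊗[R] B) z₁

lemma isIntegral_Φ (g : Q₁ →ₐ[R] Q₂) {z₁ : Q₁ ⊗[R] B} (hz : IsIntegral Q₁ z₁) :
    IsIntegral Q₂ (Φ g z₁) := by
  obtain ⟨p, hp, hpz⟩ := hz
  refine ⟨p.map (g : Q₁ →+* Q₂), hp.map _, ?_⟩
  rw [← Φ_eval₂, hpz, map_zero]

end Nat


section DL
variable {R : Type u} [CommRing R] {S : Type u} [CommRing S] [Algebra R S]
  {B : Type u} [CommRing B] [Algebra R B]

theorem exists_fp_descent [Module.Flat R S] (z : S ⊗[R] B) (hz : IsIntegral S z) :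
    ∃ (Q : Type u) (_ : CommRing Q) (_ : Algebra R Q) (_ : Algebra.FinitePresentation R Q)
      (ψ : Q →ₐ[R] S) (zQ : Q ⊗[R] B), IsIntegral Q zQ ∧ Φ ψ zQ = z := by
  classical
  obtain ⟨p, hpm, hpz⟩ := hz
  obtain ⟨a, s, b, hzsum⟩ := TensorProduct.exists_sum_tmul_eq z
  set n := p.natDegree with hn
  let ψ₀ : MvPolynomial (Fin a ⊕ Fin (n + 1)) R →ₐ[R] S :=
    aeval (Sum.elim s (fun j => p.coeff j))
  let z₀ : MvPolynomial (Fin a ⊕ Fin (n + 1)) R ⊗[R] B :=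
    ∑ i, (X (Sum.inl i) : MvPolynomial (Fin a ⊕ Fin (n + 1)) R) ⊗ₜ[R] b i
  have hz₀ : Φ ψ₀ z₀ = z := by
    simp [z₀, ψ₀, hzsum]
  have hlifts : p ∈ Polynomial.lifts (ψ₀ : MvPolynomial (Fin a ⊕ Fin (n + 1)) R →+* S) := by
    rw [Polynomial.lifts_iff_coeff_lifts]
    intro j
    by_cases hj : j < n + 1
    · exact ⟨X (Sum.inr ⟨j, hj⟩), by simp [ψ₀]⟩
    · exact ⟨0, by rw [map_zero, Polynomial.coeff_eq_zero_of_natDegree_lt (by omega)]⟩
  obtain ⟨p₀, hp₀map, -, hp₀m⟩ := Polynomial.lifts_and_natDegree_eq_and_monic hlifts hpm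
  set w₀ : MvPolynomial (Fin a ⊕ Fin (n + 1)) R ⊗[R] B :=
    p₀.eval₂ (algebraMap (MvPolynomial (Fin a ⊕ Fin (n + 1)) R) _) z₀ with hw₀def
  have hw₀ : Φ ψ₀ w₀ = 0 := by rw [hw₀def, Φ_eval₂, hp₀map, hz₀, hpz]
  obtain ⟨c, q, b', hw₀sum⟩ := TensorProduct.exists_sum_tmul_eq w₀
  have hvan : ∑ i, b' i ⊗ₜ[R] ψ₀ (q i) = (0 : B ⊗[R] S) := by
    have := congrArg (TensorProduct.comm R S B) hw₀
    rw [hw₀sum] at this
    simpa using this
  obtain ⟨K, α, y, hy, hα⟩ :=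
    TensorProduct.vanishesTrivially_of_sum_tmul_eq_zero_of_rTensor_injective R
      (Module.Flat.rTensor_preserves_injective_linearMap _ Subtype.val_injective) hvan
  -- stage 1
  let relq : Fin c → MvPolynomial ((Fin a ⊕ Fin (n + 1)) ⊕ Fin K) R :=
    fun i => rename Sum.inl (q i) - ∑ j, C (α i j) * X (Sum.inr j)
  let J : Ideal (MvPolynomial ((Fin a ⊕ Fin (n + 1)) ⊕ Fin K) R) := Ideal.span (Set.range relq)
  haveI : Algebra.FinitePresentation R (MvPolynomial ((Fin a ⊕ Fin (n + 1)) ⊕ Fin K) R ⧸ J) :=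
    Algebra.FinitePresentation.quotient ⟨Finset.univ.image relq, by simp [J]⟩
  let ψ₁ : MvPolynomial ((Fin a ⊕ Fin (n + 1)) ⊕ Fin K) R →ₐ[R] S :=
    aeval (Sum.elim (Sum.elim s (fun j => p.coeff j)) y)
  have hψ₁ : ∀ q' : MvPolynomial (Fin a ⊕ Fin (n + 1)) R, ψ₁ (rename Sum.inl q') = ψ₀ q' := by
    intro q'
    simp only [ψ₁, ψ₀, aeval_rename]
    rfl
  have hψ₁J : ∀ x ∈ J, ψ₁ x = 0 := by
    intro x hx
    have hle : J ≤ RingHom.ker (ψ₁ : MvPolynomial ((Fin a ⊕ Fin (n + 1)) ⊕ Fin K) R →+* S) := by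
      rw [Ideal.span_le]
      rintro _ ⟨i, rfl⟩
      change ψ₁ (relq i) = 0
      simp only [relq, map_sub, hψ₁, hy, map_sum, map_mul, sub_eq_zero]
      refine Finset.sum_congr rfl fun j _ => ?_
      simp [ψ₁, Algebra.smul_def]
    exact hle hx
  let ψ : MvPolynomial ((Fin a ⊕ Fin (n + 1)) ⊕ Fin K) R ⧸ J →ₐ[R] S :=
    Ideal.Quotient.liftₐ J ψ₁ hψ₁J
  let ι : MvPolynomial (Fin a ⊕ Fin (n + 1)) R →ₐ[R]
      MvPolynomial ((Fin a ⊕ Fin (n + 1)) ⊕ Fin K) R ⧸ J :=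
    (Ideal.Quotient.mkₐ R J).comp (rename Sum.inl)
  have hψι : ψ.comp ι = ψ₀ := by
    apply AlgHom.ext
    intro q'
    exact hψ₁ q'
  refine ⟨_, inferInstance, inferInstance, inferInstance, ψ, Φ ι z₀, ?_, ?_⟩
  · refine ⟨p₀.map (ι : MvPolynomial (Fin a ⊕ Fin (n + 1)) R →+* _), hp₀m.map _, ?_⟩
    rw [← Φ_eval₂, ← hw₀def, hw₀sum, map_sum]
    have hιq : ∀ i, ι (q i) = ∑ j, α i j • (Ideal.Quotient.mk J (X (Sum.inr j))) := by
      intro i
      change Ideal.Quotient.mk J (rename Sum.inl (q i)) = _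
      have h1 : Ideal.Quotient.mk J (rename Sum.inl (q i)) =
          Ideal.Quotient.mk J (∑ j, C (α i j) * X (Sum.inr j)) := by
        rw [Ideal.Quotient.eq]
        exact Ideal.subset_span ⟨i, rfl⟩
      rw [h1, map_sum]
      refine Finset.sum_congr rfl fun j _ => ?_
      rw [MvPolynomial.C_mul']
      exact map_smul (Ideal.Quotient.mkₐ R J) _ _
    simp only [Algebra.TensorProduct.map_tmul, AlgHom.coe_id, id_eq, hιq, TensorProduct.sum_tmul,
      TensorProduct.smul_tmul]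
    rw [Finset.sum_comm]
    simp only [← TensorProduct.tmul_sum, hα, TensorProduct.tmul_zero, Finset.sum_const_zero]
  · have : Φ ψ (Φ ι z₀) = Φ (ψ.comp ι) z₀ := by
      simp only [Φ]
      rw [← AlgHom.comp_apply, ← Algebra.TensorProduct.map_comp]
      rfl
    rw [this, hψι, hz₀]

end DL


section Main
variable {R : Type u} [CommRing R] {S : Type u} [CommRing S] [Algebra R S]
  {B : Type u} [CommRing B] [Algebra R B]

theorem bijective_of_indSmooth (hS : Smoothing.IndSmooth R S) :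
    Function.Bijective (TensorProduct.toIntegralClosure R S B) := by
  haveI : Module.Flat R S := flat_of_indSmooth hS
  refine ⟨TensorProduct.toIntegralClosure_injective_of_flat, ?_⟩
  rintro ⟨z, hz⟩
  obtain ⟨Q, _, _, hQfp, ψ, zQ, hzQ, hψz⟩ := exists_fp_descent z hz
  obtain ⟨T, _, _, hT, g, h, hgh⟩ := hS Q hQfp ψ
  haveI : Algebra.Smooth R T := hT
  have hzT : IsIntegral T (Φ g zQ) := isIntegral_Φ g hzQ
  obtain ⟨u, hu⟩ := (TensorProduct.toIntegralClosure_bijective_of_smooth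
    (R := R) (S := T) (B := B)).2 ⟨Φ g zQ, hzT⟩
  refine ⟨Algebra.TensorProduct.map h (AlgHom.id R _) u, ?_⟩
  apply Subtype.ext
  have hval : ∀ (S' : Type u) [CommRing S'] [Algebra R S'] (x : S' ⊗[R] integralClosure R B),
      ((TensorProduct.toIntegralClosure R S' B x : integralClosure S' (S' ⊗[R] B)) : S' ⊗[R] B) =
        Algebra.TensorProduct.map (AlgHom.id S' S') (integralClosure R B).val x := by
    intro S' _ _ x
    rfl
  have hnat : ∀ x : T ⊗[R] integralClosure R B,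
      Algebra.TensorProduct.map (AlgHom.id S S) (integralClosure R B).val
        (Algebra.TensorProduct.map h (AlgHom.id R _) x) =
      Φ h (Algebra.TensorProduct.map (AlgHom.id T T) (integralClosure R B).val x) := by
    intro x
    induction x using TensorProduct.induction_on with
    | zero => simp
    | tmul t a => simp
    | add x y hx hy => simp only [map_add, hx, hy]
  rw [hval, hnat, ← hval, hu]
  change Φ h (Φ g zQ) = z
  have : Φ h (Φ g zQ) = Φ (h.comp g) zQ := by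
    simp only [Φ]
    rw [← AlgHom.comp_apply, ← Algebra.TensorProduct.map_comp]
    rfl
  rw [this, hgh, hψz]

end Main

end Groth.Agent.Lib.helper19.IndSm
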