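import Mathlib
import Groth.Prelude.Def_Curves
import Groth.Agent.Lib.helper19.TensorPow
import Groth.Agent.Lib.helper19.BrauerEq
import Groth.Agent.Lib.helper19.IndexBasic

/-!
# Tensor powers: base change, arithmetic, Brauer equivalence
-/

set_option autoImplicit false

namespace Groth.Agent.Lib.helper19.TPow

open TensorProduct

section bc

variable {k : Type*} [Field k]

/-- `A ⊗[K] (K ⊗[k] B) ≃ A ⊗[k] B` as `K`-algebras -/
noncomputable def cancelBC (K : Type*) [Field K] [Algebra k K]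
    (A : Type*) [Ring A] [Algebra k A] [Algebra K A] [IsScalarTower k K A]
    (B : Type*) [Ring B] [Algebra k B] :
    A ⊗[K] (K ⊗[k] B) ≃ₐ[K] A ⊗[k] B :=
  AlgEquiv.symm <| AlgEquiv.ofLinearEquiv
    (TensorProduct.AlgebraTensorModule.cancelBaseChange k K K A B).symm
    (by simp [Algebra.TensorProduct.one_def]) <|
      LinearMap.map_mul_of_map_mul_tmul (fun _ _ _ _ ↦ by simp)

/-- base change distributes over tensor products -/
noncomputable def baseChangeTensor (K : Type*) [Field K] [Algebra k K]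
    (A : Type*) [Ring A] [Algebra k A] (B : Type*) [Ring B] [Algebra k B] :
    K ⊗[k] (A ⊗[k] B) ≃ₐ[K] (K ⊗[k] A) ⊗[K] (K ⊗[k] B) :=
  (Algebra.TensorProduct.assoc k k K K A B).symm.trans (cancelBC K (K ⊗[k] A) B).symm

/-- transitivity of base change -/
noncomputable def baseChangeTrans (K : Type*) [Field K] [Algebra k K]
    (E : Type*) [Field E] [Algebra k E] [Algebra K E] [IsScalarTower k K E]
    (B : Type*) [Ring B] [Algebra k B] :
    E ⊗[K] (K ⊗[k] B) ≃ₐ[E] E ⊗[k] B :=
  AlgEquiv.symm <| AlgEquiv.ofLinearEquiv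
    (TensorProduct.AlgebraTensorModule.cancelBaseChange k K E E B).symm
    (by simp [Algebra.TensorProduct.one_def]) <|
      LinearMap.map_mul_of_map_mul_tmul (fun _ _ _ _ ↦ by simp)

theorem splits_baseChange_iff (K : Type*) [Field K] [Algebra k K]
    (E : Type*) [Field E] [Algebra k E] [Algebra K E] [IsScalarTower k K E]
    (B : Type*) [Ring B] [Algebra k B] :
    Curves.Splits K (K ⊗[k] B) E ↔ Curves.Splits k B E := by
  constructor
  · rintro ⟨n, hn, ⟨φ⟩⟩
    exact ⟨n, hn, ⟨(baseChangeTrans (k := k) K E B).symm.trans φ⟩⟩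
  · rintro ⟨n, hn, ⟨φ⟩⟩
    exact ⟨n, hn, ⟨(baseChangeTrans (k := k) K E B).trans φ⟩⟩

theorem splits_tensor {L : Type*} [Field L] [Algebra k L]
    {A : Type*} [Ring A] [Algebra k A] {B : Type*} [Ring B] [Algebra k B]
    (hA : Curves.Splits k A L) (hB : Curves.Splits k B L) : Curves.Splits k (A ⊗[k] B) L := by
  obtain ⟨n, hn, ⟨eA⟩⟩ := hA
  obtain ⟨m, hm, ⟨eB⟩⟩ := hB
  exact ⟨n * m, Nat.mul_ne_zero hn hm, ⟨(baseChangeTensor (k := k) L A B).trans
    ((Algebra.TensorProduct.congr eA eB).trans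
      ((Matrix.kroneckerAlgEquiv (Fin n) (Fin m) L).trans
        (Matrix.reindexAlgEquiv L L finProdFinEquiv)))⟩⟩

theorem splits_self (L : Type*) [Field L] [Algebra k L] : Curves.Splits k k L :=
  ⟨1, one_ne_zero, ⟨(Algebra.TensorProduct.rid k L L).trans ((Idx.oneByOne L).trans
    (Matrix.reindexAlgEquiv L L (Equiv.ofUnique Unit (Fin 1))))⟩⟩

theorem splits_tpow {L : Type*} [Field L] [Algebra k L]
    {A : Type*} [Ring A] [Algebra k A] (hA : Curves.Splits k A L) (e : ℕ) :
    Curves.Splits k (tp k A e) L := by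
  induction e with
  | zero => exact Idx.splits_congr (zeroEquiv k A).symm (splits_self L)
  | succ e ih => exact Idx.splits_congr (succEquiv k A e).symm (splits_tensor hA ih)

/-- base change of tensor powers -/
theorem nonempty_baseChangeTpow (K : Type*) [Field K] [Algebra k K]
    (A : Type*) [Ring A] [Algebra k A] (e : ℕ) :
    Nonempty (K ⊗[k] tp k A e ≃ₐ[K] tp K (K ⊗[k] A) e) := by
  induction e with
  | zero =>
    exact ⟨(Algebra.TensorProduct.congr (AlgEquiv.refl : K ≃ₐ[K] K) (zeroEquiv k A)).trans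
      ((Algebra.TensorProduct.rid k K K).trans (zeroEquiv K (K ⊗[k] A)).symm)⟩
  | succ e ih =>
    obtain ⟨φ⟩ := ih
    exact ⟨(Algebra.TensorProduct.congr (AlgEquiv.refl : K ≃ₐ[K] K) (succEquiv k A e)).trans
      ((baseChangeTensor (k := k) K A (tp k A e)).trans
        ((Algebra.TensorProduct.congr (AlgEquiv.refl : (K ⊗[k] A) ≃ₐ[K] _) φ).trans
          (succEquiv K (K ⊗[k] A) e).symm))⟩

theorem splits_tpow_baseChange_iff (K : Type*) [Field K] [Algebra k K]
    (A : Type*) [Ring A] [Algebra k A] (e : ℕ) :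
    Curves.Splits K (tp K (K ⊗[k] A) e) K ↔ Curves.Splits k (tp k A e) K := by
  obtain ⟨φ⟩ := nonempty_baseChangeTpow (k := k) K A e
  constructor
  · rintro ⟨n, hn, ⟨ψ⟩⟩
    exact ⟨n, hn, ⟨φ.trans ((Algebra.TensorProduct.lid K (tp K (K ⊗[k] A) e)).symm.trans ψ)⟩⟩
  · rintro ⟨n, hn, ⟨ψ⟩⟩
    exact ⟨n, hn, ⟨(Algebra.TensorProduct.lid K (tp K (K ⊗[k] A) e)).trans (φ.symm.trans ψ)⟩⟩

end bc

section arith

variable (k : Type*) [Field k] (A : Type*) [Ring A] [Algebra k A]

theorem nonempty_tpCast {a b : ℕ} (h : a = b) : Nonempty (tp k A a ≃ₐ[k] tp k A b) := by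
  subst h; exact ⟨AlgEquiv.refl⟩

theorem nonempty_tpAdd (a b : ℕ) :
    Nonempty (tp k A (a + b) ≃ₐ[k] tp k A a ⊗[k] tp k A b) := by
  induction a with
  | zero =>
    obtain ⟨c⟩ := nonempty_tpCast k A (zero_add b)
    exact ⟨c.trans ((Algebra.TensorProduct.lid k _).symm.trans
      (Algebra.TensorProduct.congr (zeroEquiv k A).symm AlgEquiv.refl))⟩
  | succ a ih =>
    obtain ⟨φ⟩ := ih
    obtain ⟨c⟩ := nonempty_tpCast k A (by omega : a + 1 + b = (a + b) + 1)
    exact ⟨c.trans ((succEquiv k A (a + b)).trans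
      ((Algebra.TensorProduct.congr AlgEquiv.refl φ).trans
        ((Algebra.TensorProduct.assoc k k k A (tp k A a) (tp k A b)).symm.trans
          (Algebra.TensorProduct.congr (succEquiv k A a).symm AlgEquiv.refl))))⟩

theorem nonempty_tpMul (a b : ℕ) :
    Nonempty (tp k (tp k A a) b ≃ₐ[k] tp k A (a * b)) := by
  induction b with
  | zero =>
    exact ⟨(zeroEquiv k (tp k A a)).trans (zeroEquiv k A).symm⟩
  | succ b ih =>
    obtain ⟨φ⟩ := ih
    obtain ⟨ψ⟩ := nonempty_tpAdd k A a (a * b)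
    obtain ⟨c⟩ := nonempty_tpCast k A (by ring : a + a * b = a * (b + 1))
    exact ⟨(succEquiv k (tp k A a) b).trans
      ((Algebra.TensorProduct.congr AlgEquiv.refl φ).trans (ψ.symm.trans c))⟩

end arith

section breq

variable {k : Type*} [Field k]
variable {X Y X' Y' : Type*} [Ring X] [Algebra k X] [Ring Y] [Algebra k Y]
  [Ring X'] [Algebra k X'] [Ring Y'] [Algebra k Y']

open Groth.Agent.Lib.helper19.CSA

theorem brEq_tensor_right (A : Type*) [Ring A] [Algebra k A] (h : BrEq k X Y) :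
    BrEq k (X ⊗[k] A) (Y ⊗[k] A) :=
  (BrEq.of_algEquiv (Algebra.TensorProduct.comm k X A)).trans
    ((h.tensor_left A).trans (BrEq.of_algEquiv (Algebra.TensorProduct.comm k A Y)))

theorem brEq_tensor (h : BrEq k X Y) (h' : BrEq k X' Y') : BrEq k (X ⊗[k] X') (Y ⊗[k] Y') :=
  (brEq_tensor_right X' h).trans (h'.tensor_left Y)

theorem brEq_refl (X : Type*) [Ring X] [Algebra k X] : BrEq k X X :=
  BrEq.of_algEquiv AlgEquiv.refl

theorem brEq_tpow (h : BrEq k X Y) (e : ℕ) : BrEq k (tp k X e) (tp k Y e) := by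
  induction e with
  | zero => exact (BrEq.of_algEquiv (zeroEquiv k X)).trans (BrEq.of_algEquiv (zeroEquiv k Y).symm)
  | succ e ih =>
    exact (BrEq.of_algEquiv (succEquiv k X e)).trans
      ((brEq_tensor h ih).trans (BrEq.of_algEquiv (succEquiv k Y e).symm))

end breq

end Groth.Agent.Lib.helper19.TPow
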