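import Mathlib
import Groth.Prelude.Def_Curves
import Groth.Prelude.Def_GSzCSA
import Groth.Agent.Lib.helper19.TensorPow2
import Groth.Agent.Lib.helper19.CyclicPeriod
import Groth.Agent.Lib.helper19.CSATensor
import Groth.Agent.S13293

/-!
# Tensor powers of central simple algebras; the cyclic step
-/

set_option autoImplicit false

namespace Groth.Agent.Lib.helper19.TPow

open TensorProduct

universe u v w

section central

variable {k : Type*} [Field k] {A B : Type*} [Ring A] [Algebra k A] [Ring B] [Algebra k B]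

theorem isCentral_tensor [Algebra.IsCentral k A] [Algebra.IsCentral k B] [Nontrivial B] :
    Algebra.IsCentral k (A ⊗[k] B) := by
  refine ⟨fun z hz => ?_⟩
  rw [Subalgebra.mem_center_iff] at hz
  have h1 : z ∈ Subalgebra.centralizer k
      ((Algebra.TensorProduct.includeRight : B →ₐ[k] A ⊗[k] B).range : Set (A ⊗[k] B)) := by
    rw [Subalgebra.mem_centralizer_iff]
    rintro _ ⟨a, rfl⟩
    exact hz _
  rw [Subalgebra.centralizer_range_includeRight_eq_center_tensorProduct] at h1
  obtain ⟨w, rfl⟩ := h1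
  have h2 : ∃ a : A, Algebra.TensorProduct.map (AlgHom.id k A) (Subalgebra.center k B).val w =
      a ⊗ₜ[k] (1 : B) := by
    clear hz
    induction w using TensorProduct.induction_on with
    | zero => exact ⟨0, by rw [map_zero, zero_tmul]⟩
    | tmul a c =>
      obtain ⟨c, hc⟩ := c
      rw [Algebra.IsCentral.center_eq_bot] at hc
      obtain ⟨r, rfl⟩ := hc
      refine ⟨r • a, ?_⟩
      change a ⊗ₜ[k] (algebraMap k B r) = (r • a) ⊗ₜ[k] (1 : B)
      rw [Algebra.algebraMap_eq_smul_one, TensorProduct.smul_tmul]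
    | add x y hx hy =>
      obtain ⟨a, ha⟩ := hx
      obtain ⟨b, hb⟩ := hy
      exact ⟨a + b, by rw [map_add, ha, hb, add_tmul]⟩
  obtain ⟨a, ha⟩ := h2
  change ∀ b : A ⊗[k] B,
    b * Algebra.TensorProduct.map (AlgHom.id k A) (Subalgebra.center k B).val w =
      Algebra.TensorProduct.map (AlgHom.id k A) (Subalgebra.center k B).val w * b at hz
  change Algebra.TensorProduct.map (AlgHom.id k A) (Subalgebra.center k B).val w ∈ _
  rw [ha] at hz ⊢
  have hinj : Function.Injective (Algebra.TensorProduct.includeLeft : A →ₐ[k] A ⊗[k] B) :=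
    Algebra.TensorProduct.includeLeft_injective (algebraMap k B).injective
  have hac : a ∈ Subalgebra.center k A := by
    rw [Subalgebra.mem_center_iff]
    intro a'
    apply hinj
    have := hz (a' ⊗ₜ[k] (1 : B))
    rw [Algebra.TensorProduct.tmul_mul_tmul, Algebra.TensorProduct.tmul_mul_tmul, mul_one] at this
    exact this
  rw [Algebra.IsCentral.center_eq_bot] at hac
  obtain ⟨r, rfl⟩ := hac
  exact ⟨r, Algebra.TensorProduct.algebraMap_apply r⟩

end central

section csa

variable (k : Type*) [Field k] (A : Type*) [Ring A] [Algebra k A] [Algebra.IsCentral k A]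
  [IsSimpleRing A] [FiniteDimensional k A]

theorem isCSA_tp (e : ℕ) :
    Algebra.IsCentral k (tp k A e) ∧ IsSimpleRing (tp k A e) ∧ FiniteDimensional k (tp k A e) := by
  induction e with
  | zero =>
    refine ⟨CSA.isCentral_of_algEquiv (zeroEquiv k A).symm,
      IsSimpleRing.of_ringEquiv (zeroEquiv k A).symm.toRingEquiv inferInstance,
      Module.Finite.equiv (zeroEquiv k A).symm.toLinearEquiv⟩
  | succ e ih =>
    obtain ⟨h1, h2, h3⟩ := ih
    haveI : IsSimpleRing (A ⊗[k] tp k A e) := CSA.isSimpleRing_tensor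
    haveI : Algebra.IsCentral k (A ⊗[k] tp k A e) := isCentral_tensor
    refine ⟨CSA.isCentral_of_algEquiv (succEquiv k A e).symm,
      IsSimpleRing.of_ringEquiv (succEquiv k A e).symm.toRingEquiv inferInstance,
      Module.Finite.equiv (succEquiv k A e).symm.toLinearEquiv⟩

instance (e : ℕ) : Algebra.IsCentral k (tp k A e) := (isCSA_tp k A e).1
instance (e : ℕ) : IsSimpleRing (tp k A e) := (isCSA_tp k A e).2.1
instance (e : ℕ) : FiniteDimensional k (tp k A e) := (isCSA_tp k A e).2.2

end csa

section cyclic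

variable (k : Type u) [Field k] (K : Type v) [Field K] [Algebra k K]
  [FiniteDimensional k K] [IsGalois k K]

/-- a central simple algebra split by a cyclic extension of degree `n` is killed by `n` -/
theorem splits_tpow_of_splits_cyclic (σ : K ≃ₐ[k] K)
    (hσ : ∀ τ : K ≃ₐ[k] K, τ ∈ Subgroup.zpowers σ)
    (A : Type w) [Ring A] [Algebra k A] [Algebra.IsCentral k A] [IsSimpleRing A]
    [FiniteDimensional k A] (hA : Curves.Splits k A K) :
    Curves.Splits k (tp k A (Module.finrank k K)) k := by
  obtain ⟨⟨b, B, _, _, hB, n, m, hn, hm, ⟨e⟩⟩, _⟩ := Groth.Agent.S13293.result k K σ hσ A hA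
  have hbr : CSA.BrEq k A B := ⟨n, m, hn, hm, ⟨e⟩⟩
  have h1 := brEq_tpow hbr (Module.finrank k K)
  refine h1.splits ?_
  rw [Cyc.splits_tpow_iff σ hσ b hB]
  exact ⟨algebraMap k K b, Algebra.norm_algebraMap (b : k)⟩

end cyclic

end Groth.Agent.Lib.helper19.TPow
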