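import Mathlib
import Groth.Agent.Lib.helper19.IndexCyclic
import Groth.Agent.Lib.helper19.IndexBasic
import Groth.Agent.Lib.helper19.CSABaseChange

/-!
# Algebras split by a subextension of a Galois `p`-extension
-/

set_option autoImplicit false

namespace Groth.Agent.Lib.helper19.Idx

open TensorProduct IntermediateField

universe v w

section ext

variable {F K : Type*} [Field F] [Field K] [Algebra F K]

/-- identity-on-carrier map -/
def extEquiv {E₁ E : IntermediateField F K} (h : E₁ ≤ E) : ↥E ≃ₐ[F] ↥(extendScalars h) where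
  toFun x := ⟨x.1, x.2⟩
  invFun x := ⟨x.1, x.2⟩
  left_inv _ := rfl
  right_inv _ := rfl
  map_mul' _ _ := rfl
  map_add' _ _ := rfl
  commutes' _ := rfl

theorem finrank_extendScalars {E₁ E : IntermediateField F K} (h : E₁ ≤ E) :
    Module.finrank F E₁ * Module.finrank E₁ (extendScalars h) = Module.finrank F E := by
  rw [Module.finrank_mul_finrank F ↥E₁ ↥(extendScalars h), (extEquiv h).toLinearEquiv.finrank_eq]

end ext

theorem pgroup_kill (p : ℕ) [hp : Fact p.Prime] (t : ℕ) :
    ∀ (F K : Type v) [Field F] [Field K] [Algebra F K] [FiniteDimensional F K] [IsGalois F K]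
      (_ : IsPGroup p (K ≃ₐ[F] K)) (E : IntermediateField F K) (_ : Module.finrank F E = p ^ t)
      (B : Type (max v w)) [Ring B] [Algebra F B] [Algebra.IsCentral F B] [IsSimpleRing B]
      [FiniteDimensional F B] (_ : Curves.Splits F B E),
      Curves.Splits F (TPow.tp F B (p ^ t)) F := by
  induction t with
  | zero =>
    intro F K _ _ _ _ _ hP E hE B _ _ _ _ _ hs
    rw [pow_zero, IntermediateField.finrank_eq_one_iff] at hE
    subst hE
    have h1 : Curves.Splits F B F :=
      splits_of_algHom (IntermediateField.botEquiv F K).toAlgHom hs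
    exact TPow.splits_tpow h1 _
  | succ t ih =>
    intro F K _ _ _ _ _ hP E hE B _ _ _ _ _ hs
    classical
    have hQi : E.fixingSubgroup.index = p ^ (t + 1) := by
      rw [← IntermediateField.finrank_eq_fixingSubgroup_index, hE]
    obtain ⟨g, hg⟩ := IsPGroup.iff_card.mp hP
    obtain ⟨q, hq⟩ := IsPGroup.iff_card.mp (hP.to_subgroup E.fixingSubgroup)
    have hgq : g = q + (t + 1) := by
      have := E.fixingSubgroup.card_mul_index
      rw [hq, hQi, hg, ← pow_add] at this
      exact (Nat.pow_right_injective hp.out.two_le this).symm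
    obtain ⟨N, hNcard, hQN⟩ := Sylow.exists_subgroup_card_pow_prime_le p (n := q) (m := q + t)
      (by rw [hg, hgq]; exact pow_dvd_pow p (by omega)) E.fixingSubgroup hq (by omega)
    have hNi : N.index = p := by
      have := N.card_mul_index
      rw [hNcard, hg, hgq] at this
      have h2 : p ^ (q + t) * N.index = p ^ (q + t) * p := by rw [this]; ring
      exact Nat.eq_of_mul_eq_mul_left (pow_pos hp.out.pos _) h2
    haveI : N.Normal := Subgroup.normal_of_index_eq_minFac_card
      (by rw [hNi, hg, Nat.Prime.pow_minFac hp.out (by omega)])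
    have hE₁E : fixedField N ≤ E := by
      have := IntermediateField.fixedField_antitone hQN
      rwa [IsGalois.fixedField_fixingSubgroup] at this
    have hE₁deg : Module.finrank F (fixedField N) = p := by
      rw [IntermediateField.finrank_eq_fixingSubgroup_index,
        IntermediateField.fixingSubgroup_fixedField, hNi]
    haveI : IsGalois F (fixedField N) := IsGalois.of_fixedField_normal_subgroup N
    have hcard : Nat.card ((fixedField N) ≃ₐ[F] (fixedField N)) = p := by
      rw [IsGalois.card_aut_eq_finrank, hE₁deg]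
    haveI : IsCyclic ((fixedField N) ≃ₐ[F] (fixedField N)) := isCyclic_of_prime_card hcard
    obtain ⟨σ, hσ⟩ := IsCyclic.exists_generator (α := (fixedField N) ≃ₐ[F] (fixedField N))
    have hP' : IsPGroup p (K ≃ₐ[fixedField N] K) :=
      (hP.to_subgroup N).of_equiv (IntermediateField.subgroupEquivAlgEquiv N)
    have hE'deg : Module.finrank (fixedField N) (extendScalars hE₁E) = p ^ t := by
      have h1 := finrank_extendScalars hE₁E
      rw [hE₁deg, hE, pow_succ'] at h1
      exact Nat.eq_of_mul_eq_mul_left hp.out.pos h1
    haveI : Algebra.IsCentral (fixedField N) ((fixedField N) ⊗[F] B) := CSA.isCentral_baseChange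
    haveI : IsSimpleRing ((fixedField N) ⊗[F] B) := CSA.isSimpleRing_baseChange
    have hs' : Curves.Splits (fixedField N) ((fixedField N) ⊗[F] B) (extendScalars hE₁E) :=
      (TPow.splits_baseChange_iff (fixedField N) (extendScalars hE₁E) B).mpr
        (splits_of_algHom (extEquiv hE₁E).toAlgHom hs)
    have h3 := ih (fixedField N) K hP' (extendScalars hE₁E) hE'deg ((fixedField N) ⊗[F] B) hs'
    have h4 : Curves.Splits F (TPow.tp F B (p ^ t)) (fixedField N) :=
      (TPow.splits_tpow_baseChange_iff (fixedField N) B (p ^ t)).mp h3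
    have h5 := TPow.splits_tpow_of_splits_cyclic F (fixedField N) σ hσ (TPow.tp F B (p ^ t)) h4
    rw [hE₁deg] at h5
    obtain ⟨φ⟩ := TPow.nonempty_tpMul F B (p ^ t) p
    obtain ⟨c⟩ := TPow.nonempty_tpCast F B (pow_succ p t).symm
    exact splits_congr (φ.trans c) h5

end Groth.Agent.Lib.helper19.Idx
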