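import Mathlib
import Groth.Agent.Lib.helper19.IndexPGroup

/-!
# A central simple algebra split by a separable extension of degree `n` is killed by `n`
-/

set_option autoImplicit false

namespace Groth.Agent.Lib.helper19.Idx

open TensorProduct IntermediateField

universe u v w

theorem kill_aux (F : Type u) [Field F] (K : Type v) [Field K] [Algebra F K]
    [FiniteDimensional F K] [IsGalois F K] (E₀ : IntermediateField F K)
    (B : Type w) [Ring B] [Algebra F B] [Algebra.IsCentral F B] [IsSimpleRing B]
    [FiniteDimensional F B] (hs : Curves.Splits F B E₀) :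
    Curves.Splits F (TPow.tp F B (Module.finrank F E₀)) F := by
  classical
  set n := Module.finrank F E₀ with hn
  have hHi : E₀.fixingSubgroup.index = n := by
    rw [← IntermediateField.finrank_eq_fixingSubgroup_index]
  obtain ⟨dC, hdC⟩ := exists_isIndex F (TPow.tp F B n)
  suffices h1 : dC = 1 by
    subst h1
    exact IsIndex.splits_of_eq_one hdC
  by_contra hne
  obtain ⟨p, hp, hpd⟩ := Nat.exists_prime_and_dvd hne
  haveI := Fact.mk hp
  -- Sylow subgroups
  let H : Subgroup (K ≃ₐ[F] K) := E₀.fixingSubgroup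
  let PH : Sylow p H := default
  let Q : Subgroup (K ≃ₐ[F] K) := (PH : Subgroup H).map H.subtype
  have hQp : IsPGroup p Q := PH.isPGroup'.map H.subtype
  obtain ⟨P, hQP⟩ := hQp.exists_le_sylow
  have hQH : Q ≤ H := Subgroup.map_subtype_le _
  have hFpQ : fixedField (P : Subgroup (K ≃ₐ[F] K)) ≤ fixedField Q :=
    IntermediateField.fixedField_antitone hQP
  have hEKQ : E₀ ≤ fixedField Q := by
    have := IntermediateField.fixedField_antitone hQH
    rwa [IsGalois.fixedField_fixingSubgroup] at this
  have hdegFp : Module.finrank F (fixedField (P : Subgroup (K ≃ₐ[F] K))) =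
      (P : Subgroup (K ≃ₐ[F] K)).index := by
    rw [IntermediateField.finrank_eq_fixingSubgroup_index,
      IntermediateField.fixingSubgroup_fixedField]
  have hdegQ : Module.finrank F (fixedField Q) = Q.index := by
    rw [IntermediateField.finrank_eq_fixingSubgroup_index,
      IntermediateField.fixingSubgroup_fixedField]
  have hnotdvd : ¬ p ∣ (P : Subgroup (K ≃ₐ[F] K)).index := P.not_dvd_index
  have key : Curves.Splits F (TPow.tp F B n) (fixedField (P : Subgroup (K ≃ₐ[F] K))) := by
    have hP' : IsPGroup p (K ≃ₐ[fixedField (P : Subgroup (K ≃ₐ[F] K))] K) :=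
      P.isPGroup'.of_equiv (IntermediateField.subgroupEquivAlgEquiv (P : Subgroup (K ≃ₐ[F] K)))
    have hdeg' : ∃ t, Module.finrank (fixedField (P : Subgroup (K ≃ₐ[F] K)))
        (extendScalars hFpQ) = p ^ t := by
      have h1 : Module.finrank (fixedField (P : Subgroup (K ≃ₐ[F] K))) (extendScalars hFpQ) ∣
          Module.finrank (fixedField (P : Subgroup (K ≃ₐ[F] K))) K :=
        ⟨Module.finrank (extendScalars hFpQ) K,
          (Module.finrank_mul_finrank (fixedField (P : Subgroup (K ≃ₐ[F] K)))
            (extendScalars hFpQ) K).symm⟩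
      obtain ⟨a, ha⟩ := IsPGroup.iff_card.mp hP'
      rw [← IsGalois.card_aut_eq_finrank (fixedField (P : Subgroup (K ≃ₐ[F] K))) K, ha] at h1
      obtain ⟨t, _, ht⟩ := (Nat.dvd_prime_pow hp).mp h1
      exact ⟨t, ht⟩
    obtain ⟨t, ht⟩ := hdeg'
    have hdvd : p ^ t ∣ n := by
      have h1 := finrank_extendScalars hFpQ
      rw [ht, hdegQ, ← Subgroup.relIndex_mul_index hQH, hHi] at h1
      have h2 : ¬ p ∣ Q.relIndex H := by
        have h3 : Q.subgroupOf H = (PH : Subgroup H) := by
          ext x
          simp only [Subgroup.mem_subgroupOf, Q, Subgroup.mem_map, Subgroup.coe_subtype]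
          constructor
          · rintro ⟨y, hy, hxy⟩
            rwa [← Subtype.ext hxy]
          · intro hx
            exact ⟨x, hx, rfl⟩
        rw [Subgroup.relIndex, h3]
        exact PH.not_dvd_index
      have h3 : p ^ t ∣ Q.relIndex H * n := ⟨_, by rw [← h1]; ring⟩
      exact (Nat.Coprime.pow_left t ((Nat.Prime.coprime_iff_not_dvd hp).mpr h2)).dvd_of_dvd_mul_left
        h3
    have hsQ : Curves.Splits F B (fixedField Q) :=
      splits_of_algHom (IntermediateField.inclusion hEKQ) hs
    haveI : Algebra.IsCentral (fixedField (P : Subgroup (K ≃ₐ[F] K)))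
        ((fixedField (P : Subgroup (K ≃ₐ[F] K))) ⊗[F] B) := CSA.isCentral_baseChange
    haveI : IsSimpleRing ((fixedField (P : Subgroup (K ≃ₐ[F] K))) ⊗[F] B) :=
      CSA.isSimpleRing_baseChange
    have hsE' : Curves.Splits (fixedField (P : Subgroup (K ≃ₐ[F] K)))
        ((fixedField (P : Subgroup (K ≃ₐ[F] K))) ⊗[F] B) (extendScalars hFpQ) :=
      (TPow.splits_baseChange_iff (fixedField (P : Subgroup (K ≃ₐ[F] K)))
        (extendScalars hFpQ) B).mpr (splits_of_algHom (extEquiv hFpQ).toAlgHom hsQ)
    have h3 := pgroup_kill.{v, w} p t (fixedField (P : Subgroup (K ≃ₐ[F] K))) K hP'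
      (extendScalars hFpQ) ht ((fixedField (P : Subgroup (K ≃ₐ[F] K))) ⊗[F] B) hsE'
    have h4 : Curves.Splits F (TPow.tp F B (p ^ t)) (fixedField (P : Subgroup (K ≃ₐ[F] K))) :=
      (TPow.splits_tpow_baseChange_iff (fixedField (P : Subgroup (K ≃ₐ[F] K))) B (p ^ t)).mp h3
    obtain ⟨j', hj'⟩ := hdvd
    have h5 := TPow.splits_tpow h4 j'
    obtain ⟨φ⟩ := TPow.nonempty_tpMul F B (p ^ t) j'
    obtain ⟨c⟩ := TPow.nonempty_tpCast F B hj'.symm
    exact splits_congr (φ.trans c) h5
  have h6 := IsIndex.dvd_of_splits hdC key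
  rw [hdegFp] at h6
  exact hnotdvd (dvd_trans hpd h6)

theorem kill_of_splits_separable (F : Type u) [Field F] (E : Type v) [Field E] [Algebra F E]
    [FiniteDimensional F E] [Algebra.IsSeparable F E]
    (B : Type w) [Ring B] [Algebra F B] [Algebra.IsCentral F B] [IsSimpleRing B]
    [FiniteDimensional F B] (hs : Curves.Splits F B E) :
    Curves.Splits F (TPow.tp F B (Module.finrank F E)) F := by
  classical
  haveI : IsAlgClosure F (AlgebraicClosure E) :=
    ⟨inferInstance, Algebra.IsAlgebraic.trans F E (AlgebraicClosure E)⟩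
  haveI : Normal F (AlgebraicClosure E) := IsAlgClosure.normal _ _
  haveI hsepf : ∀ f : E →ₐ[F] AlgebraicClosure E, Algebra.IsSeparable F f.fieldRange :=
    fun f => AlgEquiv.Algebra.isSeparable (AlgEquiv.ofInjectiveField f)
  haveI : Algebra.IsSeparable F (IntermediateField.normalClosure F E (AlgebraicClosure E)) := by
    change Algebra.IsSeparable F
      (⨆ f : E →ₐ[F] AlgebraicClosure E, f.fieldRange : IntermediateField F _)
    exact IntermediateField.isSeparable_iSup F (AlgebraicClosure E)
  haveI : IsGalois F (IntermediateField.normalClosure F E (AlgebraicClosure E)) := ⟨⟩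
  let ι : E →ₐ[F] (IntermediateField.normalClosure F E (AlgebraicClosure E)) :=
    IsScalarTower.toAlgHom F E _
  have hEK : Module.finrank F ι.fieldRange = Module.finrank F E :=
    (AlgEquiv.ofInjectiveField ι).toLinearEquiv.finrank_eq.symm
  have h1 : Curves.Splits F B ι.fieldRange :=
    splits_of_algHom (AlgEquiv.ofInjectiveField ι).toAlgHom hs
  have h2 := kill_aux F _ ι.fieldRange B h1
  rwa [hEK] at h2

end Groth.Agent.Lib.helper19.Idx
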