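import Mathlib

/-!
# Dimensions of symmetric and skew elements of an involution
-/

set_option autoImplicit false

namespace Groth.Agent.Lib.helper19.Invol

open TensorProduct

section KerBC

variable {k : Type*} [Field k] {L : Type*} [Field L] [Algebra k L]
variable {A : Type*} [AddCommGroup A] [Module k A] [Module.Finite k A]

theorem finrank_ker_baseChange (f : A →ₗ[k] A) :
    Module.finrank L (LinearMap.ker (f.baseChange L)) = Module.finrank k (LinearMap.ker f) := by
  let j : LinearMap.ker f →ₗ[k] A := (LinearMap.ker f).subtype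
  have hinj : Function.Injective (j.baseChange L) := by
    rw [LinearMap.baseChange_eq_ltensor]
    exact Module.Flat.lTensor_preserves_injective_linearMap j (Submodule.injective_subtype _)
  have hex : Function.Exact (j.baseChange L) (f.baseChange L) := by
    rw [LinearMap.baseChange_eq_ltensor, LinearMap.baseChange_eq_ltensor]
    exact Module.Flat.lTensor_exact L (LinearMap.exact_subtype_ker_map f)
  have hrange : LinearMap.range (j.baseChange L) = LinearMap.ker (f.baseChange L) :=
    (LinearMap.exact_iff.mp hex).symm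
  rw [← hrange, LinearMap.finrank_range_of_inj hinj, Module.finrank_baseChange]

end KerBC

section SymSkew

variable {L : Type*} [Field L] (m : ℕ)

/-- matrices with `Yᵀ = ε • Y` -/
def symSub (ε : L) : Submodule L (Matrix (Fin m) (Fin m) L) where
  carrier := {Y | Y.transpose = ε • Y}
  add_mem' {Y Y'} hY hY' := by
    change (Y + Y').transpose = ε • (Y + Y')
    rw [Matrix.transpose_add, hY, hY', smul_add]
  zero_mem' := by
    change (0 : Matrix (Fin m) (Fin m) L).transpose = ε • 0
    rw [Matrix.transpose_zero, smul_zero]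
  smul_mem' c Y hY := by
    change (c • Y).transpose = ε • (c • Y)
    rw [Matrix.transpose_smul, hY, smul_comm]

lemma mem_symSub (ε : L) (Y : Matrix (Fin m) (Fin m) L) :
    Y ∈ symSub m ε ↔ Y.transpose = ε • Y := Iff.rfl

/-- symmetric matrices are functions on unordered pairs -/
noncomputable def symEquiv : symSub m (1 : L) ≃ₗ[L] (Sym2 (Fin m) → L) where
  toFun Y := fun z => Sym2.lift ⟨fun i j => Y.1 i j, fun i j => by
    have h := Y.2
    rw [mem_symSub, one_smul] at h
    have h2 := congrFun (congrFun h i) j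
    rw [Matrix.transpose_apply] at h2
    exact h2.symm⟩ z
  invFun c := ⟨Matrix.of fun i j => c s(i, j), by
    rw [mem_symSub, one_smul]
    ext i j
    simp [Sym2.eq_swap]⟩
  left_inv Y := by
    apply Subtype.ext
    ext i j
    simp
  right_inv c := by
    funext z
    induction z using Sym2.ind with
    | _ i j => simp
  map_add' Y Y' := by
    funext z
    induction z using Sym2.ind with
    | _ i j => simp
  map_smul' c Y := by
    funext z
    induction z using Sym2.ind with
    | _ i j => simp

theorem finrank_symSub_one : Module.finrank L (symSub m (1 : L)) = Nat.choose (m + 1) 2 := by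
  rw [(symEquiv (L := L) m).finrank_eq, Module.finrank_fintype_fun_eq_card, Sym2.card,
    Fintype.card_fin]

lemma sq_eq_choose (n : ℕ) : n * n = Nat.choose (n + 1) 2 + Nat.choose n 2 := by
  induction n with
  | zero => simp
  | succ n ih =>
    have h1 : Nat.choose (n + 1 + 1) 2 = (n + 1) + Nat.choose (n + 1) 2 := by
      rw [Nat.choose_succ_succ' (n + 1) 1]; simp
    have h2 : Nat.choose (n + 1) 2 = n + Nat.choose n 2 := by
      rw [Nat.choose_succ_succ' n 1]; simp
    rw [h1]
    nlinarith [ih, h2]

theorem finrank_symSub_neg_one (h2 : (2 : L) ≠ 0) :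
    Module.finrank L (symSub m (-1 : L)) = Nat.choose m 2 := by
  let P : Matrix (Fin m) (Fin m) L →ₗ[L] Matrix (Fin m) (Fin m) L :=
    LinearMap.id - (Matrix.transposeLinearEquiv (Fin m) (Fin m) L L).toLinearMap
  have hP : ∀ Y, P Y = Y - Y.transpose := fun Y => rfl
  have hker : LinearMap.ker P = symSub m (1 : L) := by
    ext Y
    rw [LinearMap.mem_ker, hP, mem_symSub, one_smul, sub_eq_zero, eq_comm]
  have hrange : LinearMap.range P = symSub m (-1 : L) := by
    ext Y
    rw [LinearMap.mem_range, mem_symSub]
    constructor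
    · rintro ⟨X, rfl⟩
      rw [hP, Matrix.transpose_sub, Matrix.transpose_transpose, neg_smul, one_smul, neg_sub]
    · intro hY
      refine ⟨(2 : L)⁻¹ • Y, ?_⟩
      rw [hP, Matrix.transpose_smul, hY, neg_smul, one_smul, smul_neg, sub_neg_eq_add, ← add_smul,
        ← two_mul, mul_inv_cancel₀ h2, one_smul]
  have h := LinearMap.finrank_range_add_finrank_ker P
  rw [hker, hrange, finrank_symSub_one, Module.finrank_matrix] at h
  simp only [Fintype.card_fin, Module.finrank_self, mul_one] at h
  have h3 := sq_eq_choose m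
  omega

end SymSkew

section Transport

variable {L : Type*} [Field L] {m : ℕ} {V : Type*} [AddCommGroup V] [Module L V]

theorem finrank_ker_sub_smul (E : V ≃ₗ[L] Matrix (Fin m) (Fin m) L) (g : V →ₗ[L] V)
    (S : Matrix (Fin m) (Fin m) L) (hSu : IsUnit S) (ε δ : L) (hε0 : ε ≠ 0)
    (hε : S.transpose = ε • S)
    (hg : ∀ x, E (g x) = S⁻¹ * (E x).transpose * S) :
    Module.finrank L (LinearMap.ker (g - δ • LinearMap.id)) =
      Module.finrank L (symSub m (ε * δ)) := by
  have hdet : IsUnit S.det := (Matrix.isUnit_iff_isUnit_det S).mp hSu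
  have h1 : S * S⁻¹ = 1 := Matrix.mul_nonsing_inv S hdet
  have h2 : S⁻¹ * S = 1 := Matrix.nonsing_inv_mul S hdet
  let Λ : Matrix (Fin m) (Fin m) L ≃ₗ[L] Matrix (Fin m) (Fin m) L :=
    { toFun := fun X => S * X
      invFun := fun X => S⁻¹ * X
      map_add' := fun X Y => Matrix.mul_add S X Y
      map_smul' := fun c X => Matrix.mul_smul S c X
      left_inv := fun X => by simp [← Matrix.mul_assoc, h2]
      right_inv := fun X => by simp [← Matrix.mul_assoc, h1] }
  let F : V ≃ₗ[L] Matrix (Fin m) (Fin m) L := E.trans Λ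
  have hF : ∀ x, F x = S * E x := fun x => rfl
  have key : ∀ x : V, x ∈ LinearMap.ker (g - δ • LinearMap.id) ↔
      (E x).transpose * S = δ • (S * E x) := by
    intro x
    rw [LinearMap.mem_ker, LinearMap.sub_apply, LinearMap.smul_apply, LinearMap.id_apply,
      sub_eq_zero]
    constructor
    · intro hx
      have hx2 : S⁻¹ * (E x).transpose * S = δ • E x := by rw [← hg, hx, map_smul]
      have h3 : S * (S⁻¹ * (E x).transpose * S) = S * (δ • E x) := congrArg (fun Z => S * Z) hx2
      rw [← Matrix.mul_assoc, ← Matrix.mul_assoc, h1, Matrix.one_mul, Matrix.mul_smul] at h3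
      exact h3
    · intro hx
      apply E.injective
      rw [hg, map_smul, Matrix.mul_assoc, hx, Matrix.mul_smul, ← Matrix.mul_assoc, h2,
        Matrix.one_mul]
  have key2 : ∀ x : V, F x ∈ symSub m (ε * δ) ↔
      (E x).transpose * S = δ • (S * E x) := by
    intro x
    rw [mem_symSub, hF, Matrix.transpose_mul, hε, Matrix.mul_smul, mul_smul]
    constructor
    · intro h
      exact smul_right_injective _ hε0 h
    · intro h
      rw [h]
  have hmap : (LinearMap.ker (g - δ • LinearMap.id)).map F.toLinearMap = symSub m (ε * δ) := by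
    ext Y
    constructor
    · rintro ⟨x, hx, rfl⟩
      exact (key2 x).mpr ((key x).mp hx)
    · intro hY
      refine ⟨F.symm Y, ?_, F.apply_symm_apply Y⟩
      rw [SetLike.mem_coe, key, ← key2, F.apply_symm_apply]
      exact hY
  rw [← hmap]
  exact (LinearEquiv.finrank_map_eq F _).symm

theorem finrank_ker_sub_id' (E : V ≃ₗ[L] Matrix (Fin m) (Fin m) L) (g : V →ₗ[L] V)
    (S : Matrix (Fin m) (Fin m) L) (hSu : IsUnit S) (ε : L) (hε0 : ε ≠ 0)
    (hε : S.transpose = ε • S)
    (hg : ∀ x, E (g x) = S⁻¹ * (E x).transpose * S) :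
    Module.finrank L (LinearMap.ker (g - LinearMap.id)) =
      Module.finrank L (symSub m ε) := by
  have := finrank_ker_sub_smul E g S hSu ε 1 hε0 hε hg
  rw [one_smul, mul_one] at this
  exact this

theorem finrank_ker_add_id' (E : V ≃ₗ[L] Matrix (Fin m) (Fin m) L) (g : V →ₗ[L] V)
    (S : Matrix (Fin m) (Fin m) L) (hSu : IsUnit S) (ε : L) (hε0 : ε ≠ 0)
    (hε : S.transpose = ε • S)
    (hg : ∀ x, E (g x) = S⁻¹ * (E x).transpose * S) :
    Module.finrank L (LinearMap.ker (g + LinearMap.id)) =
      Module.finrank L (symSub m (-ε)) := by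
  have := finrank_ker_sub_smul E g S hSu ε (-1) hε0 hε hg
  rw [neg_smul, one_smul, sub_neg_eq_add, mul_neg, mul_one] at this
  exact this

end Transport

section Final

variable {k : Type*} [Field k] {L : Type*} [Field L] [Algebra k L]
variable {A : Type*} [AddCommGroup A] [Module k A] [Module.Finite k A]

theorem finrank_ker_sub_id (s : A →ₗ[k] A) (m : ℕ)
    (E : (L ⊗[k] A) ≃ₗ[L] Matrix (Fin m) (Fin m) L)
    (S : Matrix (Fin m) (Fin m) L) (hSu : IsUnit S) (ε : L) (hε0 : ε ≠ 0)
    (hε : S.transpose = ε • S)
    (hg : ∀ x, E (s.baseChange L x) = S⁻¹ * (E x).transpose * S) :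
    Module.finrank k (LinearMap.ker (s - LinearMap.id)) =
      Module.finrank L (symSub m ε) := by
  rw [← finrank_ker_baseChange (L := L), LinearMap.baseChange_sub, LinearMap.baseChange_id]
  exact finrank_ker_sub_id' E (s.baseChange L) S hSu ε hε0 hε hg

theorem finrank_ker_add_id (s : A →ₗ[k] A) (m : ℕ)
    (E : (L ⊗[k] A) ≃ₗ[L] Matrix (Fin m) (Fin m) L)
    (S : Matrix (Fin m) (Fin m) L) (hSu : IsUnit S) (ε : L) (hε0 : ε ≠ 0)
    (hε : S.transpose = ε • S)
    (hg : ∀ x, E (s.baseChange L x) = S⁻¹ * (E x).transpose * S) :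
    Module.finrank k (LinearMap.ker (s + LinearMap.id)) =
      Module.finrank L (symSub m (-ε)) := by
  rw [← finrank_ker_baseChange (L := L), LinearMap.baseChange_add, LinearMap.baseChange_id]
  exact finrank_ker_add_id' E (s.baseChange L) S hSu ε hε0 hε hg

end Final

end Groth.Agent.Lib.helper19.Invol
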