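import Groth.Agent.Lib.helper19.BertiniGlue
import Groth.Agent.Lib.helper19.JetsCore

set_option autoImplicit false
set_option linter.unusedVariables false
set_option linter.style.haveILetI false
universe u

namespace Groth.Agent.Lib.Helper19.JetsGlue

open CategoryTheory CategoryTheory.Limits AlgebraicGeometry TopologicalSpace Opposite
open Groth.Agent.Lib.Helper28.QCohLoc Groth.Agent.Lib.Helper29.MeroGen
  Groth.Agent.Lib.Helper29.MeroDenom Groth.Agent.Lib.Helper29.ZeroSch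
  Groth.Agent.Lib.Helper29.QCohStalk
  Groth.Agent.Lib.Helper19.BertiniGlue

variable {X : Scheme.{u}}

/-- an element of the localisation at a maximal ideal lying in the square of the maximal ideal -/
theorem mem_sq_of_algebraMap_mem {A : Type*} [CommRing A] (𝔪 : Ideal A) [h𝔪 : 𝔪.IsMaximal]
    (S : Type*) [CommRing S] [Algebra A S] [IsLocalization.AtPrime S 𝔪] [IsLocalRing S]
    (y : A) (hy : algebraMap A S y ∈ (IsLocalRing.maximalIdeal S) ^ 2) : y ∈ 𝔪 ^ 2 := by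
  rw [← IsLocalization.AtPrime.map_eq_maximalIdeal 𝔪 S, ← Ideal.map_pow,
    IsLocalization.algebraMap_mem_map_algebraMap_iff 𝔪.primeCompl] at hy
  obtain ⟨s, hs, hsy⟩ := hy
  have hy𝔪 : y ∈ 𝔪 := by
    have h1 : s * y ∈ 𝔪 := Ideal.pow_le_self two_ne_zero hsy
    exact (h𝔪.isPrime.mem_or_mem h1).resolve_left hs
  obtain ⟨a, b, hb, hab⟩ := h𝔪.exists_inv hs
  have h2 : y = a * (s * y) + b * y := by
    linear_combination (-y) * hab
  rw [h2]
  refine Ideal.add_mem _ (Ideal.mul_mem_left _ _ hsy) ?_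
  rw [pow_two]
  exact Ideal.mul_mem_mul hb hy𝔪

variable {k : Type u} [Field k] [X.Over (Spec (CommRingCat.of k))]

set_option maxHeartbeats 800000 in
theorem hjet_chart [Smooth (X ↘ Spec (CommRingCat.of k))]
    (L : X.Modules) {m : ℕ} (s : Fin m → (Coh.structureModule X ⟶ L))
    (hjet : ∀ p : X, IsClosed ({p} : Set X) → ∀ l : ↥(L.presheaf.stalk p), ∃ c : Fin m → k,
      (L.presheaf.germ ⊤ p trivial)
          (PicF2.secVal L (∑ i : Fin m, Formal.smulMod k (Coh.structureModule X) (c i) ≫ s i) ⊤) - l ∈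
        (IsLocalRing.maximalIdeal ↥(X.presheaf.stalk p)) ^ 2 •
          (⊤ : Submodule ↥(X.presheaf.stalk p) ↥(L.presheaf.stalk p)))
    (W : X.affineOpens) (e : Γ(L, W.1)) (he : IsGen L W.1 e)
    (g : Fin m → Γ(X, W.1)) (hg : ∀ i, σ L (s i) W.1 = g i • e)
    (𝔪 : Ideal Γ(X, W.1)) (h𝔪 : 𝔪.IsMaximal) (l : Γ(X, W.1)) :
    ∃ c : Fin m → k, ∑ i, (ρ (k := k) W.1 (c i)) * g i - l ∈ 𝔪 ^ 2 := by
  classical
  haveI : JacobsonSpace X := LocallyOfFiniteType.jacobsonSpace (X ↘ Spec (CommRingCat.of k))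
  haveI := h𝔪.isPrime
  have hW : IsAffineOpen W.1 := W.2
  let y₀ : PrimeSpectrum Γ(X, W.1) := ⟨𝔪, h𝔪.isPrime⟩
  let p : X := hW.fromSpec y₀
  have hpW : p ∈ W.1 := by
    have : p ∈ Set.range hW.fromSpec := ⟨y₀, rfl⟩
    rw [hW.range_fromSpec] at this
    exact this
  have hp : IsClosed ({p} : Set X) := by
    apply isClosed_singleton_of_isLocallyClosed_singleton
    have h1 : IsClosed ({y₀} : Set (PrimeSpectrum Γ(X, W.1))) :=
      (PrimeSpectrum.isClosed_singleton_iff_isMaximal y₀).2 h𝔪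
    have h2 : ({p} : Set X) = hW.fromSpec '' {y₀} := by
      ext z
      constructor
      · rintro rfl
        exact ⟨y₀, rfl, rfl⟩
      · rintro ⟨w, hw, rfl⟩
        rw [Set.mem_singleton_iff.1 hw]
        rfl
    rw [h2]
    have hemb : Topology.IsOpenEmbedding hW.fromSpec := hW.fromSpec.isOpenEmbedding
    exact h1.isLocallyClosed.image hemb.isInducing hemb.isOpen_range.isLocallyClosed
  obtain ⟨c, hc⟩ := hjet p hp (gm L W.1 p hpW (l • e))
  refine ⟨c, ?_⟩
  have hσ : σ L (∑ i, Formal.smulMod k (Coh.structureModule X) (c i) ≫ s i) W.1 =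
      (∑ i, (ρ (k := k) W.1 (c i)) * g i : Γ(X, W.1)) • e := by
    rw [σ_sum, Finset.sum_smul]
    refine Finset.sum_congr rfl fun i _ => ?_
    rw [σ_smulMod, hg i, mul_smul]
  set yy : Γ(X, W.1) := ∑ i, (ρ (k := k) W.1 (c i)) * g i - l with hyy
  have h1 : (L.presheaf.germ ⊤ p trivial)
      (PicF2.secVal L (∑ i : Fin m, Formal.smulMod k (Coh.structureModule X) (c i) ≫ s i) ⊤) -
      gm L W.1 p hpW (l • e) = X.presheaf.germ W.1 p hpW yy • gm L W.1 p hpW e := by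
    have h2 := gm_σ L (∑ i : Fin m, Formal.smulMod k (Coh.structureModule X) (c i) ≫ s i) W.1 p hpW
    change gm L ⊤ p trivial (σ L _ ⊤) - _ = _
    rw [← h2, hσ, gm_smul, gm_smul, ← sub_smul, ← map_sub]
  rw [h1] at hc
  -- extract the coefficient
  have h3 : ∀ x ∈ (IsLocalRing.maximalIdeal ↥(X.presheaf.stalk p)) ^ 2 •
      (⊤ : Submodule ↥(X.presheaf.stalk p) ↥(L.presheaf.stalk p)),
      ∃ r ∈ (IsLocalRing.maximalIdeal ↥(X.presheaf.stalk p)) ^ 2, x = r • gm L W.1 p hpW e := by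
    intro x hx
    refine Submodule.smul_induction_on hx ?_ ?_
    · intro a ha x _
      obtain ⟨b, rfl⟩ := he.stalk_gen p hpW x
      exact ⟨a * b, Ideal.mul_mem_right _ _ ha, by rw [mul_smul]⟩
    · rintro x y ⟨r, hr, rfl⟩ ⟨r', hr', rfl⟩
      exact ⟨r + r', Ideal.add_mem _ hr hr', by rw [add_smul]⟩
  obtain ⟨r, hr, hr'⟩ := h3 _ hc
  have h4 : X.presheaf.germ W.1 p hpW yy = r := by
    have h5 : (X.presheaf.germ W.1 p hpW yy - r) • gm L W.1 p hpW e = 0 := by
      rw [sub_smul, hr', sub_self]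
    exact sub_eq_zero.1 (he.stalk_indep p hpW _ h5)
  letI := X.presheaf.algebra_section_stalk (⟨p, hpW⟩ : W.1)
  haveI : IsLocalization.AtPrime (X.presheaf.stalk p) 𝔪 := hW.isLocalization_stalk' y₀ hpW
  apply mem_sq_of_algebraMap_mem 𝔪 (X.presheaf.stalk p) yy
  change X.presheaf.germ W.1 p hpW yy ∈ _
  rw [h4]
  exact hr

theorem local_step' [Smooth (X ↘ Spec (CommRingCat.of k))]
    (L : X.Modules) (hL : PicF.IsInvertible L) {m : ℕ}
    (s : Fin m → (Coh.structureModule X ⟶ L)) (f : Coh.structureModule X ⟶ L)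
    (hjet : ∀ p : X, IsClosed ({p} : Set X) → ∀ l : ↥(L.presheaf.stalk p), ∃ c : Fin m → k,
      (L.presheaf.germ ⊤ p trivial)
          (PicF2.secVal L (∑ i : Fin m, Formal.smulMod k (Coh.structureModule X) (c i) ≫ s i) ⊤) - l ∈
        (IsLocalRing.maximalIdeal ↥(X.presheaf.stalk p)) ^ 2 •
          (⊤ : Submodule ↥(X.presheaf.stalk p) ↥(L.presheaf.stalk p)))
    (W : X.affineOpens) (e : Γ(L, W.1)) (he : IsGen L W.1 e) :
    ∃ p : MvPolynomial (Fin m) k, p ≠ 0 ∧ ∀ c : Fin m → k,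
      MvPolynomial.eval c p ≠ 0 →
      ((Ideal.Quotient.mk ((PicF2.zeroScheme L
        (f + ∑ i, Formal.smulMod k (Coh.structureModule X) (c i) ≫ s i)).ideal W)).comp
          (ρ (k := k) W.1)).Smooth := by
  classical
  have hcoef : ∀ t : Coh.structureModule X ⟶ L, ∃ a : Γ(X, W.1), σ L t W.1 = a • e := by
    intro t
    obtain ⟨a, ha⟩ := IsGen.exists_coeff he (le_refl W.1) (σ L t W.1)
    exact ⟨a, by rw [ha, Groth.Agent.Lib.Helper28.QCohLoc.res_self]⟩
  choose coef hcoef' using hcoef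
  let g : Fin m → Γ(X, W.1) := fun i => coef (s i)
  let f₀ : Γ(X, W.1) := coef f
  have hg : ∀ i, σ L (s i) W.1 = g i • e := fun i => hcoef' (s i)
  letI : Algebra k Γ(X, W.1) := (ρ (k := k) W.1).toAlgebra
  haveI : Algebra.Smooth k Γ(X, W.1) := (ρ_smooth (k := k) W.2).toAlgebra
  have hj : ∀ 𝔪 : Ideal Γ(X, W.1), 𝔪.IsMaximal → ∀ l : Γ(X, W.1), ∃ c : Fin m → k,
      ∑ i, c i • g i - l ∈ 𝔪 ^ 2 := by
    intro 𝔪 h𝔪 l
    obtain ⟨c, hc⟩ := hjet_chart (k := k) L s hjet W e he g hg 𝔪 h𝔪 l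
    refine ⟨c, ?_⟩
    simp only [Algebra.smul_def]
    exact hc
  obtain ⟨p, hp0, hp⟩ := Groth.Agent.Lib.Helper19.JetsCore.exists_poly_jets k f₀ g hj
  refine ⟨p, hp0, fun c hc => ?_⟩
  have hσ : σ L (f + ∑ i, Formal.smulMod k (Coh.structureModule X) (c i) ≫ s i) W.1 =
      (f₀ + ∑ i, c i • g i : Γ(X, W.1)) • e := by
    rw [σ_add, σ_sum, add_smul, Finset.sum_smul, hcoef' f]
    congr 1
    refine Finset.sum_congr rfl fun i _ => ?_
    rw [σ_smulMod, hg i, Algebra.smul_def, mul_smul]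
    rfl
  have hJ := zeroScheme_ideal_eq_span hL W he hσ
  have key : ∀ J : Ideal Γ(X, W.1), J = Ideal.span {f₀ + ∑ i, c i • g i} →
      ((Ideal.Quotient.mk J).comp (ρ (k := k) W.1)).Smooth := by
    rintro _ rfl
    exact RingHom.smooth_algebraMap.2 (hp c hc)
  exact key _ hJ

theorem main' [Smooth (X ↘ Spec (CommRingCat.of k))]
    [QuasiCompact (X ↘ Spec (CommRingCat.of k))]
    (L : X.Modules) (hL : FlatMod.IsFinLocFreeOfRank 1 L) (m : ℕ)
    (s : Fin m → (Coh.structureModule X ⟶ L)) (f : Coh.structureModule X ⟶ L)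
    (hjet : ∀ p : X, IsClosed ({p} : Set X) → ∀ l : ↥(L.presheaf.stalk p), ∃ c : Fin m → k,
      (L.presheaf.germ ⊤ p trivial)
          (PicF2.secVal L (∑ i : Fin m, Formal.smulMod k (Coh.structureModule X) (c i) ≫ s i) ⊤) - l ∈
        (IsLocalRing.maximalIdeal ↥(X.presheaf.stalk p)) ^ 2 •
          (⊤ : Submodule ↥(X.presheaf.stalk p) ↥(L.presheaf.stalk p))) :
    ∃ q : MvPolynomial (Fin m) k, q ≠ 0 ∧ ∀ c : Fin m → k, MvPolynomial.eval c q ≠ 0 →
      Smooth ((PicF2.zeroScheme L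
        (f + ∑ i : Fin m, Formal.smulMod k (Coh.structureModule X) (c i) ≫ s i)).subschemeι ≫
        (X ↘ Spec (CommRingCat.of k))) := by
  classical
  have hL' := isInvertible_of_rank_one hL
  have hloc : ∀ x : X, ∃ W : X.affineOpens, x ∈ W.1 ∧ ∃ e : Γ(L, W.1), IsGen L W.1 e := by
    intro x
    obtain ⟨U, hxU, e, he⟩ := exists_isGen hL' x
    obtain ⟨W, hWaff, hxW, hWU⟩ := exists_isAffineOpen_mem_and_subset (x := x) (U := U) hxU
    exact ⟨⟨W, hWaff⟩, hxW, res L hWU e, he.mono hWU⟩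
  choose W hxW e he using hloc
  choose p hp0 hp using fun x => local_step' (k := k) L hL' s f hjet (W x) (e x) (he x)
  haveI : CompactSpace X :=
    QuasiCompact.compactSpace_of_compactSpace (X ↘ Spec (CommRingCat.of k))
  obtain ⟨t, ht⟩ := CompactSpace.elim_nhds_subcover (fun x => ((W x).1 : Set X))
    (fun x => (W x).1.2.mem_nhds (hxW x))
  refine ⟨∏ x ∈ t, p x, Finset.prod_ne_zero_iff.2 (fun x _ => hp0 x), fun c hc => ?_⟩
  have hcx : ∀ x ∈ t, MvPolynomial.eval c (p x) ≠ 0 := by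
    rw [map_prod] at hc
    exact Finset.prod_ne_zero_iff.1 hc
  set Z := PicF2.zeroScheme L
    (f + ∑ i : Fin m, Formal.smulMod k (Coh.structureModule X) (c i) ≫ s i) with hZ
  apply IsZariskiLocalAtSource.of_iSup_eq_top (P := @Smooth)
    (fun x : t => Z.subschemeι ⁻¹ᵁ (W x.1).1)
  · rw [eq_top_iff]
    rintro z -
    have hz : Z.subschemeι z ∈ ⋃ x ∈ t, ((W x).1 : Set X) := by rw [ht]; trivial
    simp only [Set.mem_iUnion] at hz
    obtain ⟨x, hxt, hzx⟩ := hz
    exact Opens.mem_iSup.2 ⟨⟨x, hxt⟩, hzx⟩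
  · rintro ⟨x, hx⟩
    have hrange : Set.range (Z.subschemeCover.f (W x)) =
        Set.range (Z.subschemeι ⁻¹ᵁ (W x).1).ι := by
      rw [Scheme.Opens.range_ι, ← Z.opensRange_subschemeCover_map (W x)]
      rfl
    have hcomp : Z.subschemeCover.f (W x) ≫ Z.subschemeι ≫ (X ↘ Spec (CommRingCat.of k)) =
        Spec.map (CommRingCat.ofHom ((Ideal.Quotient.mk (Z.ideal (W x))).comp
          (ρ (k := k) (W x).1))) := by
      rw [CommRingCat.ofHom_comp, Spec.map_comp, ← fromSpec_comp_over (k := k) (W x).2,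
        ← Category.assoc, ← Category.assoc, Z.subschemeCover_map_subschemeι, Z.glueDataObjι_ι]
      rfl
    rw [← IsOpenImmersion.isoOfRangeEq_inv_fac (Z.subschemeCover.f (W x))
      (Scheme.Opens.ι _) hrange, Category.assoc,
      MorphismProperty.cancel_left_of_respectsIso (P := @Smooth), hcomp]
    exact (HasRingHomProperty.Spec_iff (P := @Smooth)).2 (hp x c (hcx x hx))

end Groth.Agent.Lib.Helper19.JetsGlue
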