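import Mathlib
import Groth.Agent.Lib.lead.SmoothDimSp
import Groth.Agent.Lib.lead.SmoothRelDim
import Groth.Agent.Lib.lead.FibreDimBCLocal
import Groth.Agent.Lib.helper19.SmoothOmega
import Groth.Agent.Lib.Helper24.LocalDim.Scheme
import Groth.Agent.Lib.Helper18.Chev.SchemeBound
import Groth.Agent.Lib.Helper21.TopDim
import Groth.Agent.Lib.Helper15.FibDimSp

set_option autoImplicit false
set_option linter.unusedVariables false
universe u

open CategoryTheory AlgebraicGeometry Limits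

namespace Groth.Agent.Lib.Helper19.KleimanDim

open Groth.Agent.Lib.lead Groth.Agent.Lib.Helper18 Groth.Agent.Lib.Helper24

variable (k : Type u) [Field k]

theorem localDim_eq' {T : Scheme.{u}} (q : T ⟶ Spec (CommRingCat.of k)) [LocallyOfFiniteType q]
    [IrreducibleSpace ↥T] (t : T) : FlatMor.localDim T t = topologicalKrullDim T := by
  letI : T.Over (Spec (CommRingCat.of k)) := ⟨q⟩
  haveI : LocallyOfFiniteType (T ↘ Spec (CommRingCat.of k)) := ‹LocallyOfFiniteType q›
  exact Groth.Agent.Lib.Helper19.SmoothOmega.localDim_eq k T t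

/-- the dimension of a smooth irreducible scheme over a field is a natural number -/
theorem exists_nat_dim {T : Scheme.{u}} (q : T ⟶ Spec (CommRingCat.of k)) [Smooth q]
    [IrreducibleSpace ↥T] : ∃ d : ℕ, ∀ t : T, FlatMor.localDim T t = (d : WithBot ℕ∞) := by
  haveI : LocallyOfFiniteType q := inferInstance
  obtain ⟨x₀⟩ : Nonempty T := inferInstance
  obtain ⟨U₀, d, hx₀, hd⟩ := SmoothDimSp.exists_nat_fibreDimAt_const q x₀
  refine ⟨d, fun t => ?_⟩
  rw [localDim_eq' k q t, ← localDim_eq' k q x₀,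
    ← SmoothRelDim.fibreDimAt_over_field (Field.toIsField k) q x₀]
  exact hd x₀ hx₀

/-- the arithmetic heart -/
theorem arith {n r s dG e d : ℕ} {a b : WithBot ℕ∞}
    (h1 : a = ((r + dG : ℕ) : WithBot ℕ∞)) (h2 : a = (n : WithBot ℕ∞) + (e : WithBot ℕ∞))
    (h3 : b = (s : WithBot ℕ∞) + (e : WithBot ℕ∞))
    (h4 : b = (dG : WithBot ℕ∞) + (d : WithBot ℕ∞)) :
    n ≤ r + s ∧ d = r + s - n := by
  have e1 : r + dG = n + e := by
    have : ((r + dG : ℕ) : WithBot ℕ∞) = ((n + e : ℕ) : WithBot ℕ∞) := by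
      rw [← h1, h2]; push_cast; rfl
    exact_mod_cast this
  have e2 : s + e = dG + d := by
    have : ((s + e : ℕ) : WithBot ℕ∞) = ((dG + d : ℕ) : WithBot ℕ∞) := by
      push_cast
      rw [← h3, h4]
    exact_mod_cast this
  omega

/-- the dimension count in Kleiman's theorem -/
theorem dim_count {G Y X Z P W F : Scheme.{u}}
    (gG : G ⟶ Spec (CommRingCat.of k)) (yY : Y ⟶ Spec (CommRingCat.of k))
    (xX : X ⟶ Spec (CommRingCat.of k)) (zZ : Z ⟶ Spec (CommRingCat.of k))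
    [Smooth gG] [LocallyOfFiniteType yY] [LocallyOfFiniteType xX] [LocallyOfFiniteType zZ]
    [IrreducibleSpace ↥G] [IrreducibleSpace ↥Y] [IrreducibleSpace ↥X] [IrreducibleSpace ↥Z]
    (p₁ : P ⟶ G) (p₂ : P ⟶ Y) (hP : IsPullback p₁ p₂ gG yY)
    (h : P ⟶ X) [Smooth h]
    (g : Z ⟶ X) [LocallyOfFiniteType g] (pW : W ⟶ P) (qW : W ⟶ Z) (hW : IsPullback pW qW h g)
    (V : G.Opens) (hV : Smooth ((pW ≫ p₁) ∣_ V))
    (σ : Spec (CommRingCat.of k) ⟶ G) (top : F ⟶ W) (pF : F ⟶ Spec (CommRingCat.of k))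
    [LocallyOfFiniteType pF]
    (hF : IsPullback top pF (pW ≫ p₁) σ) (hσ : Set.range σ ⊆ (V : Set G))
    (n r s : ℕ) (hn : topologicalKrullDim ↥X = n) (hr : topologicalKrullDim ↥Y = r)
    (hs : topologicalKrullDim ↥Z = s) (w : F) :
    n ≤ r + s ∧ FlatMor.localDim F w = ((r + s - n : ℕ) : WithBot ℕ∞) := by
  have hK : IsField (CommRingCat.of k) := Field.toIsField k
  haveI : LocallyOfFiniteType gG := inferInstance
  haveI : IsLocallyNoetherian G := LocallyOfFiniteType.isLocallyNoetherian gG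
  haveI : IsLocallyNoetherian Y := LocallyOfFiniteType.isLocallyNoetherian yY
  haveI : IsLocallyNoetherian X := LocallyOfFiniteType.isLocallyNoetherian xX
  haveI : IsLocallyNoetherian Z := LocallyOfFiniteType.isLocallyNoetherian zZ
  haveI : Smooth p₂ := MorphismProperty.of_isPullback hP ‹Smooth gG›
  haveI : LocallyOfFiniteType p₂ := inferInstance
  haveI : LocallyOfFiniteType p₁ := MorphismProperty.of_isPullback hP.flip ‹LocallyOfFiniteType yY›
  haveI : IsLocallyNoetherian P := LocallyOfFiniteType.isLocallyNoetherian (p₂ ≫ yY)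
  haveI : Smooth qW := MorphismProperty.of_isPullback hW ‹Smooth h›
  haveI : LocallyOfFiniteType qW := inferInstance
  haveI : LocallyOfFiniteType pW := MorphismProperty.of_isPullback hW.flip ‹LocallyOfFiniteType g›
  haveI : IsLocallyNoetherian W := LocallyOfFiniteType.isLocallyNoetherian (qW ≫ zZ)
  haveI : LocallyOfFiniteType h := inferInstance
  set π : W ⟶ G := pW ≫ p₁ with hπ
  haveI : LocallyOfFiniteType π := inferInstance
  haveI : Smooth (π ∣_ V) := hV
  haveI : LocallyOfFiniteType (π ∣_ V) := inferInstance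
  obtain ⟨dG, hdG⟩ := exists_nat_dim k gG
  -- the point of W
  have hmem : top w ∈ π ⁻¹ᵁ V := by
    change π (top w) ∈ V
    rw [← Scheme.Hom.comp_apply, hF.w, Scheme.Hom.comp_apply]
    exact hσ ⟨_, rfl⟩
  let w'' : (π ⁻¹ᵁ V).toScheme := ⟨top w, hmem⟩
  have hw'' : (π ⁻¹ᵁ V).ι w'' = top w := rfl
  -- fibre dimensions are natural numbers
  obtain ⟨U₁, e, hu₁, he⟩ := SmoothDimSp.exists_nat_fibreDimAt_const h (pW (top w))
  have he' : FlatMor.fibreDimAt h (pW (top w)) = (e : WithBot ℕ∞) := he _ hu₁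
  obtain ⟨U₂, d, hu₂, hd⟩ := SmoothDimSp.exists_nat_fibreDimAt_const (π ∣_ V) w''
  have hd0 : FlatMor.fibreDimAt (π ∣_ V) w'' = (d : WithBot ℕ∞) := hd _ hu₂
  have hsq : FlatMor.fibreDimAt π (top w) = FlatMor.fibreDimAt (π ∣_ V) w'' :=
    Chev.fibreDimAt_eq_of_openImmersion_square (π ∣_ V) V.ι (π ⁻¹ᵁ V).ι π
      (morphismRestrict_ι π V) w''
  have hd' : FlatMor.fibreDimAt π (top w) = (d : WithBot ℕ∞) := hsq.trans hd0
  -- (D1)
  have D1 : FlatMor.localDim P (pW (top w)) = ((r + dG : ℕ) : WithBot ℕ∞) := by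
    rw [SmoothDimSp.localDim_of_smooth p₂ (pW (top w)),
      FibreDimBCLocal.fibreDimAt_baseChange gG yY p₁ p₂ hP (pW (top w)),
      SmoothRelDim.fibreDimAt_over_field hK gG, hdG, localDim_eq' k yY, hr]
    push_cast
    rfl
  -- (D2)
  have D2 : FlatMor.localDim P (pW (top w)) = (n : WithBot ℕ∞) + (e : WithBot ℕ∞) := by
    rw [SmoothDimSp.localDim_of_smooth h (pW (top w)), he', localDim_eq' k xX, hn]
  -- (D3)
  have D3 : FlatMor.localDim W (top w) = (s : WithBot ℕ∞) + (e : WithBot ℕ∞) := by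
    rw [SmoothDimSp.localDim_of_smooth qW (top w),
      FibreDimBCLocal.fibreDimAt_baseChange h g pW qW hW (top w), he', localDim_eq' k zZ, hs]
  -- (D4)
  have D4 : FlatMor.localDim W (top w) = (dG : WithBot ℕ∞) + (d : WithBot ℕ∞) := by
    have h1 : FlatMor.localDim (π ⁻¹ᵁ V).toScheme w'' = FlatMor.localDim W (top w) :=
      LocalDim.localDim_eq_of_isOpenEmbedding _ (π ⁻¹ᵁ V).ι.isOpenEmbedding w''
    have h2 : FlatMor.localDim V.toScheme ((π ∣_ V) w'') = (dG : WithBot ℕ∞) := by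
      rw [LocalDim.localDim_eq_of_isOpenEmbedding _ V.ι.isOpenEmbedding ((π ∣_ V) w'')]
      exact hdG _
    haveI : IsLocallyNoetherian (π ⁻¹ᵁ V).toScheme :=
      LocallyOfFiniteType.isLocallyNoetherian ((π ⁻¹ᵁ V).ι ≫ qW ≫ zZ)
    haveI : IsLocallyNoetherian V.toScheme :=
      LocallyOfFiniteType.isLocallyNoetherian (V.ι ≫ gG)
    rw [← h1, SmoothDimSp.localDim_of_smooth (π ∣_ V) w'', h2, hd0]
  obtain ⟨hle, hdeq⟩ := arith D1 D2 D3 D4
  refine ⟨hle, ?_⟩
  rw [← SmoothRelDim.fibreDimAt_over_field hK pF w,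
    FibreDimBCLocal.fibreDimAt_baseChange π σ top pF hF w, hd', hdeq]

/-- the global dimension from the local one -/
theorem dim_eq_of_localDim (T : Type*) [TopologicalSpace T] [Nonempty T] (d : ℕ)
    (h : ∀ t : T, FlatMor.localDim T t = (d : WithBot ℕ∞)) :
    topologicalKrullDim T = (d : WithBot ℕ∞) := by
  apply le_antisymm
  · exact Groth.Agent.Lib.Helper15.FibDimSp.topologicalKrullDim_le_of_localDim_le T d
      (fun t => (h t).le)
  · obtain ⟨t⟩ := ‹Nonempty T›
    rw [← h t]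
    exact Groth.Agent.Lib.Helper21.TopDim.localDim_le t

end Groth.Agent.Lib.Helper19.KleimanDim
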