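import Mathlib
import Groth.Prelude.Def_AlgGrp
import Groth.Agent.Lib.helper19.KleimanAct

set_option autoImplicit false
set_option linter.unusedVariables false
universe u

open CategoryTheory MonoidalCategory CartesianMonoidalCategory MonObj AlgebraicGeometry Limits

namespace Groth.Agent.Lib.Helper19.KleimanFibre

open Groth.Agent.Lib.Helper4 Groth.Agent.Lib.Helper4.ActShear Groth.Agent.Lib.Helper4.ActShear2
  Groth.Agent.Lib.Helper19.KleimanAct

/-- if `π` is smooth over the open `V` and `σ` lands in `V`, the base change of `π` along `σ`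
is smooth -/
theorem smooth_of_isPullback_restrict {W G' T T' : Scheme.{u}} (π : W ⟶ G') (V : G'.Opens)
    (hV : Smooth (π ∣_ V)) (top : T' ⟶ W) (p : T' ⟶ T) (σ : T ⟶ G')
    (hsq : IsPullback top p π σ) (hσ : Set.range σ ⊆ (V : Set G')) : Smooth p := by
  have hrange : Set.range σ ⊆ Set.range V.ι := by
    rw [Scheme.Opens.range_ι]; exact hσ
  let j : T ⟶ (V : Scheme) := IsOpenImmersion.lift V.ι σ hrange
  have hj : j ≫ V.ι = σ := IsOpenImmersion.lift_fac _ _ _
  have hrange' : Set.range top ⊆ Set.range (π ⁻¹ᵁ V).ι := by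
    rintro _ ⟨w, rfl⟩
    rw [Scheme.Opens.range_ι]
    change π (top w) ∈ V
    rw [← Scheme.Hom.comp_apply, hsq.w, Scheme.Hom.comp_apply]
    exact hσ ⟨_, rfl⟩
  let u : T' ⟶ (π ⁻¹ᵁ V : Scheme) := IsOpenImmersion.lift (π ⁻¹ᵁ V).ι top hrange'
  have hu : u ≫ (π ⁻¹ᵁ V).ι = top := IsOpenImmersion.lift_fac _ _ _
  have hsq' : u ≫ (π ∣_ V) = p ≫ j := by
    rw [← cancel_mono V.ι, Category.assoc, Category.assoc, morphismRestrict_ι, ← Category.assoc,
      hu, hj]
    exact hsq.w
  have left : IsPullback u p (π ∣_ V) j :=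
    IsPullback.of_right (by rw [hu, hj]; exact hsq) hsq' (isPullback_morphismRestrict π V).flip
  exact MorphismProperty.of_isPullback left hV

variable {S : Scheme.{u}} {G X : Over S} [GrpObj G] (a : AlgGrp.Action G X)
  {YO : Over S} (fO : YO ⟶ X) (σ : 𝟙_ (Over S) ⟶ G)

/-- the inclusion `y ↦ (σ, y)` -/
noncomputable def inclσ : YO ⟶ G ⊗ YO := lift (toUnit YO ≫ σ) (𝟙 YO)

theorem inclσ_actMap : inclσ (YO := YO) σ ≫ actMap a fO = lift (toUnit YO ≫ σ) fO ≫ a.act := by
  unfold inclσ actMap
  rw [← Category.assoc, lift_whiskerLeft, Category.id_comp]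

/-- `Y = Spec k ×_G (G × Y)` -/
theorem isPullback_inclσ :
    IsPullback (inclσ (YO := YO) σ).left YO.hom (fst G YO).left σ.left := by
  have hR : IsPullback (snd G YO).left (fst G YO).left YO.hom G.hom :=
    (IsPullback.of_hasPullback G.hom YO.hom).flip
  have h1 : (inclσ (YO := YO) σ).left ≫ (snd G YO).left = 𝟙 YO.left := by
    rw [← Over.comp_left]
    unfold inclσ
    rw [lift_snd]
    rfl
  have h2 : σ.left ≫ G.hom = 𝟙 S := Over.w σ
  have hout : IsPullback ((inclσ (YO := YO) σ).left ≫ (snd G YO).left) YO.hom YO.hom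
      (σ.left ≫ G.hom) := by
    rw [h1, h2]
    exact IsPullback.of_horiz_isIso ⟨by simp⟩
  refine IsPullback.of_right hout ?_ hR
  rw [← Over.comp_left]
  unfold inclσ
  rw [lift_fst, Over.comp_left]
  rfl

variable {Z : Scheme.{u}} (g : Z ⟶ X.left)

/-- the map from the fibre product of `fσ` and `g` to the total space `W` -/
noncomputable def topMap (fσ : YO.left ⟶ X.left)
    (hfσ : fσ = (inclσ (YO := YO) σ ≫ actMap a fO).left) :
    pullback fσ g ⟶ pullback (actMap a fO).left g :=
  pullback.lift (pullback.fst fσ g ≫ (inclσ (YO := YO) σ).left) (pullback.snd fσ g) (by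
    rw [Category.assoc, ← Over.comp_left, ← hfσ, pullback.condition])

theorem isPullback_top (fσ : YO.left ⟶ X.left)
    (hfσ : fσ = (inclσ (YO := YO) σ ≫ actMap a fO).left) :
    IsPullback (topMap a fO σ g fσ hfσ) (pullback.fst fσ g)
      (pullback.fst (actMap a fO).left g) (inclσ (YO := YO) σ).left := by
  have hR : IsPullback (pullback.snd (actMap a fO).left g) (pullback.fst (actMap a fO).left g) g
      (actMap a fO).left := (IsPullback.of_hasPullback (actMap a fO).left g).flip
  refine IsPullback.of_right ?_ ?_ hR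
  · have h1 : topMap a fO σ g fσ hfσ ≫ pullback.snd (actMap a fO).left g = pullback.snd fσ g :=
      pullback.lift_snd _ _ _
    rw [h1, ← Over.comp_left, ← hfσ]
    exact (IsPullback.of_hasPullback fσ g).flip
  · exact pullback.lift_fst _ _ _

/-- the fibre product of `fσ` and `g` is the fibre of `W → G` over `σ` -/
theorem isPullback_fibre (fσ : YO.left ⟶ X.left)
    (hfσ : fσ = (inclσ (YO := YO) σ ≫ actMap a fO).left) :
    IsPullback (topMap a fO σ g fσ hfσ) (pullback.fst fσ g ≫ YO.hom)
      (pullback.fst (actMap a fO).left g ≫ (fst G YO).left) σ.left :=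
  (isPullback_top a fO σ g fσ hfσ).paste_vert (isPullback_inclσ σ)

end Groth.Agent.Lib.Helper19.KleimanFibre
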