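import Mathlib
import Groth.Prelude.Def_AlgGrp
import Groth.Agent.Lib.helper19.KleimanAct
import Groth.Agent.Lib.helper19.KleimanSmooth
import Groth.Agent.Lib.helper19.KleimanFibre
import Groth.Agent.Lib.helper19.KleimanDim
import Groth.Agent.Lib.Helper22.GenericSmooth

set_option autoImplicit false
set_option linter.unusedVariables false
universe u

open CategoryTheory CategoryTheory.Limits MonoidalCategory CartesianMonoidalCategory MonObj GrpObj
  AlgebraicGeometry

namespace Groth.Agent.Lib.Helper19.Kleiman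

open Groth.Agent.Lib.Helper19.KleimanAct Groth.Agent.Lib.Helper19.KleimanSmooth
  Groth.Agent.Lib.Helper19.KleimanFibre Groth.Agent.Lib.Helper19.KleimanDim

theorem main (k : Type u) [Field k] [IsAlgClosed k] [CharZero k]
    (G X : Over (Spec (CommRingCat.of k))) [GrpObj G] (a : AlgGrp.Action G X)
    [IsIntegral G.left] [IsSeparated G.hom] [LocallyOfFiniteType G.hom] [QuasiCompact G.hom]
    [IsIntegral X.left] [IsSeparated X.hom] [LocallyOfFiniteType X.hom] [QuasiCompact X.hom]
    (htrans : ∀ x x' : 𝟙_ (Over (Spec (CommRingCat.of k))) ⟶ X,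
      ∃ σ : 𝟙_ (Over (Spec (CommRingCat.of k))) ⟶ G, CartesianMonoidalCategory.lift σ x ≫ a.act = x')
    {Y Z : Scheme.{u}} (f : Y ⟶ X.left) (g : Z ⟶ X.left)
    [IsIntegral Y] [IsSeparated (f ≫ X.hom)] [QuasiCompact (f ≫ X.hom)] [Smooth (f ≫ X.hom)]
    [IsIntegral Z] [IsSeparated (g ≫ X.hom)] [QuasiCompact (g ≫ X.hom)] [Smooth (g ≫ X.hom)]
    (n r s : ℕ) (hn : topologicalKrullDim ↥X.left = n) (hr : topologicalKrullDim ↥Y = r)
    (hs : topologicalKrullDim ↥Z = s) :
    ∃ V : G.left.Opens, (V : Set ↥G.left).Nonempty ∧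
      ∀ σ : 𝟙_ (Over (Spec (CommRingCat.of k))) ⟶ G, Set.range σ.left.base ⊆ (V : Set ↥G.left) →
        ∀ fσ : Y ⟶ X.left,
          fσ = (CartesianMonoidalCategory.lift (CartesianMonoidalCategory.toUnit (Over.mk (f ≫ X.hom)) ≫ σ)
            (Over.homMk f) ≫ a.act).left →
          Smooth (pullback.fst fσ g ≫ f ≫ X.hom) ∧
            (IsEmpty ↥(pullback fσ g) ∨ (n ≤ r + s ∧ topologicalKrullDim ↥(pullback fσ g) = ((r + s - n : ℕ) : WithBot ℕ∞))) := by
  let YO : Over (Spec (CommRingCat.of k)) := Over.mk (f ≫ X.hom)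
  let fO : YO ⟶ X := Over.homMk f
  haveI : QuasiCompact YO.hom := ‹QuasiCompact (f ≫ X.hom)›
  haveI : Smooth YO.hom := ‹Smooth (f ≫ X.hom)›
  haveI : LocallyOfFiniteType YO.hom := inferInstance
  haveI : IrreducibleSpace ↥YO.left := (inferInstance : IrreducibleSpace ↥Y)
  haveI : LocallyOfFiniteType (g ≫ X.hom) := inferInstance
  haveI : Smooth G.hom := Groth.Agent.S0353.result k G
  haveI hsm : Smooth (actMap a fO).left := smooth_actMap k G X a htrans YO fO
  set h : (G ⊗ YO).left ⟶ X.left := (actMap a fO).left with hh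
  haveI : LocallyOfFiniteType g := locallyOfFiniteType_of_comp g X.hom
  haveI : QuasiCompact g := QuasiCompact.of_comp g X.hom
  let p₁ : (G ⊗ YO).left ⟶ G.left := (fst G YO).left
  let p₂ : (G ⊗ YO).left ⟶ YO.left := (snd G YO).left
  have hP : IsPullback p₁ p₂ G.hom YO.hom := IsPullback.of_hasPullback G.hom YO.hom
  haveI : LocallyOfFiniteType p₁ := MorphismProperty.of_isPullback hP.flip ‹LocallyOfFiniteType YO.hom›
  haveI : QuasiCompact p₁ := MorphismProperty.of_isPullback hP.flip ‹QuasiCompact YO.hom›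
  let π : pullback h g ⟶ G.left := pullback.fst h g ≫ p₁
  haveI : LocallyOfFiniteType π := inferInstance
  haveI : QuasiCompact π := inferInstance
  haveI : IsLocallyNoetherian G.left := LocallyOfFiniteType.isLocallyNoetherian G.hom
  haveI : Smooth (pullback.snd h g) := inferInstance
  haveI : Smooth (pullback.snd h g ≫ g ≫ X.hom) := inferInstance
  haveI : IsLocallyNoetherian (pullback h g) :=
    LocallyOfFiniteType.isLocallyNoetherian (pullback.snd h g ≫ g ≫ X.hom)
  haveI : LocallyOfFinitePresentation π :=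
    LocallyOfFinitePresentation.iff_locallyOfFiniteType.2 inferInstance
  haveI : CharZero G.left.functionField := charZero_functionField k G.hom
  obtain ⟨V, hVd, hV⟩ := Groth.Agent.Lib.Helper22.GenericSmooth.exists_dense_open_smooth
    (fun w => regular_of_smooth k (pullback.snd h g ≫ g ≫ X.hom) w) π
  refine ⟨V, hVd.nonempty, ?_⟩
  intro σ hσ fσ hfσ
  have hfσ' : fσ = (inclσ (YO := YO) σ ≫ actMap a fO).left := by
    rw [inclσ_actMap]; exact hfσ
  have hsq := isPullback_fibre a fO σ g fσ hfσ'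
  have hσ' : Set.range σ.left ⊆ (V : Set G.left) := hσ
  have hsmooth : Smooth (pullback.fst fσ g ≫ YO.hom) :=
    smooth_of_isPullback_restrict π V hV _ _ σ.left hsq hσ'
  refine ⟨hsmooth, ?_⟩
  by_cases hne : Nonempty ↥(pullback fσ g)
  · right
    haveI : LocallyOfFiniteType (pullback.fst fσ g ≫ YO.hom) := inferInstance
    have key := fun w => dim_count k G.hom YO.hom X.hom (g ≫ X.hom) p₁ p₂ hP h g
      (pullback.fst h g) (pullback.snd h g) (IsPullback.of_hasPullback h g) V hV σ.left
      (topMap a fO σ g fσ hfσ') (pullback.fst fσ g ≫ YO.hom) hsq hσ' n r s hn hr hs w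
    obtain ⟨w₀⟩ := hne
    refine ⟨(key w₀).1, ?_⟩
    haveI : Nonempty ↥(pullback fσ g) := ⟨w₀⟩
    exact dim_eq_of_localDim _ _ (fun w => (key w).2)
  · left
    exact not_nonempty_iff.1 hne

end Groth.Agent.Lib.Helper19.Kleiman
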