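import Groth.Prelude.Def_W4c2quivmodsheafKron
import Mathlib

/-! Helper lemmas on Kronecker modules, "dual side": the map `V → Wⁿ`. -/

set_option autoImplicit false
universe u v w

namespace Groth.Agent.Lib.helper19.KronDual

open KronMod Module

variable {K : Type u} [Field K] {V : Type v} {W : Type w}
  [AddCommGroup V] [Module K V] [AddCommGroup W] [Module K W] {n : ℕ}

/-- The map `V → Wⁿ`, `v ↦ (f_j v)_j`. -/
def Ψ (f : Fin n → (V →ₗ[K] W)) : V →ₗ[K] (Fin n → W) := LinearMap.pi f

@[simp] lemma Ψ_apply (f : Fin n → (V →ₗ[K] W)) (v : V) (j : Fin n) : Ψ f v j = f j v := rfl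

lemma Ψ_coe (f : Fin n → (V →ₗ[K] W)) : (Ψ f : V → Fin n → W) = fun v j => f j v := rfl

variable [FiniteDimensional K V] [FiniteDimensional K W]

lemma finrank_pi' : finrank K (Fin n → W) = n * finrank K W := by
  simp [Module.finrank_pi_fintype]

/-- if `Ψ f` is injective then `dim V' ≤ n · dim W'` for every subrepresentation. -/
lemma finrank_le_mul_of_injective (f : Fin n → (V →ₗ[K] W)) (hinj : Function.Injective (Ψ f))
    {V' : Submodule K V} {W' : Submodule K W} (h : IsSubrep f V' W') :
    finrank K V' ≤ n * finrank K W' := by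
  let g : V' →ₗ[K] (Fin n → W') :=
    LinearMap.pi fun j => LinearMap.codRestrict W' ((f j).comp V'.subtype)
      (fun v => h j ⟨v.1, v.2, rfl⟩)
  have hg : Function.Injective g := by
    intro a b hab
    apply Subtype.ext
    apply hinj
    funext j
    have := congrArg (fun x => (x j : W)) hab
    exact this
  have := LinearMap.finrank_le_finrank_of_injective hg
  rwa [finrank_pi'] at this

/-- semistability forces `Ψ f` injective when `dim W > 0`. -/
lemma injective_Ψ_of_isSemistable (f : Fin n → (V →ₗ[K] W)) (hW : 0 < finrank K W)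
    (hss : IsSemistable f) : Function.Injective (Ψ f) := by
  rw [← LinearMap.ker_eq_bot]
  by_contra hne
  have hsub : IsSubrep f (LinearMap.ker (Ψ f)) ⊥ := by
    intro j w hw
    obtain ⟨v, hv, rfl⟩ := hw
    have : Ψ f v = 0 := hv
    have := congr_fun this j
    simpa using this
  have hWtop : ¬ ((⊥ : Submodule K W) = ⊤) := by
    intro e
    have : finrank K (⊥ : Submodule K W) = finrank K W := by rw [e, finrank_top]
    simp at this
    omega
  have := hss.2 _ ⊥ hsub (fun e => hne e.1) (fun e => hWtop e.2)
  simp only [finrank_bot, mul_zero, Nat.le_zero, mul_eq_zero] at this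
  rcases this with h0 | h0
  · omega
  · exact hne (Submodule.finrank_eq_zero.mp h0)

/-- when `dim V = n dim W`, injectivity of `Ψ f` implies semistability. -/
lemma isSemistable_of_injective (f : Fin n → (V →ₗ[K] W)) (hW : 0 < finrank K W)
    (hV : finrank K V = n * finrank K W) (hinj : Function.Injective (Ψ f)) : IsSemistable f := by
  refine ⟨by omega, fun V' W' h _ _ => ?_⟩
  have := finrank_le_mul_of_injective f hinj h
  rw [hV]
  calc finrank K W * finrank K V' ≤ finrank K W * (n * finrank K W') :=
        Nat.mul_le_mul_left _ this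
    _ = n * finrank K W * finrank K W' := by ring

lemma bijective_of_injective (f : Fin n → (V →ₗ[K] W))
    (hV : finrank K V = n * finrank K W) (hinj : Function.Injective (Ψ f)) :
    Function.Bijective (Ψ f) := by
  refine ⟨hinj, ?_⟩
  have : finrank K V = finrank K (Fin n → W) := by rw [finrank_pi', hV]
  exact (LinearMap.injective_iff_surjective_of_finrank_eq_finrank this).mp hinj

end Groth.Agent.Lib.helper19.KronDual
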