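import Mathlib
import Groth.Prelude.Def_SGA1

set_option autoImplicit false
universe u

namespace Groth.Agent.Lib.Helper19.Kummer1

open IsLocalRing MvPolynomial

variable {A : Type u} [CommRing A] {r : ℕ} (f : Fin r → A) (n : Fin r → ℕ)

/-- the class of `T_i` -/
noncomputable def t (i : Fin r) : SGA1.kummerAlg A f n :=
  Ideal.Quotient.mk _ (X i)

theorem t_pow (i : Fin r) : t f n i ^ n i = algebraMap A (SGA1.kummerAlg A f n) (f i) := by
  unfold t
  rw [← map_pow]
  show _ = Ideal.Quotient.mk _ (C (f i))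
  rw [Ideal.Quotient.eq]
  exact Ideal.subset_span ⟨i, rfl⟩

/-- Ring homs out of the Kummer algebra are determined by the images of `A` and the `T_i`. -/
theorem ringHom_ext {S : Type*} [CommRing S] (φ ψ : SGA1.kummerAlg A f n →+* S)
    (h1 : ∀ a : A, φ (algebraMap A _ a) = ψ (algebraMap A _ a))
    (h2 : ∀ i, φ (t f n i) = ψ (t f n i)) : φ = ψ := by
  apply Ideal.Quotient.ringHom_ext
  apply MvPolynomial.ringHom_ext
  · intro a
    exact h1 a
  · intro i
    exact h2 i

/-- Construct ring homs out of the Kummer algebra. -/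
noncomputable def lift {S : Type*} [CommRing S] (φ : A →+* S) (c : Fin r → S)
    (hc : ∀ i, c i ^ n i = φ (f i)) : SGA1.kummerAlg A f n →+* S :=
  Ideal.Quotient.lift _ (MvPolynomial.eval₂Hom φ c) (by
    intro p hp
    refine Submodule.span_induction (p := fun x _ => (eval₂Hom φ c) x = 0) ?_ ?_ ?_ ?_ hp
    · rintro _ ⟨i, rfl⟩
      simp [hc i]
    · simp
    · intro x y _ _ hx hy
      rw [map_add, hx, hy, add_zero]
    · intro a x _ hx
      rw [smul_eq_mul, map_mul, hx, mul_zero])

@[simp] theorem lift_algebraMap {S : Type*} [CommRing S] (φ : A →+* S) (c : Fin r → S)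
    (hc : ∀ i, c i ^ n i = φ (f i)) (a : A) :
    lift f n φ c hc (algebraMap A _ a) = φ a := by
  show lift f n φ c hc (Ideal.Quotient.mk _ (C a)) = φ a
  unfold lift
  rw [Ideal.Quotient.lift_mk]
  simp

@[simp] theorem lift_t {S : Type*} [CommRing S] (φ : A →+* S) (c : Fin r → S)
    (hc : ∀ i, c i ^ n i = φ (f i)) (i : Fin r) :
    lift f n φ c hc (t f n i) = c i := by
  unfold lift t
  rw [Ideal.Quotient.lift_mk]
  simp

end Groth.Agent.Lib.Helper19.Kummer1
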