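import Mathlib
import Groth.Prelude.Def_SGA1
import Groth.Agent.Lib.helper19.Kummer1

set_option autoImplicit false
universe u

namespace Groth.Agent.Lib.Helper19.Kummer2

open IsLocalRing MvPolynomial Kummer1

variable {A : Type u} [CommRing A] [IsLocalRing A] {r : ℕ} (f : Fin r → A) (n : Fin r → ℕ)
  (hm : ∀ i, f i ∈ maximalIdeal A) (hn : ∀ i, 1 ≤ n i)

/-- the augmentation `A' → κ(A)`, `T_i ↦ 0`. -/
noncomputable def chi : SGA1.kummerAlg A f n →+* ResidueField A :=
  lift f n (residue A) (fun _ => 0) (by
    intro i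
    rw [zero_pow (by have := hn i; omega)]
    exact ((residue_eq_zero_iff _).2 (hm i)).symm)

theorem chi_surjective : Function.Surjective (chi f n hm hn) := by
  intro k
  obtain ⟨a, rfl⟩ := residue_surjective k
  exact ⟨algebraMap A _ a, by unfold chi; rw [lift_algebraMap]⟩

theorem ker_chi_isMaximal : (RingHom.ker (chi f n hm hn)).IsMaximal :=
  RingHom.ker_isMaximal_of_surjective _ (chi_surjective f n hm hn)

/-- Key: an ideal containing the image of `m_A` and the `T_i` contains `ker χ`. -/
theorem ker_chi_le (J : Ideal (SGA1.kummerAlg A f n))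
    (h1 : ∀ a ∈ maximalIdeal A, algebraMap A (SGA1.kummerAlg A f n) a ∈ J)
    (h2 : ∀ i, t f n i ∈ J) : RingHom.ker (chi f n hm hn) ≤ J := by
  -- ι : κ → A'/J
  let ι : ResidueField A →+* (SGA1.kummerAlg A f n ⧸ J) :=
    Ideal.Quotient.lift (maximalIdeal A)
      ((Ideal.Quotient.mk J).comp (algebraMap A (SGA1.kummerAlg A f n)))
      (fun a ha => Ideal.Quotient.eq_zero_iff_mem.2 (h1 a ha))
  have hcomp : ι.comp (chi f n hm hn) = Ideal.Quotient.mk J := by
    refine Kummer1.ringHom_ext f n (S := SGA1.kummerAlg A f n ⧸ J) (ι.comp (chi f n hm hn))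
      (Ideal.Quotient.mk J) ?_ ?_
    · intro a
      unfold chi
      rw [RingHom.comp_apply, lift_algebraMap]
      rfl
    · intro i
      unfold chi
      rw [RingHom.comp_apply, lift_t, map_zero]
      exact (Ideal.Quotient.eq_zero_iff_mem.2 (h2 i)).symm
  intro x hx
  have : Ideal.Quotient.mk J x = 0 := by
    rw [← hcomp, RingHom.comp_apply, (RingHom.mem_ker).1 hx, map_zero]
  exact Ideal.Quotient.eq_zero_iff_mem.1 this

include hn in
theorem isIntegral : Algebra.IsIntegral A (SGA1.kummerAlg A f n) := by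
  constructor
  intro x
  obtain ⟨p, rfl⟩ := Ideal.Quotient.mk_surjective x
  induction p using MvPolynomial.induction_on with
  | C a => exact isIntegral_algebraMap
  | add p q hp hq => rw [map_add]; exact hp.add hq
  | mul_X p i hp =>
    rw [map_mul]
    refine hp.mul ?_
    refine ⟨Polynomial.X ^ n i - Polynomial.C (f i),
      Polynomial.monic_X_pow_sub_C _ (by have := hn i; omega), ?_⟩
    have := t_pow f n i
    simp only [Polynomial.eval₂_sub, Polynomial.eval₂_pow, Polynomial.eval₂_X, Polynomial.eval₂_C]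
    rw [sub_eq_zero]
    exact this

end Groth.Agent.Lib.Helper19.Kummer2
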