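import Mathlib
import Groth.Prelude.Def_SGA1
import Groth.Agent.Lib.helper19.Kummer2
import Groth.Agent.Lib.Helper7.NoetherNormInt
import Groth.Agent.Lib.helper19.RegularLocal

set_option autoImplicit false
universe u

namespace Groth.Agent.Lib.Helper19.Kummer3

open IsLocalRing MvPolynomial Kummer1 Kummer2

variable {A : Type u} [CommRing A] [IsLocalRing A] {r : ℕ} (f : Fin r → A) (n : Fin r → ℕ)
  (hm : ∀ i, f i ∈ maximalIdeal A) (hn : ∀ i, 1 ≤ n i)

include hm hn in
theorem eq_ker_chi_of_isMaximal (M : Ideal (SGA1.kummerAlg A f n)) (hM : M.IsMaximal) :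
    M = RingHom.ker (chi f n hm hn) := by
  haveI := isIntegral f n hn
  have hcomap : (M.comap (algebraMap A (SGA1.kummerAlg A f n))).IsMaximal :=
    Ideal.isMaximal_comap_of_isIntegral_of_isMaximal M
  have hcm : M.comap (algebraMap A (SGA1.kummerAlg A f n)) = maximalIdeal A :=
    IsLocalRing.eq_maximalIdeal hcomap
  have h1 : ∀ a ∈ maximalIdeal A, algebraMap A (SGA1.kummerAlg A f n) a ∈ M := by
    intro a ha
    rw [← hcm] at ha
    exact ha
  have h2 : ∀ i, t f n i ∈ M := by
    intro i
    apply hM.isPrime.mem_of_pow_mem (n i)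
    rw [t_pow]
    exact h1 _ (hm i)
  have hle := ker_chi_le f n hm hn M h1 h2
  exact ((ker_chi_isMaximal f n hm hn).eq_of_le hM.ne_top hle).symm

include hm hn in
theorem isLocalRing : IsLocalRing (SGA1.kummerAlg A f n) :=
  IsLocalRing.of_unique_max_ideal ⟨RingHom.ker (chi f n hm hn), ker_chi_isMaximal f n hm hn,
    fun M hM => eq_ker_chi_of_isMaximal f n hm hn M hM⟩

theorem maximalIdeal_eq [IsLocalRing (SGA1.kummerAlg A f n)] :
    maximalIdeal (SGA1.kummerAlg A f n) = RingHom.ker (chi f n hm hn) :=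
  (IsLocalRing.eq_maximalIdeal (ker_chi_isMaximal f n hm hn)).symm

end Groth.Agent.Lib.Helper19.Kummer3

namespace Groth.Agent.Lib.Helper19.Kummer3

open IsLocalRing MvPolynomial Kummer1 Kummer2

variable {A : Type u} [CommRing A] [IsDomain A] {r : ℕ} (f : Fin r → A) (n : Fin r → ℕ)
  (hn : ∀ i, 1 ≤ n i)

include hn in
theorem algebraMap_injective :
    Function.Injective (algebraMap A (SGA1.kummerAlg A f n)) := by
  let Ω := AlgebraicClosure (FractionRing A)
  have hex : ∀ i, ∃ z : Ω, z ^ n i = algebraMap A Ω (f i) := fun i =>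
    IsAlgClosed.exists_pow_nat_eq _ (by have := hn i; omega)
  choose ρ hρ using hex
  let θ : SGA1.kummerAlg A f n →+* Ω := lift f n (algebraMap A Ω) ρ hρ
  have hθ : ∀ a, θ (algebraMap A _ a) = algebraMap A Ω a := fun a => lift_algebraMap f n _ _ _ a
  have hinj : Function.Injective (algebraMap A Ω) := by
    rw [IsScalarTower.algebraMap_eq A (FractionRing A) Ω]
    exact (algebraMap (FractionRing A) Ω).injective.comp (IsFractionRing.injective A _)
  intro a b hab
  apply hinj
  rw [← hθ, ← hθ, hab]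

include hn in
theorem ringKrullDim_eq [IsLocalRing A] :
    ringKrullDim (SGA1.kummerAlg A f n) = ringKrullDim A := by
  haveI := isIntegral f n hn
  exact Groth.Agent.Lib.Helper7.NNInt.ringKrullDim_eq_of_injective_isIntegral
    (algebraMap A (SGA1.kummerAlg A f n)) (algebraMap_injective f n hn)
    (algebraMap_isIntegral_iff.2 inferInstance)

end Groth.Agent.Lib.Helper19.Kummer3
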