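import Mathlib

set_option autoImplicit false
universe u

namespace Groth.Agent.Lib.Helper19.Kummer4

open IsLocalRing

theorem exists_compl_gens {A : Type u} [CommRing A] [IsRegularLocalRing A] (d : ℕ)
    (hd : ringKrullDim A = d) {r : ℕ} (f : Fin r → A) (hm : ∀ i, f i ∈ maximalIdeal A)
    (hf : LinearIndependent (ResidueField A) (fun i => (maximalIdeal A).toCotangent ⟨f i, hm i⟩)) :
    ∃ G : Set A, G.Finite ∧ G.ncard + r ≤ d ∧ (∀ g ∈ G, g ∈ maximalIdeal A) ∧
      Ideal.span (Set.range f ∪ G) = maximalIdeal A := by
  classical
  have hfin : Module.finrank (ResidueField A) (CotangentSpace A) = d := by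
    have h := (IsRegularLocalRing.iff_finrank_cotangentSpace A).1 inferInstance
    rw [hd] at h
    exact_mod_cast h
  set v : Fin r → CotangentSpace A := fun i => (maximalIdeal A).toCotangent ⟨f i, hm i⟩ with hv
  set s : Set (CotangentSpace A) := Set.range v with hs
  have hsli : LinearIndepOn (ResidueField A) id s := hf.linearIndepOn_id
  obtain ⟨B, hsB, b, hrb⟩ : ∃ B : Set (CotangentSpace A), s ⊆ B ∧
      ∃ b : Module.Basis B (ResidueField A) (CotangentSpace A), Set.range b = B :=
    ⟨hsli.extend (Set.subset_univ s), hsli.subset_extend _, Module.Basis.extend hsli,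
      Module.Basis.range_extend hsli⟩
  haveI : Module.Finite (ResidueField A) (CotangentSpace A) := inferInstance
  haveI : Fintype B := FiniteDimensional.fintypeBasisIndex b
  have hBfin : B.Finite := Set.toFinite B
  have hBcard : B.ncard = d := by
    rw [← hfin, Module.finrank_eq_card_basis b, Set.ncard_eq_toFinset_card', Set.toFinset_card]
  have hscard : s.ncard = r := by
    rw [hs, Set.ncard_range_of_injective hf.injective]
    simp
  -- lifts
  let lft : CotangentSpace A → maximalIdeal A := Function.surjInv (maximalIdeal A).toCotangent_surjective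
  have hlft : ∀ w, (maximalIdeal A).toCotangent (lft w) = w :=
    Function.surjInv_eq (maximalIdeal A).toCotangent_surjective
  refine ⟨(fun w => ((lft w : maximalIdeal A) : A)) '' (B \ s), (hBfin.diff).image _, ?_, ?_, ?_⟩
  · have h1 : ((fun w => ((lft w : maximalIdeal A) : A)) '' (B \ s)).ncard ≤ (B \ s).ncard :=
      Set.ncard_image_le hBfin.diff
    have h2 : (B \ s).ncard = d - r := by
      rw [Set.ncard_diff hsB (hBfin.subset hsB), hBcard, hscard]
    have h3 : r ≤ d := by
      rw [← hscard, ← hBcard]; exact Set.ncard_le_ncard hsB hBfin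
    omega
  · rintro _ ⟨w, -, rfl⟩
    exact (lft w).2
  · -- span
    set s' : Set (maximalIdeal A) := Set.range (fun i => (⟨f i, hm i⟩ : maximalIdeal A)) ∪ lft '' (B \ s)
      with hs'
    have himg : (maximalIdeal A).toCotangent '' s' = B := by
      rw [hs', Set.image_union, ← Set.range_comp, Set.image_image]
      have h1 : (fun w => (maximalIdeal A).toCotangent (lft w)) '' (B \ s) = B \ s := by
        simp only [hlft, Set.image_id']
      rw [h1]
      show s ∪ B \ s = B
      rw [Set.union_diff_cancel hsB]
    have hspanB : Submodule.span (ResidueField A) B = ⊤ := by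
      have := b.span_eq
      rwa [hrb] at this
    have htop : Submodule.span A s' = ⊤ := by
      rw [← CotangentSpace.span_image_eq_top_iff, himg, hspanB]
    have h2 := congrArg (Submodule.map (maximalIdeal A).subtype) htop
    rw [Submodule.map_span, Submodule.map_top, Submodule.range_subtype] at h2
    have hset : Set.range f ∪ (fun w => ((lft w : maximalIdeal A) : A)) '' (B \ s) =
        (maximalIdeal A).subtype '' s' := by
      rw [hs', Set.image_union, ← Set.range_comp, Set.image_image]
      rfl
    rw [hset]
    exact h2

end Groth.Agent.Lib.Helper19.Kummer4
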