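import Mathlib
import Groth.Prelude.Def_SGA1
import Groth.Agent.Lib.helper19.Kummer3
import Groth.Agent.Lib.helper19.Kummer4

set_option autoImplicit false
universe u

namespace Groth.Agent.Lib.Helper19.Kummer5

open IsLocalRing MvPolynomial Kummer1 Kummer2 Kummer3

set_option maxHeartbeats 800000 in
theorem isRegularLocalRing_kummer (A : Type u) [CommRing A] [IsRegularLocalRing A] (r : ℕ)
    (f : Fin r → A) (hm : ∀ i, f i ∈ maximalIdeal A)
    (hf : LinearIndependent (ResidueField A) (fun i => (maximalIdeal A).toCotangent ⟨f i, hm i⟩))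
    (n : Fin r → ℕ) (hn : ∀ i, 1 ≤ n i) :
    IsRegularLocalRing (SGA1.kummerAlg A f n) := by
  classical
  haveI : IsDomain A := Groth.Agent.Lib.helper19.isDomain_of_isRegularLocalRing A
  haveI hloc : IsLocalRing (SGA1.kummerAlg A f n) := Kummer3.isLocalRing f n hm hn
  haveI : IsNoetherianRing (SGA1.kummerAlg A f n) := inferInstance
  -- dimension
  obtain ⟨d, hd⟩ : ∃ d : ℕ, ringKrullDim A = d := by
    have h := (isRegularLocalRing_iff A).1 inferInstance
    exact ⟨_, h.symm⟩
  have hdim : ringKrullDim (SGA1.kummerAlg A f n) = d := by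
    rw [Kummer3.ringKrullDim_eq f n hn, hd]
  obtain ⟨G, hGfin, hGcard, hGm, hGspan⟩ := Kummer4.exists_compl_gens d hd f hm hf
  apply IsRegularLocalRing.of_spanFinrank_maximalIdeal_le
  rw [hdim]
  -- generating set
  set S : Set (SGA1.kummerAlg A f n) :=
    Set.range (t f n) ∪ (algebraMap A (SGA1.kummerAlg A f n)) '' G with hS
  have hSfin : S.Finite := (Set.finite_range _).union (hGfin.image _)
  have hScard : S.ncard ≤ d := by
    calc S.ncard ≤ (Set.range (t f n)).ncard + ((algebraMap A (SGA1.kummerAlg A f n)) '' G).ncard :=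
          Set.ncard_union_le _ _
      _ ≤ r + G.ncard := by
          refine add_le_add ?_ (Set.ncard_image_le hGfin)
          have := Set.ncard_image_le (f := t f n) (Set.finite_univ (α := Fin r))
          rw [Set.image_univ] at this
          simpa using this
      _ ≤ d := by omega
  have hspan : Ideal.span S = maximalIdeal (SGA1.kummerAlg A f n) := by
    rw [Kummer3.maximalIdeal_eq f n hm hn]
    apply le_antisymm
    · rw [Ideal.span_le]
      rintro x (⟨i, rfl⟩ | ⟨g, hg, rfl⟩)
      · show chi f n hm hn (t f n i) = 0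
        unfold chi; rw [lift_t]
      · show chi f n hm hn (algebraMap A _ g) = 0
        unfold chi; rw [lift_algebraMap]
        exact (residue_eq_zero_iff g).2 (hGm g hg)
    · apply ker_chi_le
      · intro a ha
        rw [← hGspan] at ha
        have h1 : Ideal.map (algebraMap A (SGA1.kummerAlg A f n)) (Ideal.span (Set.range f ∪ G)) ≤
            Ideal.span S := by
          rw [Ideal.map_span, Ideal.span_le]
          rintro _ ⟨x, (⟨i, rfl⟩ | hx), rfl⟩
          · rw [← t_pow]
            have hi : n i ≠ 0 := by have := hn i; omega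
            exact Ideal.pow_mem_of_mem (Ideal.span S) (Ideal.subset_span (Or.inl ⟨i, rfl⟩)) (n i) (Nat.pos_of_ne_zero hi)
          · exact Ideal.subset_span (Or.inr ⟨x, hx, rfl⟩)
        exact h1 (Ideal.mem_map_of_mem _ ha)
      · intro i
        exact Ideal.subset_span (Or.inl ⟨i, rfl⟩)
  rw [← hspan]
  have := Submodule.spanFinrank_span_le_ncard_of_finite (R := SGA1.kummerAlg A f n) hSfin
  exact_mod_cast this.trans hScard

end Groth.Agent.Lib.Helper19.Kummer5
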