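import Mathlib
import Groth.Prelude.Def_SGA1
import Groth.Agent.Lib.helper19.Kummer1

set_option autoImplicit false
universe u

namespace Groth.Agent.Lib.Helper19.Kummer6

open MvPolynomial Kummer1

theorem add_pow_of_sq_eq_zero {C : Type*} [CommRing C] (x y : C) (hy : y ^ 2 = 0) (n : ℕ) :
    (x + y) ^ n = x ^ n + (n : C) * x ^ (n - 1) * y := by
  have := Polynomial.eval_add_of_sq_eq_zero (Polynomial.X ^ n : Polynomial C) x y hy
  simpa [Polynomial.derivative_X_pow] using this

variable {A : Type u} [CommRing A] {r : ℕ} (f : Fin r → A) (n : Fin r → ℕ)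

/-- `B' = A'[1/F]` -/
abbrev KB (F : A) : Type u :=
  Localization.Away (algebraMap A (SGA1.kummerAlg A f n) F)

/-- class of `T_i` in `B'` -/
noncomputable def tau (F : A) (i : Fin r) : KB f n F :=
  algebraMap (SGA1.kummerAlg A f n) (KB f n F) (t f n i)

theorem tau_pow (F : A) (i : Fin r) :
    tau f n F i ^ n i = algebraMap A (KB f n F) (f i) := by
  unfold tau
  rw [← map_pow, t_pow, ← IsScalarTower.algebraMap_apply]

theorem algHom_ext (F : A) {C : Type*} [CommRing C] [Algebra A C] (g₁ g₂ : KB f n F →ₐ[A] C)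
    (h : ∀ i, g₁ (tau f n F i) = g₂ (tau f n F i)) : g₁ = g₂ := by
  apply AlgHom.coe_ringHom_injective
  apply IsLocalization.ringHom_ext (Submonoid.powers (algebraMap A (SGA1.kummerAlg A f n) F))
  refine Kummer1.ringHom_ext f n _ _ ?_ ?_
  · intro a
    simp only [RingHom.comp_apply, ← IsScalarTower.algebraMap_apply]
    simp
  · intro i
    exact h i

/-- construct algebra maps out of `B'` -/
noncomputable def mkHom (F : A) {C : Type*} [CommRing C] [Algebra A C] (c : Fin r → C)
    (hc : ∀ i, c i ^ n i = algebraMap A C (f i)) (hF : IsUnit (algebraMap A C F)) :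
    KB f n F →ₐ[A] C :=
  { IsLocalization.Away.lift (algebraMap A (SGA1.kummerAlg A f n) F)
      (g := Kummer1.lift f n (algebraMap A C) c hc) (by rw [lift_algebraMap]; exact hF) with
    commutes' := by
      intro a
      show IsLocalization.Away.lift _ _ (algebraMap A (KB f n F) a) = _
      rw [IsScalarTower.algebraMap_apply A (SGA1.kummerAlg A f n) (KB f n F),
        IsLocalization.Away.lift_eq, lift_algebraMap] }

theorem mkHom_tau (F : A) {C : Type*} [CommRing C] [Algebra A C] (c : Fin r → C)
    (hc : ∀ i, c i ^ n i = algebraMap A C (f i)) (hF : IsUnit (algebraMap A C F)) (i : Fin r) :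
    mkHom f n F c hc hF (tau f n F i) = c i := by
  have hu : IsUnit (Kummer1.lift f n (algebraMap A C) c hc
      (algebraMap A (SGA1.kummerAlg A f n) F)) := by rw [lift_algebraMap]; exact hF
  show IsLocalization.Away.lift (algebraMap A (SGA1.kummerAlg A f n) F) hu
    (algebraMap _ (KB f n F) (t f n i)) = _
  rw [IsLocalization.Away.lift_eq, lift_t]

theorem isUnit_algebraMap_F (F : A) : IsUnit (algebraMap A (KB f n F) F) := by
  rw [IsScalarTower.algebraMap_apply A (SGA1.kummerAlg A f n) (KB f n F)]
  exact IsLocalization.Away.algebraMap_isUnit _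

end Groth.Agent.Lib.Helper19.Kummer6
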