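import Mathlib
import Groth.Prelude.Def_SGA1
import Groth.Agent.Lib.helper19.Kummer6

set_option autoImplicit false
universe u

namespace Groth.Agent.Lib.Helper19.Kummer7

open MvPolynomial Kummer1 Kummer6

variable {A : Type u} [CommRing A] {r : ℕ} (f : Fin r → A) (n : Fin r → ℕ)
  (hn : ∀ i, 1 ≤ n i) (hnu : ∀ i, IsUnit ((n i : ℕ) : A)) (F : A) (hF : ∀ i, f i ∣ F)

include hn hnu hF in
set_option maxHeartbeats 800000 in
theorem formallyEtale : Algebra.FormallyEtale A (KB f n F) := by
  classical
  refine Algebra.FormallyEtale.iff_comp_bijective.mpr fun C _ _ I hI => ?_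
  have hI2 : ∀ x ∈ I, ∀ y ∈ I, x * y = 0 := by
    intro x hx y hy
    have : x * y ∈ I ^ 2 := by rw [pow_two]; exact Ideal.mul_mem_mul hx hy
    rwa [hI] at this
  have hnC : ∀ i, IsUnit ((n i : ℕ) : C) := by
    intro i
    have := (hnu i).map (algebraMap A C)
    rwa [map_natCast] at this
  constructor
  · -- injectivity
    intro g₁ g₂ h
    apply Kummer6.algHom_ext
    intro i
    set c := g₁ (tau f n F i) with hc
    set c' := g₂ (tau f n F i) with hc'
    have hcpow : c ^ n i = algebraMap A C (f i) := by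
      rw [hc, ← map_pow, tau_pow, AlgHom.commutes]
    have hc'pow : c' ^ n i = algebraMap A C (f i) := by
      rw [hc', ← map_pow, tau_pow, AlgHom.commutes]
    have hFu : IsUnit (algebraMap A C F) := by
      have := (isUnit_algebraMap_F f n F).map g₁
      rwa [AlgHom.commutes] at this
    have hfu : IsUnit (algebraMap A C (f i)) :=
      isUnit_of_dvd_unit (map_dvd (algebraMap A C) (hF i)) hFu
    have hcu : IsUnit c := by
      have : IsUnit (c ^ n i) := by rw [hcpow]; exact hfu
      exact (isUnit_pow_iff (by have := hn i; omega)).1 this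
    have hδ : c' - c ∈ I := by
      have := congrArg (fun g => g (tau f n F i)) h
      simp only [AlgHom.comp_apply, Ideal.Quotient.mkₐ_eq_mk] at this
      rw [← Ideal.Quotient.eq]
      exact this.symm
    have hδ2 : (c' - c) ^ 2 = 0 := by rw [pow_two]; exact hI2 _ hδ _ hδ
    have hexp := add_pow_of_sq_eq_zero c (c' - c) hδ2 (n i)
    rw [add_sub_cancel, hc'pow, hcpow] at hexp
    have h0 : ((n i : ℕ) : C) * c ^ (n i - 1) * (c' - c) = 0 := by
      have := hexp
      linear_combination -this
    have hu : IsUnit (((n i : ℕ) : C) * c ^ (n i - 1)) := (hnC i).mul (hcu.pow _)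
    have := (hu.mul_right_eq_zero).1 h0
    exact (sub_eq_zero.1 this).symm
  · -- surjectivity
    intro gbar
    have hsurj : Function.Surjective (Ideal.Quotient.mk I) := Ideal.Quotient.mk_surjective
    choose c₀ hc₀ using fun i => hsurj (gbar (tau f n F i))
    have hFbar : IsUnit (algebraMap A (C ⧸ I) F) := by
      have := (isUnit_algebraMap_F f n F).map gbar
      rwa [AlgHom.commutes] at this
    have hnil : IsNilpotent I := ⟨2, hI⟩
    have hFu : IsUnit (algebraMap A C F) := by
      rw [← IsNilpotent.isUnit_quotient_mk_iff hnil]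
      exact hFbar
    have hfu : ∀ i, IsUnit (algebraMap A C (f i)) := fun i =>
      isUnit_of_dvd_unit (map_dvd (algebraMap A C) (hF i)) hFu
    have hpowbar : ∀ i, Ideal.Quotient.mk I (c₀ i ^ n i) = Ideal.Quotient.mk I (algebraMap A C (f i)) := by
      intro i
      rw [map_pow, hc₀, ← map_pow, tau_pow, AlgHom.commutes]
      rfl
    have hc₀u : ∀ i, IsUnit (c₀ i) := by
      intro i
      have h1 : IsUnit (Ideal.Quotient.mk I (c₀ i ^ n i)) := by
        rw [hpowbar]; exact (hfu i).map _
      rw [IsNilpotent.isUnit_quotient_mk_iff hnil] at h1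
      exact (isUnit_pow_iff (by have := hn i; omega)).1 h1
    have he : ∀ i, algebraMap A C (f i) - c₀ i ^ n i ∈ I := by
      intro i
      rw [← Ideal.Quotient.eq]
      exact (hpowbar i).symm
    have hu : ∀ i, IsUnit (((n i : ℕ) : C) * c₀ i ^ (n i - 1)) := fun i =>
      (hnC i).mul ((hc₀u i).pow _)
    let δ : Fin r → C := fun i => ↑(hu i).unit⁻¹ * (algebraMap A C (f i) - c₀ i ^ n i)
    have hδI : ∀ i, δ i ∈ I := fun i => Ideal.mul_mem_left _ _ (he i)
    have hδ2 : ∀ i, δ i ^ 2 = 0 := fun i => by rw [pow_two]; exact hI2 _ (hδI i) _ (hδI i)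
    let c : Fin r → C := fun i => c₀ i + δ i
    have hcpow : ∀ i, c i ^ n i = algebraMap A C (f i) := by
      intro i
      show (c₀ i + δ i) ^ n i = _
      rw [add_pow_of_sq_eq_zero _ _ (hδ2 i)]
      show c₀ i ^ n i + ((n i : ℕ) : C) * c₀ i ^ (n i - 1) *
        (↑(hu i).unit⁻¹ * (algebraMap A C (f i) - c₀ i ^ n i)) = _
      rw [← mul_assoc, IsUnit.mul_val_inv, one_mul]
      ring
    refine ⟨mkHom f n F c hcpow hFu, ?_⟩
    apply Kummer6.algHom_ext
    intro i
    rw [AlgHom.comp_apply, mkHom_tau, Ideal.Quotient.mkₐ_eq_mk, ← hc₀ i]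
    show Ideal.Quotient.mk I (c₀ i + δ i) = _
    rw [map_add, Ideal.Quotient.eq_zero_iff_mem.2 (hδI i), add_zero]

end Groth.Agent.Lib.Helper19.Kummer7
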