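import Mathlib
import Groth.Prelude.Def_SGA1
import Groth.Agent.Lib.helper19.Kummer5
import Groth.Agent.Lib.helper19.Kummer7

set_option autoImplicit false
universe u

namespace Groth.Agent.Lib.Helper19.Kummer8

open IsLocalRing MvPolynomial Kummer1 Kummer6

set_option maxHeartbeats 800000 in
theorem etale_away (A : Type u) [CommRing A] [IsLocalRing A] (r : ℕ)
    (f : Fin r → A) (n : Fin r → ℕ) (hn : ∀ i, 1 ≤ n i)
    (hu : ∀ i, IsUnit ((n i : ℕ) : ResidueField A)) :
    letI := (Localization.awayMap (algebraMap A (SGA1.kummerAlg A f n)) (∏ i, f i)).toAlgebra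
    Algebra.Etale (Localization.Away (∏ i, f i))
      (Localization.Away (algebraMap A (SGA1.kummerAlg A f n) (∏ i, f i))) := by
  classical
  have hnu : ∀ i, IsUnit ((n i : ℕ) : A) := by
    intro i
    apply isUnit_of_map_unit (residue A)
    rw [map_natCast]; exact hu i
  set F : A := ∏ i, f i with hFdef
  have hF : ∀ i, f i ∣ F := fun i => Finset.dvd_prod_of_mem f (Finset.mem_univ i)
  letI alg : Algebra (Localization.Away F) (KB f n F) :=
    (Localization.awayMap (algebraMap A (SGA1.kummerAlg A f n)) F).toAlgebra
  haveI : IsScalarTower A (Localization.Away F) (KB f n F) := by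
    apply IsScalarTower.of_algebraMap_eq
    intro a
    show _ = Localization.awayMap (algebraMap A (SGA1.kummerAlg A f n)) F (algebraMap A _ a)
    unfold Localization.awayMap IsLocalization.Away.map
    rw [IsLocalization.map_eq, ← IsScalarTower.algebraMap_apply]
  haveI : Algebra.Etale A (Localization.Away F) := Algebra.Etale.of_isLocalizationAway F
  haveI : Algebra.FormallyEtale A (KB f n F) := Kummer7.formallyEtale f n hn hnu F hF
  haveI : Algebra.FinitePresentation A (SGA1.kummerAlg A f n) :=
    Algebra.FinitePresentation.quotient (Submodule.fg_span (Set.finite_range _))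
  haveI : Algebra.FinitePresentation (SGA1.kummerAlg A f n) (KB f n F) :=
    IsLocalization.Away.finitePresentation (algebraMap A (SGA1.kummerAlg A f n) F)
  haveI : Algebra.FinitePresentation A (KB f n F) :=
    Algebra.FinitePresentation.trans A (SGA1.kummerAlg A f n) (KB f n F)
  haveI : Algebra.Etale A (KB f n F) := ⟨inferInstance, inferInstance⟩
  exact Algebra.Etale.of_restrictScalars (R := A) (A := Localization.Away F) (B := KB f n F)

theorem main2921 (A : Type u) [CommRing A] [IsRegularLocalRing A] (r : ℕ) (f : Fin r → A)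
    (hm : ∀ i, f i ∈ maximalIdeal A)
    (hf : LinearIndependent (ResidueField A) (fun i => (maximalIdeal A).toCotangent ⟨f i, hm i⟩))
    (n : Fin r → ℕ) (hn : ∀ i, 1 ≤ n i) :
    IsRegularLocalRing (SGA1.kummerAlg A f n) ∧
    ((∀ i, IsUnit ((n i : ℕ) : ResidueField A)) →
      letI := (Localization.awayMap (algebraMap A (SGA1.kummerAlg A f n)) (∏ i, f i)).toAlgebra
      Algebra.Etale (Localization.Away (∏ i, f i)) (Localization.Away (algebraMap A (SGA1.kummerAlg A f n) (∏ i, f i)))) :=
  ⟨Kummer5.isRegularLocalRing_kummer A r f hm hf n hn, fun hu => etale_away A r f n hn hu⟩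

end Groth.Agent.Lib.Helper19.Kummer8
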