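import Mathlib

set_option autoImplicit false
set_option linter.style.haveILetI false
universe u
open CategoryTheory AlgebraicGeometry Topology TopologicalSpace

namespace Groth.Agent.Lib.Helper19.LCPoint

/-- In a compact T0 space, a nonempty difference of open retrocompact sets contains a locally
closed point. -/
theorem exists_lc_point_sdiff {Y : Type*} [TopologicalSpace Y] [T0Space Y] [CompactSpace Y]
    (U V : Set Y) (hU : IsOpen U) (hUc : IsRetrocompact U) (hV : IsOpen V)
    (hne : (U \ V).Nonempty) : ∃ y ∈ U \ V, IsLocallyClosed ({y} : Set Y) := by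
  have hUcomp : IsCompact U := hUc.isCompact
  have hcomp : IsCompact (U \ V) := hUcomp.diff hV
  haveI : CompactSpace (U \ V : Set Y) := isCompact_iff_compactSpace.mp hcomp
  obtain ⟨y₀, hy₀⟩ := hne
  obtain ⟨y, -, hycl⟩ := (isClosed_univ (X := (U \ V : Set Y))).exists_closed_singleton
    ⟨⟨y₀, hy₀⟩, Set.mem_univ _⟩
  refine ⟨y.1, y.2, ?_⟩
  have h1 : IsLocallyClosed ({y} : Set (U \ V : Set Y)) := hycl.isLocallyClosed
  have h2 : IsLocallyClosed (Set.range (Subtype.val : (U \ V : Set Y) → Y)) := by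
    rw [Subtype.range_coe]
    exact ⟨U, Vᶜ, hU, hV.isClosed_compl, rfl⟩
  have := h1.image IsInducing.subtypeVal h2
  simpa using this

/-- In a compact T0 space, a nonempty constructible set contains a locally closed point. -/
theorem exists_lc_point {Y : Type*} [TopologicalSpace Y] [T0Space Y] [CompactSpace Y]
    (s : Set Y) (hs : IsConstructible s) (hne : s.Nonempty) :
    ∃ y ∈ s, IsLocallyClosed ({y} : Set Y) := by
  revert hne
  unfold IsConstructible at hs
  induction s, hs using BooleanSubalgebra.closure_sdiff_sup_induction with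
  | isSublattice =>
    exact ⟨fun s hs t ht ↦ ⟨hs.1.union ht.1, hs.2.union ht.2⟩,
      fun s hs t ht ↦ ⟨hs.1.inter ht.1, hs.2.inter_isOpen ht.2 ht.1⟩⟩
  | bot_mem => exact ⟨isOpen_empty, .empty⟩
  | top_mem => exact ⟨isOpen_univ, .univ⟩
  | sdiff U hU V hV =>
    intro hne
    exact exists_lc_point_sdiff U V hU.1 hU.2 hV.1 hne
  | sup s _ t _ hs' ht' =>
    intro hne
    rcases hne with ⟨y, hy | hy⟩
    · obtain ⟨z, hz, hzl⟩ := hs' ⟨y, hy⟩
      exact ⟨z, Or.inl hz, hzl⟩
    · obtain ⟨z, hz, hzl⟩ := ht' ⟨y, hy⟩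
      exact ⟨z, Or.inr hz, hzl⟩

theorem main_aux (X : Scheme.{u}) (E : Set X)
    (hE : Topology.IsLocallyConstructible E) (e : X) (he : e ∈ E) (V : X.Opens)
    (hV : IsAffineOpen V) (heV : e ∈ V) :
    ∃ x ∈ E, IsLocallyClosed ({x} : Set X) := by
  haveI : IsAffine V.toScheme := hV
  have hemb : IsOpenEmbedding (V.ι : V.toScheme → X) := V.ι.isOpenEmbedding
  have h1 : IsLocallyConstructible ((V.ι : V.toScheme → X) ⁻¹' E) :=
    hE.preimage_of_isOpenEmbedding hemb
  have h2 : IsConstructible ((V.ι : V.toScheme → X) ⁻¹' E) := h1.isConstructible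
  obtain ⟨y, hy, hyl⟩ := exists_lc_point _ h2 ⟨(⟨e, heV⟩ : V), he⟩
  refine ⟨V.ι y, hy, ?_⟩
  have := hyl.image hemb.isInducing hemb.isOpen_range.isLocallyClosed
  simpa using this

theorem main (X : Scheme.{u}) (E : Set X)
    (hE : Topology.IsLocallyConstructible E) (hne : E.Nonempty) :
    ∃ x ∈ E, IsLocallyClosed ({x} : Set X) := by
  obtain ⟨e, he⟩ := hne
  obtain ⟨_, ⟨V₀, hV₀, rfl⟩, heV₀, -⟩ := X.isBasis_affineOpens.exists_subset_of_mem_open
    (Set.mem_univ e) isOpen_univ
  exact main_aux X E hE e he V₀ hV₀ heV₀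

end Groth.Agent.Lib.Helper19.LCPoint
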