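import Mathlib
import Groth.Agent.S5048

set_option autoImplicit false
universe u
open CategoryTheory AlgebraicGeometry

namespace Groth.Agent.Lib.Helper19.LF5049

theorem main {X Y : Scheme.{u}} (f : X ⟶ Y)
    [Flat f] [LocallyOfFiniteType f] [LocallyQuasiFinite f]
    (hY : LocallyFinite (fun Z : ↥(irreducibleComponents ↥Y) => (Z : Set ↥Y))) :
    LocallyFinite (fun Z : ↥(irreducibleComponents ↥X) => (Z : Set ↥X)) := by
  intro x
  obtain ⟨N, hN, hNfin⟩ := hY (f x)
  obtain ⟨V₀, hV₀N, hV₀open, hfxV₀⟩ := mem_nhds_iff.1 hN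
  obtain ⟨V, hV, hfxV, hVV₀⟩ :=
    exists_isAffineOpen_mem_and_subset (x := f x) (U := ⟨V₀, hV₀open⟩) hfxV₀
  obtain ⟨W, hW, hxW, hWV⟩ :=
    exists_isAffineOpen_mem_and_subset (x := x) (U := f ⁻¹ᵁ V) hfxV
  refine ⟨W, W.2.mem_nhds hxW, ?_⟩
  -- the finite set of maximal points of Y in V
  set E : Set Y := {η | η ∈ V ∧ closure ({η} : Set Y) ∈ irreducibleComponents Y} with hE
  have hEfin : E.Finite := by
    have himg : ((fun η : Y => closure ({η} : Set Y)) '' E).Finite := by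
      refine (hNfin.image Subtype.val).subset ?_
      rintro _ ⟨η, ⟨hηV, hηc⟩, rfl⟩
      refine ⟨⟨closure {η}, hηc⟩, ?_, rfl⟩
      exact ⟨η, subset_closure rfl, hV₀N (hVV₀ hηV)⟩
    refine Set.Finite.of_finite_image himg ?_
    intro a _ b _ hab
    exact ((inseparable_iff_closure_eq.2 hab).eq)
  -- restriction to affine opens
  let g : W.toScheme ⟶ V.toScheme := f.resLE V W hWV
  haveI : IsAffine W.toScheme := hW
  haveI : IsAffine V.toScheme := hV
  haveI : QuasiCompact g := inferInstance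
  haveI : LocallyQuasiFinite g := inferInstance
  have hgf : ∀ w : W.toScheme, V.ι (g w) = f (W.ι w) := by
    intro w
    show V.ι (f.resLE V W hWV w) = f (W.ι w)
    rw [← Scheme.Hom.comp_apply, Scheme.Hom.resLE_comp_ι, Scheme.Hom.comp_apply]
  set F : Set X := {ξ | ξ ∈ W ∧ f ξ ∈ E} with hF
  have hFfin : F.Finite := by
    have hE' : {v : V.toScheme | V.ι v ∈ E}.Finite :=
      hEfin.preimage (V.ι.isOpenEmbedding.injective.injOn)
    have h1 := (g.finite_preimage hE').image (fun w : W.toScheme => W.ι w)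
    refine h1.subset ?_
    rintro ξ ⟨hξW, hξE⟩
    refine ⟨⟨ξ, hξW⟩, ?_, rfl⟩
    show V.ι (g ⟨ξ, hξW⟩) ∈ E
    rw [hgf]; exact hξE
  -- components meeting W
  have himg : (Subtype.val '' {Z : ↥(irreducibleComponents ↥X) | ((Z : Set X) ∩ W).Nonempty}).Finite := by
    refine (hFfin.image (fun ξ : X => closure ({ξ} : Set X))).subset ?_
    rintro _ ⟨Z, hZW, rfl⟩
    have hZirr : IsIrreducible (Z : Set X) := Z.2.1
    have hZcl : IsClosed (Z : Set X) := isClosed_of_mem_irreducibleComponents _ Z.2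
    obtain ⟨ξ, hξ⟩ := QuasiSober.sober hZirr hZcl
    have hξW : ξ ∈ W := (hξ.mem_open_set_iff W.2).2 hZW
    have hξmax : closure ({ξ} : Set X) ∈ irreducibleComponents X := by
      rw [hξ.def]; exact Z.2
    refine ⟨ξ, ⟨hξW, hWV hξW, ?_⟩, hξ.def⟩
    rw [Groth.Agent.S5048.closure_mem_irreducibleComponents_iff] at hξmax ⊢
    intro η' hη'
    obtain ⟨ξ', hξ', hfξ'⟩ := (Flat.generalizingMap f) hη'
    rw [hξmax ξ' hξ'] at hfξ'
    exact hfξ'.symm
  exact Set.Finite.of_finite_image himg Subtype.val_injective.injOn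

end Groth.Agent.Lib.Helper19.LF5049
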