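import Mathlib
import Groth.Agent.Lib.helper19.LimStage
import Groth.Agent.Lib.Helper12.IdemLiftIntegral
import Groth.Agent.Lib.Helper12.GabberHensel

/-!
# Lifting complete orthogonal idempotents to an étale neighbourhood of a pair (Stacks 09XI-type)
-/

set_option autoImplicit false
set_option linter.style.haveILetI false
universe u

open TensorProduct
open Groth.Agent.Lib.Helper12.PairNbhd Groth.Agent.Lib.Helper12

namespace Groth.Agent.Lib.helper19.LimIdem

open Groth.Agent.Lib.helper19.LimStage

/-- An idempotent in the Jacobson radical vanishes. -/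
theorem eq_zero_of_isIdempotentElem_of_mem_jacobson {R : Type*} [CommRing R] {x : R}
    (hx : IsIdempotentElem x) (hj : x ∈ Ideal.jacobson (⊥ : Ideal R)) : x = 0 := by
  have hu : IsUnit (x * (-1) + 1) := Ideal.mem_jacobson_bot.mp hj (-1)
  have h0 : x * (x * (-1) + 1) = 0 := by
    have : x * (x * (-1) + 1) = x - x * x := by ring
    rw [this, hx.eq, sub_self]
  exact (hu.mul_left_eq_zero).mp h0

variable (A : Type u) [CommRing A] (I : Ideal A)

/-- Complete orthogonal idempotents of `A / I` lift to the henselization. -/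
theorem exists_lift_lim (n : ℕ) (e : Fin n → A ⧸ I) (he : CompleteOrthogonalIdempotents e) :
    ∃ e' : Fin n → Lim A I, CompleteOrthogonalIdempotents e' ∧ ∀ j, Lim.pt A I (e' j) = e j := by
  classical
  haveI := Lim.henselianRing (A := A) (I := I)
  set J := I.map (algebraMap A (Lim A I)) with hJ
  have hker : RingHom.ker (Lim.pt A I) = J := Lim.ker_pt_eq_map A I
  have hjac : J ≤ Ideal.jacobson ⊥ := HenselianRing.jac
  have hlift : ∀ j, ∃ x : Lim A I, IsIdempotentElem x ∧ Lim.pt A I x = e j := by
    intro j
    obtain ⟨b, hb⟩ := Lim.pt_surjective (A := A) (I := I) (e j)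
    have hbb : b * b - b ∈ J.map (algebraMap (Lim A I) (Lim A I)) := by
      rw [Algebra.algebraMap_self, Ideal.map_id, ← hker, RingHom.mem_ker, map_sub, map_mul, hb,
        (he.idem j).eq, sub_self]
    obtain ⟨x, hx, hxb⟩ := exists_idempotent_lift_of_isIntegral hjac
      (factorLift_of_henselianRing (I := J)) b hbb
    refine ⟨x, hx, ?_⟩
    rw [Algebra.algebraMap_self, Ideal.map_id, ← hker, RingHom.mem_ker, map_sub, sub_eq_zero] at hxb
    rw [hxb, hb]
  choose e' he'idem he'pt using hlift
  have hzero : ∀ x : Lim A I, IsIdempotentElem x → Lim.pt A I x = 0 → x = 0 := by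
    intro x hx h0
    apply eq_zero_of_isIdempotentElem_of_mem_jacobson hx
    apply hjac
    rw [← hker]
    exact h0
  have hortho : OrthogonalIdempotents e' := by
    refine ⟨he'idem, ?_⟩
    intro i j hij
    apply hzero
    · exact (he'idem i).mul (he'idem j)
    · rw [map_mul, he'pt, he'pt]
      exact he.ortho hij
  refine ⟨e', ⟨hortho, ?_⟩, he'pt⟩
  have hs : IsIdempotentElem (∑ j, e' j) := hortho.isIdempotentElem_sum
  have h1 : (1 : Lim A I) - ∑ j, e' j = 0 := by
    apply hzero _ hs.one_sub
    rw [map_sub, map_one, map_sum]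
    simp only [he'pt]
    rw [he.complete, sub_self]
  exact (sub_eq_zero.mp h1).symm

/-- Stacks-type statement: complete orthogonal idempotents of `A/I` lift to an étale
neighbourhood of `V(I)`. -/
theorem main (n : ℕ) (e : Fin n → A ⧸ I) (he : CompleteOrthogonalIdempotents e) :
    ∃ (A' : Type u) (_ : CommRing A') (_ : Algebra A A'), Algebra.Etale A A' ∧
      Function.Bijective (Ideal.quotientMap (Ideal.map (algebraMap A A') I) (algebraMap A A')
        Ideal.le_comap_map) ∧
      ∃ e' : Fin n → A', CompleteOrthogonalIdempotents e' ∧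
        ∀ j, Ideal.Quotient.mk (Ideal.map (algebraMap A A') I) (e' j) =
          Ideal.quotientMap (Ideal.map (algebraMap A A') I) (algebraMap A A') Ideal.le_comap_map
            (e j) := by
  classical
  obtain ⟨eH, heH, heHpt⟩ := exists_lift_lim A I n e he
  obtain ⟨A', _, _, _, hbij, φ, hφ, -⟩ := exists_stage A I A (Finset.univ.image eH) ∅
  have hφ' : ∀ j, ∃ s : A', φ s = eH j := fun j =>
    hφ (eH j) (Finset.mem_image_of_mem _ (Finset.mem_univ j))
  choose s hs using hφ'
  -- the equations
  let Z : Finset A' := (Finset.univ.image fun j => s j * s j - s j) ∪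
    ((Finset.univ.filter fun p : Fin n × Fin n => p.1 ≠ p.2).image fun p => s p.1 * s p.2) ∪
    {∑ j, s j - 1}
  have hZ : ∀ z ∈ Z, φ z = 0 := by
    intro z hz
    simp only [Z, Finset.mem_union, Finset.mem_image, Finset.mem_univ, true_and,
      Finset.mem_filter, Finset.mem_singleton] at hz
    rcases hz with (⟨j, rfl⟩ | ⟨p, hp, rfl⟩) | rfl
    · rw [map_sub, map_mul, hs, (heH.idem j).eq, sub_self]
    · rw [map_mul, hs, hs]
      exact heH.ortho hp
    · rw [map_sub, map_sum, map_one]
      simp only [hs]
      rw [heH.complete, sub_self]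
  obtain ⟨A'', _, _, _, hbij'', ι, hι⟩ := exists_refine_ring hbij φ Z hZ
  refine ⟨A'', inferInstance, inferInstance, inferInstance, hbij'', fun j => ι (s j), ?_, ?_⟩
  · refine ⟨⟨fun j => ?_, fun i j hij => ?_⟩, ?_⟩
    · have := hι (s j * s j - s j) (by
        simp only [Z, Finset.mem_union, Finset.mem_image, Finset.mem_univ, true_and]
        exact Or.inl (Or.inl ⟨j, rfl⟩))
      rw [map_sub, map_mul, sub_eq_zero] at this
      exact this
    · have := hι (s i * s j) (by
        simp only [Z, Finset.mem_union, Finset.mem_image, Finset.mem_univ, true_and,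
          Finset.mem_filter]
        exact Or.inl (Or.inr ⟨(i, j), hij, rfl⟩))
      rw [map_mul] at this
      exact this
    · have := hι (∑ j, s j - 1) (by
        simp only [Z, Finset.mem_union, Finset.mem_singleton]
        exact Or.inr trivial)
      rw [map_sub, map_sum, map_one, sub_eq_zero] at this
      exact this
  · intro j
    rw [mk_eq_algebraMap_pt hbij φ ι (s j), hs, heHpt]

end Groth.Agent.Lib.helper19.LimIdem
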