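import Mathlib
import Groth.Agent.Lib.helper19.LimStage
import Groth.Agent.Lib.helper19.SmoothHens

/-!
# Sections of smooth algebras over `A/I` lift to an étale neighbourhood of `V(I)`
-/

set_option autoImplicit false
set_option linter.style.haveILetI false
universe u

open TensorProduct
open Groth.Agent.Lib.Helper12.PairNbhd Groth.Agent.Lib.Helper12

namespace Groth.Agent.Lib.helper19.LimSmooth

open Groth.Agent.Lib.helper19.LimStage

variable {A B : Type u} [CommRing A] [CommRing B] [Algebra A B]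

/-- A section over `A/I` of a smooth algebra lifts to the henselization. -/
theorem exists_lift_lim [Algebra.Smooth A B] (I : Ideal A) (σ : B →ₐ[A] A ⧸ I) :
    ∃ τ : B →ₐ[A] Lim A I, ∀ b, Lim.pt A I (τ b) = σ b := by
  haveI := Lim.henselianRing (A := A) (I := I)
  set J := I.map (algebraMap A (Lim A I)) with hJ
  have hker : RingHom.ker (Lim.pt A I) = J := Lim.ker_pt_eq_map A I
  let qm : A ⧸ I →ₐ[A] Lim A I ⧸ J :=
    Ideal.quotientMapₐ J (Algebra.ofId A (Lim A I)) Ideal.le_comap_map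
  obtain ⟨τ, hτ⟩ := SmoothHens.smooth_lift A B (Lim A I) J (qm.comp σ)
  refine ⟨τ, fun b => ?_⟩
  obtain ⟨a, ha⟩ := Ideal.Quotient.mk_surjective (σ b)
  have h1 : Ideal.Quotient.mk J (τ b) = Ideal.Quotient.mk J (algebraMap A (Lim A I) a) := by
    have := congr($hτ b)
    simp only [AlgHom.comp_apply, Ideal.Quotient.mkₐ_eq_mk] at this
    rw [this, ← ha]
    rfl
  rw [Ideal.Quotient.eq, ← hker, RingHom.mem_ker, map_sub, sub_eq_zero] at h1
  rw [h1, AlgHom.commutes, ← ha]
  rfl

theorem main [Algebra.Smooth A B] (I : Ideal A) (σ : B →ₐ[A] A ⧸ I) :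
    ∃ (A' : Type u) (_ : CommRing A') (_ : Algebra A A'), Algebra.Etale A A' ∧
      Function.Bijective (algebraMap (A ⧸ I) (A' ⧸ I.map (algebraMap A A'))) ∧
      ∃ τ : B →ₐ[A] A', ∀ b : B,
        Ideal.Quotient.mk (I.map (algebraMap A A')) (τ b) =
          algebraMap (A ⧸ I) (A' ⧸ I.map (algebraMap A A')) (σ b) := by
  classical
  obtain ⟨τH, hτH⟩ := exists_lift_lim I σ
  obtain ⟨n, f, hf, hfg⟩ := Algebra.FinitePresentation.out (R := A) (A := B)
  obtain ⟨R, hR⟩ := hfg
  obtain ⟨A', _, _, _, hbij, φ, hφ, -⟩ := exists_stage A I A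
    (Finset.univ.image fun j : Fin n => τH (f (MvPolynomial.X j))) ∅
  have hφ' : ∀ j : Fin n, ∃ s : A', φ s = τH (f (MvPolynomial.X j)) := fun j =>
    hφ _ (Finset.mem_image_of_mem _ (Finset.mem_univ j))
  choose s hs using hφ'
  let θ : MvPolynomial (Fin n) A →ₐ[A] A' := MvPolynomial.aeval s
  have hθ : φ.comp θ = τH.comp f := by
    apply MvPolynomial.algHom_ext
    intro j
    simp [θ, hs]
  have hZ : ∀ z ∈ R.image θ, φ z = 0 := by
    intro z hz
    obtain ⟨r, hr, rfl⟩ := Finset.mem_image.mp hz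
    have : f r = 0 := by
      have : r ∈ RingHom.ker f.toRingHom := by rw [← hR]; exact Ideal.subset_span hr
      exact this
    have h2 := congr($hθ r)
    simp only [AlgHom.comp_apply] at h2
    rw [h2, this, map_zero]
  obtain ⟨A'', _, _, _, hbij'', ι, hι⟩ := exists_refine_ring hbij φ (R.image θ) hZ
  have hle : RingHom.ker f.toRingHom ≤ RingHom.ker (ι.comp θ).toRingHom := by
    rw [← hR, Ideal.span_le]
    intro r hr
    exact hι _ (Finset.mem_image_of_mem _ hr)
  let τ₀ : (MvPolynomial (Fin n) A ⧸ RingHom.ker f.toRingHom) →ₐ[A] A'' :=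
    Ideal.Quotient.liftₐ _ (ι.comp θ) (fun a ha => hle ha)
  let τ : B →ₐ[A] A'' := τ₀.comp (Ideal.quotientKerAlgEquivOfSurjective hf).symm.toAlgHom
  have hτ : ∀ p, τ (f p) = ι (θ p) := by
    intro p
    have : (Ideal.quotientKerAlgEquivOfSurjective hf).symm (f p) = Ideal.Quotient.mk _ p := by
      rw [AlgEquiv.symm_apply_eq]
      rfl
    show τ₀ ((Ideal.quotientKerAlgEquivOfSurjective hf).symm (f p)) = _
    rw [this]
    rfl
  refine ⟨A'', inferInstance, inferInstance, inferInstance, hbij'', τ, fun b => ?_⟩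
  obtain ⟨p, rfl⟩ := hf b
  rw [hτ, mk_eq_algebraMap_pt hbij φ ι (θ p)]
  have h2 := congr($hθ p)
  simp only [AlgHom.comp_apply] at h2
  rw [h2, hτH]
  rfl

end Groth.Agent.Lib.helper19.LimSmooth
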