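import Mathlib
import Groth.Agent.Lib.Helper28.GlueLocal
import Groth.Agent.Lib.Helper28.Segre1
import Groth.Agent.Lib.Helper28.ProjChart

/-!
# Partial functoriality of `Proj` (linear projections) (helper19)

For a graded ring homomorphism `φ : 𝒜 →+*ᵍ ℬ` (no condition on irrelevant ideals), the open
`U φ ⊆ Proj ℬ` which is the union of the `D₊(φ s)`, `s` homogeneous of positive degree, and the
morphism `proj φ : U φ ⟶ Proj 𝒜` restricting to `Spec (Away.map φ s)` on the standard charts.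
-/

set_option autoImplicit false
universe u
open CategoryTheory CategoryTheory.Limits AlgebraicGeometry Opposite TopologicalSpace
open HomogeneousLocalization

noncomputable section

namespace Groth.Agent.Lib.helper19.LinProj1

variable {A B : Type u} [CommRing A] [CommRing B] {σ τ : Type u} [SetLike σ A]
  [AddSubgroupClass σ A] [SetLike τ B] [AddSubgroupClass τ B] {𝒜 : ℕ → σ} {ℬ : ℕ → τ}
  [GradedRing 𝒜] [GradedRing ℬ] (φ : 𝒜 →+*ᵍ ℬ)

/-- homogeneous elements of positive degree -/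
structure Idx (𝒜 : ℕ → σ) : Type u where
  deg : ℕ
  pos : 0 < deg
  elt : A
  mem : elt ∈ 𝒜 deg

/-- product of indices -/
def Idx.mul (t s : Idx 𝒜) : Idx 𝒜 where
  deg := t.deg + s.deg
  pos := Nat.add_pos_left t.pos _
  elt := t.elt * s.elt
  mem := SetLike.mul_mem_graded t.mem s.mem

theorem mapMem (s : Idx 𝒜) : φ s.elt ∈ ℬ s.deg := φ.map_mem s.mem

/-- the domain of definition of the partial map `Proj ℬ ⇢ Proj 𝒜` -/
def U : (Proj ℬ).Opens := ⨆ s : Idx 𝒜, Proj.basicOpen ℬ (φ s.elt)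

theorem basicOpen_le_U (s : Idx 𝒜) : Proj.basicOpen ℬ (φ s.elt) ≤ U φ :=
  le_iSup (fun s : Idx 𝒜 => Proj.basicOpen ℬ (φ s.elt)) s

theorem mem_U_iff (y : Proj ℬ) : y ∈ U φ ↔ ∃ s : Idx 𝒜, y ∈ Proj.basicOpen ℬ (φ s.elt) := by
  unfold U
  rw [Opens.mem_iSup]

/-- the charts -/
abbrev W (s : Idx 𝒜) : Scheme.{u} := Spec (CommRingCat.of (Away ℬ (φ s.elt)))

theorem range_awayι_le (s : Idx 𝒜) :
    Set.range (Proj.awayι ℬ (φ s.elt) (mapMem φ s) s.pos) ⊆ Set.range (U φ).ι := by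
  rw [Scheme.Opens.range_ι]
  have h := Proj.opensRange_awayι ℬ (φ s.elt) (mapMem φ s) s.pos
  intro y hy
  have : y ∈ (Proj.awayι ℬ (φ s.elt) (mapMem φ s) s.pos).opensRange := hy
  rw [h] at this
  exact basicOpen_le_U φ s this

/-- the chart maps into `U φ` -/
def c (s : Idx 𝒜) : W φ s ⟶ (U φ).toScheme :=
  IsOpenImmersion.lift (U φ).ι (Proj.awayι ℬ (φ s.elt) (mapMem φ s) s.pos)
    (range_awayι_le φ s)

@[reassoc]
theorem c_ι (s : Idx 𝒜) : c φ s ≫ (U φ).ι = Proj.awayι ℬ (φ s.elt) (mapMem φ s) s.pos :=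
  IsOpenImmersion.lift_fac _ _ _

instance (s : Idx 𝒜) : IsOpenImmersion (c φ s) := by
  have : IsOpenImmersion (c φ s ≫ (U φ).ι) := by rw [c_ι]; infer_instance
  exact IsOpenImmersion.of_comp (c φ s) (U φ).ι

theorem mem_range_c_iff (s : Idx 𝒜) (x : (U φ).toScheme) :
    x ∈ Set.range (c φ s) ↔ (U φ).ι x ∈ Proj.basicOpen ℬ (φ s.elt) := by
  rw [← Proj.opensRange_awayι ℬ (φ s.elt) (mapMem φ s) s.pos]
  constructor
  · rintro ⟨w, rfl⟩
    refine ⟨w, ?_⟩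
    rw [← Scheme.Hom.comp_apply, c_ι]
  · rintro ⟨w, hw⟩
    refine ⟨w, ?_⟩
    apply (U φ).ι.isOpenEmbedding.injective
    rw [← Scheme.Hom.comp_apply, c_ι]
    exact hw

theorem cover (x : (U φ).toScheme) : ∃ s, x ∈ Set.range (c φ s) := by
  have hx : (U φ).ι x ∈ U φ := x.2
  obtain ⟨s, hs⟩ := (mem_U_iff φ _).1 hx
  exact ⟨s, (mem_range_c_iff φ s x).2 hs⟩

/-- the local projections -/
def g (s : Idx 𝒜) : W φ s ⟶ Proj 𝒜 :=
  Spec.map (CommRingCat.ofHom (Away.map φ s.elt)) ≫ Proj.awayι 𝒜 s.elt s.mem s.pos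

/-- the first transition map -/
def a (t s : Idx 𝒜) : W φ (t.mul s) ⟶ W φ t :=
  Spec.map (CommRingCat.ofHom (awayMap ℬ (mapMem φ s)
    (show φ (t.mul s).elt = φ t.elt * φ s.elt from map_mul φ _ _)))

/-- the second transition map -/
def b (t s : Idx 𝒜) : W φ (t.mul s) ⟶ W φ s :=
  Spec.map (CommRingCat.ofHom (awayMap ℬ (mapMem φ t)
    (show φ (t.mul s).elt = φ s.elt * φ t.elt from (map_mul φ _ _).trans (mul_comm _ _))))

theorem a_c (t s : Idx 𝒜) : a φ t s ≫ c φ t = c φ (t.mul s) := by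
  rw [← cancel_mono (U φ).ι, Category.assoc, c_ι, c_ι]
  exact Proj.SpecMap_awayMap_awayι (𝒜 := ℬ) (mapMem φ t) t.pos (mapMem φ s) _

theorem b_c (t s : Idx 𝒜) : b φ t s ≫ c φ s = c φ (t.mul s) := by
  rw [← cancel_mono (U φ).ι, Category.assoc, c_ι, c_ι]
  exact Proj.SpecMap_awayMap_awayι (𝒜 := ℬ) (mapMem φ s) s.pos (mapMem φ t) _

theorem map_awayMap (t s : Idx 𝒜) :
    (Away.map φ (t.mul s).elt).comp (awayMap 𝒜 s.mem (rfl : (t.mul s).elt = t.elt * s.elt)) =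
      (awayMap ℬ (mapMem φ s)
        (show φ (t.mul s).elt = φ t.elt * φ s.elt from map_mul φ _ _)).comp (Away.map φ t.elt) := by
  ext q
  obtain ⟨n, x, hx, rfl⟩ := Away.mk_surjective 𝒜 t.mem q
  simp only [RingHom.comp_apply]
  rw [Away.map_mk, awayMap_mk, awayMap_mk]
  erw [Away.map_mk]
  rw [Away.val_mk, Away.val_mk]
  simp [map_mul, map_pow]

theorem map_awayMap' (t s : Idx 𝒜) :
    (Away.map φ (t.mul s).elt).comp (awayMap 𝒜 t.mem
        (mul_comm _ _ : (t.mul s).elt = s.elt * t.elt)) =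
      (awayMap ℬ (mapMem φ t)
        (show φ (t.mul s).elt = φ s.elt * φ t.elt from
          (map_mul φ _ _).trans (mul_comm _ _))).comp (Away.map φ s.elt) := by
  ext q
  obtain ⟨n, x, hx, rfl⟩ := Away.mk_surjective 𝒜 s.mem q
  simp only [RingHom.comp_apply]
  rw [Away.map_mk, awayMap_mk, awayMap_mk]
  erw [Away.map_mk]
  rw [Away.val_mk, Away.val_mk]
  simp [map_mul, map_pow]

theorem a_g (t s : Idx 𝒜) : a φ t s ≫ g φ t = g φ (t.mul s) := by
  unfold a g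
  rw [← Category.assoc, ← Spec.map_comp, ← CommRingCat.ofHom_comp, ← map_awayMap φ t s,
    CommRingCat.ofHom_comp, Spec.map_comp, Category.assoc]
  congr 1
  exact Proj.SpecMap_awayMap_awayι (𝒜 := 𝒜) t.mem t.pos s.mem _

theorem b_g (t s : Idx 𝒜) : b φ t s ≫ g φ s = g φ (t.mul s) := by
  unfold b g
  rw [← Category.assoc, ← Spec.map_comp, ← CommRingCat.ofHom_comp, ← map_awayMap' φ t s,
    CommRingCat.ofHom_comp, Spec.map_comp, Category.assoc]
  congr 1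
  exact Proj.SpecMap_awayMap_awayι (𝒜 := 𝒜) s.mem s.pos t.mem _

theorem glue_H (t s : Idx 𝒜) (x : W φ t) (y : W φ s) (h : c φ t x = c φ s y) :
    ∃ (V : Scheme.{u}) (a' : V ⟶ W φ t) (b' : V ⟶ W φ s), a' ≫ c φ t = b' ≫ c φ s ∧
      IsOpenImmersion (a' ≫ c φ t) ∧ c φ t x ∈ Set.range (a' ≫ c φ t) ∧
      a' ≫ g φ t = b' ≫ g φ s := by
  refine ⟨W φ (t.mul s), a φ t s, b φ t s, (a_c φ t s).trans (b_c φ t s).symm, ?_, ?_,
    (a_g φ t s).trans (b_g φ t s).symm⟩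
  · rw [a_c]; infer_instance
  · rw [a_c, mem_range_c_iff]
    change _ ∈ Proj.basicOpen ℬ (φ (t.elt * s.elt))
    rw [map_mul, Proj.basicOpen_mul]
    refine ⟨(mem_range_c_iff φ t _).1 ⟨x, rfl⟩, ?_⟩
    rw [h]
    exact (mem_range_c_iff φ s _).1 ⟨y, rfl⟩

theorem existsUnique_proj :
    ∃! p : (U φ).toScheme ⟶ Proj 𝒜, ∀ s, c φ s ≫ p = g φ s :=
  Groth.Agent.Lib.Helper28.GlueLocal.existsUnique_glue (W φ) (c φ) (cover φ) (g φ) (glue_H φ)

/-- the partial map `Proj ℬ ⇢ Proj 𝒜`, defined on `U φ` -/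
def proj : (U φ).toScheme ⟶ Proj 𝒜 := (existsUnique_proj φ).choose

@[reassoc]
theorem c_proj (s : Idx 𝒜) : c φ s ≫ proj φ = g φ s := (existsUnique_proj φ).choose_spec.1 s

end Groth.Agent.Lib.helper19.LinProj1
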