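import Groth.Agent.Lib.helper19.LinProj9

/-!
# Lifting points along the multiplication morphism, II (helper19)
-/

set_option autoImplicit false
universe u
open CategoryTheory CategoryTheory.Limits AlgebraicGeometry Opposite TopologicalSpace
open HomogeneousLocalization TensorProduct

noncomputable section

namespace Groth.Agent.Lib.helper19.LinProj10

open Groth.Agent.Lib.helper19.LinProj1 Groth.Agent.Lib.helper19.LinProj2 Groth.Agent.Lib.helper19.LinProj3
  Groth.Agent.Lib.helper19.LinProj5 Groth.Agent.Lib.helper19.LinProj6 Groth.Agent.Lib.helper19.LinProj7 Groth.Agent.Lib.helper19.LinProj9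
open Groth.Agent.Lib.Helper28
open Groth.Agent.Lib.Helper28.ProjClosed (fr fr_of_mem pw)

attribute [local instance] MvPolynomial.gradedAlgebra

variable (R : Type u) [CommRing R] (n : ℕ) (K : Type u) [Field K] [Algebra R K]
  (k : Fin (n + 1 + 1))
  (ρ : Away (CohB1.polyGrading (n + 1) R)
    (MvPolynomial.X k : MvPolynomial (Fin (n + 1 + 1)) R) →ₐ[R] K)
  (a : I R → K) (b : J R n → K) (i0 : I R) (j0 : J R n) (ha : a i0 ≠ 0) (hb : b j0 ≠ 0)
  (hc : ∀ l : Fin (n + 1 + 1), G R n K k ρ (MvPolynomial.X l) =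
    ∑ p : I R × J R n, if (p.1.down : ℕ) + (p.2.down : ℕ) = (l : ℕ) then a p.1 * b p.2 else 0)

/-- the linear projection as an algebra homomorphism -/
def φₐ : MvPolynomial (Fin (n + 1 + 1)) R →ₐ[R] MvPolynomial (I R × J R n) R :=
  MvPolynomial.aeval (ℓ R n)

include hc in
theorem G_X_eq (l : Fin (n + 1 + 1)) :
    G R n K k ρ (MvPolynomial.X l) =
      (a i0 * b j0) * ((H R n K a b i0 j0 ha hb).comp (φₐ R n)) (MvPolynomial.X l) := by
  change _ = _ * H R n K a b i0 j0 ha hb (MvPolynomial.aeval (ℓ R n) (MvPolynomial.X l))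
  rw [MvPolynomial.aeval_X, hc l]
  unfold ℓ
  rw [map_sum, Finset.mul_sum]
  refine Finset.sum_congr rfl fun p _ => ?_
  split_ifs
  · rw [mul_comm (a i0 * b j0), H_X]
  · rw [map_zero, mul_zero]

include hc in
theorem twist (d : ℕ) (x : MvPolynomial (Fin (n + 1 + 1)) R)
    (hx : x ∈ CohB1.polyGrading (n + 1) R d) :
    (G R n K k ρ).toRingHom x = ((Units.mk0 (a i0 * b j0) (mul_ne_zero ha hb) : Kˣ) : K) ^ d *
      ((H R n K a b i0 j0 ha hb).toRingHom.comp (φ R n).toRingHom) x :=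
  Segre3.poly_twist ((H R n K a b i0 j0 ha hb).comp (φₐ R n)) (G R n K k ρ) (a i0 * b j0)
    (G_X_eq R n K k ρ a b i0 j0 ha hb hc) d x hx

include hc in
theorem isUnit_H_φ :
    IsUnit ((H R n K a b i0 j0 ha hb).toRingHom (φ R n (idx R n k).elt)) := by
  have h := G_X_eq R n K k ρ a b i0 j0 ha hb hc k
  rw [G_X_self] at h
  exact IsUnit.of_mul_eq_one _ ((mul_comm _ _).trans h.symm)

include hc in
theorem kk_mult :
    kk R n K a b i0 j0 ha hb ≫ mult R n =
      Spec.map (CommRingCat.ofHom ρ.toRingHom) ≫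
        Proj.awayι (CohB1.polyGrading (n + 1) R) (MvPolynomial.X k) (Groth.Agent.Lib.helper19.LinProj8.X_mem R (n + 1) k)
          one_pos := by
  have hu := isUnit_H_φ R n K k ρ a b i0 j0 ha hb hc
  have h1 : kk R n K a b i0 j0 ha hb ≫ seg R n =
      Segre1.chartMap (ℬ R n) (H R n K a b i0 j0 ha hb).toRingHom (mapMem (φ R n) (idx R n k))
        (idx R n k).pos hu := by
    rw [kk_seg]
    exact Segre1.chartMap_eq _ _ _ _ _ _ _ _
  have h2 := Groth.Agent.Lib.helper19.LinProj3.chartMap_comp (φ R n) (seg R n) (seg_mem_U R n)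
    (H R n K a b i0 j0 ha hb).toRingHom (idx R n k) hu (kk R n K a b i0 j0 ha hb) h1
  unfold mult
  rw [h2, ← chartMap_G]
  symm
  exact Segre1.chartMap_twist (CohB1.polyGrading (n + 1) R) _ (G R n K k ρ).toRingHom
    (Units.mk0 (a i0 * b j0) (mul_ne_zero ha hb))
    (twist R n K k ρ a b i0 j0 ha hb hc) (idx R n k).mem (idx R n k).pos hu (isUnit_G R n K k ρ)

end Groth.Agent.Lib.helper19.LinProj10
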