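import Mathlib

/-!
# Splitting off a linear factor from a polynomial of bounded degree (helper19)
-/

set_option autoImplicit false
universe u
open Polynomial

namespace Groth.Agent.Lib.helper19.LinProj11

theorem coeff_sum_mul_sum {D : Type*} [CommSemiring D] {I J : Type*} [Fintype I] [Fintype J]
    (dI : I → ℕ) (dJ : J → ℕ) (u : I → D) (v : J → D) (k : ℕ) :
    ((∑ i, C (u i) * X ^ (dI i)) * (∑ j, C (v j) * X ^ (dJ j)) : D[X]).coeff k =
      ∑ p : I × J, if dI p.1 + dJ p.2 = k then u p.1 * v p.2 else 0 := by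
  classical
  simp only [Finset.sum_mul_sum, finset_sum_coeff]
  rw [Fintype.sum_prod_type]
  refine Finset.sum_congr rfl fun i _ => Finset.sum_congr rfl fun j _ => ?_
  have : C (u i) * X ^ dI i * (C (v j) * X ^ dJ j) =
      C (u i * v j) * X ^ (dI i + dJ j) := by
    rw [C_mul, pow_add]; ring
  rw [this, coeff_C_mul, coeff_X_pow]
  split_ifs with h1 h2 h2
  · simp
  · exact absurd h1.symm h2
  · exact absurd h2.symm h1
  · simp

theorem as_sum_ulift {D : Type*} [CommSemiring D] (P : D[X]) (m : ℕ) (h : P.natDegree < m) :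
    P = ∑ i : ULift.{u} (Fin m), C (P.coeff (i.down : ℕ)) * X ^ (i.down : ℕ) := by
  conv_lhs => rw [P.as_sum_range' m h]
  rw [Finset.sum_range]
  rw [← Equiv.sum_comp (Equiv.ulift.{u} : ULift.{u} (Fin m) ≃ Fin m)]
  refine Finset.sum_congr rfl fun i _ => ?_
  rw [C_mul_X_pow_eq_monomial]
  rfl

variable {K : Type*} [Field K] [IsAlgClosed K]

/-- a nonzero polynomial of degree at most `n + 1` over an algebraically closed field is the
product of a nonzero polynomial of degree at most one and one of degree at most `n` -/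
theorem exists_factor (n : ℕ) (f : K[X]) (hf : f ≠ 0) (hdeg : f.natDegree < n + 1 + 1) :
    ∃ P Q : K[X], f = P * Q ∧ P.natDegree < 1 + 1 ∧ Q.natDegree < n + 1 := by
  by_cases h : f.natDegree < n + 1
  · exact ⟨1, f, (one_mul f).symm, by simp, h⟩
  · have hd : f.natDegree = n + 1 := by omega
    have hd' : f.degree ≠ 0 := by
      rw [degree_eq_natDegree hf, hd]
      exact_mod_cast Nat.succ_ne_zero n
    obtain ⟨r, hr⟩ := IsAlgClosed.exists_root f hd'
    refine ⟨X - C r, f /ₘ (X - C r), (mul_divByMonic_eq_iff_isRoot.2 hr).symm, ?_, ?_⟩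
    · rw [natDegree_X_sub_C]; omega
    · rw [natDegree_divByMonic f (monic_X_sub_C r), natDegree_X_sub_C, hd]; omega

theorem exists_coords (n : ℕ) (c : Fin (n + 1 + 1) → K) (k : Fin (n + 1 + 1)) (hk : c k ≠ 0) :
    ∃ (a : ULift.{u} (Fin (1 + 1)) → K) (b : ULift.{u} (Fin (n + 1)) → K)
      (i0 : ULift.{u} (Fin (1 + 1))) (j0 : ULift.{u} (Fin (n + 1))), a i0 ≠ 0 ∧ b j0 ≠ 0 ∧
      ∀ l : Fin (n + 1 + 1), c l =
        ∑ p : ULift.{u} (Fin (1 + 1)) × ULift.{u} (Fin (n + 1)),
          if (p.1.down : ℕ) + (p.2.down : ℕ) = (l : ℕ) then a p.1 * b p.2 else 0 := by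
  classical
  let f : K[X] := ∑ l : Fin (n + 1 + 1), C (c l) * X ^ (l : ℕ)
  have hcoeff : ∀ l : Fin (n + 1 + 1), f.coeff l = c l := by
    intro l
    simp only [f, finset_sum_coeff, coeff_C_mul, coeff_X_pow]
    rw [Finset.sum_eq_single l]
    · simp
    · intro b _ hb
      have : (l : ℕ) ≠ (b : ℕ) := fun h => hb (Fin.ext h).symm
      simp [this]
    · intro h; exact absurd (Finset.mem_univ _) h
  have hf : f ≠ 0 := by
    intro h
    have := hcoeff k
    rw [h, coeff_zero] at this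
    exact hk this.symm
  have hdeg : f.natDegree < n + 1 + 1 := by
    rw [Nat.lt_succ_iff]
    apply natDegree_sum_le_of_forall_le
    intro l _
    refine (natDegree_C_mul_X_pow_le _ _).trans ?_
    have := l.isLt
    omega
  obtain ⟨P, Q, hPQ, hP, hQ⟩ := exists_factor n f hf hdeg
  have hP0 : P ≠ 0 := fun h => hf (by rw [hPQ, h, zero_mul])
  have hQ0 : Q ≠ 0 := fun h => hf (by rw [hPQ, h, mul_zero])
  refine ⟨fun i => P.coeff (i.down : ℕ), fun j => Q.coeff (j.down : ℕ),
    ⟨⟨P.natDegree, hP⟩⟩, ⟨⟨Q.natDegree, hQ⟩⟩, ?_, ?_, ?_⟩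
  · exact leadingCoeff_ne_zero.2 hP0
  · exact leadingCoeff_ne_zero.2 hQ0
  · intro l
    rw [← hcoeff l, hPQ]
    conv_lhs => rw [as_sum_ulift.{u} P (1 + 1) hP, as_sum_ulift.{u} Q (n + 1) hQ]
    exact coeff_sum_mul_sum _ _ _ _ _

end Groth.Agent.Lib.helper19.LinProj11
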