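import Groth.Agent.Lib.helper19.LinProj10
import Groth.Agent.Lib.helper19.LinProj11

/-!
# The multiplication morphism is surjective (helper19)
-/

set_option autoImplicit false
universe u
open CategoryTheory CategoryTheory.Limits AlgebraicGeometry Opposite TopologicalSpace
open HomogeneousLocalization TensorProduct

noncomputable section

namespace Groth.Agent.Lib.helper19.LinProj12

open Groth.Agent.Lib.helper19.LinProj1 Groth.Agent.Lib.helper19.LinProj2 Groth.Agent.Lib.helper19.LinProj3
  Groth.Agent.Lib.helper19.LinProj5 Groth.Agent.Lib.helper19.LinProj6 Groth.Agent.Lib.helper19.LinProj7 Groth.Agent.Lib.helper19.LinProj9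
  Groth.Agent.Lib.helper19.LinProj10
open Groth.Agent.Lib.Helper28

attribute [local instance] MvPolynomial.gradedAlgebra

variable (R : Type u) [CommRing R] (n : ℕ)

theorem exists_chart (p : Proj (CohB1.polyGrading (n + 1) R)) :
    ∃ k : Fin (n + 1 + 1), p ∈ Proj.basicOpen (CohB1.polyGrading (n + 1) R)
      (MvPolynomial.X k : MvPolynomial (Fin (n + 1 + 1)) R) :=
  Segre5.cover_of_adjoin (CohB1.polyGrading (n + 1) R)
    (fun k : Fin (n + 1 + 1) => (MvPolynomial.X k : MvPolynomial (Fin (n + 1 + 1)) R))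
    (Groth.Agent.Lib.helper19.LinProj8.X_mem R (n + 1)) MvPolynomial.adjoin_range_X p

set_option backward.isDefEq.respectTransparency false in
theorem surjective_mult : Function.Surjective (mult R n) := by
  intro p
  obtain ⟨k, hk⟩ := exists_chart R n p
  let κ := (Proj (CohB1.polyGrading (n + 1) R)).residueField p
  let K := AlgebraicClosure κ
  let a₀ : Spec (CommRingCat.of K) ⟶ Proj (CohB1.polyGrading (n + 1) R) :=
    Spec.map (CommRingCat.ofHom (algebraMap κ K)) ≫
      (Proj (CohB1.polyGrading (n + 1) R)).fromSpecResidueField p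
  have ha₀ : ∀ z, a₀ z = p := by
    intro z
    change ((Proj (CohB1.polyGrading (n + 1) R)).fromSpecResidueField p) _ = p
    exact Scheme.fromSpecResidueField_apply _ _
  have hrange : Set.range a₀ ⊆ Set.range (Proj.awayι (CohB1.polyGrading (n + 1) R)
      (MvPolynomial.X k) (Groth.Agent.Lib.helper19.LinProj8.X_mem R (n + 1) k) one_pos) := by
    rintro _ ⟨z, rfl⟩
    rw [ha₀ z]
    have : p ∈ (Proj.awayι (CohB1.polyGrading (n + 1) R)
      (MvPolynomial.X k) (Groth.Agent.Lib.helper19.LinProj8.X_mem R (n + 1) k) one_pos).opensRange := by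
      rw [Proj.opensRange_awayι]; exact hk
    exact this
  let b₀ := IsOpenImmersion.lift (Proj.awayι (CohB1.polyGrading (n + 1) R)
      (MvPolynomial.X k) (Groth.Agent.Lib.helper19.LinProj8.X_mem R (n + 1) k) one_pos) a₀ hrange
  have hb₀ : b₀ ≫ Proj.awayι (CohB1.polyGrading (n + 1) R)
      (MvPolynomial.X k) (Groth.Agent.Lib.helper19.LinProj8.X_mem R (n + 1) k) one_pos = a₀ := IsOpenImmersion.lift_fac _ _ _
  let ρ₀ : Away (CohB1.polyGrading (n + 1) R)
      (MvPolynomial.X k : MvPolynomial (Fin (n + 1 + 1)) R) →+* K := (Spec.preimage b₀).hom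
  have hρ₀ : Spec.map (CommRingCat.ofHom ρ₀) = b₀ := Spec.map_preimage b₀
  letI : Algebra R K := (ρ₀.comp (algebraMap R _)).toAlgebra
  let ρ : Away (CohB1.polyGrading (n + 1) R)
      (MvPolynomial.X k : MvPolynomial (Fin (n + 1 + 1)) R) →ₐ[R] K :=
    { ρ₀ with commutes' := fun r => rfl }
  have hρ : ρ.toRingHom = ρ₀ := rfl
  obtain ⟨a, b, i0, j0, ha, hb, hc⟩ := Groth.Agent.Lib.helper19.LinProj11.exists_coords.{u} n
    (fun l => G R n K k ρ (MvPolynomial.X l)) k (by rw [G_X_self]; exact one_ne_zero)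
  have key := kk_mult R n K k ρ a b i0 j0 ha hb hc
  rw [hρ, hρ₀, hb₀] at key
  let pt : Spec (CommRingCat.of K) := ⟨⊥, Ideal.isPrime_bot⟩
  refine ⟨kk R n K a b i0 j0 ha hb pt, ?_⟩
  rw [← Scheme.Hom.comp_apply, key]
  exact ha₀ pt

end Groth.Agent.Lib.helper19.LinProj12
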