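import Mathlib

/-!
# Formal lemmas on fibre products (helper19)

* base change of a morphism `A ×_Z B ⟶ C` of `Z`-objects along `S ⟶ Z`;
* `P ×_S f` is a base change of `f`;
* the `(n+1)`-fold fibre power is the fibre product of the `n`-fold one with one more factor.
-/

set_option autoImplicit false
universe v₁ u₁
open CategoryTheory CategoryTheory.Limits

namespace Groth.Agent.Lib.helper19.LinProj13

variable {𝒞 : Type u₁} [Category.{v₁} 𝒞] [HasPullbacks 𝒞]

section baseChange

variable {A B C Z S : 𝒞} (pA : A ⟶ Z) (pB : B ⟶ Z) (pC : C ⟶ Z) (t : S ⟶ Z)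
  (μ₀ : pullback pA pB ⟶ C) (hμ₀ : μ₀ ≫ pC = pullback.fst pA pB ≫ pA)

/-- the fibre product over `S` of the base changes -/
noncomputable abbrev Y : 𝒞 := pullback (pullback.snd pA t) (pullback.snd pB t)

/-- the projection to the fibre product over `Z` -/
noncomputable def q : Y pA pB t ⟶ pullback pA pB :=
  pullback.lift (pullback.fst _ _ ≫ pullback.fst pA t) (pullback.snd _ _ ≫ pullback.fst pB t) (by
    rw [Category.assoc, Category.assoc, pullback.condition, pullback.condition,
      ← Category.assoc, ← Category.assoc, pullback.condition])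

@[reassoc]
theorem q_fst : q pA pB t ≫ pullback.fst pA pB = pullback.fst _ _ ≫ pullback.fst pA t :=
  pullback.lift_fst _ _ _

@[reassoc]
theorem q_snd : q pA pB t ≫ pullback.snd pA pB = pullback.snd _ _ ≫ pullback.fst pB t :=
  pullback.lift_snd _ _ _

theorem isPullback_Y :
    IsPullback (pullback.fst (pullback.snd pA t) (pullback.snd pB t) ≫ pullback.snd pA t)
      (q pA pB t) t (pullback.fst pA pB ≫ pA) := by
  have E2 : IsPullback (pullback.fst (pullback.snd pA t) (pullback.snd pB t) ≫ pullback.fst pA t)
      (pullback.snd (pullback.snd pA t) (pullback.snd pB t)) pA (pullback.snd pB t ≫ t) :=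
    (IsPullback.of_hasPullback (pullback.snd pA t) (pullback.snd pB t)).paste_horiz
      (IsPullback.of_hasPullback pA t)
  have E3 : IsPullback (q pA pB t) (pullback.snd (pullback.snd pA t) (pullback.snd pB t))
      (pullback.snd pA pB) (pullback.fst pB t) := by
    refine IsPullback.of_right ?_ (q_snd pA pB t) (IsPullback.of_hasPullback pA pB)
    rw [q_fst, pullback.condition]
    exact E2
  have E4 := E3.flip.paste_horiz (IsPullback.of_hasPullback pB t).flip
  rw [← pullback.condition, ← pullback.condition (f := pA) (g := pB)] at E4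
  exact E4

include hμ₀ in
theorem baseChange_cond :
    (q pA pB t ≫ μ₀) ≫ pC =
      (pullback.fst (pullback.snd pA t) (pullback.snd pB t) ≫ pullback.snd pA t) ≫ t := by
  rw [Category.assoc, hμ₀, q_fst_assoc, pullback.condition, Category.assoc]

/-- the base change of `μ₀` -/
noncomputable def μS : Y pA pB t ⟶ pullback pC t :=
  pullback.lift (q pA pB t ≫ μ₀)
    (pullback.fst (pullback.snd pA t) (pullback.snd pB t) ≫ pullback.snd pA t)
    (baseChange_cond pA pB pC t μ₀ hμ₀)

@[reassoc]
theorem μS_fst : μS pA pB pC t μ₀ hμ₀ ≫ pullback.fst pC t = q pA pB t ≫ μ₀ :=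
  pullback.lift_fst _ _ _

@[reassoc]
theorem μS_snd : μS pA pB pC t μ₀ hμ₀ ≫ pullback.snd pC t =
    pullback.fst (pullback.snd pA t) (pullback.snd pB t) ≫ pullback.snd pA t :=
  pullback.lift_snd _ _ _

theorem isPullback_μS :
    IsPullback (μS pA pB pC t μ₀ hμ₀) (q pA pB t) (pullback.fst pC t) μ₀ := by
  refine IsPullback.of_right ?_ (μS_fst pA pB pC t μ₀ hμ₀) (IsPullback.of_hasPullback pC t).flip
  rw [μS_snd, hμ₀]
  exact isPullback_Y pA pB t

end baseChange

section prodMap

variable {P W Q S : 𝒞} (a : P ⟶ S) (w : W ⟶ S) (b : Q ⟶ S) (f : W ⟶ Q) (hf : f ≫ b = w)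
  {V : 𝒞} (π : V ⟶ P) (r : V ⟶ W) (hV : IsPullback π r a w)

include hV hf in
theorem prodMap_cond : π ≫ a = (r ≫ f) ≫ b := by
  rw [Category.assoc, hf, hV.w]

/-- `P ×_S f` -/
noncomputable def prodMap : V ⟶ pullback a b := pullback.lift π (r ≫ f) (prodMap_cond a w b f hf π r hV)

@[reassoc]
theorem prodMap_fst : prodMap a w b f hf π r hV ≫ pullback.fst a b = π := pullback.lift_fst _ _ _

@[reassoc]
theorem prodMap_snd : prodMap a w b f hf π r hV ≫ pullback.snd a b = r ≫ f :=
  pullback.lift_snd _ _ _

theorem isPullback_prodMap :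
    IsPullback (prodMap a w b f hf π r hV) r (pullback.snd a b) f := by
  refine IsPullback.of_right ?_ (prodMap_snd a w b f hf π r hV) (IsPullback.of_hasPullback a b)
  rw [prodMap_fst, hf]
  exact hV

end prodMap

section widePower

variable {P S : 𝒞} (a : P ⟶ S) (n : ℕ)
  [HasWidePullback S (fun _ : Fin n => P) (fun _ => a)]
  [HasWidePullback S (fun _ : Fin (n + 1) => P) (fun _ => a)]

/-- forgetting the last factor -/
noncomputable def forget : widePullback S (fun _ : Fin (n + 1) => P) (fun _ => a) ⟶
    widePullback S (fun _ : Fin n => P) (fun _ => a) :=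
  WidePullback.lift (WidePullback.base _) (fun j => WidePullback.π _ (Fin.castSucc j))
    (fun j => WidePullback.π_arrow _ _)

theorem forget_base : forget a n ≫ WidePullback.base _ = WidePullback.base _ :=
  WidePullback.lift_base _ _ _ _

theorem forget_π (j : Fin n) :
    forget a n ≫ WidePullback.π _ j = WidePullback.π (fun _ : Fin (n + 1) => a) (Fin.castSucc j) :=
  WidePullback.lift_π _ _ _ _ _

theorem isPullback_widePower :
    IsPullback (WidePullback.π (fun _ : Fin (n + 1) => a) (Fin.last n)) (forget a n) a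
      (WidePullback.base (fun _ : Fin n => a)) := by
  refine ⟨⟨by rw [forget_base, WidePullback.π_arrow]⟩, ⟨PullbackCone.IsLimit.mk _
    (fun s => WidePullback.lift (s.fst ≫ a)
      (fun j => Fin.lastCases (motive := fun _ => s.pt ⟶ P) s.fst
        (fun i => s.snd ≫ WidePullback.π _ i) j) ?_) ?_ ?_ ?_⟩⟩
  · intro j
    refine Fin.lastCases ?_ (fun i => ?_) j
    · rw [Fin.lastCases_last]
    · rw [Fin.lastCases_castSucc, Category.assoc, WidePullback.π_arrow, s.condition]
  · intro s
    rw [WidePullback.lift_π, Fin.lastCases_last]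
  · intro s
    apply WidePullback.hom_ext
    · intro j
      rw [Category.assoc, forget_π, WidePullback.lift_π, Fin.lastCases_castSucc]
    · rw [Category.assoc, forget_base, WidePullback.lift_base, s.condition]
  · intro s m h1 h2
    apply WidePullback.hom_ext
    · intro j
      rw [WidePullback.lift_π]
      refine Fin.lastCases ?_ (fun i => ?_) j
      · rw [Fin.lastCases_last]; exact h1
      · rw [Fin.lastCases_castSucc, ← h2, Category.assoc, forget_π]
    · rw [WidePullback.lift_base, ← h1, Category.assoc, WidePullback.π_arrow]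

end widePower

end Groth.Agent.Lib.helper19.LinProj13
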