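import Groth.Agent.Lib.helper19.LinProj12
import Groth.Agent.Lib.helper19.LinProj13
import Groth.Agent.S3581

/-!
# A finite surjective morphism `(P¹_S)ⁿ ⟶ Pⁿ_S` (helper19)
-/

set_option autoImplicit false
universe u
open CategoryTheory CategoryTheory.Limits AlgebraicGeometry Opposite TopologicalSpace

noncomputable section

namespace Groth.Agent.Lib.helper19.LinProj14

open Groth.Agent.Lib.helper19.LinProj5 Groth.Agent.Lib.helper19.LinProj7 Groth.Agent.Lib.helper19.LinProj12
open Groth.Agent.Lib.helper19.LinProj13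

/-- the multiplication morphism over the integers -/
def μ₀ (n : ℕ) : pullback (CohB1.ProjSpace.toSpec 1 (ULift.{u} ℤ))
    (CohB1.ProjSpace.toSpec n (ULift.{u} ℤ)) ⟶ CohB1.ProjSpace (n + 1) (ULift.{u} ℤ) :=
  mult (ULift.{u} ℤ) n

theorem hμ₀ (n : ℕ) : μ₀.{u} n ≫ CohB1.ProjSpace.toSpec (n + 1) (ULift.{u} ℤ) =
    pullback.fst _ _ ≫ CohB1.ProjSpace.toSpec 1 (ULift.{u} ℤ) :=
  mult_str (ULift.{u} ℤ) n

instance (n : ℕ) : IsFinite (μ₀.{u} n) := isFinite_mult (ULift.{u} ℤ) n

instance (n : ℕ) : Surjective (μ₀.{u} n) := ⟨surjective_mult (ULift.{u} ℤ) n⟩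

variable (S : Scheme.{u})

/-- the multiplication morphism over `S` -/
def μ (n : ℕ) : pullback (CohB1.ProjSpaceOver.toBase 1 S) (CohB1.ProjSpaceOver.toBase n S) ⟶
    CohB1.ProjSpaceOver (n + 1) S :=
  μS (CohB1.ProjSpace.toSpec 1 (ULift.{u} ℤ)) (CohB1.ProjSpace.toSpec n (ULift.{u} ℤ))
    (CohB1.ProjSpace.toSpec (n + 1) (ULift.{u} ℤ)) (specULiftZIsTerminal.from S) (μ₀ n) (hμ₀ n)

theorem μ_toBase (n : ℕ) : μ S n ≫ CohB1.ProjSpaceOver.toBase (n + 1) S =
    pullback.fst _ _ ≫ CohB1.ProjSpaceOver.toBase 1 S :=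
  μS_snd _ _ _ _ _ _

theorem isPullback_μ (n : ℕ) :
    IsPullback (μ S n) (q (CohB1.ProjSpace.toSpec 1 (ULift.{u} ℤ))
      (CohB1.ProjSpace.toSpec n (ULift.{u} ℤ)) (specULiftZIsTerminal.from S))
      (pullback.fst (CohB1.ProjSpace.toSpec (n + 1) (ULift.{u} ℤ)) (specULiftZIsTerminal.from S))
      (μ₀ n) :=
  isPullback_μS _ _ _ _ _ _

instance (n : ℕ) : IsFinite (μ S n) :=
  MorphismProperty.of_isPullback (P := @IsFinite) (isPullback_μ S n).flip inferInstance

instance (n : ℕ) : Surjective (μ S n) :=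
  MorphismProperty.of_isPullback (P := @Surjective) (isPullback_μ S n).flip inferInstance

instance isIso_toBase_zero : IsIso (CohB1.ProjSpaceOver.toBase 0 S) := by
  have h0 : IsIso (CohB1.ProjSpace.toSpec 0 (ULift.{u} ℤ)) := Groth.Agent.S3581.result _
  unfold CohB1.ProjSpaceOver.toBase
  exact (IsPullback.of_hasPullback (CohB1.ProjSpace.toSpec 0 (ULift.{u} ℤ))
    (specULiftZIsTerminal.from S)).isIso_snd_of_isIso

instance isIso_base_zero :
    IsIso (WidePullback.base (fun _ : Fin 0 => CohB1.ProjSpaceOver.toBase 1 S)) := by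
  refine ⟨WidePullback.lift (𝟙 S) (fun j => j.elim0) (fun j => j.elim0), ?_, ?_⟩
  · apply WidePullback.hom_ext
    · intro j; exact j.elim0
    · rw [Category.assoc, WidePullback.lift_base, Category.comp_id, Category.id_comp]
  · exact WidePullback.lift_base _ _ _ _

theorem main (n : ℕ) :
    ∃ φ : widePullback S (fun _ : Fin n => CohB1.ProjSpaceOver 1 S)
        (fun _ => CohB1.ProjSpaceOver.toBase 1 S) ⟶ CohB1.ProjSpaceOver n S,
      IsFinite φ ∧ Surjective φ ∧
        φ ≫ CohB1.ProjSpaceOver.toBase n S =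
          WidePullback.base (fun _ => CohB1.ProjSpaceOver.toBase 1 S) := by
  induction n with
  | zero =>
    refine ⟨WidePullback.base (fun _ : Fin 0 => CohB1.ProjSpaceOver.toBase 1 S) ≫
      inv (CohB1.ProjSpaceOver.toBase 0 S), inferInstance, inferInstance, ?_⟩
    rw [Category.assoc, IsIso.inv_hom_id, Category.comp_id]
  | succ n ih =>
    obtain ⟨φ, hfin, hsurj, hφ⟩ := ih
    have hV := isPullback_widePower (CohB1.ProjSpaceOver.toBase 1 S) n
    let pm := prodMap (CohB1.ProjSpaceOver.toBase 1 S)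
      (WidePullback.base (fun _ : Fin n => CohB1.ProjSpaceOver.toBase 1 S))
      (CohB1.ProjSpaceOver.toBase n S) φ hφ _ _ hV
    have hpb := isPullback_prodMap (CohB1.ProjSpaceOver.toBase 1 S)
      (WidePullback.base (fun _ : Fin n => CohB1.ProjSpaceOver.toBase 1 S))
      (CohB1.ProjSpaceOver.toBase n S) φ hφ _ _ hV
    have h1 : IsFinite pm := MorphismProperty.of_isPullback (P := @IsFinite) hpb.flip hfin
    have h2 : Surjective pm := MorphismProperty.of_isPullback (P := @Surjective) hpb.flip hsurj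
    refine ⟨pm ≫ μ S n, inferInstance, inferInstance, ?_⟩
    rw [Category.assoc, μ_toBase, ← Category.assoc]
    have h3 : pm ≫ pullback.fst _ _ = WidePullback.π _ (Fin.last n) := prodMap_fst _ _ _ _ _ _ _ _
    rw [h3]
    exact WidePullback.π_arrow _ _

end Groth.Agent.Lib.helper19.LinProj14
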