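import Groth.Agent.Lib.helper19.LinProj3
import Groth.Agent.Lib.Helper28.ProjSect

/-!
# The comorphism of a linear projection on the standard charts (helper19)
-/

set_option autoImplicit false
universe u
open CategoryTheory CategoryTheory.Limits AlgebraicGeometry Opposite TopologicalSpace
open HomogeneousLocalization

noncomputable section

namespace Groth.Agent.Lib.helper19.LinProj15

open Groth.Agent.Lib.helper19.LinProj1 Groth.Agent.Lib.helper19.LinProj2 Groth.Agent.Lib.helper19.LinProj3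
open Groth.Agent.Lib.Helper28

variable {A B : Type u} [CommRing A] [CommRing B] {σ τ : Type u} [SetLike σ A]
  [AddSubgroupClass σ A] [SetLike τ B] [AddSubgroupClass τ B] {𝒜 : ℕ → σ} {ℬ : ℕ → τ}
  [GradedRing 𝒜] [GradedRing ℬ]

theorem appLE_congr {X Y : Scheme.{u}} {ψ ψ' : X ⟶ Y} (e : ψ = ψ') (U : Y.Opens) (V : X.Opens)
    (h1 : V ≤ ψ ⁻¹ᵁ U) (h2 : V ≤ ψ' ⁻¹ᵁ U) : ψ.appLE U V h1 = ψ'.appLE U V h2 := by
  subst e; rfl

/-- the comorphism of a morphism factoring through a standard chart -/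
theorem awayToSection_appLE_of_factor {T : Scheme.{u}} (s : Idx 𝒜) (h : T ⟶ Proj 𝒜)
    (k : T ⟶ Spec (CommRingCat.of (Away 𝒜 s.elt))) (hk : h = k ≫ Proj.awayι 𝒜 s.elt s.mem s.pos)
    (e : (⊤ : T.Opens) ≤ h ⁻¹ᵁ Proj.basicOpen 𝒜 s.elt) :
    Proj.awayToSection 𝒜 s.elt ≫ h.appLE (Proj.basicOpen 𝒜 s.elt) ⊤ e =
      (Scheme.ΓSpecIso _).inv ≫ k.appTop := by
  subst hk
  have h1 : (k ≫ Proj.awayι 𝒜 s.elt s.mem s.pos).appLE (Proj.basicOpen 𝒜 s.elt) ⊤ e =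
      (Proj.awayι 𝒜 s.elt s.mem s.pos).appLE (Proj.basicOpen 𝒜 s.elt) ⊤
        (by rw [ProjSect.awayι_preimage_self]) ≫ k.appLE ⊤ ⊤ le_top := by
    rw [Scheme.Hom.appLE_comp_appLE]
  rw [h1, ← Category.assoc, ProjSect.awayToSection_appLE 𝒜 s.pos s.mem]
  congr 1
  exact Scheme.Hom.appLE_eq_app k

variable (φ : 𝒜 →+*ᵍ ℬ) {X : Scheme.{u}} (i : X ⟶ Proj ℬ) (hi : ∀ x, i x ∈ U φ)

/-- the lift of an open of `X` mapping into `D₊(φ s)` to the chart -/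
def kk (s : Idx 𝒜) (W : X.Opens) (hW : W ≤ i ⁻¹ᵁ Proj.basicOpen ℬ (φ s.elt)) :
    (W : Scheme.{u}) ⟶ Spec (CommRingCat.of (Away ℬ (φ s.elt))) :=
  IsOpenImmersion.lift (Proj.awayι ℬ (φ s.elt) (mapMem φ s) s.pos) (W.ι ≫ i) (by
    rintro _ ⟨w, rfl⟩
    have h1 : (W.ι ≫ i) w ∈ Proj.basicOpen ℬ (φ s.elt) := hW w.2
    rw [← Proj.opensRange_awayι ℬ (φ s.elt) (mapMem φ s) s.pos] at h1
    exact h1)

theorem kk_awayι (s : Idx 𝒜) (W : X.Opens) (hW : W ≤ i ⁻¹ᵁ Proj.basicOpen ℬ (φ s.elt)) :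
    kk φ i s W hW ≫ Proj.awayι ℬ (φ s.elt) (mapMem φ s) s.pos = W.ι ≫ i :=
  IsOpenImmersion.lift_fac _ _ _

theorem kk_comp (s : Idx 𝒜) (W : X.Opens) (hW : W ≤ i ⁻¹ᵁ Proj.basicOpen ℬ (φ s.elt)) :
    W.ι ≫ comp φ i hi = (kk φ i s W hW ≫ Spec.map (CommRingCat.ofHom (Away.map φ s.elt))) ≫
      Proj.awayι 𝒜 s.elt s.mem s.pos := by
  have h1 : W.ι ≫ liftU φ i hi = kk φ i s W hW ≫ c φ s := by
    rw [← cancel_mono (U φ).ι, Category.assoc, Category.assoc, liftU_ι, c_ι, kk_awayι]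
  unfold comp
  rw [← Category.assoc, h1, Category.assoc, c_proj, Category.assoc]
  rfl

/-- **the comorphism of the projected morphism on a standard chart** -/
theorem awayToSection_comp_appLE (s : Idx 𝒜) (W : X.Opens)
    (hW : W ≤ i ⁻¹ᵁ Proj.basicOpen ℬ (φ s.elt))
    (hW' : W ≤ comp φ i hi ⁻¹ᵁ Proj.basicOpen 𝒜 s.elt) :
    Proj.awayToSection 𝒜 s.elt ≫ (comp φ i hi).appLE (Proj.basicOpen 𝒜 s.elt) W hW' =
      CommRingCat.ofHom (Away.map φ s.elt) ≫ Proj.awayToSection ℬ (φ s.elt) ≫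
        i.appLE (Proj.basicOpen ℬ (φ s.elt)) W hW := by
  have hiso : IsIso (W.ι.appLE W ⊤ (by simp)) := by
    have : W.ι.appLE W ⊤ (by simp) = W.topIso.inv := by
      rw [Scheme.Opens.ι_appLE, Scheme.Opens.topIso_inv]
      rfl
    rw [this]
    infer_instance
  rw [← cancel_mono (W.ι.appLE W ⊤ (by simp))]
  simp only [Category.assoc]
  rw [Scheme.Hom.appLE_comp_appLE, Scheme.Hom.appLE_comp_appLE]
  rw [awayToSection_appLE_of_factor s (W.ι ≫ comp φ i hi) _ (kk_comp φ i hi s W hW)]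
  have h2 := awayToSection_appLE_of_factor (𝒜 := ℬ) ⟨s.deg, s.pos, φ s.elt, mapMem φ s⟩ (W.ι ≫ i)
    (kk φ i s W hW) (kk_awayι φ i s W hW).symm (by
      intro w _
      exact hW w.2)
  rw [h2]
  rw [Scheme.Hom.comp_appTop, ← Category.assoc, ← Category.assoc]
  congr 1
  exact (Scheme.ΓSpecIso_inv_naturality _).symm

end Groth.Agent.Lib.helper19.LinProj15
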