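import Groth.Agent.Lib.helper19.LinProj1
import Groth.Agent.Lib.Helper28.ProjMapG

/-!
# Properties of the partial map `proj φ : U φ ⟶ Proj 𝒜` (helper19)
-/

set_option autoImplicit false
universe u
open CategoryTheory CategoryTheory.Limits AlgebraicGeometry Opposite TopologicalSpace
open HomogeneousLocalization

noncomputable section

namespace Groth.Agent.Lib.helper19.LinProj2

open Groth.Agent.Lib.helper19.LinProj1
open Groth.Agent.Lib.Helper28

variable {A B : Type u} [CommRing A] [CommRing B] {σ τ : Type u} [SetLike σ A]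
  [AddSubgroupClass σ A] [SetLike τ B] [AddSubgroupClass τ B] {𝒜 : ℕ → σ} {ℬ : ℕ → τ}
  [GradedRing 𝒜] [GradedRing ℬ] (φ : 𝒜 →+*ᵍ ℬ)

theorem map_isLocalizationElem (t s : Idx 𝒜) :
    Away.map φ t.elt (Away.isLocalizationElem t.mem s.mem) =
      Away.isLocalizationElem (mapMem φ t) (mapMem φ s) := by
  unfold Away.isLocalizationElem
  rw [Away.map_mk]
  apply HomogeneousLocalization.val_injective
  rw [Away.val_mk, Away.val_mk, map_pow]

set_option backward.isDefEq.respectTransparency false in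
theorem g_mem_basicOpen_iff (t s : Idx 𝒜) (w : W φ t) :
    g φ t w ∈ Proj.basicOpen 𝒜 s.elt ↔
      Proj.awayι ℬ (φ t.elt) (mapMem φ t) t.pos w ∈ Proj.basicOpen ℬ (φ s.elt) := by
  have h1 := ProjChart.awayι_mem_basicOpen_iff 𝒜 t.mem s.mem t.pos
    (Spec.map (CommRingCat.ofHom (Away.map φ t.elt)) w)
  have h2 := ProjChart.awayι_mem_basicOpen_iff ℬ (mapMem φ t) (mapMem φ s) t.pos w
  unfold g
  rw [Scheme.Hom.comp_apply]
  refine h1.trans (Iff.trans ?_ h2.symm)
  rw [← map_isLocalizationElem]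
  exact Iff.rfl

theorem proj_mem_basicOpen_iff (s : Idx 𝒜) (x : (U φ).toScheme) :
    proj φ x ∈ Proj.basicOpen 𝒜 s.elt ↔ (U φ).ι x ∈ Proj.basicOpen ℬ (φ s.elt) := by
  obtain ⟨t, w, rfl⟩ := cover φ x
  rw [← Scheme.Hom.comp_apply, ← Scheme.Hom.comp_apply, c_proj, c_ι]
  exact g_mem_basicOpen_iff φ t s w

theorem proj_preimage_basicOpen (s : Idx 𝒜) :
    proj φ ⁻¹ᵁ Proj.basicOpen 𝒜 s.elt = (U φ).ι ⁻¹ᵁ Proj.basicOpen ℬ (φ s.elt) := by
  ext x
  exact proj_mem_basicOpen_iff φ s x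

/-- compatibility with the structure maps to the degree-zero spectra -/
theorem proj_toSpecZero :
    proj φ ≫ Proj.toSpecZero 𝒜 =
      (U φ).ι ≫ Proj.toSpecZero ℬ ≫ Spec.map (CommRingCat.ofHom (ProjMapG.zeroHom φ)) := by
  refine (Glue.cov (W φ) (c φ) (cover φ)).hom_ext _ _ fun (s : Idx 𝒜) => ?_
  change c φ s ≫ proj φ ≫ Proj.toSpecZero 𝒜 = c φ s ≫ (U φ).ι ≫ _
  rw [c_proj_assoc, c_ι_assoc]
  unfold g
  rw [Category.assoc, Proj.awayι_toSpecZero, Proj.awayι_toSpecZero_assoc, ← Spec.map_comp,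
    ← Spec.map_comp]
  congr 1
  ext x
  exact congrArg val (ProjMapG.away_map_fromZero φ _ x)

section chart

variable {T : Type u} [CommRing T] (H : B →+* T)

/-- a morphism from an affine scheme into a chart of `U φ` -/
def chartLift (s : Idx 𝒜) (hu : IsUnit (H (φ s.elt))) :
    Spec (CommRingCat.of T) ⟶ (U φ).toScheme :=
  Spec.map (CommRingCat.ofHom (Segre1.awayLift ℬ H hu)) ≫ c φ s

theorem chartLift_ι (s : Idx 𝒜) (hu : IsUnit (H (φ s.elt))) :
    chartLift φ H s hu ≫ (U φ).ι = Segre1.chartMap ℬ H (mapMem φ s) s.pos hu := by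
  unfold chartLift Segre1.chartMap
  rw [Category.assoc, c_ι]

theorem awayLift_comp_map (s : Idx 𝒜) (hu : IsUnit (H (φ s.elt))) :
    (Segre1.awayLift ℬ H hu).comp (Away.map φ s.elt) =
      Segre1.awayLift 𝒜 (H.comp φ.toRingHom) (t := s.elt) hu := by
  apply Segre1.awayLift_unique 𝒜 (H.comp φ.toRingHom) hu s.mem
  intro k a ha
  change Segre1.awayLift ℬ H hu (Away.map φ s.elt (Away.mk 𝒜 s.mem k a ha)) * H (φ s.elt) ^ k =
    H (φ a)
  rw [Away.map_mk]
  exact Segre1.awayLift_mk ℬ H hu (mapMem φ s) k (φ a) (φ.map_mem ha)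

theorem chartLift_proj (s : Idx 𝒜) (hu : IsUnit (H (φ s.elt))) :
    chartLift φ H s hu ≫ proj φ =
      Segre1.chartMap 𝒜 (H.comp φ.toRingHom) s.mem s.pos hu := by
  unfold chartLift Segre1.chartMap
  rw [Category.assoc, c_proj]
  unfold g
  rw [← Category.assoc, ← Spec.map_comp, ← CommRingCat.ofHom_comp, awayLift_comp_map]

end chart

end Groth.Agent.Lib.helper19.LinProj2
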