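import Groth.Agent.Lib.helper19.LinProj2

/-!
# Projecting a scheme mapping into the domain of a linear projection (helper19)

For `φ : 𝒜 →+*ᵍ ℬ` and `i : X ⟶ Proj ℬ` whose image avoids the centre of the projection (i.e. lies
in `U φ`), the composite `X ⟶ Proj 𝒜`; it is an affine morphism as soon as `i` is.
-/

set_option autoImplicit false
universe u
open CategoryTheory CategoryTheory.Limits AlgebraicGeometry Opposite TopologicalSpace
open HomogeneousLocalization

noncomputable section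

namespace Groth.Agent.Lib.helper19.LinProj3

open Groth.Agent.Lib.helper19.LinProj1 Groth.Agent.Lib.helper19.LinProj2
open Groth.Agent.Lib.Helper28

variable {A B : Type u} [CommRing A] [CommRing B] {σ τ : Type u} [SetLike σ A]
  [AddSubgroupClass σ A] [SetLike τ B] [AddSubgroupClass τ B] {𝒜 : ℕ → σ} {ℬ : ℕ → τ}
  [GradedRing 𝒜] [GradedRing ℬ] (φ : 𝒜 →+*ᵍ ℬ)

theorem exists_idx (p : Proj 𝒜) : ∃ s : Idx 𝒜, p ∈ Proj.basicOpen 𝒜 s.elt := by
  have h := (Proj.affineOpenCover 𝒜).covers p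
  set i := (Proj.affineOpenCover 𝒜).idx p with hi
  refine ⟨⟨i.1, i.1.2, i.2, i.2.2⟩, ?_⟩
  rw [← Proj.opensRange_awayι 𝒜 (i.2 : A) i.2.2 i.1.2]
  exact h

variable {X : Scheme.{u}} (i : X ⟶ Proj ℬ) (hi : ∀ x, i x ∈ U φ)

include hi in
theorem range_le : Set.range i ⊆ Set.range (U φ).ι := by
  rw [Scheme.Opens.range_ι]
  rintro _ ⟨x, rfl⟩
  exact hi x

/-- the factorisation of `i` through the domain of the projection -/
def liftU : X ⟶ (U φ).toScheme := IsOpenImmersion.lift (U φ).ι i (range_le φ i hi)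

@[reassoc]
theorem liftU_ι : liftU φ i hi ≫ (U φ).ι = i := IsOpenImmersion.lift_fac _ _ _

/-- the projected morphism -/
def comp : X ⟶ Proj 𝒜 := liftU φ i hi ≫ proj φ

theorem comp_mem_basicOpen_iff (s : Idx 𝒜) (x : X) :
    comp φ i hi x ∈ Proj.basicOpen 𝒜 s.elt ↔ i x ∈ Proj.basicOpen ℬ (φ s.elt) := by
  unfold comp
  rw [Scheme.Hom.comp_apply, proj_mem_basicOpen_iff, ← Scheme.Hom.comp_apply, liftU_ι]

theorem comp_preimage_basicOpen (s : Idx 𝒜) :
    comp φ i hi ⁻¹ᵁ Proj.basicOpen 𝒜 s.elt = i ⁻¹ᵁ Proj.basicOpen ℬ (φ s.elt) := by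
  ext x
  exact comp_mem_basicOpen_iff φ i hi s x

theorem isAffineHom_comp [IsAffineHom i] : IsAffineHom (comp φ i hi) := by
  apply isAffineHom_of_forall_exists_isAffineOpen
  intro p
  obtain ⟨s, hs⟩ := exists_idx p
  refine ⟨Proj.basicOpen 𝒜 s.elt, hs, Proj.isAffineOpen_basicOpen 𝒜 s.elt s.mem s.pos, ?_⟩
  rw [comp_preimage_basicOpen]
  exact (Proj.isAffineOpen_basicOpen ℬ (φ s.elt) (mapMem φ s) s.pos).preimage i

theorem comp_toSpecZero :
    comp φ i hi ≫ Proj.toSpecZero 𝒜 =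
      i ≫ Proj.toSpecZero ℬ ≫ Spec.map (CommRingCat.ofHom (ProjMapG.zeroHom φ)) := by
  unfold comp
  rw [Category.assoc, proj_toSpecZero, liftU_ι_assoc]

section chart

variable {T : Type u} [CommRing T] (H : B →+* T)

/-- precomposing with a morphism from an affine scheme given by a ring homomorphism `H` -/
theorem chartMap_comp (s : Idx 𝒜) (hu : IsUnit (H (φ s.elt))) (k : Spec (CommRingCat.of T) ⟶ X)
    (hk : k ≫ i = Segre1.chartMap ℬ H (mapMem φ s) s.pos hu) :
    k ≫ comp φ i hi = Segre1.chartMap 𝒜 (H.comp φ.toRingHom) s.mem s.pos hu := by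
  have h1 : k ≫ liftU φ i hi = chartLift φ H s hu := by
    rw [← cancel_mono (U φ).ι, Category.assoc, liftU_ι, chartLift_ι, hk]
  unfold comp
  rw [← Category.assoc, h1, chartLift_proj]

end chart

end Groth.Agent.Lib.helper19.LinProj3
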