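import Mathlib

/-!
# Coefficients of a product of two polynomials with unit content do not lie in a prime (helper19)
-/

set_option autoImplicit false
open Polynomial

namespace Groth.Agent.Lib.helper19.LinProj4

theorem exists_coeff_notMem {D : Type*} [CommRing D] (w : Ideal D) [w.IsPrime]
    {I J : Type*} [Fintype I] [Fintype J] (dI : I → ℕ) (dJ : J → ℕ) (u : I → D) (v : J → D)
    (i0 : I) (j0 : J) (hu : u i0 = 1) (hv : v j0 = 1) (hdI : Function.Injective dI)
    (hdJ : Function.Injective dJ) :
    ∃ k, (∑ p : I × J, if dI p.1 + dJ p.2 = k then u p.1 * v p.2 else 0) ∉ w := by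
  classical
  let q := Ideal.Quotient.mk w
  let P : (D ⧸ w)[X] := ∑ i, C (q (u i)) * X ^ (dI i)
  let Q : (D ⧸ w)[X] := ∑ j, C (q (v j)) * X ^ (dJ j)
  have hP : P.coeff (dI i0) = 1 := by
    simp only [P, finset_sum_coeff, coeff_C_mul, coeff_X_pow]
    rw [Finset.sum_eq_single i0]
    · simp [hu]
    · intro b _ hb
      have : dI i0 ≠ dI b := fun h => hb (hdI h).symm
      simp [this]
    · intro h; exact absurd (Finset.mem_univ _) h
  have hQ : Q.coeff (dJ j0) = 1 := by
    simp only [Q, finset_sum_coeff, coeff_C_mul, coeff_X_pow]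
    rw [Finset.sum_eq_single j0]
    · simp [hv]
    · intro b _ hb
      have : dJ j0 ≠ dJ b := fun h => hb (hdJ h).symm
      simp [this]
    · intro h; exact absurd (Finset.mem_univ _) h
  have hP0 : P ≠ 0 := fun h => by rw [h, coeff_zero] at hP; exact zero_ne_one hP
  have hQ0 : Q ≠ 0 := fun h => by rw [h, coeff_zero] at hQ; exact zero_ne_one hQ
  have hPQ : P * Q ≠ 0 := mul_ne_zero hP0 hQ0
  obtain ⟨k, hk⟩ : ∃ k, (P * Q).coeff k ≠ 0 := by
    by_contra h
    push_neg at h
    exact hPQ (Polynomial.ext fun k => by rw [h k, coeff_zero])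
  refine ⟨k, fun hmem => hk ?_⟩
  have h1 : (P * Q).coeff k =
      q (∑ p : I × J, if dI p.1 + dJ p.2 = k then u p.1 * v p.2 else 0) := by
    simp only [P, Q, Finset.sum_mul_sum, finset_sum_coeff]
    rw [map_sum, Fintype.sum_prod_type]
    refine Finset.sum_congr rfl fun i _ => Finset.sum_congr rfl fun j _ => ?_
    have : C (q (u i)) * X ^ dI i * (C (q (v j)) * X ^ dJ j) =
        C (q (u i * v j)) * X ^ (dI i + dJ j) := by
      rw [map_mul, C_mul, pow_add]; ring
    rw [this, coeff_C_mul, coeff_X_pow]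
    split_ifs with h1 h2 h2
    · simp
    · exact absurd h1.symm h2
    · exact absurd h2.symm h1
    · simp
  rw [h1]
  exact Ideal.Quotient.eq_zero_iff_mem.2 hmem

end Groth.Agent.Lib.helper19.LinProj4
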