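import Groth.Agent.Lib.helper19.LinProj3
import Groth.Agent.Lib.helper19.LinProj4
import Groth.Agent.Lib.Helper28.Segre5
import Groth.Prelude.Def_CohB1

/-!
# The multiplication morphism `P¹ × Pⁿ ⟶ Pⁿ⁺¹` (helper19)

`((a₀ : a₁), (b₀ : … : bₙ)) ↦` coefficients of `(a₀ + a₁ t)(b₀ + … + bₙ tⁿ)`: the Segre embedding
followed by a linear projection.
-/

set_option autoImplicit false
universe u
open CategoryTheory CategoryTheory.Limits AlgebraicGeometry Opposite TopologicalSpace
open HomogeneousLocalization TensorProduct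

noncomputable section

namespace Groth.Agent.Lib.helper19.LinProj5

open Groth.Agent.Lib.helper19.LinProj1 Groth.Agent.Lib.helper19.LinProj2 Groth.Agent.Lib.helper19.LinProj3
open Groth.Agent.Lib.Helper28
open Groth.Agent.Lib.Helper28.ProjClosed (fr fr_of_mem)

attribute [local instance] MvPolynomial.gradedAlgebra

variable (R : Type u) [CommRing R] (n : ℕ)

/-- index type of the coordinates of `P¹` -/
abbrev I (_R : Type u) : Type u := ULift.{u} (Fin (1 + 1))

/-- index type of the coordinates of `Pⁿ` -/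
abbrev J (_R : Type u) (n : ℕ) : Type u := ULift.{u} (Fin (n + 1))

/-- the grading of the coordinate ring of the ambient space of the Segre embedding -/
abbrev ℬ : ℕ → Submodule R (MvPolynomial (I R × J R n) R) :=
  MvPolynomial.homogeneousSubmodule (I R × J R n) R

/-- coordinates of `P¹` -/
def xs : I R → MvPolynomial (Fin (1 + 1)) R := fun i => MvPolynomial.X i.down

/-- coordinates of `Pⁿ` -/
def ys : J R n → MvPolynomial (Fin (n + 1)) R := fun j => MvPolynomial.X j.down

theorem hxs (i : I R) : xs R i ∈ CohB1.polyGrading 1 R 1 :=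
  (MvPolynomial.mem_homogeneousSubmodule 1 _).mpr (MvPolynomial.isHomogeneous_X R i.down)

theorem hys (j : J R n) : ys R n j ∈ CohB1.polyGrading n R 1 :=
  (MvPolynomial.mem_homogeneousSubmodule 1 _).mpr (MvPolynomial.isHomogeneous_X R j.down)

theorem adjoin_xs : Algebra.adjoin R (Set.range (xs R)) = ⊤ := by
  have : Set.range (xs R) = Set.range (MvPolynomial.X : Fin (1 + 1) → MvPolynomial (Fin (1 + 1)) R) := by
    ext p
    constructor
    · rintro ⟨i, rfl⟩; exact ⟨i.down, rfl⟩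
    · rintro ⟨i, rfl⟩; exact ⟨⟨i⟩, rfl⟩
  rw [this, MvPolynomial.adjoin_range_X]

theorem adjoin_ys : Algebra.adjoin R (Set.range (ys R n)) = ⊤ := by
  have : Set.range (ys R n) =
      Set.range (MvPolynomial.X : Fin (n + 1) → MvPolynomial (Fin (n + 1)) R) := by
    ext p
    constructor
    · rintro ⟨i, rfl⟩; exact ⟨i.down, rfl⟩
    · rintro ⟨i, rfl⟩; exact ⟨⟨i⟩, rfl⟩
  rw [this, MvPolynomial.adjoin_range_X]

theorem hcA (p : Proj (CohB1.polyGrading 1 R)) :
    ∃ i, p ∈ Proj.basicOpen (CohB1.polyGrading 1 R) (xs R i) :=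
  Segre5.cover_of_adjoin (CohB1.polyGrading 1 R) (xs R) (hxs R) (adjoin_xs R) p

theorem hcB (p : Proj (CohB1.polyGrading n R)) :
    ∃ j, p ∈ Proj.basicOpen (CohB1.polyGrading n R) (ys R n j) :=
  Segre5.cover_of_adjoin (CohB1.polyGrading n R) (ys R n) (hys R n) (adjoin_ys R n) p

/-- the product `P¹_R ×_R Pⁿ_R` -/
abbrev X : Scheme.{u} :=
  pullback (Segre2.str (CohB1.polyGrading 1 R)) (Segre2.str (CohB1.polyGrading n R))

/-- the Segre embedding -/
def seg : X R n ⟶ Proj (ℬ R n) :=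
  Segre4.segre (CohB1.polyGrading 1 R) (CohB1.polyGrading n R) (xs R) (hxs R) (ys R n) (hys R n)
    (hcA R) (hcB R n)

instance : IsClosedImmersion (seg R n) := by
  unfold seg
  refine Segre4.isClosedImmersion_segre _ _ _ _ _ _ _ _ ?_
    (Segre5.θ_surjective _ _ _ _ _ _ (adjoin_xs R) (adjoin_ys R n))
  exact Segre5.irrelevant_le_span (MvPolynomial.homogeneousSubmodule (I R × J R n) R)
    (fun t : I R × J R n => (MvPolynomial.X t : MvPolynomial (I R × J R n) R)) (fun t => Segre3.X_mem t)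
    (MvPolynomial.adjoin_range_X)

/-- the linear forms defining the projection: the coefficients of the product -/
def ℓ (k : Fin (n + 1 + 1)) : MvPolynomial (I R × J R n) R :=
  ∑ p : I R × J R n, if (p.1.down : ℕ) + (p.2.down : ℕ) = (k : ℕ) then MvPolynomial.X p else 0

theorem ℓ_isHomogeneous (k : Fin (n + 1 + 1)) : (ℓ R n k).IsHomogeneous 1 := by
  unfold ℓ
  apply MvPolynomial.IsHomogeneous.sum
  intro p _
  split_ifs
  · exact MvPolynomial.isHomogeneous_X R p
  · exact MvPolynomial.isHomogeneous_zero _ _ _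

/-- the graded homomorphism of the linear projection -/
def φ : CohB1.polyGrading (n + 1) R →+*ᵍ ℬ R n where
  toRingHom := (MvPolynomial.aeval (ℓ R n) :
    MvPolynomial (Fin (n + 1 + 1)) R →ₐ[R] MvPolynomial (I R × J R n) R).toRingHom
  map_mem := by
    intro i x hx
    have h := MvPolynomial.IsHomogeneous.aeval
      ((MvPolynomial.mem_homogeneousSubmodule i x).1 hx) (ℓ R n) (ℓ_isHomogeneous R n)
    rw [one_mul] at h
    exact (MvPolynomial.mem_homogeneousSubmodule i _).2 h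

theorem φ_apply (x : MvPolynomial (Fin (n + 1 + 1)) R) :
    φ R n x = MvPolynomial.aeval (ℓ R n) x := rfl

theorem φ_X (k : Fin (n + 1 + 1)) : φ R n (MvPolynomial.X k) = ℓ R n k := by
  rw [φ_apply, MvPolynomial.aeval_X]

/-- the index of the coordinate `Z_k` -/
def idx (k : Fin (n + 1 + 1)) : Idx (CohB1.polyGrading (n + 1) R) where
  deg := 1
  pos := one_pos
  elt := MvPolynomial.X k
  mem := (MvPolynomial.mem_homogeneousSubmodule 1 _).mpr (MvPolynomial.isHomogeneous_X R k)

theorem ℓ_mem (k : Fin (n + 1 + 1)) : ℓ R n k ∈ ℬ R n 1 :=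
  (MvPolynomial.mem_homogeneousSubmodule 1 _).mpr (ℓ_isHomogeneous R n k)

theorem F_ℓ (t : I R × J R n) (k : Fin (n + 1 + 1)) :
    Segre3.F (CohB1.polyGrading 1 R) (CohB1.polyGrading n R) (xs R) (hxs R) (ys R n) (hys R n)
        t.1 t.2 (ℓ R n k) =
      ∑ p : I R × J R n, if (p.1.down : ℕ) + (p.2.down : ℕ) = (k : ℕ) then
        (fr (CohB1.polyGrading 1 R) (hxs R t.1) 1 (xs R p.1) ⊗ₜ[R] (1 : Away (CohB1.polyGrading n R) (ys R n t.2))) *
          ((1 : Away (CohB1.polyGrading 1 R) (xs R t.1)) ⊗ₜ[R]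
            fr (CohB1.polyGrading n R) (hys R n t.2) 1 (ys R n p.2)) else 0 := by
  unfold ℓ
  rw [map_sum]
  refine Finset.sum_congr rfl fun p _ => ?_
  split_ifs
  · rw [Segre3.F_X, Algebra.TensorProduct.tmul_mul_tmul, mul_one, one_mul]
  · rw [map_zero]

set_option backward.isDefEq.respectTransparency false in
theorem seg_mem_U (x : X R n) : seg R n x ∈ U (φ R n) := by
  obtain ⟨t, w, rfl⟩ := Segre4.cover (CohB1.polyGrading 1 R) (CohB1.polyGrading n R) (xs R)
    (hxs R) (ys R n) (hys R n) (hcA R) (hcB R n) x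
  rw [mem_U_iff]
  have hw : w.asIdeal.IsPrime := w.isPrime
  obtain ⟨k, hk⟩ := Groth.Agent.Lib.helper19.LinProj4.exists_coeff_notMem w.asIdeal
    (fun i : I R => (i.down : ℕ)) (fun j : J R n => (j.down : ℕ))
    (fun i : I R => (fr (CohB1.polyGrading 1 R) (hxs R t.1) 1 (xs R i) ⊗ₜ[R]
      (1 : Away (CohB1.polyGrading n R) (ys R n t.2))))
    (fun j : J R n => ((1 : Away (CohB1.polyGrading 1 R) (xs R t.1)) ⊗ₜ[R]
      fr (CohB1.polyGrading n R) (hys R n t.2) 1 (ys R n j)))
    t.1 t.2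
    (by rw [Segre3.fr_self]; rfl) (by rw [Segre3.fr_self]; rfl)
    (fun a b h => ULift.ext _ _ (Fin.ext h)) (fun a b h => ULift.ext _ _ (Fin.ext h))
  have hk' : k < n + 1 + 1 := by
    by_contra hlt
    apply hk
    rw [Finset.sum_eq_zero]
    · exact zero_mem _
    · intro p _
      rw [if_neg]
      have h1 := p.1.down.isLt
      have h2 := p.2.down.isLt
      omega
  refine ⟨idx R n ⟨k, hk'⟩, ?_⟩
  change seg R n _ ∈ Proj.basicOpen (ℬ R n) (φ R n (MvPolynomial.X _))
  rw [φ_X, ← Scheme.Hom.comp_apply]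
  unfold seg
  rw [Segre4.cc_segre]
  unfold Segre4.gg Segre3.gch
  rw [Segre1.chartMap_mem_basicOpen_iff _ _ _ _ _ (ℓ_mem R n _)]
  change Segre3.F _ _ _ _ _ _ t.1 t.2 (ℓ R n ⟨k, hk'⟩) ∉ w.asIdeal
  rw [F_ℓ]
  exact hk

/-- **the multiplication morphism** `P¹_R ×_R Pⁿ_R ⟶ Pⁿ⁺¹_R` -/
def mult : X R n ⟶ Proj (CohB1.polyGrading (n + 1) R) :=
  comp (φ R n) (seg R n) (seg_mem_U R n)

instance : IsAffineHom (mult R n) := by
  unfold mult
  exact isAffineHom_comp (φ R n) (seg R n) (seg_mem_U R n)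

end Groth.Agent.Lib.helper19.LinProj5
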