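import Groth.Agent.Lib.helper19.LinProj5
import Groth.Agent.Lib.Helper28.ProjSpaceBasic

/-!
# The multiplication morphism is finite (helper19)
-/

set_option autoImplicit false
universe u
open CategoryTheory CategoryTheory.Limits AlgebraicGeometry Opposite TopologicalSpace
open HomogeneousLocalization TensorProduct

noncomputable section

namespace Groth.Agent.Lib.helper19.LinProj6

open Groth.Agent.Lib.helper19.LinProj1 Groth.Agent.Lib.helper19.LinProj2 Groth.Agent.Lib.helper19.LinProj3
  Groth.Agent.Lib.helper19.LinProj5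
open Groth.Agent.Lib.Helper28
open Groth.Agent.Lib.Helper28.ProjClosed (fr fr_of_mem)

attribute [local instance] MvPolynomial.gradedAlgebra

section general

variable {C : Type u} [CommRing C] {σ : Type*} [SetLike σ C] [AddSubgroupClass σ C]
  (𝒞 : ℕ → σ) [GradedRing 𝒞] {T : Type u} [CommRing T] (F : C →+* T)

theorem awayLift_fromZero {t : C} (hu : IsUnit (F t)) (x : 𝒞 0) :
    Segre1.awayLift 𝒞 F hu (fromZeroRingHom 𝒞 _ x) = F x := by
  unfold Segre1.awayLift
  change (IsLocalization.Away.lift (S := Localization.Away t) t hu)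
    (algebraMap (Away 𝒞 t) (Localization.Away t) (fromZeroRingHom 𝒞 _ x)) = F x
  have h1 : algebraMap (Away 𝒞 t) (Localization.Away t) (fromZeroRingHom 𝒞 _ x) =
      algebraMap C (Localization.Away t) x := by
    rw [HomogeneousLocalization.algebraMap_apply]
    change Localization.mk (x : C) 1 = _
    rw [Localization.mk_one_eq_algebraMap]
  rw [h1, IsLocalization.Away.lift_eq]

end general

section str

variable {R C : Type u} [CommRing R] [CommRing C] [Algebra R C] (𝒞 : ℕ → Submodule R C)
  [GradedAlgebra 𝒞] {T : Type u} [CommRing T] [Algebra R T] (F : C →ₐ[R] T)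

theorem chartMap_str {t : C} {d : ℕ} (ht : t ∈ 𝒞 d) (hd : 0 < d) (hu : IsUnit (F.toRingHom t)) :
    Segre1.chartMap 𝒞 F.toRingHom ht hd hu ≫ Segre2.str 𝒞 =
      Spec.map (CommRingCat.ofHom (algebraMap R T)) := by
  unfold Segre1.chartMap
  rw [Category.assoc, Segre2.awayι_str, ← Spec.map_comp, ← CommRingCat.ofHom_comp]
  congr 2
  ext r
  change Segre1.awayLift 𝒞 F.toRingHom hu (algebraMap R (Away 𝒞 t) r) = _
  rw [Segre2.algebraMap_away, awayLift_fromZero]
  exact F.commutes r

end str

variable (R : Type u) [CommRing R] (n : ℕ)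

/-- the charts of the product -/
abbrev cc (t : I R × J R n) :
    Segre4.W (CohB1.polyGrading 1 R) (CohB1.polyGrading n R) (xs R) (ys R n) t ⟶ X R n :=
  Segre4.cc (CohB1.polyGrading 1 R) (CohB1.polyGrading n R) (xs R) (hxs R) (ys R n) (hys R n) t

/-- the Segre homomorphism on the chart `t` -/
abbrev FF (t : I R × J R n) : MvPolynomial (I R × J R n) R →ₐ[R]
    Away (CohB1.polyGrading 1 R) (xs R t.1) ⊗[R] Away (CohB1.polyGrading n R) (ys R n t.2) :=
  Segre3.F (CohB1.polyGrading 1 R) (CohB1.polyGrading n R) (xs R) (hxs R) (ys R n) (hys R n) t.1 t.2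

theorem isUnit_FF (t : I R × J R n) : IsUnit ((FF R n t).toRingHom (MvPolynomial.X t)) :=
  Segre3.isUnit_F_self (CohB1.polyGrading 1 R) (CohB1.polyGrading n R) (xs R) (hxs R) (ys R n)
    (hys R n) t.1 t.2

theorem cover_cc (x : X R n) : ∃ t, x ∈ Set.range (cc R n t) :=
  Segre4.cover (CohB1.polyGrading 1 R) (CohB1.polyGrading n R) (xs R) (hxs R) (ys R n) (hys R n)
    (hcA R) (hcB R n) x

theorem cc_seg (t : I R × J R n) :
    cc R n t ≫ seg R n =
      Segre1.chartMap (ℬ R n) (FF R n t).toRingHom (Segre3.X_mem t) one_pos (isUnit_FF R n t) :=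
  Segre4.cc_segre (CohB1.polyGrading 1 R) (CohB1.polyGrading n R) (xs R) (hxs R) (ys R n) (hys R n)
    (hcA R) (hcB R n) t

theorem cc_fst (t : I R × J R n) :
    cc R n t ≫ pullback.fst _ _ =
      Spec.map (CommRingCat.ofHom (Algebra.TensorProduct.includeLeftRingHom :
        Away (CohB1.polyGrading 1 R) (xs R t.1) →+*
          Away (CohB1.polyGrading 1 R) (xs R t.1) ⊗[R] Away (CohB1.polyGrading n R) (ys R n t.2))) ≫
        Proj.awayι (CohB1.polyGrading 1 R) (xs R t.1) (hxs R t.1) one_pos :=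
  Segre2.c_fst _ _ _ _ _ _

theorem seg_str : seg R n ≫ Segre2.str (ℬ R n) =
    pullback.fst _ _ ≫ Segre2.str (CohB1.polyGrading 1 R) := by
  refine (Glue.cov _ (cc R n) (cover_cc R n)).hom_ext _ _ fun (t : I R × J R n) => ?_
  change cc R n t ≫ seg R n ≫ _ = cc R n t ≫ _ ≫ _
  rw [← Category.assoc, cc_seg, chartMap_str, ← Category.assoc, cc_fst, Category.assoc,
    Segre2.awayι_str, ← Spec.map_comp, ← CommRingCat.ofHom_comp]

end Groth.Agent.Lib.helper19.LinProj6
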