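import Groth.Agent.Lib.helper19.LinProj6

/-!
# The multiplication morphism is finite (helper19)
-/

set_option autoImplicit false
universe u
open CategoryTheory CategoryTheory.Limits AlgebraicGeometry Opposite TopologicalSpace
open HomogeneousLocalization TensorProduct

noncomputable section

namespace Groth.Agent.Lib.helper19.LinProj7

open Groth.Agent.Lib.helper19.LinProj1 Groth.Agent.Lib.helper19.LinProj2 Groth.Agent.Lib.helper19.LinProj3
  Groth.Agent.Lib.helper19.LinProj5 Groth.Agent.Lib.helper19.LinProj6
open Groth.Agent.Lib.Helper28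

attribute [local instance] MvPolynomial.gradedAlgebra

variable (R : Type u) [CommRing R] (n : ℕ)

theorem isProper_str (m : ℕ) : IsProper (Segre2.str (CohB1.polyGrading m R)) :=
  ProjSpaceBasic.isProper_toSpec m R

theorem zeroHom_comp_algebraMap :
    (ProjMapG.zeroHom (φ R n)).comp (algebraMap R (CohB1.polyGrading (n + 1) R 0)) =
      algebraMap R (ℬ R n 0) := by
  refine RingHom.ext fun r => Subtype.ext ?_
  change φ R n (algebraMap R (MvPolynomial (Fin (n + 1 + 1)) R) r) = algebraMap R _ r
  rw [φ_apply, AlgHom.commutes]

theorem mult_str : mult R n ≫ Segre2.str (CohB1.polyGrading (n + 1) R) =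
    pullback.fst _ _ ≫ Segre2.str (CohB1.polyGrading 1 R) := by
  rw [← seg_str]
  unfold mult Segre2.str
  rw [← Category.assoc, comp_toSpecZero, Category.assoc, Category.assoc, ← Spec.map_comp,
    ← CommRingCat.ofHom_comp, zeroHom_comp_algebraMap]

instance isProper_X : IsProper (pullback.fst (Segre2.str (CohB1.polyGrading 1 R))
    (Segre2.str (CohB1.polyGrading n R)) ≫ Segre2.str (CohB1.polyGrading 1 R)) := by
  have h1 := isProper_str R 1
  have h2 := isProper_str R n
  have h3 : IsProper (pullback.fst (Segre2.str (CohB1.polyGrading 1 R))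
      (Segre2.str (CohB1.polyGrading n R))) := MorphismProperty.pullback_fst _ _ h2
  infer_instance

instance isProper_mult : IsProper (mult R n) := by
  have h1 : IsProper (mult R n ≫ Segre2.str (CohB1.polyGrading (n + 1) R)) := by
    rw [mult_str]; infer_instance
  have h2 := isProper_str R (n + 1)
  exact IsProper.of_comp (mult R n) (Segre2.str (CohB1.polyGrading (n + 1) R))

instance isFinite_mult : IsFinite (mult R n) :=
  IsFinite.iff_isProper_and_isAffineHom.mpr ⟨inferInstance, inferInstance⟩

end Groth.Agent.Lib.helper19.LinProj7
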