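import Groth.Agent.Lib.helper19.LinProj7

/-!
# Dehomogenisation on a standard chart of projective space (helper19)
-/

set_option autoImplicit false
universe u
open CategoryTheory CategoryTheory.Limits AlgebraicGeometry Opposite TopologicalSpace
open HomogeneousLocalization TensorProduct

noncomputable section

namespace Groth.Agent.Lib.helper19.LinProj8

open Groth.Agent.Lib.Helper28
open Groth.Agent.Lib.Helper28.ProjClosed (fr fr_of_mem pw)

attribute [local instance] MvPolynomial.gradedAlgebra

section twist

variable {R : Type*} [CommRing R] {σ : Type*} {T : Type*} [CommRing T]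

/-- two ring homomorphisms out of a polynomial ring which agree on constants and whose values on the
variables differ by a fixed factor `u` differ by `u ^ k` on homogeneous polynomials of degree `k` -/
theorem ringHom_twist (G G' : MvPolynomial σ R →+* T) (u : T)
    (hC : ∀ r, G' (MvPolynomial.C r) = G (MvPolynomial.C r))
    (h : ∀ s, G' (MvPolynomial.X s) = u * G (MvPolynomial.X s)) (k : ℕ) (a : MvPolynomial σ R)
    (ha : a.IsHomogeneous k) : G' a = u ^ k * G a := by
  classical
  rw [a.as_sum, map_sum, map_sum, Finset.mul_sum]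
  refine Finset.sum_congr rfl fun m hm => ?_
  have hdeg : k = ∑ i ∈ m.support, m i :=
    MvPolynomial.IsHomogeneous.degree_eq_sum_deg_support ha hm
  rw [MvPolynomial.monomial_eq, map_mul, map_mul, hC, Finsupp.prod, map_prod, map_prod]
  simp only [map_pow, h, mul_pow]
  rw [Finset.prod_mul_distrib, Finset.prod_pow_eq_pow_sum]
  rw [← hdeg]
  ring

end twist

variable (R : Type u) [CommRing R] (m : ℕ) (k : Fin (m + 1))

theorem X_mem (l : Fin (m + 1)) :
    (MvPolynomial.X l : MvPolynomial (Fin (m + 1)) R) ∈ CohB1.polyGrading m R 1 :=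
  (MvPolynomial.mem_homogeneousSubmodule 1 _).mpr (MvPolynomial.isHomogeneous_X R l)

/-- dehomogenisation with respect to the `k`-th coordinate -/
def dehom : MvPolynomial (Fin (m + 1)) R →ₐ[R]
    Away (CohB1.polyGrading m R) (MvPolynomial.X k : MvPolynomial (Fin (m + 1)) R) :=
  MvPolynomial.aeval fun l => fr (CohB1.polyGrading m R) (X_mem R m k) 1 (MvPolynomial.X l)

theorem dehom_X (l : Fin (m + 1)) :
    dehom R m k (MvPolynomial.X l) = fr (CohB1.polyGrading m R) (X_mem R m k) 1 (MvPolynomial.X l) :=
  MvPolynomial.aeval_X _ _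

theorem dehom_X_self : dehom R m k (MvPolynomial.X k) = 1 := by
  rw [dehom_X, Segre3.fr_self]

theorem val_dehom {d : ℕ} (a : MvPolynomial (Fin (m + 1)) R) (ha : a ∈ CohB1.polyGrading m R d) :
    (dehom R m k a).val =
      Localization.mk a (pw (MvPolynomial.X k : MvPolynomial (Fin (m + 1)) R) d) := by
  have ha' : a.IsHomogeneous d := (MvPolynomial.mem_homogeneousSubmodule d a).1 ha
  have key := ringHom_twist
    ((algebraMap (Away (CohB1.polyGrading m R) (MvPolynomial.X k : MvPolynomial (Fin (m + 1)) R))
      (Localization.Away (MvPolynomial.X k : MvPolynomial (Fin (m + 1)) R))).comp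
        (dehom R m k).toRingHom)
    (algebraMap (MvPolynomial (Fin (m + 1)) R)
      (Localization.Away (MvPolynomial.X k : MvPolynomial (Fin (m + 1)) R)))
    (algebraMap (MvPolynomial (Fin (m + 1)) R)
      (Localization.Away (MvPolynomial.X k : MvPolynomial (Fin (m + 1)) R)) (MvPolynomial.X k))
    ?_ ?_ d a ha'
  · change algebraMap _ _ a = _ * (dehom R m k a).val at key
    rw [← Localization.mk_one_eq_algebraMap, ← Localization.mk_one_eq_algebraMap] at key
    have hu : IsUnit (Localization.mk (MvPolynomial.X k : MvPolynomial (Fin (m + 1)) R)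
        (1 : Submonoid.powers (MvPolynomial.X k : MvPolynomial (Fin (m + 1)) R)) ^ d) := by
      apply IsUnit.pow
      rw [Localization.mk_one_eq_algebraMap]
      exact IsLocalization.map_units _ (⟨_, 1, pow_one _⟩ : Submonoid.powers
        (MvPolynomial.X k : MvPolynomial (Fin (m + 1)) R))
    apply hu.mul_right_injective
    change _ * _ = _ * _
    rw [← key, Localization.mk_pow, Localization.mk_mul, Localization.mk_eq_mk_iff,
      Localization.r_iff_exists]
    refine ⟨1, ?_⟩
    simp only [OneMemClass.coe_one, one_mul, Submonoid.coe_mul, one_pow, mul_one]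
    change (MvPolynomial.X k ^ d) * a = MvPolynomial.X k ^ d * a
    rfl
  · intro r
    change algebraMap _ _ (MvPolynomial.C r) = (dehom R m k (MvPolynomial.C r)).val
    rw [← MvPolynomial.algebraMap_eq, AlgHom.commutes, Segre2.algebraMap_away]
    change _ = Localization.mk _ 1
    rw [Localization.mk_one_eq_algebraMap]
    rfl
  · intro s
    change algebraMap _ _ (MvPolynomial.X s) = _ * (dehom R m k (MvPolynomial.X s)).val
    rw [dehom_X, ProjClosed.val_fr_of_mem _ _ (X_mem R m s), ← Localization.mk_one_eq_algebraMap,
      ← Localization.mk_one_eq_algebraMap, Localization.mk_mul, Localization.mk_eq_mk_iff,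
      Localization.r_iff_exists]
    refine ⟨1, ?_⟩
    simp only [OneMemClass.coe_one, one_mul, mul_one]
    change MvPolynomial.X k ^ 1 * MvPolynomial.X s = MvPolynomial.X k * MvPolynomial.X s
    rw [pow_one]

theorem dehom_eq_mk {d : ℕ} (a : MvPolynomial (Fin (m + 1)) R)
    (ha : a ∈ CohB1.polyGrading m R (d • 1)) :
    dehom R m k a = Away.mk (CohB1.polyGrading m R) (X_mem R m k) d a ha := by
  apply HomogeneousLocalization.val_injective
  have ha' : a ∈ CohB1.polyGrading m R d := by rwa [smul_eq_mul, mul_one] at ha
  rw [val_dehom R m k a ha', Away.val_mk]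
  rfl

theorem isUnit_dehom : IsUnit ((dehom R m k).toRingHom (MvPolynomial.X k)) := by
  change IsUnit (dehom R m k (MvPolynomial.X k))
  rw [dehom_X_self]; exact isUnit_one

theorem awayLift_dehom :
    Segre1.awayLift (CohB1.polyGrading m R) (dehom R m k).toRingHom (isUnit_dehom R m k) =
      RingHom.id _ := by
  symm
  apply Segre1.awayLift_unique (CohB1.polyGrading m R) (dehom R m k).toRingHom
    (isUnit_dehom R m k) (X_mem R m k)
  intro d a ha
  change Away.mk (CohB1.polyGrading m R) (X_mem R m k) d a ha *
    (dehom R m k (MvPolynomial.X k)) ^ d = dehom R m k a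
  rw [dehom_X_self, one_pow, mul_one, dehom_eq_mk]

end Groth.Agent.Lib.helper19.LinProj8
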