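import Groth.Agent.Lib.helper19.LinProj8

/-!
# Lifting points along the multiplication morphism (helper19)
-/

set_option autoImplicit false
universe u
open CategoryTheory CategoryTheory.Limits AlgebraicGeometry Opposite TopologicalSpace
open HomogeneousLocalization TensorProduct

noncomputable section

namespace Groth.Agent.Lib.helper19.LinProj9

open Groth.Agent.Lib.helper19.LinProj1 Groth.Agent.Lib.helper19.LinProj2 Groth.Agent.Lib.helper19.LinProj3
  Groth.Agent.Lib.helper19.LinProj5 Groth.Agent.Lib.helper19.LinProj6 Groth.Agent.Lib.helper19.LinProj7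
open Groth.Agent.Lib.Helper28
open Groth.Agent.Lib.Helper28.ProjClosed (fr fr_of_mem pw)

attribute [local instance] MvPolynomial.gradedAlgebra

variable (R : Type u) [CommRing R] (n : ℕ) (K : Type u) [Field K] [Algebra R K]

section target

variable (k : Fin (n + 1 + 1))
  (ρ : Away (CohB1.polyGrading (n + 1) R)
    (MvPolynomial.X k : MvPolynomial (Fin (n + 1 + 1)) R) →ₐ[R] K)

/-- the homomorphism on homogeneous coordinates attached to a point of the chart `D₊(Z_k)` -/
def G : MvPolynomial (Fin (n + 1 + 1)) R →ₐ[R] K := ρ.comp (Groth.Agent.Lib.helper19.LinProj8.dehom R (n + 1) k)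

theorem G_X_self : G R n K k ρ (MvPolynomial.X k) = 1 := by
  change ρ (Groth.Agent.Lib.helper19.LinProj8.dehom R (n + 1) k (MvPolynomial.X k)) = 1
  rw [Groth.Agent.Lib.helper19.LinProj8.dehom_X_self, map_one]

theorem isUnit_G : IsUnit ((G R n K k ρ).toRingHom (MvPolynomial.X k)) := by
  change IsUnit (G R n K k ρ (MvPolynomial.X k))
  rw [G_X_self]; exact isUnit_one

theorem awayLift_G :
    Segre1.awayLift (CohB1.polyGrading (n + 1) R) (G R n K k ρ).toRingHom (isUnit_G R n K k ρ) =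
      ρ.toRingHom := by
  have h := Segre1.awayLift_comp (CohB1.polyGrading (n + 1) R) (Groth.Agent.Lib.helper19.LinProj8.dehom R (n + 1) k).toRingHom
    ρ.toRingHom (Groth.Agent.Lib.helper19.LinProj8.isUnit_dehom R (n + 1) k) (Groth.Agent.Lib.helper19.LinProj8.X_mem R (n + 1) k)
  rw [Groth.Agent.Lib.helper19.LinProj8.awayLift_dehom, RingHom.comp_id] at h
  exact h.symm

theorem chartMap_G :
    Segre1.chartMap (CohB1.polyGrading (n + 1) R) (G R n K k ρ).toRingHom (Groth.Agent.Lib.helper19.LinProj8.X_mem R (n + 1) k)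
        one_pos (isUnit_G R n K k ρ) =
      Spec.map (CommRingCat.ofHom ρ.toRingHom) ≫
        Proj.awayι (CohB1.polyGrading (n + 1) R) (MvPolynomial.X k) (Groth.Agent.Lib.helper19.LinProj8.X_mem R (n + 1) k)
          one_pos := by
  unfold Segre1.chartMap
  rw [awayLift_G]

end target

section source

variable (a : I R → K) (b : J R n → K) (i0 : I R) (j0 : J R n) (ha : a i0 ≠ 0) (hb : b j0 ≠ 0)

/-- homogeneous coordinates of a point of `P¹` -/
def G₁ : MvPolynomial (Fin (1 + 1)) R →ₐ[R] K := MvPolynomial.aeval fun i => a ⟨i⟩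

/-- homogeneous coordinates of a point of `Pⁿ` -/
def G₂ : MvPolynomial (Fin (n + 1)) R →ₐ[R] K := MvPolynomial.aeval fun j => b ⟨j⟩

theorem G₁_xs (i : I R) : G₁ R K a (xs R i) = a i := by
  unfold G₁ xs
  rw [MvPolynomial.aeval_X]

theorem G₂_ys (j : J R n) : G₂ R n K b (ys R n j) = b j := by
  unfold G₂ ys
  rw [MvPolynomial.aeval_X]

include ha in
theorem isUnit_G₁ : IsUnit ((G₁ R K a).toRingHom (xs R i0)) := by
  change IsUnit (G₁ R K a (xs R i0))
  rw [G₁_xs]; exact isUnit_iff_ne_zero.2 ha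

include hb in
theorem isUnit_G₂ : IsUnit ((G₂ R n K b).toRingHom (ys R n j0)) := by
  change IsUnit (G₂ R n K b (ys R n j0))
  rw [G₂_ys]; exact isUnit_iff_ne_zero.2 hb

/-- the point of the chart of `P¹` -/
def ψ₁ : Away (CohB1.polyGrading 1 R) (xs R i0) →ₐ[R] K where
  toRingHom := Segre1.awayLift (CohB1.polyGrading 1 R) (G₁ R K a).toRingHom (isUnit_G₁ R K a i0 ha)
  commutes' r := by
    change Segre1.awayLift (CohB1.polyGrading 1 R) (G₁ R K a).toRingHom _
      (algebraMap R (Away (CohB1.polyGrading 1 R) (xs R i0)) r) = _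
    rw [Segre2.algebraMap_away, awayLift_fromZero]
    exact (G₁ R K a).commutes r

/-- the point of the chart of `Pⁿ` -/
def ψ₂ : Away (CohB1.polyGrading n R) (ys R n j0) →ₐ[R] K where
  toRingHom := Segre1.awayLift (CohB1.polyGrading n R) (G₂ R n K b).toRingHom
    (isUnit_G₂ R n K b j0 hb)
  commutes' r := by
    change Segre1.awayLift (CohB1.polyGrading n R) (G₂ R n K b).toRingHom _
      (algebraMap R (Away (CohB1.polyGrading n R) (ys R n j0)) r) = _
    rw [Segre2.algebraMap_away, awayLift_fromZero]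
    exact (G₂ R n K b).commutes r

theorem ψ₁_fr (p : I R) :
    ψ₁ R K a i0 ha (fr (CohB1.polyGrading 1 R) (hxs R i0) 1 (xs R p)) * a i0 = a p := by
  have h := Segre1.awayLift_mk (CohB1.polyGrading 1 R) (G₁ R K a).toRingHom
    (isUnit_G₁ R K a i0 ha) (hxs R i0) 1 (xs R p) (by rw [one_smul]; exact hxs R p)
  rw [pow_one] at h
  change _ * G₁ R K a (xs R i0) = G₁ R K a (xs R p) at h
  rw [G₁_xs, G₁_xs] at h
  rw [fr_of_mem _ _ (hxs R p)]
  exact h

theorem ψ₂_fr (q : J R n) :
    ψ₂ R n K b j0 hb (fr (CohB1.polyGrading n R) (hys R n j0) 1 (ys R n q)) * b j0 = b q := by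
  have h := Segre1.awayLift_mk (CohB1.polyGrading n R) (G₂ R n K b).toRingHom
    (isUnit_G₂ R n K b j0 hb) (hys R n j0) 1 (ys R n q) (by rw [one_smul]; exact hys R n q)
  rw [pow_one] at h
  change _ * G₂ R n K b (ys R n j0) = G₂ R n K b (ys R n q) at h
  rw [G₂_ys, G₂_ys] at h
  rw [fr_of_mem _ _ (hys R n q)]
  exact h

/-- the point of the chart of the product -/
def ψ : Away (CohB1.polyGrading 1 R) (xs R i0) ⊗[R] Away (CohB1.polyGrading n R) (ys R n j0) →ₐ[R] K :=
  Algebra.TensorProduct.lift (ψ₁ R K a i0 ha) (ψ₂ R n K b j0 hb) fun _ _ => Commute.all _ _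

/-- the coordinates of the image of the point under the Segre embedding -/
def H : MvPolynomial (I R × J R n) R →ₐ[R] K := (ψ R n K a b i0 j0 ha hb).comp (FF R n (i0, j0))

theorem H_X (p : I R × J R n) :
    H R n K a b i0 j0 ha hb (MvPolynomial.X p) * (a i0 * b j0) = a p.1 * b p.2 := by
  change ψ R n K a b i0 j0 ha hb (FF R n (i0, j0) (MvPolynomial.X p)) * _ = _
  unfold FF
  rw [Segre3.F_X]
  unfold ψ
  rw [Algebra.TensorProduct.lift_tmul, ← ψ₁_fr R K a i0 ha p.1, ← ψ₂_fr R n K b j0 hb p.2]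
  ring

/-- the point of the product -/
def kk : Spec (CommRingCat.of K) ⟶ X R n :=
  Spec.map (CommRingCat.ofHom (ψ R n K a b i0 j0 ha hb).toRingHom) ≫ cc R n (i0, j0)

theorem isUnit_H_X : IsUnit ((H R n K a b i0 j0 ha hb).toRingHom (MvPolynomial.X (i0, j0))) := by
  change IsUnit (H R n K a b i0 j0 ha hb (MvPolynomial.X (i0, j0)))
  have h := H_X R n K a b i0 j0 ha hb (i0, j0)
  have h0 : a i0 * b j0 ≠ 0 := mul_ne_zero ha hb
  have : H R n K a b i0 j0 ha hb (MvPolynomial.X (i0, j0)) = 1 := by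
    apply mul_right_cancel₀ h0
    rw [h, one_mul]
  rw [this]; exact isUnit_one

theorem kk_seg :
    kk R n K a b i0 j0 ha hb ≫ seg R n =
      Segre1.chartMap (ℬ R n) (H R n K a b i0 j0 ha hb).toRingHom (Segre3.X_mem (i0, j0)) one_pos
        (isUnit_H_X R n K a b i0 j0 ha hb) := by
  unfold kk
  rw [Category.assoc, cc_seg, Segre1.chartMap_comp]
  rfl

end source

end Groth.Agent.Lib.helper19.LinProj9
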