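import Mathlib
import Groth.Agent.Lib.helper19.EtFib
import Groth.Agent.Lib.Helper9.MonoFib

set_option autoImplicit false
set_option linter.style.haveILetI false
universe u
open CategoryTheory CategoryTheory.Limits AlgebraicGeometry IsLocalRing

namespace Groth.Agent.Lib.Helper19.MonoFib2

theorem local_bij_iff (R S : Type u) [CommRing R] [CommRing S] [IsLocalRing R] [IsLocalRing S]
    [Algebra R S] [IsLocalHom (algebraMap R S)] (J : Ideal S)
    (hJ : J = (maximalIdeal R).map (algebraMap R S))
    (hle : maximalIdeal R ≤ J.comap (algebraMap R S)) :
    Function.Bijective (Ideal.quotientMap J (algebraMap R S) hle) ↔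
      (maximalIdeal R).map (algebraMap R S) = maximalIdeal S ∧
        Function.Bijective (IsLocalRing.ResidueField.map (algebraMap R S)) := by
  constructor
  · intro h
    have h1 : IsField (S ⧸ J) := by
      let e : (R ⧸ maximalIdeal R) ≃+* (S ⧸ J) := RingEquiv.ofBijective _ h
      exact e.symm.toMulEquiv.isField ((Ideal.Quotient.maximal_ideal_iff_isField_quotient _).mp
        inferInstance)
    have hmax : J.IsMaximal := (Ideal.Quotient.maximal_ideal_iff_isField_quotient _).mpr h1
    have h2 : J = maximalIdeal S := IsLocalRing.eq_maximalIdeal hmax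
    refine ⟨hJ.symm.trans h2, ?_⟩
    subst h2
    have : (IsLocalRing.ResidueField.map (algebraMap R S) : ResidueField R → ResidueField S) =
        Ideal.quotientMap (maximalIdeal S) (algebraMap R S) hle := by
      ext r
      obtain ⟨r, rfl⟩ := Ideal.Quotient.mk_surjective r
      rfl
    rw [this]
    exact h
  · rintro ⟨h1, h2⟩
    have h3 : J = maximalIdeal S := hJ.trans h1
    subst h3
    have : (IsLocalRing.ResidueField.map (algebraMap R S) : ResidueField R → ResidueField S) =
        Ideal.quotientMap (maximalIdeal S) (algebraMap R S) hle := by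
      ext r
      obtain ⟨r, rfl⟩ := Ideal.Quotient.mk_surjective r
      rfl
    rw [← this]
    exact h2

theorem main {X Y : Scheme.{u}} (f : X ⟶ Y) [LocallyOfFiniteType f] :
    Mono f ↔ ∀ x : ↥X,
      (∀ x' : ↥X, f.base x' = f.base x → x' = x) ∧
        Function.Bijective
          (Ideal.quotientMap
            ((IsLocalRing.maximalIdeal ↑(Y.presheaf.stalk (f.base x))).map (f.stalkMap x).hom)
            (f.stalkMap x).hom Ideal.le_comap_map) := by
  have key : ∀ x : X, Function.Bijective
          (Ideal.quotientMap
            ((IsLocalRing.maximalIdeal ↑(Y.presheaf.stalk (f.base x))).map (f.stalkMap x).hom)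
            (f.stalkMap x).hom Ideal.le_comap_map) ↔
        ((maximalIdeal (Y.presheaf.stalk (f.base x))).map (f.stalkMap x).hom =
          maximalIdeal (X.presheaf.stalk x) ∧
        Function.Bijective (f.residueFieldMap x).hom) := by
    intro x
    letI : Algebra (Y.presheaf.stalk (f.base x)) (X.presheaf.stalk x) :=
      (f.stalkMap x).hom.toAlgebra
    haveI : IsLocalHom (algebraMap (Y.presheaf.stalk (f.base x)) (X.presheaf.stalk x)) :=
      inferInstanceAs <| IsLocalHom (f.stalkMap x).hom
    exact local_bij_iff (Y.presheaf.stalk (f.base x)) (X.presheaf.stalk x)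
      ((IsLocalRing.maximalIdeal ↑(Y.presheaf.stalk (f.base x))).map (f.stalkMap x).hom) rfl
      Ideal.le_comap_map
  constructor
  · intro hf x
    have hui := ((tfae_universallyInjective f).out 0 2).mp
      (inferInstance : UniversallyInjective f)
    refine ⟨fun x' hx' => hui.1 hx', (key x).mpr ?_⟩
    haveI : IsIso (pullback.diagonal f) := (pullback.isIso_diagonal_iff f).mpr hf
    haveI : FormallyUnramified f := inferInstance
    letI : Algebra (Y.presheaf.stalk (f.base x)) (X.presheaf.stalk x) :=
      (f.stalkMap x).hom.toAlgebra
    haveI : IsLocalHom (algebraMap (Y.presheaf.stalk (f.base x)) (X.presheaf.stalk x)) :=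
      inferInstanceAs <| IsLocalHom (f.stalkMap x).hom
    haveI : Algebra.EssFiniteType (Y.presheaf.stalk (f.base x)) (X.presheaf.stalk x) := by
      rw [← RingHom.essFiniteType_algebraMap, RingHom.algebraMap_toAlgebra]
      exact LocallyOfFiniteType.stalkMap f x
    haveI : Algebra.FormallyUnramified (Y.presheaf.stalk (f.base x)) (X.presheaf.stalk x) := by
      rw [← RingHom.formallyUnramified_algebraMap, RingHom.algebraMap_toAlgebra]
      exact FormallyUnramified.stalkMap f x
    refine ⟨Algebra.FormallyUnramified.map_maximalIdeal, ?_⟩
    letI : Algebra (Y.residueField (f.base x)) (X.residueField x) :=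
      (f.residueFieldMap x).hom.toAlgebra
    haveI : IsPurelyInseparable (Y.residueField (f.base x)) (X.residueField x) := hui.2 x
    haveI : Algebra.IsSeparable (Y.residueField (f.base x)) (X.residueField x) := inferInstance
    exact ⟨(f.residueFieldMap x).hom.injective,
      IsPurelyInseparable.surjective_algebraMap_of_isSeparable (Y.residueField (f.base x))
        (X.residueField x)⟩
  · intro H
    have hinj : Function.Injective f := fun x' x hx => (H x).1 x' hx
    have hk := fun x => (key x).mp (H x).2
    haveI : FormallyUnramified f := by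
      apply Groth.Agent.Lib.Helper19.EtFib.formallyUnramified_of_stalkMap
      intro x
      letI : Algebra (Y.presheaf.stalk (f.base x)) (X.presheaf.stalk x) :=
        (f.stalkMap x).hom.toAlgebra
      haveI : IsLocalHom (algebraMap (Y.presheaf.stalk (f.base x)) (X.presheaf.stalk x)) :=
        inferInstanceAs <| IsLocalHom (f.stalkMap x).hom
      haveI : Algebra.EssFiniteType (Y.presheaf.stalk (f.base x)) (X.presheaf.stalk x) := by
        rw [← RingHom.essFiniteType_algebraMap, RingHom.algebraMap_toAlgebra]
        exact LocallyOfFiniteType.stalkMap f x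
      haveI : Algebra.IsSeparable (ResidueField (Y.presheaf.stalk (f.base x)))
          (ResidueField (X.presheaf.stalk x)) := by
        refine ⟨fun z => ?_⟩
        obtain ⟨w, rfl⟩ := (hk x).2.2 z
        exact isSeparable_algebraMap (F := ResidueField (Y.presheaf.stalk (f.base x)))
          (K := ResidueField (X.presheaf.stalk x)) w
      rw [← RingHom.algebraMap_toAlgebra (f.stalkMap x).hom,
        RingHom.formallyUnramified_algebraMap]
      exact Algebra.FormallyUnramified.of_map_maximalIdeal (hk x).1
    haveI : Surjective (pullback.diagonal f) := by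
      have h23 : (Function.Injective f ∧ ∀ x, (f.residueFieldMap x).hom.IsPurelyInseparable) →
          Surjective (pullback.diagonal f) := ((tfae_universallyInjective f).out 2 3).mp
      refine h23 ⟨hinj, fun x => ?_⟩
      letI : Algebra (Y.residueField (f.base x)) (X.residueField x) :=
        (f.residueFieldMap x).hom.toAlgebra
      show IsPurelyInseparable (Y.residueField (f.base x)) (X.residueField x)
      rw [isPurelyInseparable_iff]
      intro z
      obtain ⟨w, rfl⟩ := (hk x).2.2 z
      refine ⟨?_, fun _ => ⟨w, rfl⟩⟩
      exact isIntegral_algebraMap (R := Y.residueField (f.base x)) (A := X.residueField x)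
        (x := w)
    exact Groth.Agent.Lib.Helper9.MonoFib.mono_of_unramified_of_surjective_diagonal f

end Groth.Agent.Lib.Helper19.MonoFib2
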