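import Mathlib

set_option autoImplicit false
universe u

namespace Groth.Agent.Lib.Helper19.Node4

open TensorProduct KaehlerDifferential

/-- a surjective linear map between modules killed by a maximal ideal splits. -/
theorem exists_section {R M N : Type u} [CommRing R] (m : Ideal R) [hm : m.IsMaximal]
    [AddCommGroup M] [Module R M] [AddCommGroup N] [Module R N]
    (hM : ∀ r ∈ m, ∀ x : M, r • x = 0) (hN : ∀ r ∈ m, ∀ x : N, r • x = 0)
    (f : M →ₗ[R] N) (hf : Function.Surjective f) :
    ∃ g : N →ₗ[R] M, ∀ y, f (g y) = y := by
  letI : Field (R ⧸ m) := Ideal.Quotient.field m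
  have hM' : Module.IsTorsionBySet R M (m : Set R) := by
    intro x r
    exact hM r.1 r.2 x
  have hN' : Module.IsTorsionBySet R N (m : Set R) := by
    intro x r
    exact hN r.1 r.2 x
  letI : Module (R ⧸ m) M := hM'.module
  letI : Module (R ⧸ m) N := hN'.module
  let f' : M →ₗ[R ⧸ m] N :=
    { toFun := f
      map_add' := f.map_add
      map_smul' := by
        intro r x
        obtain ⟨r, rfl⟩ := Ideal.Quotient.mk_surjective r
        exact f.map_smul r x }
  have hf' : Function.Surjective f' := hf
  obtain ⟨g', hg'⟩ := f'.exists_rightInverse_of_surjective (LinearMap.range_eq_top.mpr hf')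
  refine ⟨{ toFun := g', map_add' := g'.map_add, map_smul' := ?_ }, ?_⟩
  · intro r x
    exact g'.map_smul (Ideal.Quotient.mk m r) x
  · intro y
    exact LinearMap.congr_fun hg' y

end Groth.Agent.Lib.Helper19.Node4

namespace Groth.Agent.Lib.Helper19.Node4

open TensorProduct KaehlerDifferential

theorem isBaseChange_map (k K S C : Type u) [CommRing k] [CommRing K] [CommRing S] [CommRing C]
    [Algebra k K] [Algebra k S] [Algebra K C] [Algebra S C] [Algebra k C]
    [IsScalarTower k K C] [IsScalarTower k S C] [Algebra.IsPushout k K S C] :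
    IsBaseChange C (KaehlerDifferential.map k K S C) := by
  apply IsBaseChange.of_equiv (tensorKaehlerEquiv k K S C)
  intro x
  have hspan := KaehlerDifferential.span_range_derivation k S
  have hx : x ∈ Submodule.span S (Set.range (KaehlerDifferential.D k S)) := by
    rw [hspan]; trivial
  induction hx using Submodule.span_induction with
  | mem y hy =>
    obtain ⟨s, rfl⟩ := hy
    rw [tensorKaehlerEquiv_tmul_D, one_smul, KaehlerDifferential.map_D]
  | zero => simp
  | add y z _ _ hy hz => rw [tmul_add, map_add, hy, hz, map_add]
  | smul a y _ hy =>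
    rw [tmul_smul, map_smul (KaehlerDifferential.map k K S C), ← hy,
      ← algebraMap_smul C a ((1 : C) ⊗ₜ[S] y), map_smul, algebraMap_smul]

end Groth.Agent.Lib.Helper19.Node4

namespace Groth.Agent.Lib.Helper19.Node4

open TensorProduct KaehlerDifferential

theorem exists_isBaseChange (k K S C B : Type u) [CommRing k] [CommRing K] [CommRing S]
    [CommRing C] [CommRing B]
    [Algebra k K] [Algebra k S] [Algebra K C] [Algebra S C] [Algebra k C]
    [IsScalarTower k K C] [IsScalarTower k S C] [Algebra.IsPushout k K S C]
    [Algebra C B] [Algebra K B] [IsScalarTower K C B] [Algebra S B] [IsScalarTower S C B]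
    [Algebra.FormallyEtale C B] :
    ∃ F : Ω[S⁄k] →ₗ[S] Ω[B⁄K], IsBaseChange B F ∧
      ∀ s, F (KaehlerDifferential.D k S s) = KaehlerDifferential.D K B (algebraMap S B s) := by
  have h1 := isBaseChange_map k K S C
  have h2 : IsBaseChange B (KaehlerDifferential.map K K C B) :=
    KaehlerDifferential.isBaseChange_of_formallyEtale K C B
  refine ⟨((KaehlerDifferential.map K K C B).restrictScalars S).comp
    (KaehlerDifferential.map k K S C), h1.comp h2, ?_⟩
  intro s
  rw [LinearMap.comp_apply, KaehlerDifferential.map_D, LinearMap.restrictScalars_apply,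
    KaehlerDifferential.map_D, ← IsScalarTower.algebraMap_apply]

end Groth.Agent.Lib.Helper19.Node4
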