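import Mathlib
import Groth.Agent.Lib.helper19.Node4

set_option autoImplicit false
universe u

namespace Groth.Agent.Lib.Helper19.Node5

open TensorProduct KaehlerDifferential

theorem ker_isMaximal (k K S : Type u) [Field k] [Field K] [CommRing S] [Algebra k K]
    [Algebra.IsAlgebraic k K] [Algebra k S] (φ : S →ₐ[k] K) :
    (RingHom.ker φ.toRingHom).IsMaximal := by
  have h1 : IsField φ.range := Subalgebra.isField_of_algebraic φ.range
  have e := Ideal.quotientKerAlgEquivOfRightInverse (f := φ.rangeRestrict)
    (g := Function.surjInv φ.rangeRestrict_surjective) (Function.rightInverse_surjInv _)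
  have h2 : IsField (S ⧸ RingHom.ker φ.rangeRestrict) := e.toMulEquiv.isField h1
  have h3 : RingHom.ker φ.rangeRestrict = RingHom.ker φ.toRingHom := by
    ext x
    simp only [RingHom.mem_ker]
    constructor
    · intro h
      have := congrArg Subtype.val h
      simpa using this
    · intro h
      apply Subtype.ext
      simpa using h
  rw [← h3]
  exact Ideal.Quotient.maximal_of_isField _ h2

end Groth.Agent.Lib.Helper19.Node5

namespace Groth.Agent.Lib.Helper19.Node5

open TensorProduct KaehlerDifferential

set_option maxHeartbeats 800000 in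
theorem exists_derivation (k K S C B : Type u) [Field k] [Field K] [CommRing S]
    [CommRing C] [CommRing B]
    [Algebra k K] [Algebra.IsAlgebraic k K] [Algebra k S] [Algebra K C] [Algebra S C] [Algebra k C]
    [IsScalarTower k K C] [IsScalarTower k S C] [Algebra.IsPushout k K S C]
    [Algebra C B] [Algebra K B] [IsScalarTower K C B] [Algebra S B] [IsScalarTower S C B]
    [Algebra k B] [IsScalarTower k K B] [IsScalarTower k S B]
    [Algebra.FormallyEtale C B]
    (c₀ : B →+* K) (c : B → K)
    (hc₀K : ∀ l : K, c₀ (algebraMap K B l) = l)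
    (hadd : ∀ a b, c (a + b) = c a + c b)
    (hmul : ∀ a b, c (a * b) = c₀ a * c b + c a * c₀ b)
    (hcK : ∀ l : K, c (algebraMap K B l) = 0)
    (π : B) (hπ : c₀ π = 0)
    (hS : ∀ s : S, c₀ (algebraMap S B s) = 0 → algebraMap S B s ∈ Ideal.span {π}) :
    ∃ δ : B → B ⧸ Ideal.span {π},
      (∀ a b, δ (a + b) = δ a + δ b) ∧
      (∀ a b, δ (a * b) = Ideal.Quotient.mk _ a * δ b + Ideal.Quotient.mk _ b * δ a) ∧
      (∀ b t, δ b = Ideal.Quotient.mk _ t → c₀ t = c b) := by
  -- module structures on K
  letI modBK : Module B K := Module.compHom K c₀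
  letI modSK : Module S K := Module.compHom K (c₀.comp (algebraMap S B))
  have smulBK : ∀ (b : B) (x : K), b • x = c₀ b * x := fun b x => rfl
  have smulSK : ∀ (s : S) (x : K), s • x = c₀ (algebraMap S B s) * x := fun s x => rfl
  haveI : IsScalarTower K B K := ⟨fun l b x => by
    rw [smulBK, smulBK, Algebra.smul_def, map_mul, hc₀K, smul_eq_mul, mul_assoc]⟩
  haveI : IsScalarTower S B K := ⟨fun s b x => by
    rw [smulBK, smulBK, smulSK, Algebra.smul_def, map_mul, mul_assoc]⟩
  -- the derivation c
  let cl : B →ₗ[K] K :=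
    { toFun := c
      map_add' := hadd
      map_smul' := by
        intro l b
        rw [Algebra.smul_def, hmul, hc₀K, hcK, zero_mul, add_zero]
        rfl }
  let der : Derivation K B K := Derivation.mk' cl (by
    intro a b
    change c (a * b) = c₀ a * c b + c₀ b * c a
    rw [hmul, mul_comm (c a)])
  let ℓ : Ω[B⁄K] →ₗ[B] K := der.liftKaehlerDifferential
  have hℓ : ∀ b, ℓ (KaehlerDifferential.D K B b) = c b := fun b =>
    Derivation.liftKaehlerDifferential_comp_D der b
  obtain ⟨F, hF, hFD⟩ := Node4.exists_isBaseChange k K S C B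
  -- the projection
  let proj : (B ⧸ Ideal.span {π}) →+* K := Ideal.Quotient.lift (Ideal.span {π}) c₀ (by
    intro a ha
    rw [Ideal.mem_span_singleton] at ha
    obtain ⟨b, rfl⟩ := ha
    rw [map_mul, hπ, zero_mul])
  have hproj : ∀ b, proj (Ideal.Quotient.mk _ b) = c₀ b := fun b => rfl
  let projL : (B ⧸ Ideal.span {π}) →ₗ[B] K :=
    { toFun := proj
      map_add' := proj.map_add
      map_smul' := by
        intro b d
        obtain ⟨t, rfl⟩ := Ideal.Quotient.mk_surjective d
        rw [Algebra.smul_def, map_mul, RingHom.id_apply, smulBK]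
        rfl }
  -- the section
  let φ : S →ₐ[k] K :=
    { toRingHom := c₀.comp (algebraMap S B)
      commutes' := by
        intro a
        change c₀ (algebraMap S B (algebraMap k S a)) = algebraMap k K a
        rw [← IsScalarTower.algebraMap_apply k S B, IsScalarTower.algebraMap_apply k K B, hc₀K] }
  haveI hmax : (RingHom.ker φ.toRingHom).IsMaximal := ker_isMaximal k K S φ
  have hpmem : ∀ s : S, s ∈ RingHom.ker φ.toRingHom ↔ c₀ (algebraMap S B s) = 0 := fun s => Iff.rfl
  obtain ⟨σ, hσ⟩ := Node4.exists_section (R := S) (M := B ⧸ Ideal.span {π}) (N := K)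
    (RingHom.ker φ.toRingHom)
    (by
      intro s hs d
      rw [Algebra.smul_def]
      have h1 : algebraMap S (B ⧸ Ideal.span {π}) s = 0 := by
        change Ideal.Quotient.mk _ (algebraMap S B s) = 0
        rw [Ideal.Quotient.eq_zero_iff_mem]
        exact hS s ((hpmem s).mp hs)
      rw [h1, zero_mul])
    (by
      intro s hs x
      rw [smulSK, (hpmem s).mp hs, zero_mul])
    (projL.restrictScalars S)
    (by
      intro l
      exact ⟨Ideal.Quotient.mk _ (algebraMap K B l), by
        change proj (Ideal.Quotient.mk _ (algebraMap K B l)) = l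
        rw [hproj, hc₀K]⟩)
  -- the lift
  let g : Ω[S⁄k] →ₗ[S] (B ⧸ Ideal.span {π}) := σ.comp ((ℓ.restrictScalars S).comp F)
  let G : Ω[B⁄K] →ₗ[B] (B ⧸ Ideal.span {π}) := hF.lift g
  have hG : ∀ x, G (F x) = g x := fun x => hF.lift_eq g x
  have hpG : projL.comp G = ℓ := by
    apply hF.algHom_ext
    intro x
    rw [LinearMap.comp_apply, hG]
    exact hσ _
  refine ⟨fun b => G (KaehlerDifferential.D K B b), ?_, ?_, ?_⟩
  · intro a b
    simp only [map_add]
  · intro a b
    simp only [Derivation.leibniz, map_add, map_smul]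
    rw [Algebra.smul_def, Algebra.smul_def]
    rfl
  · intro b t ht
    have h1 : projL (G (KaehlerDifferential.D K B b)) = c b := by
      rw [← LinearMap.comp_apply, hpG, hℓ]
    rw [← h1]
    change c₀ t = proj (G (KaehlerDifferential.D K B b))
    have ht' : G (KaehlerDifferential.D K B b) = Ideal.Quotient.mk _ t := ht
    rw [ht', hproj]

end Groth.Agent.Lib.Helper19.Node5
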