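import Mathlib
import Groth.Prelude.Def_CurvBase
import Groth.Agent.Lib.helper19.Node3
import Groth.Agent.Lib.helper19.Node5

set_option autoImplicit false
universe u

namespace Groth.Agent.Lib.Helper19.Node6

open TensorProduct KaehlerDifferential IsLocalRing

set_option maxHeartbeats 800000 in
theorem core (k K S C B : Type u) [Field k] [Field K] [CommRing S]
    [CommRing C] [CommRing B]
    [Algebra k K] [Algebra.IsAlgebraic k K] [Algebra k S] [Algebra K C] [Algebra S C] [Algebra k C]
    [IsScalarTower k K C] [IsScalarTower k S C] [Algebra.IsPushout k K S C]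
    [Algebra C B] [Algebra K B] [IsScalarTower K C B] [Algebra S B] [IsScalarTower S C B]
    [Algebra k B] [IsScalarTower k K B] [IsScalarTower k S B]
    [Algebra.FormallyEtale C B] [IsLocalRing B] [IsNoetherianRing B]
    (hnode : Curv2.IsOrdDoublePt K B) (π : B) (hπ : π ∈ maximalIdeal B)
    (hS : ∀ s : S, algebraMap S B s ∈ maximalIdeal B → algebraMap S B s ∈ Ideal.span {π}) :
    False := by
  obtain ⟨c₀, c, u, hc₀K, hc₀m, hadd, hmul, hcK, hcu, huv, hc₀u⟩ := Node3.node_data K B hnode
  have hm : ∀ b, c₀ b = 0 → b ∈ maximalIdeal B := by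
    intro b hb
    rw [mem_maximalIdeal, mem_nonunits_iff]
    intro hu
    have := hu.map c₀
    rw [hb] at this
    exact not_isUnit_zero this
  have hπ0 : c₀ π = 0 := hc₀m π hπ
  have hS' : ∀ s : S, c₀ (algebraMap S B s) = 0 → algebraMap S B s ∈ Ideal.span {π} :=
    fun s h => hS s (hm _ h)
  have hum : ∀ j, u j ∈ maximalIdeal B := fun j => hm _ (hc₀u j)
  have hc0 : ∀ i, c i 0 = 0 := by
    intro i
    have := hadd i 0 0
    rw [add_zero] at this
    exact left_eq_add.mp this
  have hcsq : ∀ i, ∀ x ∈ maximalIdeal B ^ 2, c i x = 0 := by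
    intro i x hx
    rw [pow_two] at hx
    refine Submodule.mul_induction_on hx ?_ ?_
    · intro a ha b hb
      rw [hmul, hc₀m a ha, hc₀m b hb]
      simp
    · intro a b ha hb
      rw [hadd, ha, hb, add_zero]
  have huv' : ∀ i j : Fin 2, i ≠ j → u i * u j ∈ maximalIdeal B ^ 3 := by
    intro i j hij
    fin_cases i <;> fin_cases j
    · exact absurd rfl hij
    · exact huv
    · rw [mul_comm]; exact huv
    · exact absurd rfl hij
  -- the key step
  have key : ∀ i j : Fin 2, i ≠ j → ∃ x ∈ maximalIdeal B ^ 2, ∃ a, u j = x + π * a := by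
    intro i j hij
    obtain ⟨δ, hδadd, hδmul, hδc⟩ := Node5.exists_derivation k K S C B c₀ (c i) hc₀K (hadd i)
      (hmul i) (hcK i) π hπ0 hS'
    set mk := Ideal.Quotient.mk (Ideal.span {π}) with hmk
    set 𝔪 := Ideal.map mk (maximalIdeal B) with h𝔪
    have hδ0 : δ 0 = 0 := by
      have := hδadd 0 0
      rw [add_zero] at this
      exact left_eq_add.mp this
    have hA : ∀ b ∈ maximalIdeal B ^ 2, δ b ∈ 𝔪 := by
      intro b hb
      rw [pow_two] at hb
      refine Submodule.mul_induction_on hb ?_ ?_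
      · intro a ha a' ha'
        rw [hδmul]
        exact Ideal.add_mem _ (Ideal.mul_mem_right _ _ (Ideal.mem_map_of_mem mk ha))
          (Ideal.mul_mem_right _ _ (Ideal.mem_map_of_mem mk ha'))
      · intro a b ha hb
        rw [hδadd]
        exact Ideal.add_mem _ ha hb
    have hB : ∀ b ∈ maximalIdeal B ^ 3, δ b ∈ 𝔪 ^ 2 := by
      intro b hb
      rw [pow_succ] at hb
      refine Submodule.mul_induction_on hb ?_ ?_
      · intro a ha a' ha'
        rw [hδmul]
        refine Ideal.add_mem _ ?_ ?_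
        · apply Ideal.mul_mem_right
          rw [h𝔪, ← Ideal.map_pow]
          exact Ideal.mem_map_of_mem mk ha
        · rw [pow_two]
          exact Ideal.mul_mem_mul (Ideal.mem_map_of_mem mk ha') (hA a ha)
      · intro a b ha hb
        rw [hδadd]
        exact Ideal.add_mem _ ha hb
    have hC : ∀ b, c i b = 0 → δ b ∈ 𝔪 := by
      intro b hb
      obtain ⟨t, ht⟩ := Ideal.Quotient.mk_surjective (δ b)
      have h1 := hδc b t ht.symm
      rw [hb] at h1
      rw [← ht]
      exact Ideal.mem_map_of_mem mk (hm t h1)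
    have hD : ∀ b, c i b = 1 → IsUnit (δ b) := by
      intro b hb
      obtain ⟨t, ht⟩ := Ideal.Quotient.mk_surjective (δ b)
      have h1 := hδc b t ht.symm
      rw [hb] at h1
      have h2 : IsUnit t := by
        by_contra hnu
        have := hc₀m t ((mem_maximalIdeal t).mpr hnu)
        rw [h1] at this
        exact one_ne_zero this
      rw [← ht]
      exact h2.map mk
    have h1 : δ (u i * u j) ∈ 𝔪 ^ 2 := hB _ (huv' i j hij)
    rw [hδmul] at h1
    have hcij : c i (u j) = 0 := by rw [hcu, if_neg hij]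
    have hcii : c i (u i) = 1 := by rw [hcu, if_pos rfl]
    have h2 : mk (u i) * δ (u j) ∈ 𝔪 ^ 2 := by
      rw [pow_two]
      exact Ideal.mul_mem_mul (Ideal.mem_map_of_mem mk (hum i)) (hC _ hcij)
    have h3 : mk (u j) * δ (u i) ∈ 𝔪 ^ 2 := by
      have := Ideal.sub_mem _ h1 h2
      rwa [add_sub_cancel_left] at this
    have h4 : mk (u j) ∈ 𝔪 ^ 2 := by
      obtain ⟨w, hw⟩ := hD _ hcii
      have := Ideal.mul_mem_right (↑w⁻¹ : B ⧸ Ideal.span {π}) _ h3
      rwa [← hw, mul_assoc, Units.mul_inv, mul_one] at this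
    rw [h𝔪, ← Ideal.map_pow] at h4
    obtain ⟨x, hx, hxe⟩ := (Ideal.mem_map_iff_of_surjective mk Ideal.Quotient.mk_surjective).mp h4
    have h5 : u j - x ∈ Ideal.span {π} := by
      rw [← Ideal.Quotient.eq]
      exact hxe.symm
    rw [Ideal.mem_span_singleton] at h5
    obtain ⟨a, ha⟩ := h5
    exact ⟨x, hx, a, by rw [← ha]; ring⟩
  -- final contradiction
  have hcform : ∀ i (x : B), x ∈ maximalIdeal B ^ 2 → ∀ a, c i (x + π * a) = c i π * c₀ a := by
    intro i x hx a
    rw [hadd, hcsq i x hx, hmul, hπ0]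
    ring
  obtain ⟨x1, hx1, a1, h1⟩ := key 0 1 (by decide)
  obtain ⟨x0, hx0, a0, h0⟩ := key 1 0 (by decide)
  have e11 : c 1 (u 1) = 1 := by rw [hcu, if_pos rfl]
  have e01 : c 0 (u 1) = 0 := by rw [hcu, if_neg (by decide)]
  have e00 : c 0 (u 0) = 1 := by rw [hcu, if_pos rfl]
  rw [h1, hcform 1 x1 hx1] at e11
  rw [h1, hcform 0 x1 hx1] at e01
  rw [h0, hcform 0 x0 hx0] at e00
  have ha1 : c₀ a1 ≠ 0 := by
    intro h
    rw [h, mul_zero] at e11
    exact zero_ne_one e11
  have hc0π : c 0 π = 0 := by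
    rcases mul_eq_zero.mp e01 with h | h
    · exact h
    · exact absurd h ha1
  rw [hc0π, zero_mul] at e00
  exact zero_ne_one e00

end Groth.Agent.Lib.Helper19.Node6
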