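import Mathlib
import Groth.Prelude.Def_CurvBase
import Groth.Agent.Lib.helper19.Node6
import Groth.Agent.Lib.Helper18.FieldBC.Sections

set_option autoImplicit false
set_option linter.style.haveILetI false
universe u

namespace Groth.Agent.Lib.Helper19.Node7

open CategoryTheory CategoryTheory.Limits AlgebraicGeometry IsLocalRing

set_option maxHeartbeats 1600000 in
theorem not_isOrdDoublePt_gen (k : Type u) [Field k] (K : Type u) [Field K] [Algebra k K]
    [Algebra.IsAlgebraic k K] {X X' : Scheme.{u}} (p : X' ⟶ X)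
    (s : X' ⟶ Spec (CommRingCat.of K)) (f : X ⟶ Spec (CommRingCat.of k))
    (sq : IsPullback p s f (Spec.map (CommRingCat.ofHom (algebraMap k K))))
    [LocallyOfFiniteType f]
    (xb : X') (ϖ : X.presheaf.stalk (p xb))
    (hϖ : maximalIdeal (X.presheaf.stalk (p xb)) = Ideal.span {ϖ}) :
    ¬ @Curv2.IsOrdDoublePt K _ (X'.presheaf.stalk xb) _
      ((X'.presheaf.germ ⊤ xb trivial).hom.comp (Coh.toGlobal s)).toAlgebra _ := by
  intro hnode
  let φ : CommRingCat.of k ⟶ CommRingCat.of K := CommRingCat.ofHom (algebraMap k K)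
  obtain ⟨_, ⟨(U : X.Opens), hU, rfl⟩, hxU, -⟩ :=
    X.isBasis_affineOpens.exists_subset_of_mem_open (Set.mem_univ (p xb)) isOpen_univ
  haveI : IsAffineHom p := MorphismProperty.of_isPullback sq.flip inferInstance
  have hU' : IsAffineOpen (p ⁻¹ᵁ U) := hU.preimage p
  have hxbU : xb ∈ p ⁻¹ᵁ U := hxU
  have hpo := Groth.Agent.Lib.Helper18.FieldBC.isPushout_sections φ sq U hU hU'
  -- the rings
  letI algKB : Algebra K (X'.presheaf.stalk xb) :=
    ((X'.presheaf.germ ⊤ xb trivial).hom.comp (Coh.toGlobal s)).toAlgebra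
  letI algkS : Algebra k Γ(X, U) :=
    ((Scheme.ΓSpecIso (CommRingCat.of k)).inv ≫ (U.ι ≫ f).appTop ≫ U.topIso.hom).hom.toAlgebra
  letI algKC : Algebra K Γ(X', p ⁻¹ᵁ U) :=
    ((Scheme.ΓSpecIso (CommRingCat.of K)).inv ≫ ((p ⁻¹ᵁ U).ι ≫ s).appTop ≫
      (p ⁻¹ᵁ U).topIso.hom).hom.toAlgebra
  letI algSC : Algebra Γ(X, U) Γ(X', p ⁻¹ᵁ U) := (p.appLE U (p ⁻¹ᵁ U) le_rfl).hom.toAlgebra
  letI algkC : Algebra k Γ(X', p ⁻¹ᵁ U) :=
    ((algebraMap K Γ(X', p ⁻¹ᵁ U)).comp (algebraMap k K)).toAlgebra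
  haveI : IsScalarTower k K Γ(X', p ⁻¹ᵁ U) := IsScalarTower.of_algebraMap_eq (fun _ => rfl)
  haveI : IsScalarTower k Γ(X, U) Γ(X', p ⁻¹ᵁ U) := by
    apply IsScalarTower.of_algebraMap_eq
    intro a
    have := congrArg (fun g => g.hom a) hpo.w
    exact this
  haveI hPO : Algebra.IsPushout k K Γ(X, U) Γ(X', p ⁻¹ᵁ U) := by
    rw [← CommRingCat.isPushout_iff_isPushout]
    exact hpo
  -- algebras to B
  letI algCB : Algebra Γ(X', p ⁻¹ᵁ U) (X'.presheaf.stalk xb) :=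
    (X'.presheaf.germ (p ⁻¹ᵁ U) xb hxbU).hom.toAlgebra
  letI algSB : Algebra Γ(X, U) (X'.presheaf.stalk xb) :=
    ((algebraMap Γ(X', p ⁻¹ᵁ U) (X'.presheaf.stalk xb)).comp
      (algebraMap Γ(X, U) Γ(X', p ⁻¹ᵁ U))).toAlgebra
  haveI : IsScalarTower Γ(X, U) Γ(X', p ⁻¹ᵁ U) (X'.presheaf.stalk xb) :=
    IsScalarTower.of_algebraMap_eq (fun _ => rfl)
  letI algkB : Algebra k (X'.presheaf.stalk xb) :=
    ((algebraMap K (X'.presheaf.stalk xb)).comp (algebraMap k K)).toAlgebra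
  haveI : IsScalarTower k K (X'.presheaf.stalk xb) := IsScalarTower.of_algebraMap_eq (fun _ => rfl)
  haveI tKCB : IsScalarTower K Γ(X', p ⁻¹ᵁ U) (X'.presheaf.stalk xb) := by
    apply IsScalarTower.of_algebraMap_eq
    intro l
    change (X'.presheaf.germ ⊤ xb trivial).hom (Coh.toGlobal s l) =
      (X'.presheaf.germ (p ⁻¹ᵁ U) xb hxbU).hom
        (((Scheme.ΓSpecIso (CommRingCat.of K)).inv ≫ ((p ⁻¹ᵁ U).ι ≫ s).appTop ≫
          (p ⁻¹ᵁ U).topIso.hom).hom l)
    have h1 : Coh.toGlobal s l = (s.appTop).hom ((Scheme.ΓSpecIso (CommRingCat.of K)).inv.hom l) := rfl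
    rw [h1]
    simp only [Scheme.Hom.comp_appTop, Scheme.Opens.ι_appTop, Scheme.Opens.topIso,
      Functor.mapIso_hom, Iso.op_hom, eqToIso.hom, CommRingCat.hom_comp, RingHom.comp_apply]
    erw [TopCat.Presheaf.germ_res_apply, TopCat.Presheaf.germ_res_apply]
  haveI : IsScalarTower k Γ(X, U) (X'.presheaf.stalk xb) := by
    apply IsScalarTower.of_algebraMap_eq
    intro a
    change algebraMap K (X'.presheaf.stalk xb) (algebraMap k K a) =
      algebraMap Γ(X', p ⁻¹ᵁ U) (X'.presheaf.stalk xb)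
        (algebraMap Γ(X, U) Γ(X', p ⁻¹ᵁ U) (algebraMap k Γ(X, U) a))
    rw [← IsScalarTower.algebraMap_apply k Γ(X, U) Γ(X', p ⁻¹ᵁ U),
      IsScalarTower.algebraMap_apply k K Γ(X', p ⁻¹ᵁ U),
      ← IsScalarTower.algebraMap_apply K Γ(X', p ⁻¹ᵁ U) (X'.presheaf.stalk xb)]
  -- localization
  haveI : IsLocalization.AtPrime (X'.presheaf.stalk xb) (hU'.primeIdealOf ⟨xb, hxbU⟩).asIdeal :=
    hU'.isLocalization_stalk ⟨xb, hxbU⟩
  haveI : Algebra.FormallyEtale Γ(X', p ⁻¹ᵁ U) (X'.presheaf.stalk xb) :=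
    Algebra.FormallyEtale.of_isLocalization (hU'.primeIdealOf ⟨xb, hxbU⟩).asIdeal.primeCompl
  -- noetherian
  haveI : LocallyOfFiniteType s := MorphismProperty.of_isPullback sq inferInstance
  haveI : IsLocallyNoetherian X' := LocallyOfFiniteType.isLocallyNoetherian s
  haveI : IsNoetherianRing (X'.presheaf.stalk xb) := inferInstance
  -- the element
  let π : X'.presheaf.stalk xb := (p.stalkMap xb).hom ϖ
  have hπ : π ∈ maximalIdeal (X'.presheaf.stalk xb) := by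
    have h1 : ϖ ∈ maximalIdeal (X.presheaf.stalk (p xb)) := by
      rw [hϖ]; exact Ideal.mem_span_singleton_self ϖ
    rw [mem_maximalIdeal, mem_nonunits_iff] at h1 ⊢
    intro hu
    exact h1 (isUnit_of_map_unit (p.stalkMap xb).hom ϖ hu)
  have hS : ∀ t : Γ(X, U), algebraMap Γ(X, U) (X'.presheaf.stalk xb) t ∈
      maximalIdeal (X'.presheaf.stalk xb) →
      algebraMap Γ(X, U) (X'.presheaf.stalk xb) t ∈ Ideal.span {π} := by
    intro t ht
    have h1 : algebraMap Γ(X, U) (X'.presheaf.stalk xb) t =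
        (p.stalkMap xb).hom ((X.presheaf.germ U (p xb) hxU).hom t) := by
      change (X'.presheaf.germ (p ⁻¹ᵁ U) xb hxbU).hom ((p.appLE U (p ⁻¹ᵁ U) le_rfl).hom t) = _
      rw [← Scheme.Hom.app_eq_appLE]
      exact (Scheme.Hom.germ_stalkMap_apply p U xb hxU t).symm
    rw [h1] at ht ⊢
    have h2 : (X.presheaf.germ U (p xb) hxU).hom t ∈ maximalIdeal (X.presheaf.stalk (p xb)) := by
      rw [mem_maximalIdeal, mem_nonunits_iff] at ht ⊢
      intro hu
      exact ht (hu.map (p.stalkMap xb).hom)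
    rw [hϖ, Ideal.mem_span_singleton] at h2
    obtain ⟨a, ha⟩ := h2
    rw [ha, map_mul, Ideal.mem_span_singleton]
    exact ⟨_, rfl⟩
  exact Node6.core k K Γ(X, U) Γ(X', p ⁻¹ᵁ U) (X'.presheaf.stalk xb) hnode π hπ hS

end Groth.Agent.Lib.Helper19.Node7
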