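import Mathlib
import Groth.Prelude.Def_CurvBase
import Groth.Agent.Lib.helper19.Node7

set_option autoImplicit false
set_option linter.style.haveILetI false
universe u

namespace Groth.Agent.Lib.Helper19.Node8

open CategoryTheory CategoryTheory.Limits AlgebraicGeometry IsLocalRing TopologicalSpace

theorem exists_generator (O : Type u) [CommRing O] [IsRegularLocalRing O]
    (h : ringKrullDim O ≤ 1) : ∃ ϖ : O, maximalIdeal O = Ideal.span {ϖ} := by
  have hspan : ((maximalIdeal O).spanFinrank : WithBot ℕ∞) = ringKrullDim O :=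
    IsRegularLocalRing.spanFinrank_maximalIdeal
  have hfg : (maximalIdeal O).FG := IsNoetherian.noetherian _
  have hle : (maximalIdeal O).spanFinrank ≤ 1 := by
    have : ((maximalIdeal O).spanFinrank : WithBot ℕ∞) ≤ 1 := hspan ▸ h
    exact_mod_cast this
  rcases Nat.le_one_iff_eq_zero_or_eq_one.mp hle with h0 | h1
  · have hbot : maximalIdeal O = ⊥ := (Submodule.spanFinrank_eq_zero_iff_eq_bot hfg).mp h0
    exact ⟨0, by rw [hbot]; simp⟩
  · obtain ⟨hprin, -⟩ := (Submodule.spanFinrank_eq_one_iff _).mp h1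
    obtain ⟨x, hx⟩ := hprin
    exact ⟨x, hx⟩

theorem dim_stalk_le_one (X : Scheme.{u})
    (hdim : ∀ Z ∈ irreducibleComponents (X : Type u), topologicalKrullDim Z = 1) (x : X) :
    ringKrullDim (X.presheaf.stalk x) ≤ 1 := by
  rw [ringKrullDim_stalk_eq_coheight]
  have : Order.coheight x ≤ (1 : ℕ∞) := by
    apply Order.coheight_le
    intro q hq
    set ξ := q.last with hξ
    set Z := irreducibleComponent ξ with hZ
    have hZmem : Z ∈ irreducibleComponents (X : Type u) := irreducibleComponent_mem_irreducibleComponents ξ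
    have hZcl : IsClosed Z := isClosed_irreducibleComponent
    have hξZ : ξ ∈ Z := mem_irreducibleComponent
    have hqZ : ∀ i, q i ∈ Z := by
      intro i
      have h1 : q i ≤ ξ := LTSeries.monotone q (Fin.le_last i)
      have h2 : ξ ⤳ q i := h1
      exact h2.mem_closed hZcl hξZ
    let T : Fin (q.length + 1) → IrreducibleCloseds Z := fun i =>
      ⟨closure {⟨q i, hqZ i⟩}, isIrreducible_singleton.closure, isClosed_closure⟩
    have hspec : ∀ i j : Fin (q.length + 1), T i ≤ T j ↔ q i ≤ q j := by
      intro i j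
      change closure {(⟨q i, hqZ i⟩ : Z)} ⊆ closure {(⟨q j, hqZ j⟩ : Z)} ↔ q j ⤳ q i
      rw [isClosed_closure.closure_subset_iff, Set.singleton_subset_iff,
        ← specializes_iff_mem_closure, subtype_specializes_iff]
    let r : LTSeries (IrreducibleCloseds Z) :=
      { length := q.length
        toFun := T
        step := by
          intro i
          have hlt : q i.castSucc < q i.succ := q.step i
          change T i.castSucc < T i.succ
          rw [lt_iff_le_not_ge, hspec, hspec]
          exact ⟨hlt.le, hlt.not_ge⟩ }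
    have h3 : (r.length : WithBot ℕ∞) ≤ topologicalKrullDim Z := Order.LTSeries.length_le_krullDim r
    rw [hdim Z hZmem] at h3
    have h4 : (q.length : WithBot ℕ∞) ≤ 1 := h3
    exact_mod_cast h4
  exact_mod_cast this

end Groth.Agent.Lib.Helper19.Node8

namespace Groth.Agent.Lib.Helper19.Node8

open CategoryTheory CategoryTheory.Limits AlgebraicGeometry IsLocalRing TopologicalSpace

theorem not_isNode (k : Type u) [Field k] (X : Scheme.{u}) [X.Over (Spec (CommRingCat.of k))]
    [LocallyOfFiniteType (X ↘ Spec (CommRingCat.of k))]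
    (hdim : ∀ Z ∈ irreducibleComponents (X : Type u), topologicalKrullDim Z = 1) (x : X)
    (hreg : IsRegularLocalRing (X.presheaf.stalk x)) : ¬ Curv2.IsNode k X x := by
  rintro ⟨-, xb, rfl, hnode⟩
  obtain ⟨ϖ, hϖ⟩ := exists_generator _ (dim_stalk_le_one X hdim (Curv2.bcFst k X (AlgebraicClosure k) xb))
  exact Node7.not_isOrdDoublePt_gen k (AlgebraicClosure k) (Curv2.bcFst k X (AlgebraicClosure k))
    (Curv2.bcSnd k X (AlgebraicClosure k)) (X ↘ Spec (CommRingCat.of k))
    (IsPullback.of_hasPullback _ _) xb ϖ hϖ hnode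

theorem main (k : Type u) [Field k] (C : Scheme.{u})
    [C.Over (Spec (CommRingCat.of k))] [LocallyOfFiniteType (C ↘ Spec (CommRingCat.of k))]
    (hdim : ∀ Z ∈ irreducibleComponents (C : Type u), topologicalKrullDim Z = 1)
    (hnod : Curv2.AtWorstNodal k C) (hreg : ∀ x : C, IsRegularLocalRing (C.presheaf.stalk x)) :
    Smooth (C ↘ Spec (CommRingCat.of k)) := by
  haveI : LocallyOfFinitePresentation (C ↘ Spec (CommRingCat.of k)) :=
    LocallyOfFinitePresentation.iff_locallyOfFiniteType.mpr inferInstance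
  rw [← Scheme.Hom.smoothLocus_eq_top_iff]
  by_contra hne
  haveI : JacobsonSpace C := LocallyOfFiniteType.jacobsonSpace (C ↘ Spec (CommRingCat.of k))
  set Z : Set C := ((C ↘ Spec (CommRingCat.of k)).smoothLocus : Set C)ᶜ with hZ
  have hZne : Z.Nonempty := by
    rw [Set.nonempty_compl]
    intro h
    apply hne
    ext y
    simp [h]
  have hZcl : IsClosed Z := (C ↘ Spec (CommRingCat.of k)).smoothLocus.2.isClosed_compl
  obtain ⟨x, hxZ, hxcl⟩ := nonempty_inter_closedPoints hZne hZcl.isLocallyClosed
  have hxcl' : IsClosed ({x} : Set C) := hxcl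
  rcases hnod x hxcl' with ⟨U, hxU, hsm⟩ | hnode
  · apply hxZ
    have h1 := Scheme.Hom.preimage_smoothLocus_eq U.ι (C ↘ Spec (CommRingCat.of k))
    have h2 : (U.ι ≫ (C ↘ Spec (CommRingCat.of k))).smoothLocus = ⊤ :=
      Scheme.Hom.smoothLocus_eq_top _
    rw [h2] at h1
    have h3 : (⟨x, hxU⟩ : U) ∈ U.ι ⁻¹ᵁ (C ↘ Spec (CommRingCat.of k)).smoothLocus := by
      rw [h1]; trivial
    exact h3
  · exact not_isNode k C hdim x (hreg x) hnode

end Groth.Agent.Lib.Helper19.Node8
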