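import Mathlib
import Groth.Prelude.Def_CurvBase
import Groth.Agent.Lib.helper19.NodeEt1

set_option autoImplicit false
set_option linter.style.haveILetI false
universe u

namespace Groth.Agent.Lib.Helper19.NodeEt2

open CategoryTheory CategoryTheory.Limits AlgebraicGeometry IsLocalRing TopologicalSpace

/-- compatibility of the structure maps to stalks with a morphism over the base. -/
theorem stalkMap_comp_stalkMap (K : Type u) [Field K] {P Q : Scheme.{u}}
    (p : P ⟶ Spec (CommRingCat.of K)) (q : Q ⟶ Spec (CommRingCat.of K)) (g : Q ⟶ P)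
    (hg : g ≫ p = q) (z : Q) :
    (g.stalkMap z).hom.comp (@Curv2.stalkMap K _ P ⟨p⟩ (g z)) = @Curv2.stalkMap K _ Q ⟨q⟩ z := by
  subst hg
  ext c
  simp only [Curv2.stalkMap, Coh.toGlobal, RingHom.comp_apply]
  change (g.stalkMap z).hom ((P.presheaf.germ ⊤ (g z) trivial).hom (p.appTop.hom _)) =
    (Q.presheaf.germ ⊤ z trivial).hom ((g ≫ p).appTop.hom _)
  rw [Scheme.Hom.comp_appTop]
  have h := Scheme.Hom.germ_stalkMap g ⊤ z trivial
  have h2 := congr($h (p.appTop.hom ((Scheme.ΓSpecIso (CommRingCat.of K)).inv.hom c)))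
  exact h2

theorem isOrdDoublePt_iff_of_etale (K : Type u) [Field K] [IsAlgClosed K] {P Q : Scheme.{u}}
    (p : P ⟶ Spec (CommRingCat.of K)) (q : Q ⟶ Spec (CommRingCat.of K)) (g : Q ⟶ P)
    (hg : g ≫ p = q) [Etale g] [LocallyOfFiniteType p] (z : Q) :
    @Curv2.IsOrdDoublePt K _ (P.presheaf.stalk (g z)) _ (@Curv2.stalkAlgebra K _ P ⟨p⟩ (g z)) _ ↔
    @Curv2.IsOrdDoublePt K _ (Q.presheaf.stalk z) _ (@Curv2.stalkAlgebra K _ Q ⟨q⟩ z) _ := by
  haveI : IsLocallyNoetherian P := LocallyOfFiniteType.isLocallyNoetherian p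
  haveI : IsLocallyNoetherian Q := LocallyOfFiniteType.isLocallyNoetherian g
  letI : Algebra K (P.presheaf.stalk (g z)) := @Curv2.stalkAlgebra K _ P ⟨p⟩ (g z)
  letI : Algebra K (Q.presheaf.stalk z) := @Curv2.stalkAlgebra K _ Q ⟨q⟩ z
  letI := (g.stalkMap z).hom.toAlgebra
  haveI : IsLocalHom (algebraMap (P.presheaf.stalk (g z)) (Q.presheaf.stalk z)) :=
    inferInstanceAs (IsLocalHom (g.stalkMap z).hom)
  haveI : Algebra.FormallyUnramified (P.presheaf.stalk (g z)) (Q.presheaf.stalk z) :=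
    FormallyUnramified.stalkMap g z
  haveI : Algebra.EssFiniteType (P.presheaf.stalk (g z)) (Q.presheaf.stalk z) :=
    LocallyOfFiniteType.stalkMap g z
  haveI : Module.Flat (P.presheaf.stalk (g z)) (Q.presheaf.stalk z) := Flat.stalkMap g z
  haveI : IsScalarTower K (P.presheaf.stalk (g z)) (Q.presheaf.stalk z) :=
    .of_algebraMap_eq (fun c => (RingHom.congr_fun (stalkMap_comp_stalkMap K p q g hg z) c).symm)
  exact NodeEt1.isOrdDoublePt_iff_of_flat K _ _ Algebra.FormallyUnramified.map_maximalIdeal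

end Groth.Agent.Lib.Helper19.NodeEt2
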