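import Mathlib
import Groth.Prelude.Def_CurvBase
import Groth.Agent.Lib.helper19.NodeEt2

set_option autoImplicit false
set_option linter.style.haveILetI false
universe u

namespace Groth.Agent.Lib.Helper19.NodeEt3

open CategoryTheory CategoryTheory.Limits AlgebraicGeometry IsLocalRing TopologicalSpace

/-- points of a cartesian square. -/
theorem exists_preimage_of_isPullback {P X Y S : Scheme.{u}} {fst : P ⟶ X} {snd : P ⟶ Y}
    {f : X ⟶ S} {g : Y ⟶ S} (sq : IsPullback fst snd f g) (x : X) (y : Y) (h : f x = g y) :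
    ∃ z : P, fst z = x ∧ snd z = y := by
  obtain ⟨z, hz1, hz2⟩ := Scheme.Pullback.exists_preimage_pullback x y h
  refine ⟨sq.isoPullback.inv z, ?_, ?_⟩
  · rw [← Scheme.Hom.comp_apply, sq.isoPullback_inv_fst, hz1]
  · rw [← Scheme.Hom.comp_apply, sq.isoPullback_inv_snd, hz2]

/-- closed points along étale morphisms of Jacobson schemes. -/
theorem isClosed_singleton_iff_of_etale {X Y : Scheme.{u}} [JacobsonSpace X] (π : Y ⟶ X)
    [Etale π] (y : Y) : IsClosed ({π y} : Set X) ↔ IsClosed ({y} : Set Y) := by
  haveI : JacobsonSpace Y := LocallyOfFiniteType.jacobsonSpace π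
  constructor
  · intro hx
    rw [isClosed_singleton_iff_locallyOfFiniteType] at hx ⊢
    letI := (π.stalkMap y).hom.toAlgebra
    haveI : IsLocalHom (algebraMap (X.presheaf.stalk (π y)) (Y.presheaf.stalk y)) :=
      inferInstanceAs (IsLocalHom (π.stalkMap y).hom)
    haveI : Algebra.FormallyUnramified (X.presheaf.stalk (π y)) (Y.presheaf.stalk y) :=
      FormallyUnramified.stalkMap π y
    haveI : Algebra.EssFiniteType (X.presheaf.stalk (π y)) (Y.presheaf.stalk y) :=
      LocallyOfFiniteType.stalkMap π y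
    have hfin : Module.Finite (ResidueField (X.presheaf.stalk (π y)))
        (ResidueField (Y.presheaf.stalk y)) := inferInstance
    haveI : LocallyOfFiniteType (Spec.map (π.residueFieldMap y)) := by
      rw [HasRingHomProperty.Spec_iff (P := @LocallyOfFiniteType)]
      have h1 : (algebraMap (ResidueField (X.presheaf.stalk (π y)))
          (ResidueField (Y.presheaf.stalk y))).Finite := RingHom.finite_algebraMap.mpr hfin
      exact h1.finiteType
    haveI : LocallyOfFiniteType (Y.fromSpecResidueField y ≫ π) := by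
      rw [← Scheme.Hom.SpecMap_residueFieldMap_fromSpecResidueField]
      infer_instance
    exact locallyOfFiniteType_of_comp (Y.fromSpecResidueField y) π
  · intro hy
    exact π.closePoints_subset_preimage_closedPoints hy

section Node

variable (k : Type u) [Field k] (X : Scheme.{u}) [X.Over (Spec (CommRingCat.of k))]
  [LocallyOfFiniteType (X ↘ Spec (CommRingCat.of k))] {Y : Scheme.{u}} (π : Y ⟶ X) [Etale π]

/-- `Y` as a `k`-scheme through `π`. -/
@[reducible] noncomputable def yOver : Y.Over (Spec (CommRingCat.of k)) :=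
  ⟨π ≫ (X ↘ Spec (CommRingCat.of k))⟩

/-- the base change of `π` to the algebraic closure. -/
noncomputable def piK : @Curv2.bc k _ Y (yOver k X π) (AlgebraicClosure k) _ _ ⟶
    Curv2.bc k X (AlgebraicClosure k) :=
  pullback.map (π ≫ (X ↘ Spec (CommRingCat.of k))) _ _ _ π (𝟙 _) (𝟙 _)
    (by rw [Category.comp_id]) (by rw [Category.comp_id, Category.id_comp])

theorem piK_fst : piK k X π ≫ Curv2.bcFst k X (AlgebraicClosure k) =
    @Curv2.bcFst k _ Y (yOver k X π) (AlgebraicClosure k) _ _ ≫ π :=
  pullback.lift_fst _ _ _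

theorem piK_snd : piK k X π ≫ Curv2.bcSnd k X (AlgebraicClosure k) =
    @Curv2.bcSnd k _ Y (yOver k X π) (AlgebraicClosure k) _ _ :=
  (pullback.lift_snd _ _ _).trans (Category.comp_id _)

theorem isPullback_piK : IsPullback (piK k X π)
    (@Curv2.bcFst k _ Y (yOver k X π) (AlgebraicClosure k) _ _)
    (Curv2.bcFst k X (AlgebraicClosure k)) π := by
  have big : IsPullback
      (@Curv2.bcFst k _ Y (yOver k X π) (AlgebraicClosure k) _ _)
      (piK k X π ≫ Curv2.bcSnd k X (AlgebraicClosure k))
      (π ≫ (X ↘ Spec (CommRingCat.of k)))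
      (Spec.map (CommRingCat.ofHom (algebraMap k (AlgebraicClosure k)))) := by
    rw [piK_snd]
    exact IsPullback.of_hasPullback _ _
  have right : IsPullback (Curv2.bcFst k X (AlgebraicClosure k))
      (Curv2.bcSnd k X (AlgebraicClosure k)) (X ↘ Spec (CommRingCat.of k))
      (Spec.map (CommRingCat.ofHom (algebraMap k (AlgebraicClosure k)))) :=
    IsPullback.of_hasPullback _ _
  exact (IsPullback.of_bot big (piK_fst k X π).symm right).flip

instance : Etale (piK k X π) :=
  MorphismProperty.of_isPullback (P := @Etale) (isPullback_piK k X π).flip inferInstance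

theorem isNode_iff_of_etale (y : Y) :
    Curv2.IsNode k X (π y) ↔
      @Curv2.IsNode k _ Y ⟨π ≫ (X ↘ Spec (CommRingCat.of k))⟩ y := by
  haveI : JacobsonSpace X := LocallyOfFiniteType.jacobsonSpace (X ↘ Spec (CommRingCat.of k))
  haveI : LocallyOfFiniteType (Curv2.bcSnd k X (AlgebraicClosure k)) :=
    MorphismProperty.pullback_snd _ _ inferInstance
  have key := fun z => NodeEt2.isOrdDoublePt_iff_of_etale (AlgebraicClosure k)
    (Curv2.bcSnd k X (AlgebraicClosure k))
    (@Curv2.bcSnd k _ Y (yOver k X π) (AlgebraicClosure k) _ _)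
    (piK k X π) (piK_snd k X π) z
  constructor
  · rintro ⟨hcl, xb, hxb, hnode⟩
    obtain ⟨yb, hyb1, hyb2⟩ := exists_preimage_of_isPullback (isPullback_piK k X π) xb y hxb
    refine ⟨(isClosed_singleton_iff_of_etale π y).mp hcl, yb, hyb2, ?_⟩
    subst hyb1
    exact (key yb).mp hnode
  · rintro ⟨hcl, yb, hyb, hnode⟩
    refine ⟨(isClosed_singleton_iff_of_etale π y).mpr hcl, piK k X π yb, ?_, (key yb).mpr hnode⟩
    rw [← Scheme.Hom.comp_apply, piK_fst, Scheme.Hom.comp_apply, hyb]

end Node

end Groth.Agent.Lib.Helper19.NodeEt3
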