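import Mathlib
import Groth.Prelude.Def_CurvBase
import Groth.Agent.Lib.helper19.Node8
import Groth.Agent.Lib.helper19.FlatDimFormula

set_option autoImplicit false
set_option linter.style.haveILetI false
universe u

namespace Groth.Agent.Lib.Helper19.NodeEt4

open CategoryTheory CategoryTheory.Limits AlgebraicGeometry IsLocalRing TopologicalSpace

section Top

variable {X : Scheme.{u}}

/-- upper bound of the dimension of a closed subset by coheights of its points. -/
theorem topKrullDim_le_of_coheight_le (Z : Set X) (hZ : IsClosed Z) (n : ℕ)
    (h : ∀ z ∈ Z, Order.coheight z ≤ (n : ℕ∞)) : topologicalKrullDim Z ≤ n := by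
  haveI : QuasiSober Z := hZ.isClosedEmbedding_subtypeVal.quasiSober
  unfold topologicalKrullDim
  rw [Order.krullDim]
  refine iSup_le fun r => ?_
  let gp : Fin (r.length + 1) → Z := fun i => (r i).isIrreducible.genericPoint
  have hgp : ∀ i, IsGenericPoint (gp i) (r i : Set Z) := fun i =>
    (r i).isIrreducible.isGenericPoint_genericPoint (r i).isClosed
  have hle : ∀ i j, r i ≤ r j → gp j ⤳ gp i := by
    intro i j hij
    exact (hgp j).specializes (hij (hgp i).mem)
  have hnle : ∀ i j, gp j ⤳ gp i → r i ≤ r j := by
    intro i j hs
    change (r i : Set Z) ⊆ (r j : Set Z)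
    rw [← (hgp i).def, ← (hgp j).def]
    exact (isClosed_closure.closure_subset_iff).mpr
      (Set.singleton_subset_iff.mpr (specializes_iff_mem_closure.mp hs))
  let q : LTSeries X :=
    { length := r.length
      toFun := fun i => (gp i : X)
      step := by
        intro i
        have hlt : r i.castSucc < r i.succ := r.step i
        change (gp i.castSucc : X) < (gp i.succ : X)
        rw [lt_iff_le_not_ge]
        constructor
        · change (gp i.succ : X) ⤳ (gp i.castSucc : X)
          rw [← subtype_specializes_iff]
          exact hle _ _ hlt.le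
        · intro hcon
          have hcon' : (gp i.castSucc : X) ⤳ (gp i.succ : X) := hcon
          rw [← subtype_specializes_iff] at hcon'
          exact hlt.not_ge (hnle _ _ hcon') }
  have h1 : (q.length : ℕ∞) ≤ Order.coheight q.head := Order.length_le_coheight_head
  have h2 : Order.coheight q.head ≤ (n : ℕ∞) := h _ (gp 0).2
  have h3 : (r.length : ℕ∞) ≤ n := h1.trans h2
  exact_mod_cast h3

/-- lower bound. -/
theorem one_le_topKrullDim (Z : Set X) (y z : X) (hy : y ∈ Z) (hz : z ∈ Z)
    (hzy : z ⤳ y) (hne : ¬ y ⤳ z) : (1 : WithBot ℕ∞) ≤ topologicalKrullDim Z := by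
  let T : Fin 2 → IrreducibleCloseds Z := fun i =>
    ⟨closure {(⟨![y, z] i, by fin_cases i <;> simp [hy, hz]⟩ : Z)},
      isIrreducible_singleton.closure, isClosed_closure⟩
  have hT : T 0 < T 1 := by
    rw [lt_iff_le_not_ge]
    constructor
    · change closure {(⟨y, hy⟩ : Z)} ⊆ closure {(⟨z, hz⟩ : Z)}
      rw [isClosed_closure.closure_subset_iff, Set.singleton_subset_iff,
        ← specializes_iff_mem_closure, subtype_specializes_iff]
      exact hzy
    · intro hcon
      have hcon' : closure {(⟨z, hz⟩ : Z)} ⊆ closure {(⟨y, hy⟩ : Z)} := hcon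
      rw [isClosed_closure.closure_subset_iff, Set.singleton_subset_iff,
        ← specializes_iff_mem_closure, subtype_specializes_iff] at hcon'
      exact hne hcon'
  let r : LTSeries (IrreducibleCloseds Z) :=
    { length := 1
      toFun := T
      step := by
        intro i
        have : i = 0 := Subsingleton.elim _ _
        subst this
        exact hT }
  have h3 : (r.length : WithBot ℕ∞) ≤ topologicalKrullDim Z := Order.LTSeries.length_le_krullDim r
  exact_mod_cast h3

end Top

section Etale

variable {P Q : Scheme.{u}} (g : Q ⟶ P) [Etale g] [IsLocallyNoetherian P]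

theorem ringKrullDim_stalk_eq_of_etale (z : Q) :
    ringKrullDim (Q.presheaf.stalk z) = ringKrullDim (P.presheaf.stalk (g z)) := by
  haveI : IsLocallyNoetherian Q := LocallyOfFiniteType.isLocallyNoetherian g
  have h := Groth.Agent.Lib.Helper19.FlatDimFormula.stalk_dim g z (Flat.stalkMap g z)
  letI := (g.stalkMap z).hom.toAlgebra
  haveI : IsLocalHom (algebraMap (P.presheaf.stalk (g z)) (Q.presheaf.stalk z)) :=
    inferInstanceAs (IsLocalHom (g.stalkMap z).hom)
  haveI : Algebra.FormallyUnramified (P.presheaf.stalk (g z)) (Q.presheaf.stalk z) :=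
    FormallyUnramified.stalkMap g z
  haveI : Algebra.EssFiniteType (P.presheaf.stalk (g z)) (Q.presheaf.stalk z) :=
    LocallyOfFiniteType.stalkMap g z
  have hm : (maximalIdeal (P.presheaf.stalk (g z))).map (g.stalkMap z).hom =
      maximalIdeal (Q.presheaf.stalk z) :=
    Algebra.FormallyUnramified.map_maximalIdeal
  rw [hm] at h
  have h0 : ringKrullDim (Q.presheaf.stalk z ⧸ maximalIdeal (Q.presheaf.stalk z)) = 0 :=
    ringKrullDim_eq_zero_of_field (ResidueField (Q.presheaf.stalk z))
  rw [h0, add_zero] at h
  exact h

theorem coheight_eq_of_etale (z : Q) : Order.coheight z = Order.coheight (g z) := by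
  have h := ringKrullDim_stalk_eq_of_etale g z
  rw [ringKrullDim_stalk_eq_coheight, ringKrullDim_stalk_eq_coheight] at h
  exact_mod_cast h

include g in
theorem equidim_of_etale [JacobsonSpace P]
    (hP : ∀ Z ∈ irreducibleComponents (P : Type u), topologicalKrullDim Z = 1) :
    ∀ Z ∈ irreducibleComponents (Q : Type u), topologicalKrullDim Z = 1 := by
  haveI : JacobsonSpace Q := LocallyOfFiniteType.jacobsonSpace g
  have hcoP : ∀ x : P, Order.coheight x ≤ (1 : ℕ∞) := by
    intro x
    have h := Groth.Agent.Lib.Helper19.Node8.dim_stalk_le_one P hP x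
    rw [ringKrullDim_stalk_eq_coheight] at h
    exact_mod_cast h
  have hcoQ : ∀ z : Q, Order.coheight z ≤ (1 : ℕ∞) := fun z => by
    rw [coheight_eq_of_etale g z]; exact hcoP _
  intro Z hZ
  have hZcl : IsClosed Z := isClosed_of_mem_irreducibleComponents Z hZ
  have hZirr : IsIrreducible Z := hZ.1
  apply le_antisymm
  · exact topKrullDim_le_of_coheight_le Z hZcl 1 (fun z _ => hcoQ z)
  · -- lower bound
    set η := hZirr.genericPoint with hη
    have hηgen : IsGenericPoint η Z := hZirr.isGenericPoint_genericPoint hZcl
    obtain ⟨y, hyZ, hycl⟩ := nonempty_inter_closedPoints (Z := Z) hZirr.nonempty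
      hZcl.isLocallyClosed
    have hycl' : IsClosed ({y} : Set Q) := hycl
    have hspec : η ⤳ y := hηgen.specializes hyZ
    refine one_le_topKrullDim Z y η hyZ hηgen.mem hspec ?_
    intro hcon
    -- then η = y is a closed point
    have hηy : η = y := by
      have h1 : η ∈ closure ({y} : Set Q) := specializes_iff_mem_closure.mp hcon
      rw [hycl'.closure_eq] at h1
      exact h1
    -- η is a maximal point
    have hmax : Order.coheight η = 0 := by
      rw [Order.coheight_eq_zero]
      intro η' hη'
      have hs : η' ⤳ η := hη'
      have h1 : Z ⊆ closure ({η'} : Set Q) := by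
        rw [← hηgen.def]
        exact (isClosed_closure.closure_subset_iff).mpr
          (Set.singleton_subset_iff.mpr (specializes_iff_mem_closure.mp hs))
      have h2 : closure ({η'} : Set Q) ⊆ Z := hZ.2 isIrreducible_singleton.closure h1
      have h3 : η' ∈ Z := h2 (subset_closure rfl)
      exact hηgen.specializes h3
    set x := g η with hx
    have hxcl : IsClosed ({x} : Set P) :=
      g.closePoints_subset_preimage_closedPoints (hηy ▸ hycl)
    have hxmax : Order.coheight x = 0 := by rw [hx, ← coheight_eq_of_etale g η, hmax]
    rw [Order.coheight_eq_zero] at hxmax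
    have hcomp : ({x} : Set P) ∈ irreducibleComponents (P : Type u) := by
      refine ⟨isIrreducible_singleton, ?_⟩
      intro T hT hxT
      have hTc : IsIrreducible (closure T) := hT.closure
      set τ := hTc.genericPoint with hτ
      have hτgen : IsGenericPoint τ (closure T) := hTc.isGenericPoint_genericPoint isClosed_closure
      have h1 : τ ⤳ x := hτgen.specializes (subset_closure (hxT rfl))
      have h2 : x ⤳ τ := hxmax (show x ≤ τ from h1)
      have h3 : τ ∈ closure ({x} : Set P) := specializes_iff_mem_closure.mp h2
      rw [hxcl.closure_eq] at h3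
      have h4 : closure T = {x} := by
        rw [← hτgen.def, h3, hxcl.closure_eq]
      intro t ht
      have : t ∈ closure T := subset_closure ht
      rw [h4] at this
      exact this
    have h1 := hP _ hcomp
    haveI : Subsingleton ({x} : Set P) := (Set.subsingleton_coe _).mpr Set.subsingleton_singleton
    have h2 : topologicalKrullDim ({x} : Set P) ≤ 0 := by
      unfold topologicalKrullDim
      rw [Order.krullDim]
      refine iSup_le fun r => ?_
      have : r.length = 0 := by
        by_contra hne
        have hpos : 0 < r.length := Nat.pos_of_ne_zero hne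
        have hlt : r 0 < r ⟨1, by omega⟩ := r.strictMono (by simp [Fin.lt_def])
        have hsub : Subsingleton (IrreducibleCloseds ({x} : Set P)) := by
          constructor
          intro a b
          apply IrreducibleCloseds.ext
          ext t
          have ha := a.isIrreducible.nonempty
          have hb := b.isIrreducible.nonempty
          obtain ⟨ta, hta⟩ := ha
          obtain ⟨tb, htb⟩ := hb
          constructor
          · intro _; rw [Subsingleton.elim t tb]; exact htb
          · intro _; rw [Subsingleton.elim t ta]; exact hta
        exact hlt.ne (Subsingleton.elim _ _)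
      rw [this]; simp
    rw [h1] at h2
    exact absurd h2 (by decide)

end Etale

end Groth.Agent.Lib.Helper19.NodeEt4
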