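import Mathlib
import Groth.Prelude.Def_CurvBase
import Groth.Agent.Lib.helper19.NodeEt3
import Groth.Agent.Lib.helper19.NodeEt4

set_option autoImplicit false
set_option linter.style.haveILetI false
universe u

namespace Groth.Agent.Lib.Helper19.NodeEt5

open CategoryTheory CategoryTheory.Limits AlgebraicGeometry IsLocalRing TopologicalSpace

section PbMap

variable {X Y S T : Scheme.{u}} (g : Y ⟶ X) (f : X ⟶ S) (t : T ⟶ S)

/-- the map of fibre products induced by a morphism of the first factors. -/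
noncomputable def pbMap : pullback (g ≫ f) t ⟶ pullback f t :=
  pullback.map (g ≫ f) t f t g (𝟙 _) (𝟙 _)
    (by rw [Category.comp_id]) (by rw [Category.comp_id, Category.id_comp])

theorem pbMap_fst : pbMap g f t ≫ pullback.fst f t = pullback.fst (g ≫ f) t ≫ g :=
  pullback.lift_fst _ _ _

theorem pbMap_snd : pbMap g f t ≫ pullback.snd f t = pullback.snd (g ≫ f) t :=
  (pullback.lift_snd _ _ _).trans (Category.comp_id _)

theorem isPullback_pbMap :
    IsPullback (pbMap g f t) (pullback.fst (g ≫ f) t) (pullback.fst f t) g := by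
  have big : IsPullback (pullback.fst (g ≫ f) t) (pbMap g f t ≫ pullback.snd f t) (g ≫ f) t := by
    rw [pbMap_snd]
    exact IsPullback.of_hasPullback _ _
  exact (IsPullback.of_bot big (pbMap_fst g f t).symm (IsPullback.of_hasPullback f t)).flip

instance [Etale g] : Etale (pbMap g f t) :=
  MorphismProperty.of_isPullback (P := @Etale) (isPullback_pbMap g f t).flip inferInstance

end PbMap

theorem isNode_congr (k : Type u) [Field k] {Y : Scheme.{u}} {p p' : Y ⟶ Spec (CommRingCat.of k)}
    (h : p = p') (y : Y) :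
    @Curv2.IsNode k _ Y ⟨p⟩ y ↔ @Curv2.IsNode k _ Y ⟨p'⟩ y := by
  subst h; rfl

theorem nodalFamily_precomp_etale {X Y S : Scheme.{u}} (f : X ⟶ S) (hf : Curv2.IsNodalFamily f)
    (g : Y ⟶ X) [Etale g] : Curv2.IsNodalFamily (g ≫ f) := by
  obtain ⟨hfl, hfp, hfib⟩ := hf
  haveI := hfl
  haveI := hfp
  refine ⟨inferInstance, inferInstance, fun s => ?_⟩
  obtain ⟨hequi, hnod⟩ := hfib s
  let gs : (g ≫ f).fiber s ⟶ f.fiber s := pbMap g f (S.fromSpecResidueField s)
  haveI : Etale gs := inferInstanceAs (Etale (pbMap g f (S.fromSpecResidueField s)))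
  have hgs_snd : gs ≫ f.fiberToSpecResidueField s = (g ≫ f).fiberToSpecResidueField s :=
    pbMap_snd g f (S.fromSpecResidueField s)
  haveI : LocallyOfFiniteType (f.fiberToSpecResidueField s) :=
    MorphismProperty.pullback_snd _ _ inferInstance
  haveI : IsLocallyNoetherian (f.fiber s) :=
    LocallyOfFiniteType.isLocallyNoetherian (f.fiberToSpecResidueField s)
  haveI : JacobsonSpace (f.fiber s) :=
    LocallyOfFiniteType.jacobsonSpace (f.fiberToSpecResidueField s)
  refine ⟨NodeEt4.equidim_of_etale gs hequi, ?_⟩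
  intro y hy
  have hxcl : IsClosed ({gs y} : Set (f.fiber s)) :=
    gs.closePoints_subset_preimage_closedPoints hy
  rcases hnod (gs y) hxcl with ⟨U, hxU, hsm⟩ | hnode
  · refine Or.inl ⟨gs ⁻¹ᵁ U, hxU, ?_⟩
    have h1 : (gs ⁻¹ᵁ U).ι ≫ (g ≫ f).fiberToSpecResidueField s =
        (gs ∣_ U) ≫ U.ι ≫ f.fiberToSpecResidueField s := by
      rw [← hgs_snd, ← Category.assoc, ← morphismRestrict_ι, Category.assoc]
    change Smooth ((gs ⁻¹ᵁ U).ι ≫ (g ≫ f).fiberToSpecResidueField s)
    rw [h1]
    haveI : Smooth (U.ι ≫ f.fiberToSpecResidueField s) := hsm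
    infer_instance
  · refine Or.inr ?_
    letI : (f.fiber s).Over (Spec (CommRingCat.of (S.residueField s))) :=
      ⟨f.fiberToSpecResidueField s⟩
    haveI : LocallyOfFiniteType (f.fiber s ↘ Spec (CommRingCat.of (S.residueField s))) :=
      ‹LocallyOfFiniteType (f.fiberToSpecResidueField s)›
    have h2 := (NodeEt3.isNode_iff_of_etale (S.residueField s) (f.fiber s) gs y).mp hnode
    exact (isNode_congr (S.residueField s) hgs_snd y).mp h2

end Groth.Agent.Lib.Helper19.NodeEt5
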