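import Mathlib
import Groth.Prelude.Def_CurvBase
import Groth.Agent.Lib.helper19.NodeEt5
import Groth.Agent.Lib.Helper3.SmoothEt5
import Groth.Agent.Lib.Helper3.EtSrcLocalFlat

set_option autoImplicit false
set_option linter.style.haveILetI false
universe u

namespace Groth.Agent.Lib.Helper19.NodeEt6

open CategoryTheory CategoryTheory.Limits AlgebraicGeometry IsLocalRing TopologicalSpace
open Groth.Agent.Lib.Helper19

section Top

variable {P : Scheme.{u}}

/-- in a scheme all of whose irreducible components have dimension one, no point is both closed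
and maximal. -/
theorem false_of_closed_of_coheight_zero
    (hP : ∀ Z ∈ irreducibleComponents (P : Type u), topologicalKrullDim Z = 1) (x : P)
    (hxcl : IsClosed ({x} : Set P)) (hxmax : Order.coheight x = 0) : False := by
  rw [Order.coheight_eq_zero] at hxmax
  have hcomp : ({x} : Set P) ∈ irreducibleComponents (P : Type u) := by
    refine ⟨isIrreducible_singleton, ?_⟩
    intro T hT hxT
    have hTc : IsIrreducible (closure T) := hT.closure
    set τ := hTc.genericPoint with hτ
    have hτgen : IsGenericPoint τ (closure T) := hTc.isGenericPoint_genericPoint isClosed_closure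
    have h1 : τ ⤳ x := hτgen.specializes (subset_closure (hxT rfl))
    have h2 : x ⤳ τ := hxmax (show x ≤ τ from h1)
    have h3 : τ ∈ closure ({x} : Set P) := specializes_iff_mem_closure.mp h2
    rw [hxcl.closure_eq] at h3
    have h4 : closure T = {x} := by
      rw [← hτgen.def, h3, hxcl.closure_eq]
    intro t ht
    have : t ∈ closure T := subset_closure ht
    rw [h4] at this
    exact this
  have h1 := hP _ hcomp
  haveI : Subsingleton ({x} : Set P) := (Set.subsingleton_coe _).mpr Set.subsingleton_singleton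
  have h2 : topologicalKrullDim ({x} : Set P) ≤ 0 := by
    unfold topologicalKrullDim
    rw [Order.krullDim]
    refine iSup_le fun r => ?_
    have : r.length = 0 := by
      by_contra hne
      have hpos : 0 < r.length := Nat.pos_of_ne_zero hne
      have hlt : r 0 < r ⟨1, by omega⟩ := r.strictMono (by simp [Fin.lt_def])
      have hsub : Subsingleton (IrreducibleCloseds ({x} : Set P)) := by
        constructor
        intro a b
        apply IrreducibleCloseds.ext
        ext t
        have ha := a.isIrreducible.nonempty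
        have hb := b.isIrreducible.nonempty
        obtain ⟨ta, hta⟩ := ha
        obtain ⟨tb, htb⟩ := hb
        constructor
        · intro _; rw [Subsingleton.elim t tb]; exact htb
        · intro _; rw [Subsingleton.elim t ta]; exact hta
      exact hlt.ne (Subsingleton.elim _ _)
    rw [this]; simp
  rw [h1] at h2
  exact absurd h2 (by decide)

end Top

section Cover

variable {P : Scheme.{u}} [IsLocallyNoetherian P] [JacobsonSpace P] {ι : Type*}
  (Q : ι → Scheme.{u}) (g : ∀ i, Q i ⟶ P) [∀ i, Etale (g i)]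

include g in
theorem equidim_of_etale_cover (hsurj : ∀ x : P, ∃ i, x ∈ Set.range (g i))
    (hQ : ∀ i, ∀ Z ∈ irreducibleComponents (Q i : Type u), topologicalKrullDim Z = 1) :
    ∀ Z ∈ irreducibleComponents (P : Type u), topologicalKrullDim Z = 1 := by
  have hcoQ : ∀ i (z : Q i), Order.coheight z ≤ (1 : ℕ∞) := by
    intro i z
    have h := Groth.Agent.Lib.Helper19.Node8.dim_stalk_le_one (Q i) (hQ i) z
    rw [ringKrullDim_stalk_eq_coheight] at h
    exact_mod_cast h
  have hcoP : ∀ x : P, Order.coheight x ≤ (1 : ℕ∞) := by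
    intro x
    obtain ⟨i, z, rfl⟩ := hsurj x
    rw [← NodeEt4.coheight_eq_of_etale (g i) z]
    exact hcoQ i z
  intro Z hZ
  have hZcl : IsClosed Z := isClosed_of_mem_irreducibleComponents Z hZ
  have hZirr : IsIrreducible Z := hZ.1
  apply le_antisymm
  · exact NodeEt4.topKrullDim_le_of_coheight_le Z hZcl 1 (fun z _ => hcoP z)
  · set η := hZirr.genericPoint with hη
    have hηgen : IsGenericPoint η Z := hZirr.isGenericPoint_genericPoint hZcl
    obtain ⟨y, hyZ, hycl⟩ := nonempty_inter_closedPoints (Z := Z) hZirr.nonempty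
      hZcl.isLocallyClosed
    have hycl' : IsClosed ({y} : Set P) := hycl
    have hspec : η ⤳ y := hηgen.specializes hyZ
    refine NodeEt4.one_le_topKrullDim Z y η hyZ hηgen.mem hspec ?_
    intro hcon
    have hηy : η = y := by
      have h1 : η ∈ closure ({y} : Set P) := specializes_iff_mem_closure.mp hcon
      rw [hycl'.closure_eq] at h1
      exact h1
    have hmax : Order.coheight η = 0 := by
      rw [Order.coheight_eq_zero]
      intro η' hη'
      have hs : η' ⤳ η := hη'
      have h1 : Z ⊆ closure ({η'} : Set P) := by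
        rw [← hηgen.def]
        exact (isClosed_closure.closure_subset_iff).mpr
          (Set.singleton_subset_iff.mpr (specializes_iff_mem_closure.mp hs))
      have h2 : closure ({η'} : Set P) ⊆ Z := hZ.2 isIrreducible_singleton.closure h1
      have h3 : η' ∈ Z := h2 (subset_closure rfl)
      exact hηgen.specializes h3
    obtain ⟨i, z, hz⟩ := hsurj η
    have hzcl : IsClosed ({z} : Set (Q i)) := by
      rw [← NodeEt3.isClosed_singleton_iff_of_etale (g i) z, hz, hηy]
      exact hycl'
    have hzmax : Order.coheight z = 0 := by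
      rw [NodeEt4.coheight_eq_of_etale (g i) z, hz, hmax]
    exact false_of_closed_of_coheight_zero (hQ i) z hzcl hzmax

end Cover

section Main

theorem smooth_image {P Q K : Scheme.{u}} (π : Q ⟶ P) [Etale π] (p : P ⟶ K)
    (U' : Q.Opens) (hsm : Smooth (U'.ι ≫ π ≫ p)) :
    ∃ U : P.Opens, (∀ z ∈ U', π z ∈ U) ∧ Smooth (U.ι ≫ p) := by
  let U : P.Opens := ⟨π '' (U' : Set Q), π.isOpenMap _ U'.2⟩
  have hrange : Set.range (U'.ι ≫ π) ⊆ Set.range U.ι := by
    rintro _ ⟨z, rfl⟩
    rw [Scheme.Opens.range_ι]
    exact ⟨U'.ι z, by simpa using z.2, by simp⟩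
  let π' : (U' : Scheme.{u}) ⟶ U := IsOpenImmersion.lift U.ι (U'.ι ≫ π) hrange
  have hπ' : π' ≫ U.ι = U'.ι ≫ π := IsOpenImmersion.lift_fac _ _ _
  haveI : Etale (π' ≫ U.ι) := by rw [hπ']; infer_instance
  haveI : Etale π' := Etale.of_comp π' U.ι
  haveI : Surjective π' := by
    refine ⟨fun u => ?_⟩
    obtain ⟨z, hz, hzu⟩ := u.2
    refine ⟨⟨z, hz⟩, ?_⟩
    apply U.ι.isOpenEmbedding.injective
    rw [← Scheme.Hom.comp_apply, hπ']
    simpa using hzu
  refine ⟨U, fun z hz => ⟨z, hz, rfl⟩, ?_⟩
  have h1 : Smooth (π' ≫ U.ι ≫ p) := by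
    rw [← Category.assoc, hπ', Category.assoc]; exact hsm
  exact Groth.Agent.Lib.Helper3.smooth_of_etale_surjective_comp π' (U.ι ≫ p) h1

theorem nodalFamily_of_etale_cover {X S : Scheme.{u}} (f : X ⟶ S) (ι : Type u)
    (U : ι → Scheme.{u}) (g : ∀ i, U i ⟶ X) [∀ i, Etale (g i)]
    (hsurj : ∀ x : X, ∃ i, x ∈ Set.range (g i).base)
    (h : ∀ i, Curv2.IsNodalFamily (g i ≫ f)) : Curv2.IsNodalFamily f := by
  haveI : Etale (Sigma.desc g) := IsZariskiLocalAtSource.sigmaDesc (fun i => inferInstance)
  haveI : Surjective (Sigma.desc g) := by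
    apply Surjective.sigmaDesc_of_union_range_eq_univ
    rw [Set.eq_univ_iff_forall]
    intro x
    obtain ⟨i, hi⟩ := hsurj x
    exact Set.mem_iUnion.mpr ⟨i, hi⟩
  have hcomp : Sigma.desc g ≫ f = Sigma.desc (fun i => g i ≫ f) :=
    Sigma.hom_ext _ _ (fun i => by simp)
  have hfl : Flat f := by
    apply Groth.Agent.Lib.Helper3.flat_of_flat_surjective_comp (Sigma.desc g) f
    rw [hcomp]
    exact IsZariskiLocalAtSource.sigmaDesc (fun i => (h i).1)
  have hfp : LocallyOfFinitePresentation f := by
    apply Groth.Agent.Lib.Helper3.locallyOfFinitePresentation_of_etale_surjective_comp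
      (Sigma.desc g) f
    rw [hcomp]
    exact IsZariskiLocalAtSource.sigmaDesc (fun i => (h i).2.1)
  refine ⟨hfl, hfp, fun s => ?_⟩
  let gs : ∀ i, (g i ≫ f).fiber s ⟶ f.fiber s := fun i =>
    NodeEt5.pbMap (g i) f (S.fromSpecResidueField s)
  haveI : ∀ i, Etale (gs i) := fun i =>
    inferInstanceAs (Etale (NodeEt5.pbMap (g i) f (S.fromSpecResidueField s)))
  have hgs_snd : ∀ i, gs i ≫ f.fiberToSpecResidueField s =
      (g i ≫ f).fiberToSpecResidueField s := fun i =>
    NodeEt5.pbMap_snd (g i) f (S.fromSpecResidueField s)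
  have hgs_surj : ∀ x : f.fiber s, ∃ i, x ∈ Set.range (gs i) := by
    intro x
    obtain ⟨i, u, hu⟩ := hsurj ((f.fiberι s) x)
    obtain ⟨z, hz, -⟩ := NodeEt3.exists_preimage_of_isPullback
      (NodeEt5.isPullback_pbMap (g i) f (S.fromSpecResidueField s)) x u hu.symm
    exact ⟨i, z, hz⟩
  haveI : LocallyOfFiniteType (f.fiberToSpecResidueField s) :=
    MorphismProperty.pullback_snd _ _ inferInstance
  haveI : IsLocallyNoetherian (f.fiber s) :=
    LocallyOfFiniteType.isLocallyNoetherian (f.fiberToSpecResidueField s)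
  haveI : JacobsonSpace (f.fiber s) :=
    LocallyOfFiniteType.jacobsonSpace (f.fiberToSpecResidueField s)
  refine ⟨equidim_of_etale_cover _ gs hgs_surj (fun i => ((h i).2.2 s).1), ?_⟩
  intro x hx
  obtain ⟨i, z, rfl⟩ := hgs_surj x
  have hzcl : IsClosed ({z} : Set ((g i ≫ f).fiber s)) :=
    (NodeEt3.isClosed_singleton_iff_of_etale (gs i) z).mp hx
  rcases ((h i).2.2 s).2 z hzcl with ⟨U', hzU', hsm⟩ | hnode
  · refine Or.inl ?_
    have hsm' : Smooth (U'.ι ≫ gs i ≫ f.fiberToSpecResidueField s) := by
      rw [hgs_snd i]; exact hsm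
    obtain ⟨V, hV, hVsm⟩ := smooth_image (gs i) (f.fiberToSpecResidueField s) U' hsm'
    exact ⟨V, hV z hzU', hVsm⟩
  · refine Or.inr ?_
    letI : (f.fiber s).Over (Spec (CommRingCat.of (S.residueField s))) :=
      ⟨f.fiberToSpecResidueField s⟩
    haveI : LocallyOfFiniteType (f.fiber s ↘ Spec (CommRingCat.of (S.residueField s))) :=
      ‹LocallyOfFiniteType (f.fiberToSpecResidueField s)›
    have h2 := (NodeEt5.isNode_congr (S.residueField s) (hgs_snd i) z).mpr hnode
    exact (NodeEt3.isNode_iff_of_etale (S.residueField s) (f.fiber s) (gs i) z).mpr h2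

end Main

end Groth.Agent.Lib.Helper19.NodeEt6
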