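import Mathlib
import Groth.Agent.Lib.helper19.SecSm2

set_option autoImplicit false
set_option linter.unusedSectionVars false
universe u

namespace Groth.Agent.Lib.Helper19.SecSm3

open IsLocalRing TensorProduct

variable (A B P : Type u) [CommRing A] [CommRing B] [CommRing P] [Algebra A B] [Algebra A P]
  [Algebra P B] [IsScalarTower A P B] [IsLocalRing A]

theorem formallySmooth_of_retraction [IsDomain A] [IsPrincipalIdealRing A] [IsRegularLocalRing B]
    [IsLocalHom (algebraMap A B)] [Module.Flat A B]
    [Algebra.FinitePresentation A P] (M : Submonoid P) [IsLocalization M B]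
    (ρ : B →+* A) (hρ : ∀ a, ρ (algebraMap A B a) = a) : Algebra.FormallySmooth A B := by
  haveI : Algebra.EssFiniteType P B := Algebra.EssFiniteType.of_isLocalization B M
  haveI : Algebra.EssFiniteType A B := Algebra.EssFiniteType.comp A P B
  haveI hreg := SecSm2.isRegularLocalRing_fibre A B ρ hρ
  -- residue field of the fibre ring
  letI algk : Algebra (ResidueField A) (B ⧸ (maximalIdeal A).map (algebraMap A B)) :=
    inferInstanceAs (Algebra (A ⧸ maximalIdeal A) (B ⧸ (maximalIdeal A).map (algebraMap A B)))
  haveI : Algebra.EssFiniteType (ResidueField A) (B ⧸ (maximalIdeal A).map (algebraMap A B)) :=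
    inferInstanceAs (Algebra.EssFiniteType (A ⧸ maximalIdeal A)
      (B ⧸ (maximalIdeal A).map (algebraMap A B)))
  have hbij : Function.Bijective (algebraMap (ResidueField A)
      (ResidueField (B ⧸ (maximalIdeal A).map (algebraMap A B)))) := by
    refine ⟨RingHom.injective _, ?_⟩
    intro y
    obtain ⟨y, rfl⟩ := residue_surjective y
    obtain ⟨b, rfl⟩ := Ideal.Quotient.mk_surjective y
    refine ⟨residue A (ρ b), ?_⟩
    have h1 := SecSm2.sub_mem A B ρ hρ b
    have h2 : residue (B ⧸ (maximalIdeal A).map (algebraMap A B))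
        (Ideal.Quotient.mk _ (b - algebraMap A B (ρ b))) = 0 := by
      rw [residue_eq_zero_iff, mem_maximalIdeal, mem_nonunits_iff]
      intro hu
      obtain ⟨c, hc⟩ := hu.exists_right_inv
      obtain ⟨c, rfl⟩ := Ideal.Quotient.mk_surjective c
      rw [← map_mul, ← map_one (Ideal.Quotient.mk _), Ideal.Quotient.eq] at hc
      have h3 : (maximalIdeal A).map (algebraMap A B) ≤ maximalIdeal B :=
        ((local_hom_TFAE (algebraMap A B)).out 0 2 rfl rfl).mp inferInstance
      have h4 := h3 hc
      have h5 : (b - algebraMap A B (ρ b)) * c ∈ maximalIdeal B := Ideal.mul_mem_right _ _ h1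
      have h6 : (1 : B) ∈ maximalIdeal B := by
        have := Ideal.sub_mem _ h5 h4
        simpa using this
      exact (Ideal.ne_top_iff_one _).mp (maximalIdeal.isMaximal B).ne_top h6
    rw [map_sub, map_sub, sub_eq_zero] at h2
    rw [h2]
    rfl
  haveI := SecSm1.formallySmooth_of_bijective _ _ hbij
  haveI hfs : Algebra.FormallySmooth (ResidueField A)
      (B ⧸ (maximalIdeal A).map (algebraMap A B)) :=
    SecSm1.formallySmooth_of_regular_of_residue (ResidueField A) _
  haveI hfs' : Algebra.FormallySmooth (A ⧸ maximalIdeal A)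
      (B ⧸ (maximalIdeal A).map (algebraMap A B)) := hfs
  have h9 : Algebra.FormallySmooth (A ⧸ maximalIdeal A) ((A ⧸ maximalIdeal A) ⊗[A] B) :=
    Algebra.FormallySmooth.of_equiv
      (Algebra.TensorProduct.quotIdealMapEquivQuotTensor B (maximalIdeal A))
  haveI : Algebra.FormallySmooth (ResidueField A) (ResidueField A ⊗[A] B) := h9
  exact Algebra.FormallySmooth.of_formallySmooth_residueField_tensor (R := A) (S := B) (P := P) M

end Groth.Agent.Lib.Helper19.SecSm3
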