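import Mathlib
import Groth.Agent.Lib.helper19.SecSm3

set_option autoImplicit false
set_option linter.unusedSectionVars false
set_option linter.style.haveILetI false
universe u

namespace Groth.Agent.Lib.Helper19.SecSm4

open IsLocalRing TensorProduct AlgebraicGeometry CategoryTheory

/-- ring-level statement with `EssFiniteType`. -/
theorem formallySmooth_of_retraction' (A B : Type u) [CommRing A] [CommRing B] [Algebra A B]
    [IsLocalRing A] [IsDomain A] [IsPrincipalIdealRing A] [IsRegularLocalRing B]
    [IsLocalHom (algebraMap A B)] [Module.Flat A B] [Algebra.EssFiniteType A B]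
    (ρ : B →+* A) (hρ : ∀ a, ρ (algebraMap A B a) = a) : Algebra.FormallySmooth A B := by
  haveI : Algebra.FinitePresentation A (Algebra.EssFiniteType.subalgebra A B) :=
    Algebra.FinitePresentation.of_finiteType.mp inferInstance
  exact SecSm3.formallySmooth_of_retraction A B (Algebra.EssFiniteType.subalgebra A B)
    (Algebra.EssFiniteType.submonoid A B) ρ hρ

theorem isPrincipalIdealRing_of_local_dedekind (A : Type u) [CommRing A] [IsLocalRing A]
    [IsDedekindDomain A] : IsPrincipalIdealRing A := by
  apply IsPrincipalIdealRing.of_finite_maximals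
  have : {I : Ideal A | I.IsMaximal} = {maximalIdeal A} := by
    ext I
    simp only [Set.mem_setOf_eq, Set.mem_singleton_iff]
    exact ⟨fun h => IsLocalRing.eq_maximalIdeal h, fun h => h ▸ maximalIdeal.isMaximal A⟩
  rw [this]
  exact Set.finite_singleton _

theorem main {R : Type u} [CommRing R] [IsDedekindDomain R]
    {X : Scheme.{u}} (p : X ⟶ Spec (CommRingCat.of R)) [Flat p] [LocallyOfFinitePresentation p]
    (hreg : ∀ x : X, IsRegularLocalRing (X.presheaf.stalk x))
    (s : Spec (CommRingCat.of R) ⟶ X) (hs : s ≫ p = 𝟙 _) (t : Spec (CommRingCat.of R)) :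
    s.base t ∈ p.smoothLocus := by
  rw [Scheme.Hom.mem_smoothLocus]
  set x : X := s t with hx
  -- the base local ring
  have hA : ∀ y : Spec (CommRingCat.of R),
      IsDomain ((Spec (CommRingCat.of R)).presheaf.stalk y) ∧
      IsPrincipalIdealRing ((Spec (CommRingCat.of R)).presheaf.stalk y) := by
    intro y
    letI k : Algebra R ((Spec (CommRingCat.of R)).presheaf.stalk y) :=
      StructureSheaf.stalkAlgebra R y
    haveI : IsLocalization.AtPrime ((Spec (CommRingCat.of R)).presheaf.stalk y) y.asIdeal :=
      StructureSheaf.IsLocalization.to_stalk R y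
    haveI : IsDedekindDomain ((Spec (CommRingCat.of R)).presheaf.stalk y) :=
      IsLocalization.AtPrime.isDedekindDomain R y.asIdeal _
    exact ⟨inferInstance, isPrincipalIdealRing_of_local_dedekind _⟩
  obtain ⟨hdom, hpid⟩ := hA (p x)
  haveI := hreg x
  have hflat := Flat.stalkMap p x
  have hft := LocallyOfFiniteType.stalkMap p x
  algebraize [(p.stalkMap x).hom]
  haveI : IsLocalHom (algebraMap ((Spec (CommRingCat.of R)).presheaf.stalk (p x))
      (X.presheaf.stalk x)) := inferInstanceAs (IsLocalHom (p.stalkMap x).hom)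
  -- the retraction
  have h1 : (s ≫ p).stalkMap t = p.stalkMap (s t) ≫ s.stalkMap t := Scheme.Hom.stalkMap_comp s p t
  haveI : IsIso (s ≫ p) := by rw [hs]; infer_instance
  haveI : IsIso ((s ≫ p).stalkMap t) := inferInstance
  let ρ : X.presheaf.stalk x →+* (Spec (CommRingCat.of R)).presheaf.stalk (p x) :=
    (s.stalkMap t ≫ inv ((s ≫ p).stalkMap t)).hom
  have hρ : ∀ a, ρ (algebraMap _ _ a) = a := by
    intro a
    have h3 : p.stalkMap (s t) ≫ s.stalkMap t ≫ inv ((s ≫ p).stalkMap t) = 𝟙 _ := by
      rw [← Category.assoc, ← h1]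
      exact IsIso.hom_inv_id ((s ≫ p).stalkMap t)
    exact congrArg (fun f => f.hom a) h3
  exact formallySmooth_of_retraction' _ _ ρ hρ

end Groth.Agent.Lib.Helper19.SecSm4
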