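import Mathlib
import Groth.Prelude.Def_CurvBase
import Groth.Agent.Lib.Helper5.StalkFT
import Groth.Agent.Lib.helper19.SecSm4

set_option autoImplicit false
set_option linter.style.haveILetI false
universe u

namespace Groth.Agent.Lib.Helper19.NormCurve1

open CategoryTheory CategoryTheory.Limits AlgebraicGeometry IsLocalRing TopologicalSpace

theorem dim_stalk_le (X : Scheme.{u}) (x : X) :
    ringKrullDim (X.presheaf.stalk x) ≤ topologicalKrullDim X := by
  rw [ringKrullDim_stalk_eq_coheight]
  let T : X → IrreducibleCloseds X := fun y =>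
    ⟨closure {y}, isIrreducible_singleton.closure, isClosed_closure⟩
  have hspec : ∀ a b : X, T a ≤ T b ↔ a ≤ b := by
    intro a b
    change closure {a} ⊆ closure {b} ↔ b ⤳ a
    rw [isClosed_closure.closure_subset_iff, Set.singleton_subset_iff,
      ← specializes_iff_mem_closure]
  have hT : StrictMono T := by
    intro a b hab
    rw [lt_iff_le_not_ge, hspec, hspec]
    exact ⟨hab.le, hab.not_ge⟩
  have h1 : Order.coheight x ≤ Order.coheight (T x) :=
    Order.coheight_le_coheight_apply_of_strictMono T hT x
  have h2 : ((Order.coheight (T x) : ℕ∞) : WithBot ℕ∞) ≤ Order.krullDim (IrreducibleCloseds X) :=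
    Order.coheight_le_krullDim (T x)
  refine le_trans ?_ h2
  exact_mod_cast h1

end Groth.Agent.Lib.Helper19.NormCurve1
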