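import Mathlib
import Groth.Prelude.Def_CAlg
import Groth.Agent.S0602
import Groth.Agent.Lib.Helper21.FlatLocal7
import Groth.Agent.Lib.Helper21.DepthKit3
import Groth.Agent.Lib.Helper12.SerreNormalC

set_option autoImplicit false
set_option linter.style.haveILetI false
universe u

namespace Groth.Agent.Lib.Helper19.NormFam2

open IsLocalRing Module
open Groth.Agent.Lib.Helper21 Groth.Agent.Lib.Helper21.FlatLocal

theorem depth_eq_dim_of_reduced (F : Type u) [CommRing F] [IsLocalRing F] [IsNoetherianRing F]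
    [IsReduced F] (h : ringKrullDim F ≤ 1) :
    ((LocCoh.depth F F : ℕ∞) : WithBot ℕ∞) = ringKrullDim F := by
  have hS1 : LocCoh.HasSk 1 F F := ((Groth.Agent.S0602.result F).mp inferInstance).2
  have h1 := hasSk_closedPoint F hS1
  have h2 := DepthKit.depth_le_supportDim (A := F) (M := F)
  rw [supportDim_self_eq_ringKrullDim] at h1 h2
  apply le_antisymm h2
  have : min ((1 : ℕ) : WithBot ℕ∞) (ringKrullDim F) = ringKrullDim F := min_eq_right (by exact_mod_cast h)
  rw [this] at h1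
  exact h1

/-- the `(S_2)` inequality for a flat local extension with reduced one-dimensional fibre. -/
theorem s2_ineq (A B F : Type u) [CommRing A] [CommRing B] [CommRing F]
    [IsLocalRing A] [IsLocalRing B] [IsLocalRing F] [IsNoetherianRing A] [IsNoetherianRing B]
    [IsNoetherianRing F] [IsReduced F]
    (hdim : ringKrullDim B = ringKrullDim A + ringKrullDim F)
    (hdep : LocCoh.depth B B = LocCoh.depth A A + LocCoh.depth F F)
    (hF : ringKrullDim F ≤ 1)
    (hA : min ((2 : ℕ) : WithBot ℕ∞) (ringKrullDim A) ≤ ((LocCoh.depth A A : ℕ∞) : WithBot ℕ∞)) :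
    min ((2 : ℕ) : WithBot ℕ∞) (ringKrullDim B) ≤ ((LocCoh.depth B B : ℕ∞) : WithBot ℕ∞) := by
  have hFd := depth_eq_dim_of_reduced F hF
  obtain ⟨a, ha⟩ := DepthKit.exists_nat_supportDim (A := A) (M := A)
  obtain ⟨d, hd⟩ := DepthKit.exists_nat_supportDim (A := F) (M := F)
  rw [supportDim_self_eq_ringKrullDim] at ha hd
  have hAle := DepthKit.depth_le_supportDim (A := A) (M := A)
  rw [supportDim_self_eq_ringKrullDim, ha] at hAle
  have hAfin : LocCoh.depth A A ≠ ⊤ := by
    intro htop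
    rw [htop] at hAle
    have h' : ((⊤ : ℕ∞) : WithBot ℕ∞) ≤ ((a : ℕ∞) : WithBot ℕ∞) := by exact_mod_cast hAle
    have h'' := WithBot.coe_le_coe.mp h'
    exact absurd (top_le_iff.mp h'') (ENat.coe_ne_top a)
  obtain ⟨m, hm⟩ := ENat.ne_top_iff_exists.mp hAfin
  have hFd' : LocCoh.depth F F = (d : ℕ∞) := by
    rw [hd] at hFd
    exact_mod_cast hFd
  rw [hdim, hdep, ha, hd, ← hm, hFd']
  rw [ha, ← hm] at hA
  rw [min_le_iff] at hA ⊢
  rcases hA with hA | hA
  · left
    have h1 : (((2 : ℕ) : ℕ∞) : WithBot ℕ∞) ≤ (((m : ℕ) : ℕ∞) : WithBot ℕ∞) := by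
      simpa using hA
    have h2 : 2 ≤ m := by exact_mod_cast WithBot.coe_le_coe.mp h1
    have h3 : 2 ≤ m + d := by omega
    have h4 : ((2 : ℕ) : ℕ∞) ≤ (m : ℕ∞) + (d : ℕ∞) := by exact_mod_cast h3
    simpa using WithBot.coe_le_coe.mpr h4
  · right
    have h1 : (((a : ℕ) : ℕ∞) : WithBot ℕ∞) ≤ (((m : ℕ) : ℕ∞) : WithBot ℕ∞) := by
      simpa using hA
    have h2 : a ≤ m := by exact_mod_cast WithBot.coe_le_coe.mp h1
    have h3 : a + d ≤ m + d := by omega
    have h4 : ((a : ℕ∞) + (d : ℕ∞)) ≤ (m : ℕ∞) + (d : ℕ∞) := by exact_mod_cast h3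
    simpa using WithBot.coe_le_coe.mpr h4

end Groth.Agent.Lib.Helper19.NormFam2
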