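import Mathlib
import Groth.Prelude.Def_CAlg
import Groth.Prelude.Def_CInt
import Groth.Prelude.Def_Pi1
import Groth.Agent.Lib.helper19.NormFam1
import Groth.Agent.Lib.helper19.NormFam2
import Groth.Agent.Lib.Helper7.FibreDepthDimScheme
import Groth.Agent.Lib.Helper7.FibreStalkIso
import Groth.Agent.Lib.Helper5.RegFlatFiber
import Groth.Agent.Lib.Helper5.RegSmoothScheme2
import Groth.Agent.Lib.helper19.NormCurve1

set_option autoImplicit false
set_option linter.style.haveILetI false
universe u

namespace Groth.Agent.Lib.Helper19.NormFam3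

open CategoryTheory CategoryTheory.Limits AlgebraicGeometry IsLocalRing TopologicalSpace Module

/-- a point of an integral scheme whose local ring has dimension `≤ 0` is the generic point. -/
theorem eq_genericPoint_of_dim_le_zero (S : Scheme.{u}) [IsIntegral S] (s : S)
    (h : ringKrullDim (S.presheaf.stalk s) ≤ 0) : s = genericPoint S := by
  rw [ringKrullDim_stalk_eq_coheight] at h
  have h0 : Order.coheight s = 0 := by
    have : Order.coheight s ≤ 0 := by exact_mod_cast h
    exact le_antisymm this bot_le
  have hmax : IsMax s := Order.coheight_eq_zero.mp h0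
  have h1 : genericPoint S ⤳ s := genericPoint_specializes s
  have h2 : s ≤ genericPoint S := h1
  have h3 : genericPoint S ≤ s := hmax h2
  have h4 : s ⤳ genericPoint S := h3
  exact (h4.antisymm h1).eq

variable {S C : Scheme.{u}} [IsIntegral S] [IsNoetherian S]
  (hS : Pi1.IsNormalScheme S) (f : C ⟶ S) [Flat f] [LocallyOfFinitePresentation f]
  [GeometricallyReduced f]
  (hdim : ∀ s : ↥S, topologicalKrullDim ↥(f.fiber s) = 1)
  (hsm : Smooth (f.fiberToSpecResidueField (genericPoint ↥S)))

include hdim in
theorem dim_fiberStalk_le (c : C) : ringKrullDim (CInt.fiberStalk f c) ≤ 1 := by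
  have := Lib.Helper19.NormCurve1.dim_stalk_le (f.fiber (f c)) (f.asFiber c)
  rw [hdim (f c)] at this
  exact this

end Groth.Agent.Lib.Helper19.NormFam3

namespace Groth.Agent.Lib.Helper19.NormFam3

open CategoryTheory CategoryTheory.Limits AlgebraicGeometry IsLocalRing TopologicalSpace Module

variable {S C : Scheme.{u}} [IsIntegral S] [IsNoetherian S]
  (hS : Pi1.IsNormalScheme S) (f : C ⟶ S) [Flat f] [LocallyOfFinitePresentation f]
  [GeometricallyReduced f]
  (hdim : ∀ s : ↥S, topologicalKrullDim ↥(f.fiber s) = 1)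
  (hsm : Smooth (f.fiberToSpecResidueField (genericPoint ↥S)))

include hS hdim in
theorem s2_point (c : C) :
    min ((2 : ℕ) : WithBot ℕ∞) (ringKrullDim (C.presheaf.stalk c)) ≤
      ((LocCoh.depth (C.presheaf.stalk c) (C.presheaf.stalk c) : ℕ∞) : WithBot ℕ∞) := by
  haveI : IsLocallyNoetherian C := LocallyOfFiniteType.isLocallyNoetherian f
  haveI : LocallyOfFiniteType (f.fiberToSpecResidueField (f c)) :=
    MorphismProperty.pullback_snd _ _ inferInstance
  haveI : IsLocallyNoetherian (f.fiber (f c)) :=
    LocallyOfFiniteType.isLocallyNoetherian (f.fiberToSpecResidueField (f c))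
  have hfl : (f.stalkMap c).hom.Flat := Flat.stalkMap f c
  have h1 := Groth.Agent.Lib.Helper7.FibreDepthDimScheme.dim_eq_add f c hfl
  have h2 := Groth.Agent.Lib.Helper7.FibreDepthDimScheme.depth_eq_add f c hfl
  haveI := (hS (f c)).1
  haveI := (hS (f c)).2
  have hA := Groth.Agent.Lib.Helper12.SerreNormal.min_two_le_depth (S.presheaf.stalk (f c))
  exact NormFam2.s2_ineq (S.presheaf.stalk (f c)) (C.presheaf.stalk c) (CInt.fiberStalk f c)
    h1 h2 (dim_fiberStalk_le f hdim c) hA

include hS hdim hsm in
theorem r1_point (c : C) (hc : ringKrullDim (C.presheaf.stalk c) ≤ 1) :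
    IsRegularLocalRing (C.presheaf.stalk c) := by
  haveI : IsLocallyNoetherian C := LocallyOfFiniteType.isLocallyNoetherian f
  haveI : LocallyOfFiniteType (f.fiberToSpecResidueField (f c)) :=
    MorphismProperty.pullback_snd _ _ inferInstance
  haveI : IsLocallyNoetherian (f.fiber (f c)) :=
    LocallyOfFiniteType.isLocallyNoetherian (f.fiberToSpecResidueField (f c))
  have hfl : (f.stalkMap c).hom.Flat := Flat.stalkMap f c
  have h1 := Groth.Agent.Lib.Helper7.FibreDepthDimScheme.dim_eq_add f c hfl
  haveI := (hS (f c)).1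
  haveI := (hS (f c)).2
  obtain ⟨a, ha⟩ := Groth.Agent.Lib.Helper21.DepthKit.exists_nat_supportDim
    (A := S.presheaf.stalk (f c)) (M := S.presheaf.stalk (f c))
  obtain ⟨d, hd⟩ := Groth.Agent.Lib.Helper21.DepthKit.exists_nat_supportDim
    (A := CInt.fiberStalk f c) (M := CInt.fiberStalk f c)
  rw [supportDim_self_eq_ringKrullDim] at ha hd
  have hsum : a + d ≤ 1 := by
    rw [h1, ha, hd] at hc
    exact_mod_cast hc
  -- the base is regular
  have hA1 : ringKrullDim (S.presheaf.stalk (f c)) ≤ 1 := by
    rw [ha]; exact_mod_cast (by omega : a ≤ 1)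
  haveI regA : IsRegularLocalRing (S.presheaf.stalk (f c)) :=
    Groth.Agent.Lib.Helper12.SerreNormal.isRegularLocalRing_of_normal_of_dim_le_one _ hA1
  -- the fibre is regular
  have regF : IsRegularLocalRing (CInt.fiberStalk f c) := by
    by_cases h0 : a = 0
    · have hgen : f c = genericPoint S := by
        apply eq_genericPoint_of_dim_le_zero
        rw [ha, h0]; simp
      have key : ∀ s : S, s = genericPoint S → Smooth (f.fiberToSpecResidueField s) := by
        rintro s rfl; exact hsm
      haveI := key (f c) hgen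
      exact Groth.Agent.Lib.Helper5.RegSmooth.regular_stalk_of_smooth (S.residueField (f c))
        (f.fiber (f c)) (f.fiberToSpecResidueField (f c)) (f.asFiber c)
    · have hd0 : d = 0 := by omega
      haveI : Ring.KrullDimLE 0 (CInt.fiberStalk f c) := by
        rw [Ring.krullDimLE_iff, hd, hd0]
      have hfield : IsField (CInt.fiberStalk f c) := Ring.KrullDimLE.isField_of_isReduced
      letI := hfield.toField
      infer_instance
  -- conclude
  letI : Algebra (S.presheaf.stalk (f c)) (C.presheaf.stalk c) := (f.stalkMap c).hom.toAlgebra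
  haveI : IsLocalHom (algebraMap (S.presheaf.stalk (f c)) (C.presheaf.stalk c)) :=
    inferInstanceAs (IsLocalHom (f.stalkMap c).hom)
  haveI : Module.Flat (S.presheaf.stalk (f c)) (C.presheaf.stalk c) := hfl
  obtain ⟨e⟩ := Groth.Agent.Lib.Helper7.FibreStalkIso.nonempty_ringEquiv f c
  apply Groth.Agent.Lib.Helper5.RegFlatFiber.regular_of_flat_of_regular_fiber
    (S.presheaf.stalk (f c)) (C.presheaf.stalk c)
  exact IsRegularLocalRing.of_ringEquiv e.symm

end Groth.Agent.Lib.Helper19.NormFam3
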