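import Mathlib
import Groth.Prelude.Def_CAlg
import Groth.Prelude.Def_CInt
import Groth.Prelude.Def_Pi1
import Groth.Agent.Lib.helper19.NormFam3
import Groth.Agent.Lib.Helper12.SerreNormalC

set_option autoImplicit false
set_option linter.style.haveILetI false
universe u

namespace Groth.Agent.Lib.Helper19.NodeFam1

open CategoryTheory CategoryTheory.Limits AlgebraicGeometry IsLocalRing TopologicalSpace Module
open Groth.Agent.Lib.Helper19

variable {S C : Scheme.{u}} [IsIntegral S] [IsNoetherian S]
  (hS : Pi1.IsNormalScheme S) (f : C ⟶ S) [Flat f] [LocallyOfFinitePresentation f]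
  (hred : ∀ c : C, IsReduced (CInt.fiberStalk f c))
  (hdim1 : ∀ c : C, ringKrullDim (CInt.fiberStalk f c) ≤ 1)
  (hgen : ∀ c : C, f c = genericPoint S →
    IsDomain (C.presheaf.stalk c) ∧ IsIntegrallyClosed (C.presheaf.stalk c))

include hS hred hdim1 in
theorem s2_point (c : C) :
    min ((2 : ℕ) : WithBot ℕ∞) (ringKrullDim (C.presheaf.stalk c)) ≤
      ((LocCoh.depth (C.presheaf.stalk c) (C.presheaf.stalk c) : ℕ∞) : WithBot ℕ∞) := by
  haveI : IsLocallyNoetherian C := LocallyOfFiniteType.isLocallyNoetherian f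
  haveI : LocallyOfFiniteType (f.fiberToSpecResidueField (f c)) :=
    MorphismProperty.pullback_snd _ _ inferInstance
  haveI : IsLocallyNoetherian (f.fiber (f c)) :=
    LocallyOfFiniteType.isLocallyNoetherian (f.fiberToSpecResidueField (f c))
  have hfl : (f.stalkMap c).hom.Flat := Flat.stalkMap f c
  have h1 := Groth.Agent.Lib.Helper7.FibreDepthDimScheme.dim_eq_add f c hfl
  have h2 := Groth.Agent.Lib.Helper7.FibreDepthDimScheme.depth_eq_add f c hfl
  haveI := (hS (f c)).1
  haveI := (hS (f c)).2
  haveI := hred c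
  have hA := Groth.Agent.Lib.Helper12.SerreNormal.min_two_le_depth (S.presheaf.stalk (f c))
  exact NormFam2.s2_ineq (S.presheaf.stalk (f c)) (C.presheaf.stalk c) (CInt.fiberStalk f c)
    h1 h2 (hdim1 c) hA

include hS hred hgen in
theorem r1_point (c : C) (hc : ringKrullDim (C.presheaf.stalk c) ≤ 1) :
    IsRegularLocalRing (C.presheaf.stalk c) := by
  haveI : IsLocallyNoetherian C := LocallyOfFiniteType.isLocallyNoetherian f
  haveI : LocallyOfFiniteType (f.fiberToSpecResidueField (f c)) :=
    MorphismProperty.pullback_snd _ _ inferInstance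
  haveI : IsLocallyNoetherian (f.fiber (f c)) :=
    LocallyOfFiniteType.isLocallyNoetherian (f.fiberToSpecResidueField (f c))
  have hfl : (f.stalkMap c).hom.Flat := Flat.stalkMap f c
  have h1 := Groth.Agent.Lib.Helper7.FibreDepthDimScheme.dim_eq_add f c hfl
  haveI := (hS (f c)).1
  haveI := (hS (f c)).2
  obtain ⟨a, ha⟩ := Groth.Agent.Lib.Helper21.DepthKit.exists_nat_supportDim
    (A := S.presheaf.stalk (f c)) (M := S.presheaf.stalk (f c))
  obtain ⟨d, hd⟩ := Groth.Agent.Lib.Helper21.DepthKit.exists_nat_supportDim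
    (A := CInt.fiberStalk f c) (M := CInt.fiberStalk f c)
  rw [supportDim_self_eq_ringKrullDim] at ha hd
  have hsum : a + d ≤ 1 := by
    rw [h1, ha, hd] at hc
    exact_mod_cast hc
  by_cases h0 : a = 0
  · have hgp : f c = genericPoint S := by
      apply NormFam3.eq_genericPoint_of_dim_le_zero
      rw [ha, h0]; simp
    haveI := (hgen c hgp).1
    haveI := (hgen c hgp).2
    exact Groth.Agent.Lib.Helper12.SerreNormal.isRegularLocalRing_of_normal_of_dim_le_one _ hc
  · -- the base is regular
    have hA1 : ringKrullDim (S.presheaf.stalk (f c)) ≤ 1 := by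
      rw [ha]; exact_mod_cast (by omega : a ≤ 1)
    haveI regA : IsRegularLocalRing (S.presheaf.stalk (f c)) :=
      Groth.Agent.Lib.Helper12.SerreNormal.isRegularLocalRing_of_normal_of_dim_le_one _ hA1
    -- the fibre is a field
    have regF : IsRegularLocalRing (CInt.fiberStalk f c) := by
      have hd0 : d = 0 := by omega
      haveI := hred c
      haveI : Ring.KrullDimLE 0 (CInt.fiberStalk f c) := by
        rw [Ring.krullDimLE_iff, hd, hd0]
      have hfield : IsField (CInt.fiberStalk f c) := Ring.KrullDimLE.isField_of_isReduced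
      letI := hfield.toField
      infer_instance
    letI : Algebra (S.presheaf.stalk (f c)) (C.presheaf.stalk c) := (f.stalkMap c).hom.toAlgebra
    haveI : IsLocalHom (algebraMap (S.presheaf.stalk (f c)) (C.presheaf.stalk c)) :=
      inferInstanceAs (IsLocalHom (f.stalkMap c).hom)
    haveI : Module.Flat (S.presheaf.stalk (f c)) (C.presheaf.stalk c) := hfl
    obtain ⟨e⟩ := Groth.Agent.Lib.Helper7.FibreStalkIso.nonempty_ringEquiv f c
    apply Groth.Agent.Lib.Helper5.RegFlatFiber.regular_of_flat_of_regular_fiber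
      (S.presheaf.stalk (f c)) (C.presheaf.stalk c)
    exact IsRegularLocalRing.of_ringEquiv e.symm

include hS hred hdim1 hgen in
theorem main : Pi1.IsNormalScheme C := by
  intro c
  haveI : IsLocallyNoetherian C := LocallyOfFiniteType.isLocallyNoetherian f
  have h2 : LocCoh.HasSk 2 (C.presheaf.stalk c) (C.presheaf.stalk c) :=
    NormFam1.hasSk_stalk_of_forall c 2 (fun ζ _ => s2_point hS f hred hdim1 ζ)
  have h1 : LocCoh.HasRk 1 (C.presheaf.stalk c) :=
    NormFam1.hasRk_stalk_of_forall c 1
      (fun ζ _ h => r1_point hS f hred hgen ζ (by exact_mod_cast h))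
  obtain ⟨hd, hi⟩ := Groth.Agent.Lib.Helper12.SerreNormal.backward h1 h2
    (maximalIdeal (C.presheaf.stalk c))
  let e : C.presheaf.stalk c ≃+* Localization.AtPrime (maximalIdeal (C.presheaf.stalk c)) :=
    (IsLocalization.atUnits (C.presheaf.stalk c) (maximalIdeal (C.presheaf.stalk c)).primeCompl
      (S := Localization.AtPrime (maximalIdeal (C.presheaf.stalk c)))
      Groth.Agent.Lib.Helper21.FlatLocal.primeCompl_maximalIdeal_le_isUnit).toRingEquiv
  exact ⟨e.toMulEquiv.isDomain _, IsIntegrallyClosed.of_equiv e.symm⟩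

end Groth.Agent.Lib.Helper19.NodeFam1
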