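import Mathlib
import Groth.Agent.Lib.helper19.Node2

set_option autoImplicit false
universe u

namespace Groth.Agent.Lib.Helper19.NodeRed1

open MvPowerSeries

variable (K : Type u) [Field K] {σ : Type} [DecidableEq σ]

/-- set the variable `s` to zero. -/
noncomputable def rho (s : σ) (f : MvPowerSeries σ K) : MvPowerSeries σ K :=
  fun m => if m s = 0 then coeff m f else 0

theorem coeff_rho (s : σ) (f : MvPowerSeries σ K) (m : σ →₀ ℕ) :
    coeff m (rho K s f) = if m s = 0 then coeff m f else 0 := rfl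

theorem rho_mul (s : σ) (f g : MvPowerSeries σ K) : rho K s (f * g) = rho K s f * rho K s g := by
  classical
  ext m
  rw [coeff_rho, coeff_mul, coeff_mul]
  by_cases hm : m s = 0
  · rw [if_pos hm]
    refine Finset.sum_congr rfl ?_
    rintro ⟨a, b⟩ hab
    rw [Finset.HasAntidiagonal.mem_antidiagonal] at hab
    dsimp only
    have h1 : a s + b s = 0 := by rw [← Finsupp.add_apply, hab, hm]
    have ha : a s = 0 := by omega
    have hb : b s = 0 := by omega
    rw [coeff_rho, coeff_rho, if_pos ha, if_pos hb]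
  · rw [if_neg hm]
    symm
    refine Finset.sum_eq_zero ?_
    rintro ⟨a, b⟩ hab
    rw [Finset.HasAntidiagonal.mem_antidiagonal] at hab
    dsimp only
    have h1 : a s + b s = m s := by rw [← Finsupp.add_apply, hab]
    rw [coeff_rho, coeff_rho]
    by_cases ha : a s = 0
    · have hb : b s ≠ 0 := by omega
      rw [if_neg hb, mul_zero]
    · rw [if_neg ha, zero_mul]

theorem X_dvd_iff_rho (s : σ) (f : MvPowerSeries σ K) : (X s : MvPowerSeries σ K) ∣ f ↔ rho K s f = 0 := by
  rw [X_dvd_iff]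
  constructor
  · intro h
    ext m
    rw [coeff_rho]
    by_cases hm : m s = 0
    · rw [if_pos hm, h m hm]; simp
    · rw [if_neg hm]; simp
  · intro h m hm
    have := congrArg (coeff m) h
    rw [coeff_rho, if_pos hm] at this
    simpa using this

theorem X_dvd_mul (s : σ) (f g : MvPowerSeries σ K) (h : (X s : MvPowerSeries σ K) ∣ f * g) :
    (X s : MvPowerSeries σ K) ∣ f ∨ (X s : MvPowerSeries σ K) ∣ g := by
  rw [X_dvd_iff_rho] at h ⊢
  rw [X_dvd_iff_rho]
  rw [rho_mul] at h
  exact mul_eq_zero.mp h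

theorem X_dvd_of_dvd_pow (s : σ) (f : MvPowerSeries σ K) (n : ℕ)
    (h : (X s : MvPowerSeries σ K) ∣ f ^ n) : (X s : MvPowerSeries σ K) ∣ f := by
  induction n with
  | zero =>
    exfalso
    rw [pow_zero, X_dvd_iff] at h
    have := h 0 (by simp)
    simp at this
  | succ n ih =>
    rw [pow_succ] at h
    rcases X_dvd_mul K s _ _ h with h | h
    · exact ih h
    · exact h

theorem not_X_dvd_X {s t : σ} (hst : s ≠ t) : ¬ (X s : MvPowerSeries σ K) ∣ X t := by
  classical
  rw [X_dvd_iff]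
  intro h
  have := h (Finsupp.single t 1) (by simp [hst.symm])
  rw [coeff_X, if_pos rfl] at this
  exact one_ne_zero this

/-- `K[[x,y]]/(xy)` is reduced. -/
theorem isReduced_Q : IsReduced (Groth.Agent.Lib.Helper19.Node2.Q K) := by
  constructor
  intro a ha
  obtain ⟨n, hn⟩ := ha
  obtain ⟨f, rfl⟩ := Ideal.Quotient.mk_surjective a
  rw [← map_pow, Ideal.Quotient.eq_zero_iff_mem, Ideal.mem_span_singleton] at hn
  rw [Ideal.Quotient.eq_zero_iff_mem, Ideal.mem_span_singleton]
  have h0 : (X 0 : MvPowerSeries (Fin 2) K) ∣ f :=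
    X_dvd_of_dvd_pow K 0 f n ((dvd_mul_right _ _).trans hn)
  have h1 : (X 1 : MvPowerSeries (Fin 2) K) ∣ f :=
    X_dvd_of_dvd_pow K 1 f n ((dvd_mul_left _ _).trans hn)
  obtain ⟨g, rfl⟩ := h0
  rcases X_dvd_mul K 1 _ _ h1 with h | h
  · exact absurd h (not_X_dvd_X K (by decide))
  · obtain ⟨h', rfl⟩ := h
    exact ⟨h', by ring⟩

end Groth.Agent.Lib.Helper19.NodeRed1
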