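import Mathlib
import Groth.Prelude.Def_CurvBase
import Groth.Agent.Lib.helper19.NodeRed1
import Groth.Agent.Lib.Helper13.StalkSpecLoc
import Groth.Agent.Lib.Helper5.RegSmoothScheme2
import Groth.Agent.Lib.helper19.RegularLocal

set_option autoImplicit false
set_option linter.style.haveILetI false
universe u

namespace Groth.Agent.Lib.Helper19.NodeRed2

open CategoryTheory CategoryTheory.Limits AlgebraicGeometry IsLocalRing TopologicalSpace

theorem isReduced_of_isOrdDoublePt (K : Type u) [Field K] (A : Type u) [CommRing A] [Algebra K A]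
    [IsLocalRing A] [IsNoetherianRing A] (h : Curv2.IsOrdDoublePt K A) : IsReduced A := by
  obtain ⟨e, -⟩ := h
  haveI := NodeRed1.isReduced_Q K
  haveI : IsReduced (AdicCompletion (maximalIdeal A) A) :=
    isReduced_of_injective e.toRingHom e.injective
  haveI : IsHausdorff (maximalIdeal A) A := inferInstance
  exact isReduced_of_injective (algebraMap A (AdicCompletion (maximalIdeal A) A))
    (AdicCompletion.of_injective (maximalIdeal A) A)

theorem isReduced_stalk_of_isNode (k : Type u) [Field k] (X : Scheme.{u})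
    [X.Over (Spec (CommRingCat.of k))]
    [LocallyOfFiniteType (X ↘ Spec (CommRingCat.of k))] (x : X) (h : Curv2.IsNode k X x) :
    IsReduced (X.presheaf.stalk x) := by
  obtain ⟨-, xb, rfl, hnode⟩ := h
  haveI : LocallyOfFiniteType (Curv2.bcSnd k X (AlgebraicClosure k)) :=
    MorphismProperty.pullback_snd _ _ inferInstance
  haveI : IsLocallyNoetherian (Curv2.bc k X (AlgebraicClosure k)) :=
    LocallyOfFiniteType.isLocallyNoetherian (Curv2.bcSnd k X (AlgebraicClosure k))
  letI : (Curv2.bc k X (AlgebraicClosure k)).Over (Spec (CommRingCat.of (AlgebraicClosure k))) :=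
      ⟨Curv2.bcSnd k X (AlgebraicClosure k)⟩
  letI := Curv2.stalkAlgebra (AlgebraicClosure k) (Curv2.bc k X (AlgebraicClosure k)) xb
  have hred : IsReduced ((Curv2.bc k X (AlgebraicClosure k)).presheaf.stalk xb) :=
    isReduced_of_isOrdDoublePt (AlgebraicClosure k) _ hnode
  haveI : Flat (Spec.map (CommRingCat.ofHom (algebraMap k (AlgebraicClosure k)))) := by
    rw [HasRingHomProperty.Spec_iff (P := @Flat)]
    rw [CommRingCat.hom_ofHom, RingHom.flat_algebraMap_iff]
    infer_instance
  haveI : Flat (Curv2.bcFst k X (AlgebraicClosure k)) :=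
    MorphismProperty.pullback_fst _ _ inferInstance
  have hfl : ((Curv2.bcFst k X (AlgebraicClosure k)).stalkMap xb).hom.Flat :=
    Flat.stalkMap _ xb
  have hinj : Function.Injective ((Curv2.bcFst k X (AlgebraicClosure k)).stalkMap xb).hom := by
    letI := ((Curv2.bcFst k X (AlgebraicClosure k)).stalkMap xb).hom.toAlgebra
    haveI : Module.Flat (X.presheaf.stalk (Curv2.bcFst k X (AlgebraicClosure k) xb))
      ((Curv2.bc k X (AlgebraicClosure k)).presheaf.stalk xb) := hfl
    haveI : IsLocalHom (algebraMap (X.presheaf.stalk (Curv2.bcFst k X (AlgebraicClosure k) xb))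
      ((Curv2.bc k X (AlgebraicClosure k)).presheaf.stalk xb)) :=
      inferInstanceAs (IsLocalHom ((Curv2.bcFst k X (AlgebraicClosure k)).stalkMap xb).hom)
    haveI : Module.FaithfullyFlat (X.presheaf.stalk (Curv2.bcFst k X (AlgebraicClosure k) xb))
      ((Curv2.bc k X (AlgebraicClosure k)).presheaf.stalk xb) :=
      Module.FaithfullyFlat.of_flat_of_isLocalHom
    exact FaithfulSMul.algebraMap_injective _ _
  exact isReduced_of_injective _ hinj

end Groth.Agent.Lib.Helper19.NodeRed2

namespace Groth.Agent.Lib.Helper19.NodeRed2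

open CategoryTheory CategoryTheory.Limits AlgebraicGeometry IsLocalRing TopologicalSpace

theorem isReduced_stalk_of_atWorstNodal (k : Type u) [Field k] (X : Scheme.{u})
    [X.Over (Spec (CommRingCat.of k))]
    [LocallyOfFiniteType (X ↘ Spec (CommRingCat.of k))] (hnod : Curv2.AtWorstNodal k X) (x : X) :
    IsReduced (X.presheaf.stalk x) := by
  haveI : JacobsonSpace X := LocallyOfFiniteType.jacobsonSpace (X ↘ Spec (CommRingCat.of k))
  obtain ⟨y, hyZ, hycl⟩ := nonempty_inter_closedPoints (Z := closure {x})
    ⟨x, subset_closure rfl⟩ isClosed_closure.isLocallyClosed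
  have hspec : x ⤳ y := specializes_iff_mem_closure.mpr hyZ
  have hycl' : IsClosed ({y} : Set X) := hycl
  have hy : IsReduced (X.presheaf.stalk y) := by
    rcases hnod y hycl' with ⟨U, hyU, hsm⟩ | hnode
    · have h1 := Groth.Agent.Lib.Helper5.RegSmooth.regular_stalk_of_smooth k U
        (U.ι ≫ (X ↘ Spec (CommRingCat.of k))) ⟨y, hyU⟩
      haveI h2 : IsRegularLocalRing (X.presheaf.stalk y) := IsRegularLocalRing.of_ringEquiv
        (asIso (U.ι.stalkMap ⟨y, hyU⟩)).commRingCatIsoToRingEquiv.symm
      haveI := Groth.Agent.Lib.helper19.isDomain_of_isRegularLocalRing (X.presheaf.stalk y)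
      infer_instance
    · exact isReduced_stalk_of_isNode k X y hnode
  letI := (X.presheaf.stalkSpecializes hspec).hom.toAlgebra
  haveI := Groth.Agent.Lib.Helper13.StalkSpecLoc.isLocalization_stalkSpecializes hspec
  exact isReduced_localizationPreserves
    (Groth.Agent.Lib.Helper13.StalkSpecLoc.primeOf hspec).primeCompl _ hy

end Groth.Agent.Lib.Helper19.NodeRed2
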