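import Mathlib
import Groth.Prelude.Def_CurvBase
import Groth.Agent.Lib.helper19.NodeFam1
import Groth.Agent.Lib.helper19.NodeRed2
import Groth.Agent.Lib.helper19.Node8

set_option autoImplicit false
set_option linter.style.haveILetI false
universe u

namespace Groth.Agent.Lib.Helper19.NodeFam2

open CategoryTheory CategoryTheory.Limits AlgebraicGeometry IsLocalRing TopologicalSpace Module
open Groth.Agent.Lib.Helper19

theorem normal_spec (R : Type u) [CommRing R] [IsDomain R] [IsIntegrallyClosed R] :
    Pi1.IsNormalScheme (Spec (CommRingCat.of R)) := by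
  intro p
  letI : Algebra R ((Spec (CommRingCat.of R)).presheaf.stalk p) := StructureSheaf.stalkAlgebra (R := R) p
  haveI : IsLocalization.AtPrime ((Spec (CommRingCat.of R)).presheaf.stalk p) p.asIdeal :=
    StructureSheaf.IsLocalization.to_stalk (R := R) p
  refine ⟨?_, ?_⟩
  · exact IsLocalization.isDomain_of_le_nonZeroDivisors (M := p.asIdeal.primeCompl) _
      p.asIdeal.primeCompl_le_nonZeroDivisors
  · exact isIntegrallyClosed_of_isLocalization _ p.asIdeal.primeCompl
      p.asIdeal.primeCompl_le_nonZeroDivisors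

theorem main {R : Type u} [CommRing R] [IsDedekindDomain R]
    {X : Scheme.{u}} (f : X ⟶ Spec (CommRingCat.of R)) (hf : Curv2.IsNodalFamily f)
    (hgen : ∀ x : X, (f.base x).asIdeal = ⊥ →
      IsDomain (X.presheaf.stalk x) ∧ IsIntegrallyClosed (X.presheaf.stalk x)) :
    ∀ x : X, IsDomain (X.presheaf.stalk x) ∧ IsIntegrallyClosed (X.presheaf.stalk x) := by
  obtain ⟨hfl, hfp, hfib⟩ := hf
  haveI := hfl
  haveI := hfp
  haveI : IsIntegral (Spec (CommRingCat.of R)) := inferInstance
  haveI : IsNoetherian (Spec (CommRingCat.of R)) := inferInstance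
  have hS : Pi1.IsNormalScheme (Spec (CommRingCat.of R)) := normal_spec R
  refine NodeFam1.main hS f ?_ ?_ ?_
  · intro c
    obtain ⟨hd, hn⟩ := hfib (f c)
    letI : (f.fiber (f c)).Over (Spec ((Spec (CommRingCat.of R)).residueField (f c))) :=
      ⟨f.fiberToSpecResidueField (f c)⟩
    haveI : LocallyOfFiniteType (f.fiberToSpecResidueField (f c)) :=
      MorphismProperty.pullback_snd _ _ inferInstance
    exact @NodeRed2.isReduced_stalk_of_atWorstNodal
      ((Spec (CommRingCat.of R)).residueField (f c)) _ (f.fiber (f c))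
      ⟨f.fiberToSpecResidueField (f c)⟩ ‹_› hn (f.asFiber c)
  · intro c
    exact Node8.dim_stalk_le_one (f.fiber (f c)) (hfib (f c)).1 (f.asFiber c)
  · intro c hc
    apply hgen c
    rw [hc, genericPoint_eq_bot_of_affine]
    rfl

end Groth.Agent.Lib.Helper19.NodeFam2
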