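import Mathlib
import Groth.Prelude.Def_CurvBase
import Groth.Agent.Lib.helper19.NodeEt2

set_option autoImplicit false
set_option linter.style.haveILetI false
universe u

namespace Groth.Agent.Lib.Helper19.NodeFld1

open CategoryTheory CategoryTheory.Limits AlgebraicGeometry IsLocalRing TopologicalSpace
open Groth.Agent.Lib.Helper19

section Twist

/-- the nodal ideal. -/
noncomputable abbrev nodeIdeal (K : Type u) [Field K] : Ideal (MvPowerSeries (Fin 2) K) :=
  Ideal.span {(MvPowerSeries.X 0 * MvPowerSeries.X 1 : MvPowerSeries (Fin 2) K)}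

variable {K K' K'' : Type u} [Field K] [Field K'] [Field K'']

theorem nodeIdeal_le_comap (s : K →+* K') :
    nodeIdeal K ≤ (nodeIdeal K').comap (MvPowerSeries.map (σ := Fin 2) s) := by
  rw [Ideal.span_le, Set.singleton_subset_iff]
  change MvPowerSeries.map s (MvPowerSeries.X 0 * MvPowerSeries.X 1) ∈ nodeIdeal K'
  rw [map_mul, MvPowerSeries.map_X, MvPowerSeries.map_X]
  exact Ideal.subset_span rfl

/-- the map `K[[x,y]]/(xy) → K'[[x,y]]/(xy)` induced by a map of fields. -/
noncomputable def qmap (s : K →+* K') :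
    (MvPowerSeries (Fin 2) K ⧸ nodeIdeal K) →+* (MvPowerSeries (Fin 2) K' ⧸ nodeIdeal K') :=
  Ideal.quotientMap _ (MvPowerSeries.map s) (nodeIdeal_le_comap s)

theorem qmap_mk (s : K →+* K') (f : MvPowerSeries (Fin 2) K) :
    qmap s (Ideal.Quotient.mk _ f) = Ideal.Quotient.mk _ (MvPowerSeries.map s f) :=
  Ideal.quotientMap_mk

theorem qmap_comp (s : K' →+* K'') (t : K →+* K') : (qmap s).comp (qmap t) = qmap (s.comp t) := by
  apply Ideal.Quotient.ringHom_ext
  ext f : 1
  simp only [RingHom.comp_apply, qmap_mk, MvPowerSeries.map_comp]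

theorem qmap_id : qmap (RingHom.id K) = RingHom.id _ := by
  apply Ideal.Quotient.ringHom_ext
  ext f : 1
  simp only [RingHom.comp_apply, qmap_mk, MvPowerSeries.map_id, RingHom.id_apply]

/-- the isomorphism `K[[x,y]]/(xy) ≃ K'[[x,y]]/(xy)` induced by an isomorphism of fields. -/
noncomputable def qequiv (s : K ≃+* K') :
    (MvPowerSeries (Fin 2) K ⧸ nodeIdeal K) ≃+* (MvPowerSeries (Fin 2) K' ⧸ nodeIdeal K') :=
  RingEquiv.ofRingHom (qmap (s : K →+* K')) (qmap (s.symm : K' →+* K))
    (by rw [qmap_comp]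
        have : (s : K →+* K').comp (s.symm : K' →+* K) = RingHom.id K' := by ext; simp
        rw [this, qmap_id])
    (by rw [qmap_comp]
        have : (s.symm : K' →+* K).comp (s : K →+* K') = RingHom.id K := by ext; simp
        rw [this, qmap_id])

theorem qequiv_mk_C (s : K ≃+* K') (c : K) :
    qequiv s (Ideal.Quotient.mk _ (MvPowerSeries.C c)) =
      Ideal.Quotient.mk _ (MvPowerSeries.C (s c)) := by
  rw [qequiv, RingEquiv.ofRingHom_apply, qmap_mk, MvPowerSeries.map_C]
  rfl

/-- ordinary double points and change of the coefficient field along an isomorphism. -/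
theorem isOrdDoublePt_fieldChange (B : Type u) [CommRing B] [IsLocalRing B]
    (alg₁ : Algebra K B) (alg₂ : Algebra K' B) (s : K' ≃+* K)
    (h : ∀ c, @algebraMap K' B _ _ alg₂ c = @algebraMap K B _ _ alg₁ (s c))
    (hodp : @Curv2.IsOrdDoublePt K _ B _ alg₁ _) : @Curv2.IsOrdDoublePt K' _ B _ alg₂ _ := by
  obtain ⟨e, he⟩ := hodp
  refine ⟨e.trans (qequiv s.symm), fun c => ?_⟩
  rw [RingEquiv.trans_apply, h c, he (s c), qequiv_mk_C, RingEquiv.symm_apply_apply]

end Twist

section Global

theorem toGlobal_comp_SpecMap {K K' : Type u} [Field K] [Field K'] {Y : Scheme.{u}}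
    (q : Y ⟶ Spec (CommRingCat.of K')) (s : K →+* K') (c : K) :
    Coh.toGlobal (q ≫ Spec.map (CommRingCat.ofHom s)) c = Coh.toGlobal q (s c) := by
  unfold Coh.toGlobal
  change (q ≫ Spec.map (CommRingCat.ofHom s)).appTop.hom
    ((Scheme.ΓSpecIso (CommRingCat.of K)).inv.hom c) =
      q.appTop.hom ((Scheme.ΓSpecIso (CommRingCat.of K')).inv.hom (s c))
  rw [Scheme.Hom.comp_appTop]
  have h := Scheme.ΓSpecIso_inv_naturality (CommRingCat.ofHom s)
  have h2 := congr($h c)
  change q.appTop.hom ((Spec.map (CommRingCat.ofHom s)).appTop.hom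
    ((Scheme.ΓSpecIso (CommRingCat.of K)).inv.hom c)) = _
  rw [show (Spec.map (CommRingCat.ofHom s)).appTop.hom
    ((Scheme.ΓSpecIso (CommRingCat.of K)).inv.hom c) =
      (Scheme.ΓSpecIso (CommRingCat.of K')).inv.hom (s c) from h2.symm]

/-- **field change**: ordinary double points along an étale morphism which is semilinear with
respect to an isomorphism of (algebraically closed) base fields. -/
theorem isOrdDoublePt_iff_of_etale_fieldChange (K K' : Type u) [Field K] [Field K']
    [IsAlgClosed K] (θ : K ≃+* K') {P Q : Scheme.{u}}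
    (p : P ⟶ Spec (CommRingCat.of K)) (q : Q ⟶ Spec (CommRingCat.of K')) (g : Q ⟶ P)
    (hg : g ≫ p = q ≫ Spec.map (CommRingCat.ofHom (θ : K →+* K'))) [Etale g]
    [LocallyOfFiniteType p] (z : Q) :
    @Curv2.IsOrdDoublePt K _ (P.presheaf.stalk (g z)) _ (@Curv2.stalkAlgebra K _ P ⟨p⟩ (g z)) _ ↔
    @Curv2.IsOrdDoublePt K' _ (Q.presheaf.stalk z) _ (@Curv2.stalkAlgebra K' _ Q ⟨q⟩ z) _ := by
  rw [NodeEt2.isOrdDoublePt_iff_of_etale K p
    (q ≫ Spec.map (CommRingCat.ofHom (θ : K →+* K'))) g hg z]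
  have key : ∀ c : K, (@Curv2.stalkMap K _ Q
      ⟨q ≫ Spec.map (CommRingCat.ofHom (θ : K →+* K'))⟩ z) c =
      (@Curv2.stalkMap K' _ Q ⟨q⟩ z) (θ c) := by
    intro c
    change (Q.presheaf.germ ⊤ z trivial).hom
        (Coh.toGlobal (q ≫ Spec.map (CommRingCat.ofHom (θ : K →+* K'))) c) =
      (Q.presheaf.germ ⊤ z trivial).hom (Coh.toGlobal q (θ c))
    rw [toGlobal_comp_SpecMap]
    rfl
  constructor
  · intro h
    refine isOrdDoublePt_fieldChange _ _ _ θ.symm ?_ h
    intro c
    have := key (θ.symm c)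
    rw [RingEquiv.apply_symm_apply] at this
    exact this.symm
  · intro h
    refine isOrdDoublePt_fieldChange _ _ _ θ ?_ h
    intro c
    exact key c

end Global

end Groth.Agent.Lib.Helper19.NodeFld1
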