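import Mathlib
import Groth.Prelude.Def_CurvBase
import Groth.Agent.Lib.helper19.NodeEt2
import Groth.Agent.Lib.helper19.GeomFib3
import Groth.Agent.Lib.Helper24.Homog.KPoints

set_option autoImplicit false
set_option linter.style.haveILetI false
universe u

namespace Groth.Agent.Lib.Helper19.NodeGal1

open CategoryTheory CategoryTheory.Limits AlgebraicGeometry IsLocalRing TopologicalSpace
open Groth.Agent.Lib.Helper19

section Twist

variable (K : Type u) [Field K]

/-- the nodal ideal. -/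
noncomputable abbrev nodeIdeal : Ideal (MvPowerSeries (Fin 2) K) :=
  Ideal.span {(MvPowerSeries.X 0 * MvPowerSeries.X 1 : MvPowerSeries (Fin 2) K)}

variable {K}

theorem nodeIdeal_le_comap (s : K →+* K) :
    nodeIdeal K ≤ (nodeIdeal K).comap (MvPowerSeries.map (σ := Fin 2) s) := by
  rw [Ideal.span_le, Set.singleton_subset_iff]
  change MvPowerSeries.map s (MvPowerSeries.X 0 * MvPowerSeries.X 1) ∈ nodeIdeal K
  rw [map_mul, MvPowerSeries.map_X, MvPowerSeries.map_X]
  exact Ideal.subset_span rfl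

/-- the endomorphism of `K[[x,y]]/(xy)` induced by an endomorphism of `K`. -/
noncomputable def qmap (s : K →+* K) :
    (MvPowerSeries (Fin 2) K ⧸ nodeIdeal K) →+* (MvPowerSeries (Fin 2) K ⧸ nodeIdeal K) :=
  Ideal.quotientMap _ (MvPowerSeries.map s) (nodeIdeal_le_comap s)

theorem qmap_mk (s : K →+* K) (f : MvPowerSeries (Fin 2) K) :
    qmap s (Ideal.Quotient.mk _ f) = Ideal.Quotient.mk _ (MvPowerSeries.map s f) :=
  Ideal.quotientMap_mk

theorem qmap_comp (s t : K →+* K) : (qmap s).comp (qmap t) = qmap (s.comp t) := by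
  apply Ideal.Quotient.ringHom_ext
  ext f : 1
  simp only [RingHom.comp_apply, qmap_mk, MvPowerSeries.map_comp]

theorem qmap_id : qmap (RingHom.id K) = RingHom.id _ := by
  apply Ideal.Quotient.ringHom_ext
  ext f : 1
  simp only [RingHom.comp_apply, qmap_mk, MvPowerSeries.map_id, RingHom.id_apply]

/-- the automorphism of `K[[x,y]]/(xy)` induced by an automorphism of `K`. -/
noncomputable def qequiv (s : K ≃+* K) :
    (MvPowerSeries (Fin 2) K ⧸ nodeIdeal K) ≃+* (MvPowerSeries (Fin 2) K ⧸ nodeIdeal K) :=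
  RingEquiv.ofRingHom (qmap (s : K →+* K)) (qmap (s.symm : K →+* K))
    (by rw [qmap_comp]
        have : (s : K →+* K).comp (s.symm : K →+* K) = RingHom.id K := by ext; simp
        rw [this, qmap_id])
    (by rw [qmap_comp]
        have : (s.symm : K →+* K).comp (s : K →+* K) = RingHom.id K := by ext; simp
        rw [this, qmap_id])

theorem qequiv_mk_C (s : K ≃+* K) (c : K) :
    qequiv s (Ideal.Quotient.mk _ (MvPowerSeries.C c)) =
      Ideal.Quotient.mk _ (MvPowerSeries.C (s c)) := by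
  rw [qequiv, RingEquiv.ofRingHom_apply, qmap_mk, MvPowerSeries.map_C]
  rfl

theorem isOrdDoublePt_twist (B : Type u) [CommRing B] [IsLocalRing B]
    (alg₁ alg₂ : Algebra K B) (s : K ≃+* K)
    (h : ∀ c, @algebraMap K B _ _ alg₂ c = @algebraMap K B _ _ alg₁ (s c))
    (hodp : @Curv2.IsOrdDoublePt K _ B _ alg₁ _) : @Curv2.IsOrdDoublePt K _ B _ alg₂ _ := by
  obtain ⟨e, he⟩ := hodp
  refine ⟨e.trans (qequiv s.symm), fun c => ?_⟩
  rw [RingEquiv.trans_apply, h c, he (s c), qequiv_mk_C, RingEquiv.symm_apply_apply]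

end Twist

section Global

theorem toGlobal_comp_SpecMap {K : Type u} [Field K] {Y : Scheme.{u}}
    (q : Y ⟶ Spec (CommRingCat.of K)) (s : K →+* K) (c : K) :
    Coh.toGlobal (q ≫ Spec.map (CommRingCat.ofHom s)) c = Coh.toGlobal q (s c) := by
  unfold Coh.toGlobal
  change (q ≫ Spec.map (CommRingCat.ofHom s)).appTop.hom
    ((Scheme.ΓSpecIso (CommRingCat.of K)).inv.hom c) =
      q.appTop.hom ((Scheme.ΓSpecIso (CommRingCat.of K)).inv.hom (s c))
  rw [Scheme.Hom.comp_appTop]
  have h := Scheme.ΓSpecIso_inv_naturality (CommRingCat.ofHom s)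
  have h2 := congr($h c)
  change q.appTop.hom ((Spec.map (CommRingCat.ofHom s)).appTop.hom
    ((Scheme.ΓSpecIso (CommRingCat.of K)).inv.hom c)) = _
  rw [show (Spec.map (CommRingCat.ofHom s)).appTop.hom
    ((Scheme.ΓSpecIso (CommRingCat.of K)).inv.hom c) =
      (Scheme.ΓSpecIso (CommRingCat.of K)).inv.hom (s c) from h2.symm]

end Global

section Field

theorem exists_sigma {k L K : Type u} [Field k] [Field L] [Field K] [Algebra k L] [Algebra k K]
    [IsAlgClosed K] [Algebra.IsAlgebraic k K] (φ φ₀ : L →ₐ[k] K) :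
    ∃ σ : K ≃ₐ[k] K, ∀ l, σ (φ l) = φ₀ l := by
  letI : Algebra L K := φ.toRingHom.toAlgebra
  haveI : IsScalarTower k L K := IsScalarTower.of_algebraMap_eq (fun c => (φ.commutes c).symm)
  haveI : Algebra.IsAlgebraic L K := Algebra.IsAlgebraic.tower_top (K := k) L
  obtain ⟨s, hs⟩ := IsAlgClosed.surjective_domRestrict_of_isAlgebraic (K := k) (L := L)
    (M := K) (E := K) φ₀
  have hbij : Function.Bijective s := Algebra.IsAlgebraic.algHom_bijective s
  refine ⟨AlgEquiv.ofBijective s hbij, fun l => ?_⟩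
  have := DFunLike.congr_fun hs l
  exact this

end Field

section Points

theorem exists_factor {K : Type u} [Field K] {X : Scheme.{u}}
    (a : Spec (CommRingCat.of K) ⟶ X) (x : X) (h : a (IsLocalRing.closedPoint K) = x) :
    ∃ φ : X.residueField x ⟶ CommRingCat.of K,
      a = Spec.map φ ≫ X.fromSpecResidueField x := by
  subst h
  exact ⟨_, (Scheme.descResidueField_stalkClosedPointTo_fromSpecResidueField K X a).symm⟩

theorem exists_aut (k K : Type u) [Field k] [Field K] [Algebra k K] [IsAlgClosed K]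
    [Algebra.IsAlgebraic k K] {X : Scheme.{u}} (p : X ⟶ Spec (CommRingCat.of k)) (x : X)
    (a a₀ : Spec (CommRingCat.of K) ⟶ X)
    (ha : a ≫ p = Spec.map (CommRingCat.ofHom (algebraMap k K)))
    (ha₀ : a₀ ≫ p = Spec.map (CommRingCat.ofHom (algebraMap k K)))
    (hax : ∀ t, a t = x) (ha₀x : ∀ t, a₀ t = x) :
    ∃ σ : K ≃ₐ[k] K,
      Spec.map (CommRingCat.ofHom ((σ : K ≃+* K) : K →+* K)) ≫ a = a₀ := by
  obtain ⟨φ, hφ⟩ := exists_factor a x (hax _)
  obtain ⟨φ₀, hφ₀⟩ := exists_factor a₀ x (ha₀x _)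
  let ρ : CommRingCat.of k ⟶ X.residueField x := Spec.preimage (X.fromSpecResidueField x ≫ p)
  have hρ : Spec.map ρ = X.fromSpecResidueField x ≫ p := Spec.map_preimage _
  have hφk : ρ ≫ φ = CommRingCat.ofHom (algebraMap k K) := by
    apply Spec.map_injective
    rw [Spec.map_comp, hρ, ← Category.assoc, ← hφ, ha]
  have hφ₀k : ρ ≫ φ₀ = CommRingCat.ofHom (algebraMap k K) := by
    apply Spec.map_injective
    rw [Spec.map_comp, hρ, ← Category.assoc, ← hφ₀, ha₀]
  letI : Algebra k (X.residueField x) := ρ.hom.toAlgebra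
  let φa : X.residueField x →ₐ[k] K :=
    { φ.hom with commutes' := fun c => congr($hφk c) }
  let φ₀a : X.residueField x →ₐ[k] K :=
    { φ₀.hom with commutes' := fun c => congr($hφ₀k c) }
  obtain ⟨σ, hσ⟩ := exists_sigma φa φ₀a
  refine ⟨σ, ?_⟩
  rw [hφ, hφ₀, ← Category.assoc, ← Spec.map_comp]
  congr 2
  ext l
  exact hσ l

end Points

section Tau

variable (k K : Type u) [Field k] [Field K] [Algebra k K] {X : Scheme.{u}}
  (p : X ⟶ Spec (CommRingCat.of k))

/-- the automorphism `id × Spec σ` of the base change `X_K`. -/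
noncomputable def tau (σ : K ≃ₐ[k] K) :
    pullback p (Spec.map (CommRingCat.ofHom (algebraMap k K))) ⟶
      pullback p (Spec.map (CommRingCat.ofHom (algebraMap k K))) :=
  pullback.map p _ p _ (𝟙 X) (Spec.map (CommRingCat.ofHom ((σ : K ≃+* K) : K →+* K))) (𝟙 _)
    (by rw [Category.comp_id, Category.id_comp])
    (by
      rw [Category.comp_id, ← Spec.map_comp]
      congr 1
      ext c
      exact (σ.commutes c).symm)

theorem tau_fst (σ : K ≃ₐ[k] K) : tau k K p σ ≫ pullback.fst _ _ = pullback.fst _ _ :=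
  (pullback.lift_fst _ _ _).trans (Category.comp_id _)

theorem tau_snd (σ : K ≃ₐ[k] K) : tau k K p σ ≫ pullback.snd _ _ =
    pullback.snd _ _ ≫ Spec.map (CommRingCat.ofHom ((σ : K ≃+* K) : K →+* K)) :=
  pullback.lift_snd _ _ _

instance (σ : K ≃ₐ[k] K) : IsIso (tau k K p σ) := by
  haveI : IsIso (CommRingCat.ofHom ((σ : K ≃+* K) : K →+* K)) :=
    (σ : K ≃+* K).toCommRingCatIso.isIso_hom
  unfold tau
  infer_instance

end Tau

section Main

variable (k K : Type u) [Field k] [Field K] [Algebra k K] [IsAlgClosed K]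
  [Algebra.IsAlgebraic k K] {X : Scheme.{u}} (p : X ⟶ Spec (CommRingCat.of k))
  [LocallyOfFiniteType p]

local notation "cc" => Spec.map (CommRingCat.ofHom (algebraMap k K))
local notation "YY" => pullback p cc
local notation "qq" => pullback.snd p cc
local notation "ππ" => pullback.fst p cc

theorem isOrdDoublePt_of_exists (x : X) (hx : IsClosed ({x} : Set X))
    (z₀ z : (YY : Scheme.{u})) (hz₀ : ππ z₀ = x) (hz : ππ z = x)
    (hodp : @Curv2.IsOrdDoublePt K _ ((YY : Scheme.{u}).presheaf.stalk z₀) _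
      (@Curv2.stalkAlgebra K _ _ ⟨qq⟩ z₀) _) :
    @Curv2.IsOrdDoublePt K _ ((YY : Scheme.{u}).presheaf.stalk z) _
      (@Curv2.stalkAlgebra K _ _ ⟨qq⟩ z) _ := by
  haveI : LocallyOfFiniteType qq := MorphismProperty.pullback_snd _ _ inferInstance
  haveI : JacobsonSpace (YY : Scheme.{u}) := LocallyOfFiniteType.jacobsonSpace qq
  have hfin : (ππ ⁻¹' {x}).Finite :=
    GeomFib3.finite_fibre k K p cc qq ππ (IsPullback.of_hasPullback p cc) x hx
  have hcl : IsClosed (ππ ⁻¹' {x}) := hx.preimage (ππ).continuous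
  have hzcl : IsClosed ({z} : Set (YY : Scheme.{u})) :=
    GeomFib3.isClosed_singleton_of_finite_closed _ hfin hcl z hz
  have hz₀cl : IsClosed ({z₀} : Set (YY : Scheme.{u})) :=
    GeomFib3.isClosed_singleton_of_finite_closed _ hfin hcl z₀ hz₀
  have hid : Spec.map (CommRingCat.ofHom (algebraMap K K)) = 𝟙 _ := by
    rw [Algebra.algebraMap_self, CommRingCat.ofHom_id, Spec.map_id]
  obtain ⟨s, hs, hsz⟩ := Groth.Agent.Lib.Helper24.Homog.exists_Kpoint_of_isClosed_singleton
    (k := K) (K := K) qq z hzcl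
  obtain ⟨s₀, hs₀, hsz₀⟩ := Groth.Agent.Lib.Helper24.Homog.exists_Kpoint_of_isClosed_singleton
    (k := K) (K := K) qq z₀ hz₀cl
  rw [hid] at hs hs₀
  have ha : (s ≫ ππ) ≫ p = cc := by
    rw [Category.assoc, pullback.condition, ← Category.assoc, hs, Category.id_comp]
  have ha₀ : (s₀ ≫ ππ) ≫ p = cc := by
    rw [Category.assoc, pullback.condition, ← Category.assoc, hs₀, Category.id_comp]
  obtain ⟨σ, hσ⟩ := exists_aut k K p x (s ≫ ππ) (s₀ ≫ ππ) ha ha₀
    (fun t => by rw [Scheme.Hom.comp_apply]; exact (congrArg ππ (hsz t)).trans hz)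
    (fun t => by rw [Scheme.Hom.comp_apply]; exact (congrArg ππ (hsz₀ t)).trans hz₀)
  have key : s₀ ≫ tau k K p σ = Spec.map (CommRingCat.ofHom ((σ : K ≃+* K) : K →+* K)) ≫ s := by
    apply pullback.hom_ext
    · rw [Category.assoc, tau_fst, Category.assoc]
      exact hσ.symm
    · rw [Category.assoc, tau_snd, Category.assoc, ← Category.assoc, hs₀, hs, Category.id_comp,
        Category.comp_id]
  have hpt : tau k K p σ z₀ = z := by
    have h1 := congrArg (fun m : Spec (CommRingCat.of K) ⟶ YY => m (IsLocalRing.closedPoint K)) key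
    simp only [Scheme.Hom.comp_apply] at h1
    rw [hsz₀, hsz] at h1
    exact h1
  subst hpt
  have h2 := NodeEt2.isOrdDoublePt_iff_of_etale K qq
    (qq ≫ Spec.map (CommRingCat.ofHom ((σ : K ≃+* K) : K →+* K))) (tau k K p σ)
    (tau_snd k K p σ) z₀
  refine h2.mpr ?_
  refine isOrdDoublePt_twist _ _ _ (σ : K ≃+* K) ?_ hodp
  intro c
  change ((YY : Scheme.{u}).presheaf.germ ⊤ z₀ trivial).hom
      (Coh.toGlobal (qq ≫ Spec.map (CommRingCat.ofHom ((σ : K ≃+* K) : K →+* K))) c) =
    ((YY : Scheme.{u}).presheaf.germ ⊤ z₀ trivial).hom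
      (Coh.toGlobal qq ((σ : K ≃+* K) c))
  rw [toGlobal_comp_SpecMap]
  rfl

end Main

end Groth.Agent.Lib.Helper19.NodeGal1
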