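import Mathlib
import Groth.Prelude.Def_CurvBase
import Groth.Prelude.Def_CAlg
import Groth.Agent.Lib.helper19.NodeGal1
import Groth.Agent.Lib.helper19.NodeRed2
import Groth.Agent.Lib.Helper1.RegPS
import Groth.Agent.Lib.Helper5.GorFlatB
import Groth.Agent.Lib.Helper5.GorIso
import Groth.Agent.S0342
import Groth.Agent.S0343
import Groth.Agent.S0345
import Groth.Agent.S2535

set_option autoImplicit false
set_option linter.style.haveILetI false
universe u

namespace Groth.Agent.Lib.Helper19.NodeGor1

open CategoryTheory CategoryTheory.Limits AlgebraicGeometry IsLocalRing TopologicalSpace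
open Groth.Agent.Lib.Helper19

section Alg

theorem gor_Q (K : Type u) [Field K] :
    LocCoh.IsGorensteinLocalRing (MvPowerSeries (Fin 2) K ⧸
      Ideal.span {(MvPowerSeries.X 0 * MvPowerSeries.X 1 : MvPowerSeries (Fin 2) K)}) := by
  haveI : IsRegularLocalRing (MvPowerSeries (Fin 2) K) :=
    Groth.Agent.Lib.Helper1.RegPS.isRegularLocalRing_ps (k := K) 2
  haveI hG : LocCoh.IsGorensteinLocalRing (MvPowerSeries (Fin 2) K) := Groth.Agent.S0342.result _
  have hX0 : (MvPowerSeries.X 0 : MvPowerSeries (Fin 2) K) ∈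
      maximalIdeal (MvPowerSeries (Fin 2) K) := by
    rw [mem_maximalIdeal, mem_nonunits_iff, MvPowerSeries.isUnit_iff_constantCoeff]
    simp
  have hmem : (MvPowerSeries.X 0 * MvPowerSeries.X 1 : MvPowerSeries (Fin 2) K) ∈
      maximalIdeal (MvPowerSeries (Fin 2) K) := Ideal.mul_mem_right _ _ hX0
  have hnzd : (MvPowerSeries.X 0 * MvPowerSeries.X 1 : MvPowerSeries (Fin 2) K) ∈
      nonZeroDivisors (MvPowerSeries (Fin 2) K) :=
    mul_mem MvPowerSeries.X_mem_nonzeroDivisors MvPowerSeries.X_mem_nonzeroDivisors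
  have hreg : IsSMulRegular (MvPowerSeries (Fin 2) K)
      (MvPowerSeries.X 0 * MvPowerSeries.X 1 : MvPowerSeries (Fin 2) K) :=
    ((isRegular_iff_mem_nonZeroDivisors).mpr hnzd).left.isSMulRegular
  exact (Groth.Agent.S0343.result _ _ hmem hreg).mp hG

theorem gor_of_isOrdDoublePt (K : Type u) [Field K] (B : Type u) [CommRing B] [Algebra K B]
    [IsLocalRing B] [IsNoetherianRing B] (h : Curv2.IsOrdDoublePt K B) :
    LocCoh.IsGorensteinLocalRing B := by
  obtain ⟨e, -⟩ := h
  haveI := gor_Q K
  have hBh : LocCoh.IsGorensteinLocalRing (AdicCompletion (maximalIdeal B) B) :=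
    Groth.Agent.Lib.Helper5.GorIso.isGorensteinLocalRing_of_ringEquiv e.symm
  haveI : IsNoetherianRing (AdicCompletion (maximalIdeal B) B) := by haveI := hBh; infer_instance
  haveI : IsLocalHom (algebraMap B (AdicCompletion (maximalIdeal B) B)) := by
    have h02 := (IsLocalRing.local_hom_TFAE
      (algebraMap B (AdicCompletion (maximalIdeal B) B))).out 0 2
    rw [h02]
    exact (AdicCompletion.maximalIdeal_eq_map (R := B)).ge
  haveI : Module.Flat B (AdicCompletion (maximalIdeal B) B) :=
    AdicCompletion.flat_of_isNoetherian _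
  exact Groth.Agent.Lib.Helper5.GorFlat.isGorensteinLocalRing_of_flat B _ hBh

theorem gor_of_specializes {X : Scheme.{u}} {x y : X} (h : x ⤳ y)
    (hy : LocCoh.IsGorensteinLocalRing (X.presheaf.stalk y)) :
    LocCoh.IsGorensteinLocalRing (X.presheaf.stalk x) := by
  haveI : IsNoetherianRing (X.presheaf.stalk y) := by haveI := hy; infer_instance
  have hG : LocCoh.IsGorensteinRing (X.presheaf.stalk y) :=
    ((Groth.Agent.S0345.result _).mp hy.exists_hasInjectiveDimensionLT).1
  letI := (X.presheaf.stalkSpecializes h).hom.toAlgebra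
  haveI := Groth.Agent.Lib.Helper13.StalkSpecLoc.isLocalization_stalkSpecializes h
  haveI := hG.isGorensteinLocalRing_localization
    (Groth.Agent.Lib.Helper13.StalkSpecLoc.primeOf h)
  exact Groth.Agent.Lib.Helper5.GorIso.isGorensteinLocalRing_of_ringEquiv
    (IsLocalization.algEquiv (Groth.Agent.Lib.Helper13.StalkSpecLoc.primeOf h).primeCompl
      (Localization.AtPrime (Groth.Agent.Lib.Helper13.StalkSpecLoc.primeOf h))
      (X.presheaf.stalk x)).toRingEquiv

end Alg

section Main

variable (k : Type u) [Field k] (X : Scheme.{u}) [X.Over (Spec (CommRingCat.of k))]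
  [LocallyOfFiniteType (X ↘ Spec (CommRingCat.of k))]

theorem gor_stalk_of_isNode (y : X) (hnode : Curv2.IsNode k X y) :
    LocCoh.IsGorensteinLocalRing (X.presheaf.stalk y) := by
  obtain ⟨-, xb, rfl, hodp⟩ := hnode
  haveI : IsLocallyNoetherian X :=
    LocallyOfFiniteType.isLocallyNoetherian (X ↘ Spec (CommRingCat.of k))
  haveI : LocallyOfFiniteType (Curv2.bcSnd k X (AlgebraicClosure k)) :=
    MorphismProperty.pullback_snd _ _ inferInstance
  haveI : IsLocallyNoetherian (Curv2.bc k X (AlgebraicClosure k)) :=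
    LocallyOfFiniteType.isLocallyNoetherian (Curv2.bcSnd k X (AlgebraicClosure k))
  letI : (Curv2.bc k X (AlgebraicClosure k)).Over (Spec (CommRingCat.of (AlgebraicClosure k))) :=
      ⟨Curv2.bcSnd k X (AlgebraicClosure k)⟩
  letI := Curv2.stalkAlgebra (AlgebraicClosure k) (Curv2.bc k X (AlgebraicClosure k)) xb
  have hB : LocCoh.IsGorensteinLocalRing
      ((Curv2.bc k X (AlgebraicClosure k)).presheaf.stalk xb) :=
    gor_of_isOrdDoublePt (AlgebraicClosure k) _ hodp
  haveI : Flat (Spec.map (CommRingCat.ofHom (algebraMap k (AlgebraicClosure k)))) := by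
    rw [HasRingHomProperty.Spec_iff (P := @Flat)]
    rw [CommRingCat.hom_ofHom, RingHom.flat_algebraMap_iff]
    infer_instance
  haveI : Flat (Curv2.bcFst k X (AlgebraicClosure k)) :=
    MorphismProperty.pullback_fst _ _ inferInstance
  have hfl : ((Curv2.bcFst k X (AlgebraicClosure k)).stalkMap xb).hom.Flat :=
    Flat.stalkMap _ xb
  letI := ((Curv2.bcFst k X (AlgebraicClosure k)).stalkMap xb).hom.toAlgebra
  haveI : Module.Flat (X.presheaf.stalk (Curv2.bcFst k X (AlgebraicClosure k) xb))
    ((Curv2.bc k X (AlgebraicClosure k)).presheaf.stalk xb) := hfl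
  haveI : IsLocalHom (algebraMap (X.presheaf.stalk (Curv2.bcFst k X (AlgebraicClosure k) xb))
    ((Curv2.bc k X (AlgebraicClosure k)).presheaf.stalk xb)) :=
    inferInstanceAs (IsLocalHom ((Curv2.bcFst k X (AlgebraicClosure k)).stalkMap xb).hom)
  exact Groth.Agent.Lib.Helper5.GorFlat.isGorensteinLocalRing_of_flat _ _ hB

theorem gor_stalk_of_atWorstNodal (hnod : Curv2.AtWorstNodal k X) (x : X) :
    LocCoh.IsGorensteinLocalRing (X.presheaf.stalk x) := by
  haveI : JacobsonSpace X := LocallyOfFiniteType.jacobsonSpace (X ↘ Spec (CommRingCat.of k))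
  obtain ⟨y, hyZ, hycl⟩ := nonempty_inter_closedPoints (Z := closure {x})
    ⟨x, subset_closure rfl⟩ isClosed_closure.isLocallyClosed
  have hspec : x ⤳ y := specializes_iff_mem_closure.mpr hyZ
  have hycl' : IsClosed ({y} : Set X) := hycl
  have hy : LocCoh.IsGorensteinLocalRing (X.presheaf.stalk y) := by
    rcases hnod y hycl' with ⟨U, hyU, hsm⟩ | hnode
    · have h1 := Groth.Agent.Lib.Helper5.RegSmooth.regular_stalk_of_smooth k U
        (U.ι ≫ (X ↘ Spec (CommRingCat.of k))) ⟨y, hyU⟩
      haveI h2 : IsRegularLocalRing (X.presheaf.stalk y) := IsRegularLocalRing.of_ringEquiv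
        (asIso (U.ι.stalkMap ⟨y, hyU⟩)).commRingCatIsoToRingEquiv.symm
      exact Groth.Agent.S0342.result _
    · exact gor_stalk_of_isNode k X y hnode
  exact gor_of_specializes hspec hy

theorem isReduced_bc (hnod : Curv2.AtWorstNodal k X) :
    IsReduced (Curv2.bc k X (AlgebraicClosure k)) := by
  set K := AlgebraicClosure k with hK
  haveI : LocallyOfFiniteType (Curv2.bcSnd k X K) :=
    MorphismProperty.pullback_snd _ _ inferInstance
  haveI : IsLocallyNoetherian (Curv2.bc k X K) :=
    LocallyOfFiniteType.isLocallyNoetherian (Curv2.bcSnd k X K)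
  haveI : JacobsonSpace (Curv2.bc k X K) :=
    LocallyOfFiniteType.jacobsonSpace (Curv2.bcSnd k X K)
  haveI : LocallyOfFinitePresentation (X ↘ Spec (CommRingCat.of k)) :=
    LocallyOfFinitePresentation.iff_locallyOfFiniteType.mpr inferInstance
  haveI : Flat (X ↘ Spec (CommRingCat.of k)) := inferInstance
  haveI : IsIntegralHom (Spec.map (CommRingCat.ofHom (algebraMap k K))) := by
    rw [IsIntegralHom.SpecMap_iff]
    exact Algebra.IsIntegral.isIntegral (R := k) (A := K)
  haveI : IsIntegralHom (Curv2.bcFst k X K) := inferInstance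
  have hclosedmap : IsClosedMap (Curv2.bcFst k X K) := (Curv2.bcFst k X K).isClosedMap
  have hstalk : ∀ z : Curv2.bc k X K, _root_.IsReduced ((Curv2.bc k X K).presheaf.stalk z) := by
    intro z
    obtain ⟨y, hyZ, hycl⟩ := nonempty_inter_closedPoints (Z := closure {z})
      ⟨z, subset_closure rfl⟩ isClosed_closure.isLocallyClosed
    have hspec : z ⤳ y := specializes_iff_mem_closure.mpr hyZ
    have hycl' : IsClosed ({y} : Set (Curv2.bc k X K)) := hycl
    have hxcl : IsClosed ({Curv2.bcFst k X K y} : Set X) := by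
      have := hclosedmap _ hycl'
      rwa [Set.image_singleton] at this
    have hy : _root_.IsReduced ((Curv2.bc k X K).presheaf.stalk y) := by
      rcases hnod _ hxcl with ⟨U, hyU, hsm⟩ | hnode
      · have hns : y ∉ GeomFib3.nonsm (Curv2.bcSnd k X K) := by
          rw [GeomFib3.nonsm_pullback (X ↘ Spec (CommRingCat.of k)) _ (Curv2.bcSnd k X K)
            (Curv2.bcFst k X K) (IsPullback.of_hasPullback _ _)]
          intro hcon
          exact hcon ⟨U, hyU, hsm⟩
        simp only [GeomFib3.nonsm, Set.mem_setOf_eq, not_not] at hns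
        obtain ⟨V, hyV, hsmV⟩ := hns
        have h1 := Groth.Agent.Lib.Helper5.RegSmooth.regular_stalk_of_smooth K V
          (V.ι ≫ Curv2.bcSnd k X K) ⟨y, hyV⟩
        haveI h2 : IsRegularLocalRing ((Curv2.bc k X K).presheaf.stalk y) :=
          IsRegularLocalRing.of_ringEquiv
            (asIso (V.ι.stalkMap ⟨y, hyV⟩)).commRingCatIsoToRingEquiv.symm
        haveI := Groth.Agent.Lib.helper19.isDomain_of_isRegularLocalRing
          ((Curv2.bc k X K).presheaf.stalk y)
        infer_instance
      · obtain ⟨hxcl', xb₀, hxb₀, hodp⟩ := hnode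
        have hodp' := NodeGal1.isOrdDoublePt_of_exists k K (X ↘ Spec (CommRingCat.of k))
          _ hxcl' xb₀ y hxb₀ rfl hodp
        letI : (Curv2.bc k X K).Over (Spec (CommRingCat.of K)) := ⟨Curv2.bcSnd k X K⟩
        letI := Curv2.stalkAlgebra K (Curv2.bc k X K) y
        exact NodeRed2.isReduced_of_isOrdDoublePt K _ hodp'
    letI := ((Curv2.bc k X K).presheaf.stalkSpecializes hspec).hom.toAlgebra
    haveI := Groth.Agent.Lib.Helper13.StalkSpecLoc.isLocalization_stalkSpecializes hspec
    exact isReduced_localizationPreserves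
      (Groth.Agent.Lib.Helper13.StalkSpecLoc.primeOf hspec).primeCompl _ hy
  exact isReduced_of_isReduced_stalk _

theorem main (hnod : Curv2.AtWorstNodal k X) :
    (∀ x : X, LocCoh.IsGorensteinLocalRing (X.presheaf.stalk x)) ∧
      GeometricallyReduced (X ↘ Spec (CommRingCat.of k)) := by
  refine ⟨gor_stalk_of_atWorstNodal k X hnod, ?_⟩
  haveI : AlgebraicGeometry.IsReduced
      (FBase.bc (X ↘ Spec (CommRingCat.of k)) (AlgebraicClosure k)) := isReduced_bc k X hnod
  exact Groth.Agent.S2535.result (Ω := AlgebraicClosure k) (X ↘ Spec (CommRingCat.of k))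

end Main

end Groth.Agent.Lib.Helper19.NodeGor1
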