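import Mathlib
import Groth.Prelude.Def_CurvBase
import Groth.Agent.Lib.helper19.NodeGal1
import Groth.Agent.Lib.helper19.NodeFld1
import Groth.Agent.Lib.helper19.GeomFib2

set_option autoImplicit false
set_option linter.style.haveILetI false
universe u

namespace Groth.Agent.Lib.Helper19.NodeSep1

open CategoryTheory CategoryTheory.Limits AlgebraicGeometry IsLocalRing TopologicalSpace
open Groth.Agent.Lib.Helper19

section J

variable (k k' : Type u) [Field k] [Field k'] [Algebra k k']
  (K' : Type u) [Field K'] [Algebra k' K'] [Algebra k K'] [IsScalarTower k k' K']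
  {X : Scheme.{u}} (p' : X ⟶ Spec (CommRingCat.of k'))

local notation "aa" => Spec.map (CommRingCat.ofHom (algebraMap k k'))
local notation "cc'" => Spec.map (CommRingCat.ofHom (algebraMap k' K'))
local notation "cc₁" => Spec.map (CommRingCat.ofHom (algebraMap k K'))

theorem cc'_aa : cc' ≫ aa = cc₁ := by
  rw [← Spec.map_comp]
  congr 1
  ext c
  exact (IsScalarTower.algebraMap_apply k k' K' c).symm

/-- the diagonal-type section `Spec K' ⟶ Spec k' ×_k Spec K'`. -/
noncomputable def delta : Spec (CommRingCat.of K') ⟶ pullback aa cc₁ :=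
  pullback.lift cc' (𝟙 _) (by rw [cc'_aa, Category.id_comp])

theorem delta_fst : delta k k' K' ≫ pullback.fst aa cc₁ = cc' := pullback.lift_fst _ _ _

theorem delta_snd : delta k k' K' ≫ pullback.snd aa cc₁ = 𝟙 _ := pullback.lift_snd _ _ _

theorem etale_delta [Etale aa] : Etale (delta k k' K') := by
  haveI : Etale (pullback.snd aa cc₁) := MorphismProperty.pullback_snd _ _ inferInstance
  haveI : Etale (delta k k' K' ≫ pullback.snd aa cc₁) := by
    rw [delta_snd]; infer_instance
  exact Etale.of_comp (delta k k' K') (pullback.snd aa cc₁)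

/-- `X ×_{k'} K' ⟶ X ×_k K'`. -/
noncomputable def jj : pullback p' cc' ⟶ pullback (p' ≫ aa) cc₁ :=
  pullback.lift (pullback.fst p' cc') (pullback.snd p' cc')
    (by rw [← Category.assoc, pullback.condition, Category.assoc, cc'_aa])

theorem jj_fst : jj k k' K' p' ≫ pullback.fst (p' ≫ aa) cc₁ = pullback.fst p' cc' :=
  pullback.lift_fst _ _ _

theorem jj_snd : jj k k' K' p' ≫ pullback.snd (p' ≫ aa) cc₁ = pullback.snd p' cc' :=
  pullback.lift_snd _ _ _

/-- `X ×_k K' ⟶ Spec k' ×_k Spec K'`. -/
noncomputable def pi1 : pullback (p' ≫ aa) cc₁ ⟶ pullback aa cc₁ :=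
  pullback.lift (pullback.fst (p' ≫ aa) cc₁ ≫ p') (pullback.snd (p' ≫ aa) cc₁)
    (by rw [Category.assoc, pullback.condition])

theorem pi1_fst : pi1 k k' K' p' ≫ pullback.fst aa cc₁ = pullback.fst (p' ≫ aa) cc₁ ≫ p' :=
  pullback.lift_fst _ _ _

theorem pi1_snd : pi1 k k' K' p' ≫ pullback.snd aa cc₁ = pullback.snd (p' ≫ aa) cc₁ :=
  pullback.lift_snd _ _ _

theorem isPullback_pi1 :
    IsPullback (pi1 k k' K' p') (pullback.fst (p' ≫ aa) cc₁) (pullback.fst aa cc₁) p' := by
  have s : IsPullback (pi1 k k' K' p' ≫ pullback.snd aa cc₁) (pullback.fst (p' ≫ aa) cc₁) cc₁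
      (p' ≫ aa) := by
    rw [pi1_snd]
    exact (IsPullback.of_hasPullback (p' ≫ aa) cc₁).flip
  exact IsPullback.of_right s (pi1_fst k k' K' p') (IsPullback.of_hasPullback aa cc₁).flip

theorem isPullback_jj :
    IsPullback (jj k k' K' p') (pullback.snd p' cc') (pi1 k k' K' p') (delta k k' K') := by
  have s : IsPullback (jj k k' K' p' ≫ pullback.fst (p' ≫ aa) cc₁) (pullback.snd p' cc') p'
      (delta k k' K' ≫ pullback.fst aa cc₁) := by
    rw [jj_fst, delta_fst]
    exact IsPullback.of_hasPullback p' cc'
  refine IsPullback.of_right s ?_ (isPullback_pi1 k k' K' p').flip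
  apply pullback.hom_ext
  · rw [Category.assoc, pi1_fst, ← Category.assoc, jj_fst, Category.assoc, delta_fst,
      pullback.condition]
  · rw [Category.assoc, pi1_snd, jj_snd, Category.assoc, delta_snd, Category.comp_id]

theorem etale_jj [Etale aa] : Etale (jj k k' K' p') := by
  haveI := etale_delta k k' K'
  exact MorphismProperty.of_isPullback (P := @Etale) (isPullback_jj k k' K' p').flip inferInstance

end J

section Theta

variable (k : Type u) [Field k] (K K' : Type u) [Field K] [Field K'] [Algebra k K] [Algebra k K']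
  {X : Scheme.{u}} (p : X ⟶ Spec (CommRingCat.of k)) (θ : K ≃ₐ[k] K')

/-- the isomorphism `X ×_k K' ⟶ X ×_k K` induced by an isomorphism of fields `K ≃ K'`. -/
noncomputable def Theta :
    pullback p (Spec.map (CommRingCat.ofHom (algebraMap k K'))) ⟶
      pullback p (Spec.map (CommRingCat.ofHom (algebraMap k K))) :=
  pullback.map p _ p _ (𝟙 X) (Spec.map (CommRingCat.ofHom ((θ : K ≃+* K') : K →+* K'))) (𝟙 _)
    (by rw [Category.comp_id, Category.id_comp])
    (by
      rw [Category.comp_id, ← Spec.map_comp]
      congr 1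
      ext c
      exact (θ.commutes c).symm)

theorem Theta_fst : Theta k K K' p θ ≫ pullback.fst _ _ = pullback.fst _ _ :=
  (pullback.lift_fst _ _ _).trans (Category.comp_id _)

theorem Theta_snd : Theta k K K' p θ ≫ pullback.snd _ _ =
    pullback.snd _ _ ≫ Spec.map (CommRingCat.ofHom ((θ : K ≃+* K') : K →+* K')) :=
  pullback.lift_snd _ _ _

instance : IsIso (Theta k K K' p θ) := by
  haveI : IsIso (CommRingCat.ofHom ((θ : K ≃+* K') : K →+* K')) :=
    (θ : K ≃+* K').toCommRingCatIso.isIso_hom
  unfold Theta
  infer_instance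

end Theta

section Main

variable (k k' : Type u) [Field k] [Field k'] [Algebra k k'] [FiniteDimensional k k']
  [Algebra.IsSeparable k k']

theorem etale_aa : Etale (Spec.map (CommRingCat.ofHom (algebraMap k k'))) := by
  rw [HasRingHomProperty.Spec_iff (P := @Etale), CommRingCat.hom_ofHom, RingHom.etale_algebraMap]
  haveI : Algebra.FormallyEtale k k' := Algebra.FormallyEtale.of_isSeparable k k'
  haveI : Algebra.FinitePresentation k k' := Algebra.FinitePresentation.of_finiteType.mp inferInstance
  exact ⟨inferInstance, inferInstance⟩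

theorem main (X : Scheme.{u}) [X.Over (Spec (CommRingCat.of k'))]
    [LocallyOfFiniteType (X ↘ Spec (CommRingCat.of k'))] (x : X) :
    Curv2.IsNode k' X x ↔
      @Curv2.IsNode k _ X ⟨(X ↘ Spec (CommRingCat.of k')) ≫
        Spec.map (CommRingCat.ofHom (algebraMap k k'))⟩ x := by
  set p' := (X ↘ Spec (CommRingCat.of k')) with hp'
  haveI := etale_aa k k'
  haveI : LocallyOfFiniteType (p' ≫ Spec.map (CommRingCat.ofHom (algebraMap k k'))) :=
    inferInstance
  haveI : Algebra.IsAlgebraic k (AlgebraicClosure k') :=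
    Algebra.IsAlgebraic.trans k k' (AlgebraicClosure k')
  haveI : IsAlgClosure k (AlgebraicClosure k') := ⟨inferInstance, inferInstance⟩
  let θ : AlgebraicClosure k ≃ₐ[k] AlgebraicClosure k' :=
    IsAlgClosure.equiv k (AlgebraicClosure k) (AlgebraicClosure k')
  haveI := etale_jj k k' (AlgebraicClosure k') p'
  haveI : LocallyOfFiniteType (pullback.snd (p' ≫ Spec.map (CommRingCat.ofHom (algebraMap k k')))
      (Spec.map (CommRingCat.ofHom (algebraMap k (AlgebraicClosure k'))))) :=
    MorphismProperty.pullback_snd _ _ inferInstance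
  haveI : LocallyOfFiniteType (pullback.snd (p' ≫ Spec.map (CommRingCat.ofHom (algebraMap k k')))
      (Spec.map (CommRingCat.ofHom (algebraMap k (AlgebraicClosure k))))) :=
    MorphismProperty.pullback_snd _ _ inferInstance
  constructor
  · rintro ⟨hxcl, y', hy', hodp'⟩
    refine ⟨hxcl, Theta k (AlgebraicClosure k) (AlgebraicClosure k')
      (p' ≫ Spec.map (CommRingCat.ofHom (algebraMap k k'))) θ
        (jj k k' (AlgebraicClosure k') p' y'), ?_, ?_⟩
    · change (Theta k (AlgebraicClosure k) (AlgebraicClosure k')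
        (p' ≫ Spec.map (CommRingCat.ofHom (algebraMap k k'))) θ ≫ pullback.fst _ _)
          (jj k k' (AlgebraicClosure k') p' y') = x
      rw [Theta_fst]
      change (jj k k' (AlgebraicClosure k') p' ≫ pullback.fst _ _) y' = x
      rw [jj_fst]
      exact hy'
    · have h1 := (NodeEt2.isOrdDoublePt_iff_of_etale (AlgebraicClosure k')
        (pullback.snd (p' ≫ Spec.map (CommRingCat.ofHom (algebraMap k k')))
          (Spec.map (CommRingCat.ofHom (algebraMap k (AlgebraicClosure k')))))
        (pullback.snd p' (Spec.map (CommRingCat.ofHom (algebraMap k' (AlgebraicClosure k')))))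
        (jj k k' (AlgebraicClosure k') p') (jj_snd k k' (AlgebraicClosure k') p') y').mpr hodp'
      exact (NodeFld1.isOrdDoublePt_iff_of_etale_fieldChange (AlgebraicClosure k)
        (AlgebraicClosure k') (θ : AlgebraicClosure k ≃+* AlgebraicClosure k')
        (pullback.snd (p' ≫ Spec.map (CommRingCat.ofHom (algebraMap k k')))
          (Spec.map (CommRingCat.ofHom (algebraMap k (AlgebraicClosure k)))))
        (pullback.snd (p' ≫ Spec.map (CommRingCat.ofHom (algebraMap k k')))
          (Spec.map (CommRingCat.ofHom (algebraMap k (AlgebraicClosure k')))))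
        (Theta k (AlgebraicClosure k) (AlgebraicClosure k')
          (p' ≫ Spec.map (CommRingCat.ofHom (algebraMap k k'))) θ)
        (Theta_snd k (AlgebraicClosure k) (AlgebraicClosure k') _ θ) _).mpr h1
  · rintro ⟨hxcl, y, hy, hodp⟩
    obtain ⟨y₁, rfl⟩ : ∃ y₁, Theta k (AlgebraicClosure k) (AlgebraicClosure k')
        (p' ≫ Spec.map (CommRingCat.ofHom (algebraMap k k'))) θ y₁ = y :=
      (Theta k (AlgebraicClosure k) (AlgebraicClosure k')
        (p' ≫ Spec.map (CommRingCat.ofHom (algebraMap k k'))) θ).homeomorph.surjective y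
    have hy₁ : pullback.fst (p' ≫ Spec.map (CommRingCat.ofHom (algebraMap k k')))
        (Spec.map (CommRingCat.ofHom (algebraMap k (AlgebraicClosure k')))) y₁ = x := by
      rw [← hy]
      change _ = (Theta k (AlgebraicClosure k) (AlgebraicClosure k')
        (p' ≫ Spec.map (CommRingCat.ofHom (algebraMap k k'))) θ ≫ pullback.fst _ _) y₁
      rw [Theta_fst]
    have hodp₁ := (NodeFld1.isOrdDoublePt_iff_of_etale_fieldChange (AlgebraicClosure k)
        (AlgebraicClosure k') (θ : AlgebraicClosure k ≃+* AlgebraicClosure k')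
        (pullback.snd (p' ≫ Spec.map (CommRingCat.ofHom (algebraMap k k')))
          (Spec.map (CommRingCat.ofHom (algebraMap k (AlgebraicClosure k)))))
        (pullback.snd (p' ≫ Spec.map (CommRingCat.ofHom (algebraMap k k')))
          (Spec.map (CommRingCat.ofHom (algebraMap k (AlgebraicClosure k')))))
        (Theta k (AlgebraicClosure k) (AlgebraicClosure k')
          (p' ≫ Spec.map (CommRingCat.ofHom (algebraMap k k'))) θ)
        (Theta_snd k (AlgebraicClosure k) (AlgebraicClosure k') _ θ) y₁).mp hodp
    haveI : Surjective (Spec.map (CommRingCat.ofHom (algebraMap k' (AlgebraicClosure k')))) :=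
      (GeomFib2.flat_surjective_spec_field k' (AlgebraicClosure k')).2
    haveI : Surjective (pullback.fst p'
        (Spec.map (CommRingCat.ofHom (algebraMap k' (AlgebraicClosure k'))))) :=
      MorphismProperty.pullback_fst _ _ inferInstance
    obtain ⟨y', hy'⟩ := (pullback.fst p'
        (Spec.map (CommRingCat.ofHom (algebraMap k' (AlgebraicClosure k'))))).surjective x
    have hjy' : pullback.fst (p' ≫ Spec.map (CommRingCat.ofHom (algebraMap k k')))
        (Spec.map (CommRingCat.ofHom (algebraMap k (AlgebraicClosure k'))))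
          (jj k k' (AlgebraicClosure k') p' y') = x := by
      change (jj k k' (AlgebraicClosure k') p' ≫ pullback.fst _ _) y' = x
      rw [jj_fst]
      exact hy'
    have h2 := NodeGal1.isOrdDoublePt_of_exists k (AlgebraicClosure k')
      (p' ≫ Spec.map (CommRingCat.ofHom (algebraMap k k'))) x hxcl y₁
      (jj k k' (AlgebraicClosure k') p' y') hy₁ hjy' hodp₁
    refine ⟨hxcl, y', hy', ?_⟩
    exact (NodeEt2.isOrdDoublePt_iff_of_etale (AlgebraicClosure k')
        (pullback.snd (p' ≫ Spec.map (CommRingCat.ofHom (algebraMap k k')))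
          (Spec.map (CommRingCat.ofHom (algebraMap k (AlgebraicClosure k')))))
        (pullback.snd p' (Spec.map (CommRingCat.ofHom (algebraMap k' (AlgebraicClosure k')))))
        (jj k k' (AlgebraicClosure k') p') (jj_snd k k' (AlgebraicClosure k') p') y').mp h2

end Main

end Groth.Agent.Lib.Helper19.NodeSep1
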