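import Mathlib
import Groth.Prelude.Def_CurvBase
import Groth.Agent.Lib.helper19.NodeSep1
import Groth.Agent.Lib.helper19.NodeEt6

set_option autoImplicit false
set_option linter.style.haveILetI false
universe u

namespace Groth.Agent.Lib.Helper19.NodePost1

open CategoryTheory CategoryTheory.Limits AlgebraicGeometry IsLocalRing TopologicalSpace
open Groth.Agent.Lib.Helper19

section PatternP

variable {X S' S T' T : Scheme.{u}} (f : X ⟶ S') (e : S' ⟶ S) (t' : T' ⟶ S') (t : T ⟶ S)
  (r : T' ⟶ T) (hr : t' ≫ e = r ≫ t)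

/-- `T' ⟶ S' ×_S T`. -/
noncomputable def delta : T' ⟶ pullback e t := pullback.lift t' r hr

theorem delta_fst : delta e t' t r hr ≫ pullback.fst e t = t' := pullback.lift_fst _ _ _

theorem delta_snd : delta e t' t r hr ≫ pullback.snd e t = r := pullback.lift_snd _ _ _

theorem etale_delta [Etale e] [Etale r] : Etale (delta e t' t r hr) := by
  haveI : Etale (pullback.snd e t) := MorphismProperty.pullback_snd _ _ inferInstance
  haveI : Etale (delta e t' t r hr ≫ pullback.snd e t) := by
    rw [delta_snd]; infer_instance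
  exact Etale.of_comp (delta e t' t r hr) (pullback.snd e t)

/-- `X ×_{S'} T' ⟶ X ×_S T`. -/
noncomputable def jj : pullback f t' ⟶ pullback (f ≫ e) t :=
  pullback.lift (pullback.fst f t') (pullback.snd f t' ≫ r)
    (by rw [← Category.assoc, pullback.condition, Category.assoc, hr, Category.assoc])

theorem jj_fst : jj f e t' t r hr ≫ pullback.fst (f ≫ e) t = pullback.fst f t' :=
  pullback.lift_fst _ _ _

theorem jj_snd : jj f e t' t r hr ≫ pullback.snd (f ≫ e) t = pullback.snd f t' ≫ r :=
  pullback.lift_snd _ _ _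

/-- `X ×_S T ⟶ S' ×_S T`. -/
noncomputable def pi1 : pullback (f ≫ e) t ⟶ pullback e t :=
  pullback.lift (pullback.fst (f ≫ e) t ≫ f) (pullback.snd (f ≫ e) t)
    (by rw [Category.assoc, pullback.condition])

theorem pi1_fst : pi1 f e t ≫ pullback.fst e t = pullback.fst (f ≫ e) t ≫ f :=
  pullback.lift_fst _ _ _

theorem pi1_snd : pi1 f e t ≫ pullback.snd e t = pullback.snd (f ≫ e) t :=
  pullback.lift_snd _ _ _

theorem isPullback_pi1 :
    IsPullback (pi1 f e t) (pullback.fst (f ≫ e) t) (pullback.fst e t) f := by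
  have s : IsPullback (pi1 f e t ≫ pullback.snd e t) (pullback.fst (f ≫ e) t) t (f ≫ e) := by
    rw [pi1_snd]
    exact (IsPullback.of_hasPullback (f ≫ e) t).flip
  exact IsPullback.of_right s (pi1_fst f e t) (IsPullback.of_hasPullback e t).flip

theorem isPullback_jj :
    IsPullback (jj f e t' t r hr) (pullback.snd f t') (pi1 f e t) (delta e t' t r hr) := by
  have s : IsPullback (jj f e t' t r hr ≫ pullback.fst (f ≫ e) t) (pullback.snd f t') f
      (delta e t' t r hr ≫ pullback.fst e t) := by
    rw [jj_fst, delta_fst]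
    exact IsPullback.of_hasPullback f t'
  refine IsPullback.of_right s ?_ (isPullback_pi1 f e t).flip
  apply pullback.hom_ext
  · rw [Category.assoc, pi1_fst, ← Category.assoc, jj_fst, Category.assoc, delta_fst,
      pullback.condition]
  · rw [Category.assoc, pi1_snd, jj_snd, Category.assoc, delta_snd]

theorem etale_jj [Etale e] [Etale r] : Etale (jj f e t' t r hr) := by
  haveI := etale_delta e t' t r hr
  exact MorphismProperty.of_isPullback (P := @Etale) (isPullback_jj f e t' t r hr).flip
    inferInstance

end PatternP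

section Residue

variable {S' S : Scheme.{u}} (e : S' ⟶ S) [Etale e] (s' : S')

theorem finite_residue :
    @Module.Finite (S.residueField (e s')) (S'.residueField s') _ _
      (e.residueFieldMap s').hom.toAlgebra.toModule := by
  algebraize [(e.stalkMap s').hom]
  have : IsLocalHom (algebraMap (S.presheaf.stalk (e s')) (S'.presheaf.stalk s')) :=
    inferInstanceAs <| IsLocalHom (e.stalkMap s').hom
  have : Algebra.EssFiniteType (S.presheaf.stalk (e s')) (S'.presheaf.stalk s') := by
    rw [← RingHom.essFiniteType_algebraMap, RingHom.algebraMap_toAlgebra]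
    exact LocallyOfFiniteType.stalkMap e s'
  have : Algebra.FormallyUnramified (S.presheaf.stalk (e s')) (S'.presheaf.stalk s') := by
    rw [← RingHom.formallyUnramified_algebraMap, RingHom.algebraMap_toAlgebra]
    exact FormallyUnramified.stalkMap e s'
  have h : Module.Finite
      (IsLocalRing.ResidueField <| S.presheaf.stalk (e s'))
      (IsLocalRing.ResidueField <| S'.presheaf.stalk s') := inferInstance
  have halg : (e.residueFieldMap s').hom.toAlgebra =
      (inferInstance : Algebra (IsLocalRing.ResidueField <| S.presheaf.stalk (e s'))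
        (IsLocalRing.ResidueField <| S'.presheaf.stalk s')) := by
    refine Algebra.algebra_ext _ _ fun x ↦ ?_
    obtain ⟨x, rfl⟩ := IsLocalRing.residue_surjective x
    rfl
  rw [halg]
  exact h

end Residue


section Main

variable {X S' S : Scheme.{u}} (e : S' ⟶ S) [Etale e] (f : X ⟶ S')

/-- the fibre of `f` over `s'` maps by an étale morphism to the fibre of `f ≫ e` over `s = e s'`,
compatibly with the finite separable extension of residue fields. -/
theorem exists_fibre_map (s' : S') (s : S) (h : e s' = s) :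
    ∃ (alg : Algebra (S.residueField s) (S'.residueField s'))
      (_ : @Module.Finite _ _ _ _ alg.toModule) (_ : @Algebra.IsSeparable _ _ _ _ alg)
      (j : f.fiber s' ⟶ (f ≫ e).fiber s), Etale j ∧
        j ≫ (f ≫ e).fiberToSpecResidueField s = f.fiberToSpecResidueField s' ≫
          Spec.map (CommRingCat.ofHom (@algebraMap _ _ _ _ alg)) ∧
        j ≫ (f ≫ e).fiberι s = f.fiberι s' := by
  subst h
  letI alg : Algebra (S.residueField (e s')) (S'.residueField s') :=
    (e.residueFieldMap s').hom.toAlgebra
  have hfin : Module.Finite (S.residueField (e s')) (S'.residueField s') := finite_residue e s'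
  have hsep : Algebra.IsSeparable (S.residueField (e s')) (S'.residueField s') := inferInstance
  haveI : Etale (Spec.map (CommRingCat.ofHom
      (algebraMap (S.residueField (e s')) (S'.residueField s')))) := NodeSep1.etale_aa _ _
  have hr : S'.fromSpecResidueField s' ≫ e =
      Spec.map (CommRingCat.ofHom (algebraMap (S.residueField (e s')) (S'.residueField s'))) ≫
        S.fromSpecResidueField (e s') :=
    (Scheme.Hom.SpecMap_residueFieldMap_fromSpecResidueField e s').symm
  exact ⟨alg, hfin, hsep, jj f e (S'.fromSpecResidueField s') (S.fromSpecResidueField (e s')) _ hr,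
    etale_jj _ _ _ _ _ hr, jj_snd _ _ _ _ _ hr, jj_fst _ _ _ _ _ hr⟩

theorem nodalFamily_postcomp_etale (hf : Curv2.IsNodalFamily f) :
    Curv2.IsNodalFamily (f ≫ e) := by
  obtain ⟨hfl, hfp, hfib⟩ := hf
  haveI := hfl
  haveI := hfp
  refine ⟨inferInstance, inferInstance, fun s => ?_⟩
  haveI : LocallyOfFiniteType ((f ≫ e).fiberToSpecResidueField s) :=
    MorphismProperty.pullback_snd _ _ inferInstance
  haveI : IsLocallyNoetherian ((f ≫ e).fiber s) :=
    LocallyOfFiniteType.isLocallyNoetherian ((f ≫ e).fiberToSpecResidueField s)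
  haveI : JacobsonSpace ((f ≫ e).fiber s) :=
    LocallyOfFiniteType.jacobsonSpace ((f ≫ e).fiberToSpecResidueField s)
  choose alg hfin hsep j hjet hjsnd hjfst using
    fun i : {s' : S' // e s' = s} => exists_fibre_map e f i.1 s i.2
  haveI : ∀ i, Etale (j i) := hjet
  have hsurj : ∀ x : (f ≫ e).fiber s, ∃ i, x ∈ Set.range (j i) := by
    intro x
    have hx : (f ≫ e) ((f ≫ e).fiberι s x) = s := by
      have : (f ≫ e).fiberι s x ∈ Set.range ((f ≫ e).fiberι s) := ⟨x, rfl⟩
      rw [Scheme.Hom.range_fiberι] at this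
      exact this
    rw [Scheme.Hom.comp_apply] at hx
    refine ⟨⟨f ((f ≫ e).fiberι s x), hx⟩, ?_⟩
    have h2 : (f ≫ e).fiberι s x ∈ Set.range (f.fiberι (f ((f ≫ e).fiberι s x))) := by
      rw [Scheme.Hom.range_fiberι]; rfl
    obtain ⟨x', hx'⟩ := h2
    refine ⟨x', ?_⟩
    apply ((f ≫ e).fiberι s).isEmbedding.injective
    rw [← Scheme.Hom.comp_apply, hjfst]
    exact hx'
  refine ⟨NodeEt6.equidim_of_etale_cover _ j hsurj (fun i => (hfib i.1).1), ?_⟩
  intro x hx
  obtain ⟨i, x', rfl⟩ := hsurj x
  have hx'cl : IsClosed ({x'} : Set (f.fiber i.1)) :=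
    (NodeEt3.isClosed_singleton_iff_of_etale (j i) x').mp hx
  letI := alg i
  haveI := hfin i
  haveI := hsep i
  haveI : Etale (Spec.map (CommRingCat.ofHom
      (algebraMap (S.residueField s) (S'.residueField i.1)))) := NodeSep1.etale_aa _ _
  rcases (hfib i.1).2 x' hx'cl with ⟨U', hx'U', hsm⟩ | hnode
  · refine Or.inl ?_
    haveI : Smooth (U'.ι ≫ f.fiberToSpecResidueField i.1) := hsm
    have hsm' : Smooth (U'.ι ≫ j i ≫ (f ≫ e).fiberToSpecResidueField s) := by
      rw [hjsnd i, ← Category.assoc]
      haveI hS : Smooth (Spec.map (CommRingCat.ofHom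
          (algebraMap (S.residueField s) (S'.residueField i.1)))) := inferInstance
      exact MorphismProperty.comp_mem (W := @Smooth) _ _ hsm hS
    obtain ⟨V, hV, hVsm⟩ := NodeEt6.smooth_image (j i) ((f ≫ e).fiberToSpecResidueField s) U' hsm'
    exact ⟨V, hV x' hx'U', hVsm⟩
  · refine Or.inr ?_
    letI : (f.fiber i.1).Over (Spec (CommRingCat.of (S'.residueField i.1))) :=
      ⟨f.fiberToSpecResidueField i.1⟩
    haveI : LocallyOfFiniteType (f.fiber i.1 ↘ Spec (CommRingCat.of (S'.residueField i.1))) :=
      MorphismProperty.pullback_snd _ _ inferInstance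
    have h1 := (NodeSep1.main (S.residueField s) (S'.residueField i.1) (f.fiber i.1) x').mp hnode
    have h2 := (NodeEt5.isNode_congr (S.residueField s) (hjsnd i).symm x').mp h1
    letI : ((f ≫ e).fiber s).Over (Spec (CommRingCat.of (S.residueField s))) :=
      ⟨(f ≫ e).fiberToSpecResidueField s⟩
    haveI : LocallyOfFiniteType ((f ≫ e).fiber s ↘ Spec (CommRingCat.of (S.residueField s))) :=
      ‹LocallyOfFiniteType ((f ≫ e).fiberToSpecResidueField s)›
    exact (NodeEt3.isNode_iff_of_etale (S.residueField s) ((f ≫ e).fiber s) (j i) x').mpr h2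

end Main

end Groth.Agent.Lib.Helper19.NodePost1
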