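import Groth.Agent.Lib.helper19.NoethNorm2
import Groth.Agent.Lib.helper19.LinProj7

/-!
# Projection from a point of projective space: the geometric step (helper19)
-/

set_option autoImplicit false
universe u
open CategoryTheory CategoryTheory.Limits AlgebraicGeometry Opposite TopologicalSpace

noncomputable section

namespace Groth.Agent.Lib.helper19.NoethNorm3

open Groth.Agent.Lib.helper19.LinProj1 Groth.Agent.Lib.helper19.LinProj2 Groth.Agent.Lib.helper19.LinProj3
open Groth.Agent.Lib.Helper28
open Groth.Agent.Lib.helper19.NoethNorm2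

attribute [local instance] MvPolynomial.gradedAlgebra

variable (k : Type u) [Field k] (m : ℕ)

theorem zeroHom_comp_algebraMap (a : Fin (m + 1) → k) :
    (ProjMapG.zeroHom (φ k m a)).comp (algebraMap k (CohB1.polyGrading m k 0)) =
      algebraMap k (CohB1.polyGrading (m + 1) k 0) := by
  refine RingHom.ext fun r => Subtype.ext ?_
  change φ k m a (algebraMap k (MvPolynomial (Fin (m + 1)) k) r) = algebraMap k _ r
  rw [φ_apply, AlgHom.commutes]

variable {X : Scheme.{u}} (f : X ⟶ Proj (CohB1.polyGrading (m + 1) k))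

theorem comp_str (a : Fin (m + 1) → k) (hf : ∀ x, f x ∈ U (φ k m a)) :
    comp (φ k m a) f hf ≫ Segre2.str (CohB1.polyGrading m k) =
      f ≫ Segre2.str (CohB1.polyGrading (m + 1) k) := by
  unfold Segre2.str
  rw [← Category.assoc, comp_toSpecZero, Category.assoc, Category.assoc, ← Spec.map_comp,
    ← CommRingCat.ofHom_comp, zeroHom_comp_algebraMap]

theorem isFinite_comp [IsFinite f] (a : Fin (m + 1) → k) (hf : ∀ x, f x ∈ U (φ k m a)) :
    IsFinite (comp (φ k m a) f hf) := by
  have h1 : IsProper (comp (φ k m a) f hf ≫ Segre2.str (CohB1.polyGrading m k)) := by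
    rw [comp_str]
    have := Groth.Agent.Lib.helper19.LinProj7.isProper_str k (m + 1)
    infer_instance
  have h2 := Groth.Agent.Lib.helper19.LinProj7.isProper_str k m
  have h3 : IsProper (comp (φ k m a) f hf) :=
    IsProper.of_comp (comp (φ k m a) f hf) (Segre2.str (CohB1.polyGrading m k))
  have h4 : IsAffineHom (comp (φ k m a) f hf) := isAffineHom_comp (φ k m a) f hf
  exact IsFinite.iff_isProper_and_isAffineHom.mpr ⟨h3, h4⟩

/-- a non-surjective finite morphism to `P^{m+1}` over an infinite field can be projected to a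
finite morphism to `P^m` -/
theorem exists_finite_of_not_surjective [Infinite k] [IsFinite f]
    (hns : ¬ Function.Surjective f) :
    ∃ f' : X ⟶ Proj (CohB1.polyGrading m k), IsFinite f' ∧
      f' ≫ Segre2.str (CohB1.polyGrading m k) = f ≫ Segre2.str (CohB1.polyGrading (m + 1) k) := by
  rw [Function.Surjective] at hns
  push Not at hns
  obtain ⟨y, hy⟩ := hns
  have hcl : IsClosed (Set.range f) := f.isClosedMap.isClosed_range
  let V : (Proj (CohB1.polyGrading (m + 1) k)).Opens := ⟨(Set.range f)ᶜ, hcl.isOpen_compl⟩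
  have hyV : y ∈ V := by
    rintro ⟨x, hx⟩
    exact hy x hx
  obtain ⟨_, ⟨r, rfl⟩, hyr, hrV⟩ :=
    (TopologicalSpace.Opens.isBasis_iff_nbhd.mp
      (Proj.isBasis_basicOpen (CohB1.polyGrading (m + 1) k))) hyV
  rw [Proj.basicOpen_eq_iSup_proj] at hyr
  obtain ⟨e, hye⟩ := TopologicalSpace.Opens.mem_iSup.mp hyr
  set F := GradedRing.proj (CohB1.polyGrading (m + 1) k) e r with hFdef
  have hFle : Proj.basicOpen (CohB1.polyGrading (m + 1) k) F ≤ V := by
    refine le_trans ?_ hrV
    rw [Proj.basicOpen_eq_iSup_proj (CohB1.polyGrading (m + 1) k) r]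
    exact le_iSup (fun i => Proj.basicOpen (CohB1.polyGrading (m + 1) k)
      (GradedRing.proj (CohB1.polyGrading (m + 1) k) i r)) e
  have hFhom : F.IsHomogeneous e := by
    apply (MvPolynomial.mem_homogeneousSubmodule e F).1
    exact SetLike.coe_mem (DirectSum.decompose (CohB1.polyGrading (m + 1) k) r e)
  have hFne : F ≠ 0 := by
    intro h
    rw [h, Proj.basicOpen_zero] at hye
    exact hye
  obtain ⟨a, ha⟩ := exists_pt k m F e hFhom hFne
  have hf : ∀ x, f x ∈ U (φ k m a) := by
    intro x
    refine mem_U k m a F e hFhom ha (f x) ?_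
    intro hx
    exact hFle hx ⟨x, rfl⟩
  exact ⟨comp (φ k m a) f hf, isFinite_comp k m f a hf, comp_str k m f a hf⟩

end Groth.Agent.Lib.helper19.NoethNorm3
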