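import Groth.Agent.Lib.helper19.NoethNorm1
import Groth.Agent.Lib.helper19.NoethNorm3
import Groth.Agent.S10829
import Groth.Agent.Lib.Helper3.SchemeDim

/-!
# Projective Noether normalisation over an infinite field (helper19)
-/

set_option autoImplicit false
universe u
open CategoryTheory CategoryTheory.Limits AlgebraicGeometry Opposite TopologicalSpace

noncomputable section

namespace Groth.Agent.Lib.helper19.NoethNorm4

open Groth.Agent.Lib.helper19.LinProj1 Groth.Agent.Lib.helper19.LinProj2 Groth.Agent.Lib.helper19.LinProj3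
open Groth.Agent.Lib.Helper28
open Groth.Agent.Lib.helper19.NoethNorm2 Groth.Agent.Lib.helper19.NoethNorm3

attribute [local instance] MvPolynomial.gradedAlgebra

variable (k : Type u) [Field k]

/-- a closed proper subset of projective space lies in a hypersurface -/
theorem exists_form (N : ℕ) {X : Scheme.{u}} (f : X ⟶ Proj (CohB1.polyGrading N k)) [IsFinite f]
    (hns : ¬ Function.Surjective f) :
    ∃ (e : ℕ) (F : MvPolynomial (Fin (N + 1)) k), F.IsHomogeneous e ∧ F ≠ 0 ∧
      ∀ x, f x ∉ Proj.basicOpen (CohB1.polyGrading N k) F := by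
  rw [Function.Surjective] at hns
  push Not at hns
  obtain ⟨y, hy⟩ := hns
  have hcl : IsClosed (Set.range f) := f.isClosedMap.isClosed_range
  let V : (Proj (CohB1.polyGrading N k)).Opens := ⟨(Set.range f)ᶜ, hcl.isOpen_compl⟩
  have hyV : y ∈ V := by
    rintro ⟨x, hx⟩
    exact hy x hx
  obtain ⟨_, ⟨r, rfl⟩, hyr, hrV⟩ :=
    (TopologicalSpace.Opens.isBasis_iff_nbhd.mp
      (Proj.isBasis_basicOpen (CohB1.polyGrading N k))) hyV
  rw [Proj.basicOpen_eq_iSup_proj] at hyr
  obtain ⟨e, hye⟩ := TopologicalSpace.Opens.mem_iSup.mp hyr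
  set F := GradedRing.proj (CohB1.polyGrading N k) e r with hFdef
  have hFle : Proj.basicOpen (CohB1.polyGrading N k) F ≤ V := by
    refine le_trans ?_ hrV
    rw [Proj.basicOpen_eq_iSup_proj (CohB1.polyGrading N k) r]
    exact le_iSup (fun i => Proj.basicOpen (CohB1.polyGrading N k)
      (GradedRing.proj (CohB1.polyGrading N k) i r)) e
  have hFhom : F.IsHomogeneous e := by
    apply (MvPolynomial.mem_homogeneousSubmodule e F).1
    exact SetLike.coe_mem (DirectSum.decompose (CohB1.polyGrading N k) r e)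
  have hFne : F ≠ 0 := by
    intro h
    rw [h, Proj.basicOpen_zero] at hye
    exact hye
  exact ⟨e, F, hFhom, hFne, fun x hx => hFle hx ⟨x, rfl⟩⟩

/-- a finite morphism from a nonempty scheme to `P⁰` is surjective -/
theorem surjective_of_zero {X : Scheme.{u}} [Nonempty X] (f : X ⟶ Proj (CohB1.polyGrading 0 k))
    [IsFinite f] : Function.Surjective f := by
  by_contra hns
  obtain ⟨e, F, hFhom, hFne, hF⟩ := exists_form k 0 f hns
  obtain ⟨x⟩ := ‹Nonempty X›
  have hFp : F ∈ (f x).asHomogeneousIdeal.toIdeal := by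
    by_contra h
    exact hF x ((Proj.mem_basicOpen _ _ _).mpr h)
  have hFeq : F = (MvPolynomial.eval (fun _ => (1 : k)) F) • (MvPolynomial.X 0) ^ e := by
    have h := aeval_smul_of_isHomogeneous (D := MvPolynomial (Fin (0 + 1)) k) F e hFhom
      (fun _ => (1 : k)) (MvPolynomial.X 0)
    rw [← h]
    have h2 : (fun j : Fin (0 + 1) => (1 : k) • (MvPolynomial.X 0 : MvPolynomial (Fin (0 + 1)) k)) =
        MvPolynomial.X := by
      funext j
      rw [one_smul]
      congr 1
      exact (show (0 : Fin (0 + 1)) = j from (Fin.eq_zero j).symm)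
    rw [h2, MvPolynomial.aeval_X_left, AlgHom.id_apply]
  have hc : MvPolynomial.eval (fun _ => (1 : k)) F ≠ 0 := by
    intro h
    rw [h, zero_smul] at hFeq
    exact hFne hFeq
  haveI : ((f x).asHomogeneousIdeal.toIdeal).IsPrime := (f x).isPrime
  have hX : (MvPolynomial.X 0 : MvPolynomial (Fin (0 + 1)) k) ∈ (f x).asHomogeneousIdeal.toIdeal := by
    have h1 : (MvPolynomial.X 0 : MvPolynomial (Fin (0 + 1)) k) ^ e ∈
        (f x).asHomogeneousIdeal.toIdeal := by
      have h2 : (MvPolynomial.X 0 : MvPolynomial (Fin (0 + 1)) k) ^ e =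
          (MvPolynomial.eval (fun _ => (1 : k)) F)⁻¹ • F := by
        generalize MvPolynomial.eval (fun _ => (1 : k)) F = c at hFeq hc
        rw [hFeq, smul_smul, inv_mul_cancel₀ hc, one_smul]
      rw [h2]
      exact Submodule.smul_of_tower_mem _ _ hFp
    exact Ideal.IsPrime.mem_of_pow_mem inferInstance e h1
  obtain ⟨j, hj⟩ := Segre5.cover_of_adjoin (CohB1.polyGrading 0 k)
    (fun j : Fin (0 + 1) => (MvPolynomial.X j : MvPolynomial (Fin (0 + 1)) k))
    (fun j => (MvPolynomial.mem_homogeneousSubmodule 1 _).mpr (MvPolynomial.isHomogeneous_X k j))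
    (adjoin_X k 0) (f x)
  rw [Proj.mem_basicOpen] at hj
  apply hj
  have : j = 0 := Fin.eq_zero j
  rw [this]
  exact hX

/-- projective Noether normalisation -/
theorem main [Infinite k] (X : Scheme.{u}) (n : ℕ) (ι : X ⟶ Proj (CohB1.polyGrading n k))
    [IsClosedImmersion ι] (d : ℕ) (hd : topologicalKrullDim X = d) :
    ∃ π : X ⟶ Proj (CohB1.polyGrading d k),
      π ≫ Segre2.str (CohB1.polyGrading d k) = ι ≫ Segre2.str (CohB1.polyGrading n k) ∧
      IsFinite π ∧ Function.Surjective π := by
  classical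
  haveI : Nonempty X := by
    by_contra h
    rw [not_nonempty_iff] at h
    have : topologicalKrullDim X = ⊥ := by
      unfold topologicalKrullDim
      haveI : IsEmpty (IrreducibleCloseds X) := ⟨fun s => h.elim s.isIrreducible.nonempty.some⟩
      exact Order.krullDim_eq_bot
    rw [this] at hd
    exact absurd hd (by simp)
  let P : ℕ → Prop := fun m => ∃ f : X ⟶ Proj (CohB1.polyGrading m k), IsFinite f ∧
    f ≫ Segre2.str (CohB1.polyGrading m k) = ι ≫ Segre2.str (CohB1.polyGrading n k)
  have hPn : P n := ⟨ι, inferInstance, rfl⟩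
  have hex : ∃ m, P m := ⟨n, hPn⟩
  obtain ⟨f, hfin, hf⟩ := Nat.find_spec hex
  have hmin := fun m (hm : m < Nat.find hex) => Nat.find_min hex hm
  generalize Nat.find hex = m₀ at f hfin hf hmin
  have hsurj : Function.Surjective f := by
    by_contra hns
    cases m₀ with
    | zero => exact hns (surjective_of_zero k f)
    | succ m =>
      obtain ⟨f', hf', hc⟩ := exists_finite_of_not_surjective k m f hns
      exact hmin m (Nat.lt_succ_self m) ⟨f', hf', hc.trans hf⟩
  have h1 : topologicalKrullDim X ≤ topologicalKrullDim (Proj (CohB1.polyGrading m₀ k)) :=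
    Groth.Agent.Lib.Helper3.topologicalKrullDim_le_of_locallyQuasiFinite f
  have h2 : topologicalKrullDim (Proj (CohB1.polyGrading m₀ k)) ≤ topologicalKrullDim X :=
    Groth.Agent.Lib.helper19.NoethNorm1.topologicalKrullDim_le_of_isClosedMap_of_surjective f
      f.continuous f.isClosedMap hsurj
  have h3 : topologicalKrullDim (Proj (CohB1.polyGrading m₀ k)) = (m₀ : WithBot ℕ∞) :=
    Groth.Agent.S10829.result k m₀
  have h4 : (m₀ : WithBot ℕ∞) = (d : WithBot ℕ∞) := by
    rw [← h3, ← hd]
    exact le_antisymm h2 h1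
  have h5 : m₀ = d := by exact_mod_cast h4
  subst h5
  exact ⟨f, hf, hfin, hsurj⟩

end Groth.Agent.Lib.helper19.NoethNorm4
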