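import Groth.Agent.Lib.helper19.LinProj15
import Groth.Agent.Lib.helper19.NoethNorm3
import Groth.Agent.Lib.Helper28.ProjUPUniq1

/-!
# A linear projection pulls `O(1)` back to `O(1)` (helper19)
-/

set_option autoImplicit false
universe u
open CategoryTheory CategoryTheory.Limits AlgebraicGeometry Opposite TopologicalSpace
open HomogeneousLocalization

noncomputable section

namespace Groth.Agent.Lib.helper19.NoethNorm5

open Groth.Agent.Lib.helper19.LinProj1 Groth.Agent.Lib.helper19.LinProj2 Groth.Agent.Lib.helper19.LinProj3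
open Groth.Agent.Lib.Helper28
open Groth.Agent.Lib.Helper28.QCohLoc Groth.Agent.Lib.Helper28.GenLocus
  Groth.Agent.Lib.Helper28.PullbackInv Groth.Agent.Lib.Helper28.ProjUPGeom
  Groth.Agent.Lib.Helper28.ProjUPUniq
open Groth.Agent.Lib.helper19.NoethNorm2

attribute [local instance] MvPolynomial.gradedAlgebra

variable (k : Type u) [Field k] (m : ℕ) (a : Fin (m + 1) → k)
variable {X : Scheme.{u}} (f : X ⟶ Proj (CohB1.polyGrading (m + 1) k))
  (hf : ∀ x, f x ∈ U (φ k m a))

theorem hX (j : Fin (m + 1)) :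
    (MvPolynomial.X j : MvPolynomial (Fin (m + 1)) k) ∈ CohB1.polyGrading m k 1 :=
  (idx k m j).mem

theorem hφX (j : Fin (m + 1)) :
    φ k m a (MvPolynomial.X j : MvPolynomial (Fin (m + 1)) k) ∈ CohB1.polyGrading (m + 1) k 1 :=
  mapMem (φ k m a) (idx k m j)

/-- the open on which the `j`-th coordinate of the projection does not vanish -/
def UU (j : Fin (m + 1)) : X.Opens :=
  f ⁻¹ᵁ Proj.basicOpen (CohB1.polyGrading (m + 1) k) (φ k m a (MvPolynomial.X j))

theorem UU_eq (j : Fin (m + 1)) :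
    UU k m a f j = comp (φ k m a) f hf ⁻¹ᵁ
      Proj.basicOpen (CohB1.polyGrading m k) (MvPolynomial.X j) :=
  (comp_preimage_basicOpen (φ k m a) f hf (idx k m j)).symm

include hf in
theorem cover (x : X) : ∃ j, x ∈ UU k m a f j := by
  obtain ⟨j, hj⟩ := Segre5.cover_of_adjoin (CohB1.polyGrading m k)
    (fun j : Fin (m + 1) => (MvPolynomial.X j : MvPolynomial (Fin (m + 1)) k))
    (fun j => hX k m j) (adjoin_X k m) (comp (φ k m a) f hf x)
  refine ⟨j, ?_⟩
  rw [UU_eq k m a f hf]
  exact hj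

theorem coef_eq (i j : Fin (m + 1)) :
    (comp (φ k m a) f hf).appLE (Proj.basicOpen (CohB1.polyGrading m k) (MvPolynomial.X j))
        (UU k m a f j) (le_of_eq (UU_eq k m a f hf j))
        (ProjFrac.fr (CohB1.polyGrading m k) (hX k m j) 1 (MvPolynomial.X i) (hX k m i)) =
      f.appLE (Proj.basicOpen (CohB1.polyGrading (m + 1) k) (φ k m a (MvPolynomial.X j)))
        (UU k m a f j) le_rfl
        (ProjFrac.fr (CohB1.polyGrading (m + 1) k) (hφX k m a j) 1 (φ k m a (MvPolynomial.X i))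
          (hφX k m a i)) := by
  have h := Groth.Agent.Lib.helper19.LinProj15.awayToSection_comp_appLE (φ k m a) f hf (idx k m j)
    (UU k m a f j) le_rfl (le_of_eq (UU_eq k m a f hf j))
  have h2 := congrArg (fun ψ => ψ.hom (Away.mk (CohB1.polyGrading m k) (hX k m j) 1
    (MvPolynomial.X i) (ProjFrac.mem_smul_one (CohB1.polyGrading m k) (hX k m i)))) h
  simp only [CommRingCat.hom_comp, RingHom.comp_apply, CommRingCat.hom_ofHom] at h2
  have h3 : Away.map (φ k m a) (idx k m j).elt (Away.mk (CohB1.polyGrading m k) (hX k m j) 1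
      (MvPolynomial.X i) (ProjFrac.mem_smul_one (CohB1.polyGrading m k) (hX k m i))) =
      Away.mk (CohB1.polyGrading (m + 1) k) (hφX k m a j) 1 (φ k m a (MvPolynomial.X i))
        (ProjFrac.mem_smul_one (CohB1.polyGrading (m + 1) k) (hφX k m a i)) :=
    Away.map_mk (φ k m a) _ (hX k m j) 1 _ _
  rw [h3] at h2
  exact h2

theorem exists_pullback_iso :
    Nonempty ((Scheme.Modules.pullback (comp (φ k m a) f hf)).obj
        (Twist.twist (CohB1.polyGrading m k) ((1 : ℕ) : ℤ)) ≅
      (Scheme.Modules.pullback f).obj (Twist.twist (CohB1.polyGrading (m + 1) k) ((1 : ℕ) : ℤ))) := by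
  obtain ⟨ψ, -⟩ := exists_iso_of_sections
    ((Scheme.Modules.pullback (comp (φ k m a) f hf)).obj
      (Twist.twist (CohB1.polyGrading m k) ((1 : ℕ) : ℤ)))
    ((Scheme.Modules.pullback f).obj (Twist.twist (CohB1.polyGrading (m + 1) k) ((1 : ℕ) : ℤ)))
    (UU k m a f)
    (fun j => pbs (comp (φ k m a) f hf) (Twist.twist (CohB1.polyGrading m k) ((1 : ℕ) : ℤ)) ⊤
      (TwistGen.gsec (CohB1.polyGrading m k) (MvPolynomial.X j) (hX k m j)))
    (fun j => pbs f (Twist.twist (CohB1.polyGrading (m + 1) k) ((1 : ℕ) : ℤ)) ⊤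
      (TwistGen.gsec (CohB1.polyGrading (m + 1) k) (φ k m a (MvPolynomial.X j)) (hφX k m a j)))
    (fun j => isGen_pbs_gsec (CohB1.polyGrading m k) (comp (φ k m a) f hf) (hX k m j)
      (UU k m a f j) (le_of_eq (UU_eq k m a f hf j)))
    (fun j => isGen_pbs_gsec (CohB1.polyGrading (m + 1) k) f (hφX k m a j) (UU k m a f j) le_rfl)
    (cover k m a f hf)
    (fun i j => (comp (φ k m a) f hf).appLE
      (Proj.basicOpen (CohB1.polyGrading m k) (MvPolynomial.X j))
      (UU k m a f j) (le_of_eq (UU_eq k m a f hf j))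
      (ProjFrac.fr (CohB1.polyGrading m k) (hX k m j) 1 (MvPolynomial.X i) (hX k m i)))
    (fun i j => pbs_gsec_coef (CohB1.polyGrading m k) (comp (φ k m a) f hf) (hX k m i) (hX k m j)
      (UU k m a f j) (le_of_eq (UU_eq k m a f hf j)))
    (fun i j => by
      rw [coef_eq k m a f hf i j]
      exact pbs_gsec_coef (CohB1.polyGrading (m + 1) k) f (hφX k m a i) (hφX k m a j)
        (UU k m a f j) le_rfl)
  exact ⟨ψ⟩

end Groth.Agent.Lib.helper19.NoethNorm5
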