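import Groth.Agent.Lib.helper19.NoethNorm5
import Groth.Agent.Lib.helper19.NoethNorm4

/-!
# Projective Noether normalisation compatible with `O(1)` (helper19)
-/

set_option autoImplicit false
universe u
open CategoryTheory CategoryTheory.Limits AlgebraicGeometry Opposite TopologicalSpace

noncomputable section

namespace Groth.Agent.Lib.helper19.NoethNorm6

open Groth.Agent.Lib.helper19.LinProj1 Groth.Agent.Lib.helper19.LinProj2 Groth.Agent.Lib.helper19.LinProj3
open Groth.Agent.Lib.Helper28
open Groth.Agent.Lib.helper19.NoethNorm2 Groth.Agent.Lib.helper19.NoethNorm3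
  Groth.Agent.Lib.helper19.NoethNorm4

attribute [local instance] MvPolynomial.gradedAlgebra

variable (k : Type u) [Field k]

/-- `O(1)` on `Proj` of the polynomial ring -/
abbrev O1 (m : ℕ) : (Proj (CohB1.polyGrading m k)).Modules :=
  Twist.twist (CohB1.polyGrading m k) ((1 : ℕ) : ℤ)

theorem step [Infinite k] (m : ℕ) {X : Scheme.{u}} (f : X ⟶ Proj (CohB1.polyGrading (m + 1) k))
    [IsFinite f] (hns : ¬ Function.Surjective f) :
    ∃ f' : X ⟶ Proj (CohB1.polyGrading m k), IsFinite f' ∧
      f' ≫ Segre2.str (CohB1.polyGrading m k) = f ≫ Segre2.str (CohB1.polyGrading (m + 1) k) ∧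
      Nonempty ((Scheme.Modules.pullback f').obj (O1 k m) ≅
        (Scheme.Modules.pullback f).obj (O1 k (m + 1))) := by
  obtain ⟨e, F, hFhom, hFne, hF⟩ := exists_form k (m + 1) f hns
  obtain ⟨a, ha⟩ := exists_pt k m F e hFhom hFne
  have hf : ∀ x, f x ∈ U (φ k m a) := fun x => mem_U k m a F e hFhom ha (f x) (hF x)
  exact ⟨comp (φ k m a) f hf, isFinite_comp k m f a hf, comp_str k m f a hf,
    Groth.Agent.Lib.helper19.NoethNorm5.exists_pullback_iso k m a f hf⟩

/-- projective Noether normalisation, with `π^* O(1) ≅ ι^* O(1)` -/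
theorem main [Infinite k] (X : Scheme.{u}) (n : ℕ) (ι : X ⟶ Proj (CohB1.polyGrading n k))
    [IsClosedImmersion ι] (d : ℕ) (hd : topologicalKrullDim X = d) :
    ∃ π : X ⟶ Proj (CohB1.polyGrading d k),
      π ≫ Segre2.str (CohB1.polyGrading d k) = ι ≫ Segre2.str (CohB1.polyGrading n k) ∧
      IsFinite π ∧ Function.Surjective π ∧
      Nonempty ((Scheme.Modules.pullback π).obj (O1 k d) ≅
        (Scheme.Modules.pullback ι).obj (O1 k n)) := by
  classical
  haveI : Nonempty X := by
    by_contra h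
    rw [not_nonempty_iff] at h
    have : topologicalKrullDim X = ⊥ := by
      unfold topologicalKrullDim
      haveI : IsEmpty (IrreducibleCloseds X) := ⟨fun s => h.elim s.isIrreducible.nonempty.some⟩
      exact Order.krullDim_eq_bot
    rw [this] at hd
    exact absurd hd (by simp)
  let P : ℕ → Prop := fun m => ∃ f : X ⟶ Proj (CohB1.polyGrading m k), IsFinite f ∧
    f ≫ Segre2.str (CohB1.polyGrading m k) = ι ≫ Segre2.str (CohB1.polyGrading n k) ∧
    Nonempty ((Scheme.Modules.pullback f).obj (O1 k m) ≅ (Scheme.Modules.pullback ι).obj (O1 k n))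
  have hPn : P n := ⟨ι, inferInstance, rfl, ⟨Iso.refl _⟩⟩
  have hex : ∃ m, P m := ⟨n, hPn⟩
  obtain ⟨f, hfin, hf, ⟨hiso⟩⟩ := Nat.find_spec hex
  have hmin := fun m (hm : m < Nat.find hex) => Nat.find_min hex hm
  generalize Nat.find hex = m₀ at f hfin hf hmin hiso
  have hsurj : Function.Surjective f := by
    by_contra hns
    cases m₀ with
    | zero => exact hns (surjective_of_zero k f)
    | succ m =>
      obtain ⟨f', hf', hc, ⟨hi'⟩⟩ := step k m f hns
      exact hmin m (Nat.lt_succ_self m) ⟨f', hf', hc.trans hf, ⟨hi' ≪≫ hiso⟩⟩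
  have h1 : topologicalKrullDim X ≤ topologicalKrullDim (Proj (CohB1.polyGrading m₀ k)) :=
    Groth.Agent.Lib.Helper3.topologicalKrullDim_le_of_locallyQuasiFinite f
  have h2 : topologicalKrullDim (Proj (CohB1.polyGrading m₀ k)) ≤ topologicalKrullDim X :=
    Groth.Agent.Lib.helper19.NoethNorm1.topologicalKrullDim_le_of_isClosedMap_of_surjective f
      f.continuous f.isClosedMap hsurj
  have h3 : topologicalKrullDim (Proj (CohB1.polyGrading m₀ k)) = (m₀ : WithBot ℕ∞) :=
    Groth.Agent.S10829.result k m₀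
  have h4 : (m₀ : WithBot ℕ∞) = (d : WithBot ℕ∞) := by
    rw [← h3, ← hd]
    exact le_antisymm h2 h1
  have h5 : m₀ = d := by exact_mod_cast h4
  subst h5
  exact ⟨f, hf, hfin, hsurj, ⟨hiso⟩⟩

end Groth.Agent.Lib.helper19.NoethNorm6
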