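import Groth.Agent.Lib.helper19.SymTenFinal

/-! The algebra map attached to the norm law commutes with base change. -/

set_option autoImplicit false
universe u
open scoped TensorProduct

namespace Groth.Agent.Lib.helper19.NormBaseChange

open Module Groth.Agent.Lib.helper19.SymTenNorm Groth.Agent.Lib.helper19.SymTenLaw

section bc

variable {R : Type u} [CommRing R] {Q : Type u} [CommRing Q] [Algebra R Q]
  {X : Type u} [AddCommGroup X] [Module R X]
  {Y : Type u} [AddCommGroup Y] [Module R Y] [Module Q Y] [IsScalarTower R Q Y]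

theorem bcAlong_tmul (g : X →ₗ[R] Y) (P : Type u) [CommRing P] [Algebra R P] [Algebra Q P]
    [IsScalarTower R Q P] (p : P) (x : X) :
    PolLaw.bcAlong g P (p ⊗ₜ[R] x) = p ⊗ₜ[Q] g x := by
  simp [PolLaw.bcAlong]

end bc

variable {R R' Q Q' : Type u} [CommRing R] [CommRing R'] [Algebra R R']
    [CommRing Q] [Algebra R Q] [CommRing Q'] [Algebra R Q'] [Algebra Q Q'] [Algebra R' Q']
    [IsScalarTower R Q Q'] [IsScalarTower R R' Q']

/-- the comparison map `R[X] ⊗ Q → Q[X]` -/
noncomputable def J (d : ℕ) : MvPolynomial (Fin d) R ⊗[R] Q →ₗ[R] MvPolynomial (Fin d) Q :=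
  ((MvPolynomial.algebraTensorAlgEquiv (σ := Fin d) R Q).toLinearEquiv.restrictScalars R).toLinearMap ∘ₗ
    (TensorProduct.comm R (MvPolynomial (Fin d) R) Q).toLinearMap

theorem J_tmul (d : ℕ) (s : MvPolynomial (Fin d) R) (q : Q) :
    J (R := R) (Q := Q) d (s ⊗ₜ q) = q • MvPolynomial.map (algebraMap R Q) s := by
  unfold J
  rw [LinearMap.comp_apply]
  simp

theorem J_injective (d : ℕ) : Function.Injective (J (R := R) (Q := Q) d) := by
  unfold J
  exact (((MvPolynomial.algebraTensorAlgEquiv (σ := Fin d) R Q).toLinearEquiv.restrictScalars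
    R).injective).comp (TensorProduct.comm R (MvPolynomial (Fin d) R) Q).injective

theorem det_baseChange {d : ℕ} (b : Basis (Fin d) R R')
    (ibc : IsBaseChange Q (IsScalarTower.toAlgHom R R' Q').toLinearMap) (c : Fin d → Fin d) :
    (ibc.basis b).det (fun j => ibc.basis b (c j) * ibc.basis b j) =
      algebraMap R Q (b.det (fun j => b (c j) * b j)) := by
  classical
  rw [Basis.det_apply, Basis.det_apply, RingHom.map_det]
  congr 1
  ext i j
  simp only [Basis.toMatrix_apply, RingHom.mapMatrix_apply, Matrix.map_apply,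
    IsBaseChange.basis_apply, AlgHom.toLinearMap_apply, ← map_mul]
  exact IsBaseChange.basis_repr_comp_apply b ibc _ _

end Groth.Agent.Lib.helper19.NormBaseChange
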