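import Groth.Agent.Lib.helper19.NormBaseChange

/-! The algebra map attached to the norm law commutes with base change: main theorem. -/

set_option autoImplicit false
universe u
open scoped TensorProduct

namespace Groth.Agent.Lib.helper19.NormBaseChange

open Module Groth.Agent.Lib.helper19.SymTenNorm Groth.Agent.Lib.helper19.SymTenLaw

variable {R R' Q Q' : Type u} [CommRing R] [CommRing R'] [Algebra R R']
    [CommRing Q] [Algebra R Q] [CommRing Q'] [Algebra R Q'] [Algebra Q Q'] [Algebra R' Q']
    [IsScalarTower R Q Q'] [IsScalarTower R R' Q']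

theorem key_identity {d : ℕ} {C : Type u} [CommRing C] [Algebra R C]
    {C' : Type u} [CommRing C'] [Algebra R C'] [Algebra Q C'] [IsScalarTower R Q C']
    (π' : C' →ₐ[Q] Q) (θ : C →ₐ[R] C') (w : MvPolynomial (Fin d) R ⊗[R] C) :
    J (R := R) (Q := Q) d
        (((π'.restrictScalars R).comp θ).toLinearMap.lTensor (MvPolynomial (Fin d) R) w) =
      TensorProduct.rid Q (MvPolynomial (Fin d) Q)
        (π'.toLinearMap.lTensor (MvPolynomial (Fin d) Q)
          (PolLaw.bcAlong θ.toLinearMap (MvPolynomial (Fin d) Q)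
            ((MvPolynomial.mapAlgHom (σ := Fin d) (Algebra.ofId R Q)).toLinearMap.rTensor C w))) := by
  induction w using TensorProduct.induction_on with
  | zero => simp
  | tmul s c =>
    rw [LinearMap.lTensor_tmul, J_tmul, LinearMap.rTensor_tmul, bcAlong_tmul,
      LinearMap.lTensor_tmul, TensorProduct.rid_tmul]
    rfl
  | add x y hx hy => simp only [map_add, hx, hy]

theorem main [Algebra.IsPushout R R' Q Q']
    [Module.Free R R'] [Module.Finite R R'] [Module.Free Q Q'] [Module.Finite Q Q']
    (d : ℕ) (hd : Module.finrank R R' = d) (hd' : Module.finrank Q Q' = d)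
    {C : Type u} [CommRing C] [Algebra R C] (γ : PolLaw.MulLaw R R' C d) (hγ : PolLaw.IsGammaD γ)
    (π : C →ₐ[R] R) (hπ : PolLaw.MulLaw.postcomp π γ = PolLaw.normLaw R R' d hd)
    {C' : Type u} [CommRing C'] [Algebra R C'] [Algebra Q C'] [IsScalarTower R Q C']
    (γ' : PolLaw.MulLaw Q Q' C' d)
    (π' : C' →ₐ[Q] Q) (hπ' : PolLaw.MulLaw.postcomp π' γ' = PolLaw.normLaw Q Q' d hd')
    (θ : C →ₐ[R] C')
    (hθ : ∀ (P : Type u) [CommRing P] [Algebra R P] [Algebra Q P] [IsScalarTower R Q P] (z : P ⊗[R] R'),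
      γ'.law.toFun' P (PolLaw.bcAlong (IsScalarTower.toAlgHom R R' Q').toLinearMap P z) =
        PolLaw.bcAlong θ.toLinearMap P (γ.law.toFun' P z)) :
    ∀ c : C, π' (θ c) = algebraMap R Q (π c) := by
  rcases subsingleton_or_nontrivial R with hR | hR
  · intro c
    have : Subsingleton Q := Module.subsingleton R Q
    exact Subsingleton.elim _ _
  classical
  let b : Basis (Fin d) R R' := Module.finBasisOfFinrankEq R R' hd
  have ibc : IsBaseChange Q (IsScalarTower.toAlgHom R R' Q').toLinearMap :=
    (Algebra.IsPushout.symm (inferInstance : Algebra.IsPushout R R' Q Q')).out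
  let b' : Basis (Fin d) Q Q' := ibc.basis b
  let ψ₁ : C →ₐ[R] Q := (π'.restrictScalars R).comp θ
  let ψ₂ : C →ₐ[R] Q := (Algebra.ofId R Q).comp π
  obtain ⟨f, _, huniq⟩ := hγ Q (PolLaw.MulLaw.postcomp ψ₂ γ)
  have h2 : ψ₂ = f := huniq ψ₂ rfl
  have h1 : ψ₁ = f := by
    apply huniq
    apply law_ext_generic b
    set S := MvPolynomial (Fin d) R with hS
    set P := MvPolynomial (Fin d) Q with hP
    set g : S ⊗[R] R' := ∑ i, (MvPolynomial.X i : S) ⊗ₜ[R] b i with hg
    change ψ₁.toLinearMap.lTensor S (γ.law.toFun' S g) = ψ₂.toLinearMap.lTensor S (γ.law.toFun' S g)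
    apply J_injective (R := R) (Q := Q) d
    -- right-hand side
    have hR1 : π.toLinearMap.lTensor S (γ.law.toFun' S g) = Algebra.norm S g ⊗ₜ[R] (1 : R) := by
      have := congrArg (fun F => F.law.toFun' S g) hπ
      change π.toLinearMap.lTensor S (γ.law.toFun' S g) = _ at this
      rw [this, PolLaw.normLaw_apply]
    have hψ₂ : ψ₂.toLinearMap = (Algebra.ofId R Q).toLinearMap ∘ₗ π.toLinearMap := rfl
    have hRHS : J (R := R) (Q := Q) d (ψ₂.toLinearMap.lTensor S (γ.law.toFun' S g)) =
        MvPolynomial.map (algebraMap R Q) (Algebra.norm S g) := by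
      rw [hψ₂, LinearMap.lTensor_comp, LinearMap.comp_apply, hR1, LinearMap.lTensor_tmul, J_tmul]
      simp
    -- left-hand side
    let ι : S →ₐ[R] P := MvPolynomial.mapAlgHom (σ := Fin d) (Algebra.ofId R Q)
    set gP : P ⊗[R] R' := ∑ i, (MvPolynomial.X i : P) ⊗ₜ[R] b i with hgP
    have hιg : ι.toLinearMap.rTensor R' g = gP := by
      rw [hg, hgP, map_sum]
      refine Finset.sum_congr rfl fun i _ => ?_
      rw [LinearMap.rTensor_tmul]
      congr 1
      exact MvPolynomial.map_X _ i
    have hcompat : ι.toLinearMap.rTensor C (γ.law.toFun' S g) = γ.law.toFun' P gP := by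
      have := congrFun (γ.law.isCompat' ι) g
      simp only [Function.comp_apply] at this
      rw [this, hιg]
    set g' : P ⊗[Q] Q' := ∑ i, (MvPolynomial.X i : P) ⊗ₜ[Q] b' i with hg'
    have hbc : PolLaw.bcAlong (IsScalarTower.toAlgHom R R' Q').toLinearMap P gP = g' := by
      rw [hgP, hg', map_sum]
      refine Finset.sum_congr rfl fun i _ => ?_
      rw [bcAlong_tmul]
      congr 1
      exact (IsBaseChange.basis_apply b ibc i).symm
    have hL1 : π'.toLinearMap.lTensor P (γ'.law.toFun' P g') = Algebra.norm P g' ⊗ₜ[Q] (1 : Q) := by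
      have := congrArg (fun F => F.law.toFun' P g') hπ'
      change π'.toLinearMap.lTensor P (γ'.law.toFun' P g') = _ at this
      rw [this, PolLaw.normLaw_apply]
    have hLHS : J (R := R) (Q := Q) d (ψ₁.toLinearMap.lTensor S (γ.law.toFun' S g)) =
        Algebra.norm P g' := by
      rw [key_identity, hcompat, ← hθ P gP, hbc, hL1, TensorProduct.rid_tmul, one_smul]
    rw [hLHS, hRHS, norm_generic b', norm_generic b, map_sum]
    refine Finset.sum_congr rfl fun c _ => ?_
    rw [det_baseChange b ibc c, MvPolynomial.smul_eq_C_mul, MvPolynomial.smul_eq_C_mul, map_mul,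
      MvPolynomial.map_C, map_prod]
    simp
  intro c
  have := congrArg (fun g => g c) (h1.trans h2.symm)
  exact this

end Groth.Agent.Lib.helper19.NormBaseChange
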