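import Mathlib
import Groth.Prelude.Def_CurvBase
import Groth.Agent.Lib.Helper5.StalkFT
import Groth.Agent.Lib.helper19.SecSm4
import Groth.Agent.Lib.helper19.NormCurve1

set_option autoImplicit false
set_option linter.style.haveILetI false
universe u

namespace Groth.Agent.Lib.Helper19.NormCurve2

open CategoryTheory CategoryTheory.Limits AlgebraicGeometry IsLocalRing TopologicalSpace

theorem regular_of_normal (A : Type u) [CommRing A] [IsLocalRing A] [IsDomain A]
    [IsNoetherianRing A] [IsIntegrallyClosed A] (h : ringKrullDim A ≤ 1) :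
    IsRegularLocalRing A := by
  haveI : Ring.KrullDimLE 1 A := (Ring.krullDimLE_iff).mpr h
  haveI : Ring.DimensionLEOne A :=
    ⟨fun {p} hp hpp => Ring.krullDimLE_one_iff_of_noZeroDivisors.mp inferInstance p hp hpp⟩
  haveI : IsDedekindDomain A := { }
  haveI := Groth.Agent.Lib.Helper19.SecSm4.isPrincipalIdealRing_of_local_dedekind A
  infer_instance

attribute [local instance] Curv2.stalkAlgebra Curv2.resAlgebra

theorem mem_smoothLocus (K : Type u) [Field K] (C : Scheme.{u}) [C.Over (Spec (CommRingCat.of K))]
    [LocallyOfFinitePresentation (C ↘ (Spec (CommRingCat.of K)))] (x : C)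
    (hreg : IsRegularLocalRing (C.presheaf.stalk x))
    (hsep : Algebra.IsSeparable K (C.residueField x)) :
    x ∈ (C ↘ (Spec (CommRingCat.of K))).smoothLocus := by
  obtain ⟨B, _, _, hft, q, hq, ⟨e⟩, hiff⟩ := Groth.Agent.Lib.Helper5.StalkFT.exists_model K C x
  rw [hiff]
  haveI : IsRegularLocalRing (Localization.AtPrime q) :=
    IsRegularLocalRing.of_ringEquiv e.symm.toRingEquiv
  haveI : Algebra.FormallyEtale K (C.residueField x) := Algebra.FormallyEtale.of_isSeparable K _
  let ψ : (C.residueField x) ≃ₐ[K] ResidueField (Localization.AtPrime q) :=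
    AlgEquiv.ofRingEquiv (f := IsLocalRing.ResidueField.mapEquiv e.symm.toRingEquiv) (fun c => by
      change IsLocalRing.ResidueField.mapEquiv e.symm.toRingEquiv
        (IsLocalRing.residue _ (algebraMap K (C.presheaf.stalk x) c)) = _
      rw [IsLocalRing.ResidueField.mapEquiv_apply]
      rw [IsLocalRing.ResidueField.map_residue]
      have : (e.symm.toRingEquiv : C.presheaf.stalk x →+* Localization.AtPrime q)
          (algebraMap K (C.presheaf.stalk x) c) = algebraMap K _ c := e.symm.commutes c
      rw [this]
      rfl)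
  haveI : Algebra.FormallySmooth K (ResidueField (Localization.AtPrime q)) :=
    Algebra.FormallySmooth.of_equiv ψ
  exact Groth.Agent.Lib.Helper19.SecSm1.isSmoothAt_of_regular' K B q

end Groth.Agent.Lib.Helper19.NormCurve2
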