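import Mathlib
import Groth.Prelude.Def_CurvBase
import Groth.Agent.Lib.helper19.NormCurve2

set_option autoImplicit false
set_option linter.style.haveILetI false
universe u

namespace Groth.Agent.Lib.Helper19.NormCurve3

open CategoryTheory CategoryTheory.Limits AlgebraicGeometry IsLocalRing TopologicalSpace

attribute [local instance] Curv2.resAlgebra

theorem main (K : Type u) [Field K] (C : Scheme.{u}) [C.Over (Spec (CommRingCat.of K))]
    [IsIntegral C] [LocallyOfFinitePresentation (C ↘ (Spec (CommRingCat.of K)))]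
    (hN : ∀ x : C, IsIntegrallyClosed (C.presheaf.stalk x))
    (hdim : topologicalKrullDim C = 1) (S : Set C)
    (hS : ∀ x ∈ S, IsClosed ({x} : Set C) ∧ Algebra.IsSeparable K (C.residueField x))
    (hsm : ∀ x : C, x ∉ S → x ∈ (C ↘ (Spec (CommRingCat.of K))).smoothLocus) :
    AlgebraicGeometry.Smooth (C ↘ (Spec (CommRingCat.of K))) := by
  rw [← Scheme.Hom.smoothLocus_eq_top_iff]
  rw [← top_le_iff]
  rintro x -
  by_cases hx : x ∈ S
  · haveI : IsLocallyNoetherian C :=
      LocallyOfFiniteType.isLocallyNoetherian (C ↘ (Spec (CommRingCat.of K)))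
    haveI := hN x
    have hd : ringKrullDim (C.presheaf.stalk x) ≤ 1 := hdim ▸ NormCurve1.dim_stalk_le C x
    exact NormCurve2.mem_smoothLocus K C x (NormCurve2.regular_of_normal _ hd) (hS x hx).2
  · exact hsm x hx

end Groth.Agent.Lib.Helper19.NormCurve3
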