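import Mathlib
import Groth.Prelude.Def_CurvBase
import Groth.Agent.Lib.helper19.NormCurve2

set_option autoImplicit false
set_option linter.style.haveILetI false
universe u

namespace Groth.Agent.Lib.Helper19.NormDesc1

open CategoryTheory CategoryTheory.Limits AlgebraicGeometry IsLocalRing TopologicalSpace

/-- stalk maps of a quasi-compact dominant morphism of integral schemes are injective. -/
theorem stalkMap_injective {X Y : Scheme.{u}} [IsIntegral X] [IsReduced Y] (f : X ⟶ Y)
    [IsDominant f] [QuasiCompact f] (x : X) : Function.Injective (f.stalkMap x).hom := by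
  haveI : IsSchemeTheoreticallyDominant f := .of_isDominant f
  rw [injective_iff_map_eq_zero]
  intro a ha
  obtain ⟨U, hyU, s, rfl⟩ := Y.presheaf.exists_germ_eq a
  have h1 : (f.stalkMap x).hom (Y.presheaf.germ U (f x) hyU s) =
      X.presheaf.germ (f ⁻¹ᵁ U) x hyU (f.app U s) := Scheme.Hom.germ_stalkMap_apply f U x hyU s
  rw [h1] at ha
  have h2 : f.app U s = 0 := by
    apply germ_injective_of_isIntegral X x hyU
    rw [ha, map_zero]
  have h3 : s = 0 := by
    apply f.app_injective U
    rw [h2, map_zero]
  rw [h3, map_zero]

/-- A dominant quasi-compact morphism from an integral scheme to a scheme whose local rings are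
Dedekind domains is flat. -/
theorem flat_of_dedekind {X Y : Scheme.{u}} [IsIntegral X] [IsReduced Y] (f : X ⟶ Y)
    [IsDominant f] [QuasiCompact f] (hY : ∀ y : Y, IsDedekindDomain (Y.presheaf.stalk y)) :
    Flat f := by
  rw [Flat.iff_flat_stalkMap]
  intro x
  have hinj := stalkMap_injective f x
  algebraize [(f.stalkMap x).hom]
  haveI := hY (f x)
  change Module.Flat (Y.presheaf.stalk (f x)) (X.presheaf.stalk x)
  haveI : Module.IsTorsionFree (Y.presheaf.stalk (f x)) (X.presheaf.stalk x) :=
    Module.isTorsionFree_iff_algebraMap_injective.mpr hinj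
  infer_instance

end Groth.Agent.Lib.Helper19.NormDesc1
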