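import Mathlib
import Groth.Prelude.Def_CurvBase
import Groth.Prelude.Def_Pi1
import Groth.Agent.S1562
import Groth.Agent.S7606
import Groth.Agent.Lib.Helper22.TowerPts3
import Groth.Agent.Lib.helper19.NormDesc1
import Groth.Agent.Lib.helper19.NormDesc2

set_option autoImplicit false
set_option linter.style.haveILetI false
universe u

namespace Groth.Agent.Lib.Helper19.NormDesc3

open CategoryTheory CategoryTheory.Limits AlgebraicGeometry IsLocalRing TopologicalSpace

theorem main (k : Type u) [Field k]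
    (X Y : Scheme.{u}) [X.Over (Spec (CommRingCat.of k))] [Y.Over (Spec (CommRingCat.of k))]
    [IsIntegral X] [LocallyOfFiniteType (X ↘ (Spec (CommRingCat.of k)))]
    [QuasiCompact (X ↘ (Spec (CommRingCat.of k)))]
    [IsIntegral Y] [IsSeparated (Y ↘ (Spec (CommRingCat.of k)))]
    [LocallyOfFiniteType (Y ↘ (Spec (CommRingCat.of k)))]
    (hdY : topologicalKrullDim Y = 1)
    (f : X ⟶ Y) (hf : f ≫ (Y ↘ (Spec (CommRingCat.of k))) = X ↘ (Spec (CommRingCat.of k)))
    [Surjective f]
    [Smooth (X ↘ (Spec (CommRingCat.of k)))] (hY : Pi1.IsNormalScheme Y) :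
    Smooth (Y ↘ (Spec (CommRingCat.of k))) := by
  haveI : LocallyOfFinitePresentation (Y ↘ Spec (CommRingCat.of k)) :=
    LocallyOfFinitePresentation.iff_locallyOfFiniteType.mpr inferInstance
  haveI : IsLocallyNoetherian Y :=
    LocallyOfFiniteType.isLocallyNoetherian (Y ↘ (Spec (CommRingCat.of k)))
  haveI : IsLocallyNoetherian X :=
    LocallyOfFiniteType.isLocallyNoetherian (X ↘ (Spec (CommRingCat.of k)))
  haveI : QuasiCompact f := by
    haveI : QuasiCompact (f ≫ (Y ↘ (Spec (CommRingCat.of k)))) := by rw [hf]; infer_instance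
    exact QuasiCompact.of_comp f (Y ↘ (Spec (CommRingCat.of k)))
  -- flatness
  have hded : ∀ y : Y, IsDedekindDomain (Y.presheaf.stalk y) := by
    intro y
    haveI := (hY y).2
    have hd : ringKrullDim (Y.presheaf.stalk y) ≤ 1 := hdY ▸ Lib.Helper19.NormCurve1.dim_stalk_le Y y
    haveI : Ring.KrullDimLE 1 (Y.presheaf.stalk y) := (Ring.krullDimLE_iff).mpr hd
    haveI : Ring.DimensionLEOne (Y.presheaf.stalk y) :=
      ⟨fun {p} hp hpp => Ring.krullDimLE_one_iff_of_noZeroDivisors.mp inferInstance p hp hpp⟩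
    exact { }
  haveI : Flat f := NormDesc1.flat_of_dedekind f hded
  rw [← Scheme.Hom.smoothLocus_eq_top_iff, ← top_le_iff]
  rintro y -
  refine (Groth.Agent.S1562.result k Y y).mp ((Groth.Agent.S7606.result k Y y).1.mpr ?_)
  intro k' _ _ _ _ y' hy'
  obtain ⟨f', hpb⟩ := NormDesc2.exists_bcMap k X Y f hf k'
  haveI : Flat f' := MorphismProperty.of_isPullback hpb.flip inferInstance
  haveI : Surjective f' := MorphismProperty.of_isPullback hpb.flip inferInstance
  obtain ⟨x', rfl⟩ := f'.surjective y'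
  -- regularity upstairs
  have hx'reg : IsRegularLocalRing ((Curv2.bc k X k').presheaf.stalk x') := by
    have hx : Curv2.bcFst k X k' x' ∈ (X ↘ (Spec (CommRingCat.of k))).smoothLocus := by
      rw [Scheme.Hom.smoothLocus_eq_top]; trivial
    haveI : LocallyOfFinitePresentation (X ↘ Spec (CommRingCat.of k)) :=
      LocallyOfFinitePresentation.iff_locallyOfFiniteType.mpr inferInstance
    exact (Groth.Agent.S7606.result k X _).1.mp ((Groth.Agent.S1562.result k X _).mpr hx) k' x' rfl
  exact Groth.Agent.Lib.Helper22.TowerPts.isRegularLocalRing_of_flat_isLocalHom _ _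
    (f'.stalkMap x').hom (Flat.stalkMap f' x') hx'reg

end Groth.Agent.Lib.Helper19.NormDesc3
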