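import Mathlib
import Groth.Agent.Lib.helper19.NormFam3
import Groth.Agent.Lib.Helper12.SerreNormalC

set_option autoImplicit false
set_option linter.style.haveILetI false
universe u

namespace Groth.Agent.Lib.Helper19.NormFam4

open CategoryTheory CategoryTheory.Limits AlgebraicGeometry IsLocalRing TopologicalSpace Module

theorem main (S C : Scheme.{u}) [IsIntegral S] [IsNoetherian S]
    (hS : Pi1.IsNormalScheme S) (f : C ⟶ S) [Flat f] [LocallyOfFinitePresentation f]
    [GeometricallyReduced f]
    (hdim : ∀ s : ↥S, topologicalKrullDim ↥(f.fiber s) = 1)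
    (hsm : Smooth (f.fiberToSpecResidueField (genericPoint ↥S))) :
    Pi1.IsNormalScheme C := by
  intro c
  haveI : IsLocallyNoetherian C := LocallyOfFiniteType.isLocallyNoetherian f
  have h2 : LocCoh.HasSk 2 (C.presheaf.stalk c) (C.presheaf.stalk c) :=
    NormFam1.hasSk_stalk_of_forall c 2 (fun ζ _ => NormFam3.s2_point hS f hdim ζ)
  have h1 : LocCoh.HasRk 1 (C.presheaf.stalk c) :=
    NormFam1.hasRk_stalk_of_forall c 1 (fun ζ _ h => NormFam3.r1_point hS f hdim hsm ζ (by exact_mod_cast h))
  obtain ⟨hd, hi⟩ := Groth.Agent.Lib.Helper12.SerreNormal.backward h1 h2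
    (maximalIdeal (C.presheaf.stalk c))
  let e : C.presheaf.stalk c ≃+* Localization.AtPrime (maximalIdeal (C.presheaf.stalk c)) :=
    (IsLocalization.atUnits (C.presheaf.stalk c) (maximalIdeal (C.presheaf.stalk c)).primeCompl
      (S := Localization.AtPrime (maximalIdeal (C.presheaf.stalk c)))
      Groth.Agent.Lib.Helper21.FlatLocal.primeCompl_maximalIdeal_le_isUnit).toRingEquiv
  exact ⟨e.toMulEquiv.isDomain _, IsIntegrallyClosed.of_equiv e.symm⟩

end Groth.Agent.Lib.Helper19.NormFam4
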