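import Mathlib
import Groth.Agent.Lib.helper19.OpenGenApp

set_option autoImplicit false
set_option linter.style.haveILetI false
universe u
open CategoryTheory AlgebraicGeometry Topology TopologicalSpace

namespace Groth.Agent.Lib.Helper19.OpenGenDim

open Groth.Agent.Lib.Helper19

/-- A quasi-sober space with a dense point all of whose other points are closed has dimension
at most one. -/
theorem topologicalKrullDim_le_one {T : Type*} [TopologicalSpace T] [QuasiSober T] (x : T)
    (hx : closure ({x} : Set T) = Set.univ) (h : ∀ y : T, y ≠ x → IsClosed ({y} : Set T)) :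
    topologicalKrullDim T ≤ 1 := by
  unfold topologicalKrullDim
  rw [Order.krullDim_le_one_iff]
  intro c
  obtain ⟨g, hg⟩ := QuasiSober.sober c.isIrreducible c.isClosed
  have hgc : closure ({g} : Set T) = (c : Set T) := hg
  by_cases hgx : g = x
  · right
    intro c' _
    show (c' : Set T) ⊆ (c : Set T)
    rw [← hgc, hgx, hx]
    exact Set.subset_univ _
  · left
    intro c' hc'
    have hc'sub : (c' : Set T) ⊆ (c : Set T) := hc'
    show (c : Set T) ⊆ (c' : Set T)
    rw [← hgc, (h g hgx).closure_eq]
    rw [← hgc, (h g hgx).closure_eq] at hc'sub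
    obtain ⟨z, hz⟩ := c'.isIrreducible.nonempty
    have : z = g := hc'sub hz
    rw [Set.singleton_subset_iff, ← this]
    exact hz

theorem dim_closure_le_one (X : Scheme.{u}) [IsLocallyNoetherian X] (x : X)
    (hx : IsLocallyClosed ({x} : Set X)) :
    topologicalKrullDim (closure ({x} : Set X)) ≤ 1 ∧
      ∀ y ∈ closure ({x} : Set X), y ≠ x → IsClosed ({y} : Set X) := by
  have h2 : ∀ y ∈ closure ({x} : Set X), y ≠ x → IsClosed ({y} : Set X) := fun y hy hne =>
    OpenGenSch.isClosed_singleton_of_specializes x hx y (specializes_iff_mem_closure.mpr hy) hne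
  refine ⟨?_, h2⟩
  haveI : QuasiSober (closure ({x} : Set X)) :=
    (isClosed_closure.isClosedEmbedding_subtypeVal).quasiSober
  refine topologicalKrullDim_le_one (⟨x, subset_closure rfl⟩ : closure ({x} : Set X)) ?_ ?_
  · rw [Set.eq_univ_iff_forall]
    intro y
    rw [closure_subtype]
    simpa using y.2
  · intro y hne
    have hy : IsClosed ({y.1} : Set X) := h2 y.1 y.2 (fun h => hne (Subtype.ext h))
    have : ({y} : Set (closure ({x} : Set X))) = Subtype.val ⁻¹' ({y.1} : Set X) := by
      ext z
      simp [Subtype.ext_iff]
    rw [this]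
    exact hy.preimage continuous_subtype_val

end Groth.Agent.Lib.Helper19.OpenGenDim
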