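import Mathlib
import Groth.Agent.Lib.helper19.OpenGenDim

set_option autoImplicit false
set_option linter.style.haveILetI false
universe u
open CategoryTheory AlgebraicGeometry Topology TopologicalSpace

namespace Groth.Agent.Lib.Helper19.OpenGenFin

open Groth.Agent.Lib.Helper19

variable (X : Scheme.{u}) [IsNoetherian X]

/-- In a Noetherian scheme, a locally closed point has finite closure. -/
theorem finite_closure_of_isLocallyClosed (x : X) (hx : IsLocallyClosed ({x} : Set X)) :
    (closure ({x} : Set X)).Finite := by
  have hex : ∀ y : X, ∃ U : X.Opens, IsAffineOpen U ∧ y ∈ U := by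
    intro y
    obtain ⟨_, ⟨U, hU, rfl⟩, hyU, -⟩ := X.isBasis_affineOpens.exists_subset_of_mem_open
      (Set.mem_univ y) isOpen_univ
    exact ⟨U, hU, hyU⟩
  choose U hU hyU using hex
  obtain ⟨t, ht⟩ := isCompact_univ.elim_finite_subcover (fun y => ((U y : X.Opens) : Set X))
    (fun y => (U y).2) (fun y _ => Set.mem_iUnion.mpr ⟨y, hyU y⟩)
  have hsub : closure ({x} : Set X) ⊆ ⋃ y ∈ t, (closure ({x} : Set X) ∩ (U y : Set X)) := by
    intro z hz
    have := ht (Set.mem_univ z)
    simp only [Set.mem_iUnion] at this ⊢
    obtain ⟨y, hyt, hzy⟩ := this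
    exact ⟨y, hyt, hz, hzy⟩
  refine Set.Finite.subset ?_ hsub
  exact Set.Finite.biUnion t.finite_toSet
    (fun y _ => OpenGenSch.finite_closure_inter x hx (hU y))

theorem exists_finite_closure (Z : Set X) (hZ : IsLocallyClosed Z) (hne : Z.Nonempty) :
    ∃ x ∈ Z, (closure ({x} : Set X)).Finite := by
  obtain ⟨W, C, hW, hC, rfl⟩ := hZ
  obtain ⟨z, hzW, hzC⟩ := hne
  obtain ⟨_, ⟨U, hU, rfl⟩, hzU, hUW⟩ := X.isBasis_affineOpens.exists_subset_of_mem_open hzW hW
  obtain ⟨x, ⟨hxC, hxU⟩, hlc, -⟩ := OpenGenApp.exists_locallyClosed_point hU C hC ⟨z, hzC, hzU⟩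
  exact ⟨x, ⟨hUW hxU, hxC⟩, finite_closure_of_isLocallyClosed X x hlc⟩

variable [IrreducibleSpace X]

theorem tfae :
    [IsOpen ({genericPoint X} : Set X),
      Finite X,
      topologicalKrullDim X ≤ 1 ∧ {x : X | IsClosed ({x} : Set X)}.Finite].TFAE := by
  have hgen : closure ({genericPoint X} : Set X) = Set.univ := (genericPoint_spec X)
  have hspec : ∀ y : X, genericPoint X ⤳ y := fun y =>
    specializes_iff_mem_closure.mpr (hgen ▸ Set.mem_univ y)
  have key : IsOpen ({genericPoint X} : Set X) →
      topologicalKrullDim X ≤ 1 ∧ {x : X | IsClosed ({x} : Set X)}.Finite ∧ Finite X := by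
    intro h
    have hlc : IsLocallyClosed ({genericPoint X} : Set X) := h.isLocallyClosed
    have hfin : Finite X := by
      have := finite_closure_of_isLocallyClosed X (genericPoint X) hlc
      rw [hgen] at this
      exact Set.finite_univ_iff.mp this
    refine ⟨?_, Set.toFinite _, hfin⟩
    exact OpenGenDim.topologicalKrullDim_le_one (genericPoint X) hgen (fun y hne =>
      OpenGenSch.isClosed_singleton_of_specializes (genericPoint X) hlc y (hspec y) hne)
  tfae_have 1 → 2 := fun h => (key h).2.2
  tfae_have 2 → 3 := by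
    intro hfin
    have hopen : IsOpen ({genericPoint X} : Set X) := by
      rw [← isClosed_compl_iff]
      have : ({genericPoint X} : Set X)ᶜ = ⋃ y ∈ ({genericPoint X} : Set X)ᶜ, closure ({y} : Set X) := by
        ext z
        simp only [Set.mem_compl_iff, Set.mem_singleton_iff, Set.mem_iUnion, exists_prop]
        constructor
        · intro hz
          exact ⟨z, hz, subset_closure rfl⟩
        · rintro ⟨y, hy, hzy⟩ rfl
          have h1 : y ⤳ genericPoint X := specializes_iff_mem_closure.mpr hzy
          exact hy ((h1.antisymm (hspec y)).eq)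
      rw [this]
      exact Set.Finite.isClosed_biUnion (Set.toFinite _) (fun _ _ => isClosed_closure)
    exact ⟨(key hopen).1, (key hopen).2.1⟩
  tfae_have 3 → 1 := by
    rintro ⟨hdim, hfin⟩
    have hcl : ∀ y : X, y ≠ genericPoint X → IsClosed ({y} : Set X) := by
      intro y hne
      unfold topologicalKrullDim at hdim
      rw [Order.krullDim_le_one_iff] at hdim
      let c : IrreducibleCloseds X := ⟨closure {y}, isIrreducible_singleton.closure, isClosed_closure⟩
      let top : IrreducibleCloseds X := ⟨Set.univ, (IrreducibleSpace.isIrreducible_univ X), isClosed_univ⟩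
      rcases hdim c with hmin | hmax
      · rw [← closure_eq_iff_isClosed]
        apply Set.Subset.antisymm _ subset_closure
        intro z hz
        let c' : IrreducibleCloseds X := ⟨closure {z}, isIrreducible_singleton.closure, isClosed_closure⟩
        have hle : c' ≤ c := by
          show closure ({z} : Set X) ⊆ closure ({y} : Set X)
          exact (isClosed_closure.closure_subset_iff.mpr (Set.singleton_subset_iff.mpr hz))
        have hge : c ≤ c' := hmin hle
        have hyz : y ∈ closure ({z} : Set X) := hge (subset_closure rfl : y ∈ closure ({y} : Set X))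
        have h1 : z ⤳ y := specializes_iff_mem_closure.mpr hyz
        have h2 : y ⤳ z := specializes_iff_mem_closure.mpr hz
        exact (h1.antisymm h2).eq
      · exfalso
        have hle : c ≤ top := fun _ _ => Set.mem_univ _
        have hge : top ≤ c := hmax hle
        have : genericPoint X ∈ closure ({y} : Set X) := hge (Set.mem_univ _)
        have h1 : y ⤳ genericPoint X := specializes_iff_mem_closure.mpr this
        exact hne ((h1.antisymm (hspec y)).eq)
    rw [← isClosed_compl_iff]
    have : ({genericPoint X} : Set X)ᶜ =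
        ⋃ y ∈ ({x : X | IsClosed ({x} : Set X)} ∩ ({genericPoint X} : Set X)ᶜ), ({y} : Set X) := by
      ext z
      simp only [Set.mem_compl_iff, Set.mem_singleton_iff, Set.mem_iUnion, exists_prop,
        Set.mem_inter_iff, Set.mem_setOf_eq]
      constructor
      · intro hz
        exact ⟨z, ⟨hcl z hz, hz⟩, rfl⟩
      · rintro ⟨y, ⟨-, hy⟩, rfl⟩
        exact hy
    rw [this]
    exact Set.Finite.isClosed_biUnion (hfin.subset Set.inter_subset_left) (fun y hy => hy.1)
  tfae_finish

end Groth.Agent.Lib.Helper19.OpenGenFin
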