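import Groth.Agent.Lib.Helper8.P1Facts
import Groth.Prelude.Def_BlowUp2

/-!
# Morphisms from `P^1_k` lift to blow-ups (helper19)

Every quasi-coherent ideal of `P^1_k` which does not vanish identically is effective Cartier, the standard
charts being spectra of principal ideal domains.
-/

set_option autoImplicit false
universe u
open CategoryTheory CategoryTheory.Limits AlgebraicGeometry Opposite TopologicalSpace

noncomputable section

namespace Groth.Agent.Lib.helper19.P1Blow

variable (k : Type u) [Field k]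

local notation "𝒜" => CohB1.polyGrading 1 k

theorem hX (j : Fin 2) : (MvPolynomial.X j : MvPolynomial (Fin (1 + 1)) k) ∈ 𝒜 1 :=
  MvPolynomial.isHomogeneous_X k j

/-- the coordinate ring of a standard chart of `P^1_k` is a principal ideal ring -/
theorem isPrincipalIdealRing_away (j : Fin 2) :
    IsPrincipalIdealRing (HomogeneousLocalization.Away 𝒜
      (MvPolynomial.X j : MvPolynomial (Fin (1 + 1)) k)) := by
  obtain ⟨e⟩ := Groth.Agent.Lib.Helper17.PnUFD.nonempty_awayEquiv 1 k j
  let e2 : MvPolynomial (Fin 1) k ≃+* Polynomial k :=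
    ((MvPolynomial.renameEquiv k (Equiv.ofUnique (Fin 1) PUnit.{1})).trans
      (MvPolynomial.pUnitAlgEquiv k)).toRingEquiv
  let e3 : Polynomial k ≃+* HomogeneousLocalization.Away 𝒜
      (MvPolynomial.X j : MvPolynomial (Fin (1 + 1)) k) := (e.trans e2).symm
  exact IsPrincipalIdealRing.of_surjective e3.toRingHom e3.surjective

/-- the standard chart as an affine open -/
def chart (j : Fin 2) : (CohB1.ProjSpace 1 k).affineOpens :=
  ⟨Proj.basicOpen 𝒜 (MvPolynomial.X j : MvPolynomial (Fin (1 + 1)) k),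
    Proj.isAffineOpen_basicOpen 𝒜 _ (hX k j) one_pos⟩

theorem isPrincipalIdealRing_chart (j : Fin 2) :
    IsPrincipalIdealRing Γ(CohB1.ProjSpace 1 k, (chart k j).1) := by
  haveI := isPrincipalIdealRing_away k j
  let e := Proj.basicOpenIsoAway 𝒜 (MvPolynomial.X j : MvPolynomial (Fin (1 + 1)) k) (hX k j) one_pos
  let e' : HomogeneousLocalization.Away 𝒜 (MvPolynomial.X j : MvPolynomial (Fin (1 + 1)) k) ≃+*
      Γ(CohB1.ProjSpace 1 k, (chart k j).1) := e.commRingCatIsoToRingEquiv
  exact IsPrincipalIdealRing.of_surjective e'.toRingHom (by exact e'.surjective)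

theorem isDomain_chart (j : Fin 2) : IsDomain Γ(CohB1.ProjSpace 1 k, (chart k j).1) := by
  haveI := Groth.Agent.Lib.Helper17.PnUFD.isDomain_away 1 k j
  let e := Proj.basicOpenIsoAway 𝒜 (MvPolynomial.X j : MvPolynomial (Fin (1 + 1)) k) (hX k j) one_pos
  exact e.commRingCatIsoToRingEquiv.symm.toMulEquiv.isDomain _

/-- **a quasi-coherent ideal of `P^1_k` whose zero locus is not everything is effective Cartier** -/
theorem isEffCartierIdeal_of_support_ne (𝓙 : (CohB1.ProjSpace 1 k).IdealSheafData)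
    (h𝓙 : ¬ (Set.univ : Set (CohB1.ProjSpace 1 k)) ⊆ 𝓙.support) : BlowUp.IsEffCartierIdeal 𝓙 := by
  intro x
  obtain ⟨j, hx⟩ := Groth.Agent.Lib.Helper8.P1Facts.exists_mem_chart 1 k x
  refine ⟨chart k j, hx, ?_⟩
  haveI := isPrincipalIdealRing_chart k j
  haveI := isDomain_chart k j
  obtain ⟨a, ha⟩ := (IsPrincipalIdealRing.principal (𝓙.ideal (chart k j))).principal
  refine ⟨a, ?_, ha⟩
  rw [mem_nonZeroDivisors_iff_ne_zero]
  rintro rfl
  apply h𝓙
  have hU : ((chart k j).1 : Set (CohB1.ProjSpace 1 k)) ⊆ 𝓙.support := by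
    intro y hy
    refine (Scheme.IdealSheafData.mem_support_iff_of_mem (I := 𝓙) (U := chart k j) hy).2 ?_
    rw [ha, Scheme.mem_zeroLocus_iff]
    intro g hg
    have hg0 : g = 0 := by
      have : g ∈ Ideal.span {(0 : Γ(CohB1.ProjSpace 1 k, (chart k j).1))} := hg
      rwa [Ideal.span_singleton_eq_bot.2 rfl, Ideal.mem_bot] at this
    rw [hg0, Scheme.basicOpen_zero]
    exact fun h => h
  have hdense : Dense ((chart k j).1 : Set (CohB1.ProjSpace 1 k)) :=
    (chart k j).1.2.dense ⟨x, hx⟩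
  rw [← hdense.closure_eq]
  exact closure_minimal hU 𝓙.support.isClosed

/-- **lifting to a blow-up** -/
theorem existsUnique_lift {X B : Scheme.{u}} (𝓘 : X.IdealSheafData) (σ : B ⟶ X)
    (hσ : BlowUp.IsBlowUp σ 𝓘) (f : CohB1.ProjSpace 1 k ⟶ X)
    (hf : ¬ Set.range f ⊆ 𝓘.support) : ∃! g : CohB1.ProjSpace 1 k ⟶ B, g ≫ σ = f := by
  refine hσ.2 _ f (isEffCartierIdeal_of_support_ne k _ fun h => hf ?_)
  rintro _ ⟨y, rfl⟩
  have hy := h (Set.mem_univ y)
  rw [Scheme.IdealSheafData.support_comap] at hy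
  exact hy

end Groth.Agent.Lib.helper19.P1Blow
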