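import Mathlib

namespace Groth.Agent.Lib.helper19.PPEt
universe u
open TensorProduct

section
variable (R S S' : Type u) [CommRing R] [CommRing S] [Algebra R S] [CommRing S'] [Algebra R S']
  [Algebra S S'] [IsScalarTower R S S']

noncomputable abbrev Φ : S' ⊗[R] S →ₐ[S'] S' ⊗[R] S' :=
  Algebra.TensorProduct.map (AlgHom.id S' S') (IsScalarTower.toAlgHom R S S')

noncomputable abbrev J' : Ideal (S' ⊗[R] S') := KaehlerDifferential.ideal R S'

noncomputable abbrev I : Ideal (S' ⊗[R] S) := (J' R S').comap (Φ R S S').toRingHom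

variable (k : ℕ)

def P : Type u := (S' ⊗[R] S) ⧸ (I R S S') ^ (k+1)
def Q : Type u := (S' ⊗[R] S') ⧸ (J' R S') ^ (k+1)

noncomputable instance : CommRing (P R S S' k) := inferInstanceAs (CommRing (_ ⧸ _))
noncomputable instance : CommRing (Q R S' k) := inferInstanceAs (CommRing (_ ⧸ _))

noncomputable def mkP : S' ⊗[R] S →+* P R S S' k := Ideal.Quotient.mk _
noncomputable def mkQ : S' ⊗[R] S' →+* Q R S' k := Ideal.Quotient.mk _

lemma mkP_surj : Function.Surjective (mkP R S S' k) := Ideal.Quotient.mk_surjective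
lemma mkQ_surj : Function.Surjective (mkQ R S' k) := Ideal.Quotient.mk_surjective

lemma ker_mkP : RingHom.ker (mkP R S S' k) = (I R S S') ^ (k+1) := Ideal.mk_ker
lemma ker_mkQ : RingHom.ker (mkQ R S' k) = (J' R S') ^ (k+1) := Ideal.mk_ker

noncomputable instance : Algebra S (P R S S' k) :=
  ((mkP R S S' k).comp
    (Algebra.TensorProduct.includeRight (R := R) (A := S') (B := S)).toRingHom).toAlgebra

noncomputable instance : Algebra S (Q R S' k) :=
  ((mkQ R S' k).comp
    ((Algebra.TensorProduct.includeRight (R := R) (A := S') (B := S')).toRingHom.comp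
      (algebraMap S S'))).toAlgebra

lemma algebraMap_P (s : S) : algebraMap S (P R S S' k) s = mkP R S S' k (1 ⊗ₜ s) := rfl
lemma algebraMap_Q (s : S) :
    algebraMap S (Q R S' k) s = mkQ R S' k (1 ⊗ₜ (algebraMap S S' s)) := rfl

/-- multiplication map on `S' ⊗ S`. -/
noncomputable def μA : S' ⊗[R] S →+* S' :=
  (Algebra.TensorProduct.lmul' R : S' ⊗[R] S' →ₐ[R] S').toRingHom.comp (Φ R S S').toRingHom

lemma μA_tmul (a : S') (s : S) : μA R S S' (a ⊗ₜ s) = a * algebraMap S S' s := by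
  simp [μA]

lemma ker_μA : RingHom.ker (μA R S S') = I R S S' := by
  rw [μA, ← RingHom.comap_ker]
  rfl

noncomputable def μB : S' ⊗[R] S' →+* S' :=
  (Algebra.TensorProduct.lmul' R : S' ⊗[R] S' →ₐ[R] S').toRingHom

lemma ker_μB : RingHom.ker (μB R S') = J' R S' := rfl


lemma I_le_ker : (I R S S') ^ (k+1) ≤ RingHom.ker (μA R S S') := by
  rw [ker_μA]; exact Ideal.pow_le_self (by omega)

lemma J_le_ker : (J' R S') ^ (k+1) ≤ RingHom.ker (μB R S') := by
  rw [ker_μB]; exact Ideal.pow_le_self (by omega)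

noncomputable def πP₀ : P R S S' k →+* S' :=
  Ideal.Quotient.lift _ (μA R S S') (fun _ h => I_le_ker R S S' k h)

noncomputable def πQ₀ : Q R S' k →+* S' :=
  Ideal.Quotient.lift _ (μB R S') (fun _ h => J_le_ker R S' k h)

lemma πP₀_mk (x) : πP₀ R S S' k (mkP R S S' k x) = μA R S S' x := Ideal.Quotient.lift_mk _ _ _
lemma πQ₀_mk (x) : πQ₀ R S' k (mkQ R S' k x) = μB R S' x := Ideal.Quotient.lift_mk _ _ _

noncomputable def πP : P R S S' k →ₐ[S] S' :=
  { πP₀ R S S' k with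
    commutes' := fun s => by
      change πP₀ R S S' k (algebraMap S (P R S S' k) s) = _
      rw [algebraMap_P, πP₀_mk, μA_tmul, one_mul] }

lemma πP_apply (x) : πP R S S' k x = πP₀ R S S' k x := rfl

lemma πP_surj : Function.Surjective (πP R S S' k) := by
  intro a
  refine ⟨mkP R S S' k (a ⊗ₜ 1), ?_⟩
  rw [πP_apply, πP₀_mk, μA_tmul, map_one, mul_one]

lemma ker_πP₀ : RingHom.ker (πP₀ R S S' k) = (I R S S').map (mkP R S S' k) := by
  apply le_antisymm
  · intro x hx
    obtain ⟨y, rfl⟩ := mkP_surj R S S' k x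
    rw [RingHom.mem_ker, πP₀_mk, ← RingHom.mem_ker, ker_μA] at hx
    exact Ideal.mem_map_of_mem _ hx
  · rw [Ideal.map_le_iff_le_comap]
    intro y hy
    rw [Ideal.mem_comap, RingHom.mem_ker, πP₀_mk, ← RingHom.mem_ker, ker_μA]
    exact hy

lemma ker_πQ₀ : RingHom.ker (πQ₀ R S' k) = (J' R S').map (mkQ R S' k) := by
  apply le_antisymm
  · intro x hx
    obtain ⟨y, rfl⟩ := mkQ_surj R S' k x
    rw [RingHom.mem_ker, πQ₀_mk, ← RingHom.mem_ker, ker_μB] at hx
    exact Ideal.mem_map_of_mem _ hx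
  · rw [Ideal.map_le_iff_le_comap]
    intro y hy
    rw [Ideal.mem_comap, RingHom.mem_ker, πQ₀_mk, ← RingHom.mem_ker, ker_μB]
    exact hy

lemma nilp_P : IsNilpotent (RingHom.ker (πP₀ R S S' k)) := by
  refine ⟨k+1, ?_⟩
  rw [ker_πP₀, ← Ideal.map_pow, Ideal.zero_eq_bot]
  rw [Ideal.map_eq_bot_iff_le_ker, ker_mkP]

lemma nilp_Q : IsNilpotent (RingHom.ker (πQ₀ R S' k)) := by
  refine ⟨k+1, ?_⟩
  rw [ker_πQ₀, ← Ideal.map_pow, Ideal.zero_eq_bot]
  rw [Ideal.map_eq_bot_iff_le_ker, ker_mkQ]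


section Et
variable [Algebra.FormallyEtale S S']

/-- the section `S' → P` -/
noncomputable def σ : S' →ₐ[S] P R S S' k :=
  Algebra.FormallySmooth.liftOfSurjective (AlgHom.id S S') (πP R S S' k) (πP_surj R S S' k)
    (nilp_P R S S' k)

lemma π_σ (b : S') : πP₀ R S S' k (σ R S S' k b) = b := by
  have := Algebra.FormallySmooth.liftOfSurjective_apply (AlgHom.id S S') (πP R S S' k)
    (πP_surj R S S' k) (nilp_P R S S' k) b
  exact this

lemma σ_algebraMap (s : S) : σ R S S' k (algebraMap S S' s) = mkP R S S' k (1 ⊗ₜ s) := by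
  rw [AlgHom.commutes, algebraMap_P]

noncomputable instance : Algebra S' (P R S S' k) :=
  ((mkP R S S' k).comp
    (Algebra.TensorProduct.includeLeft (R := R) (S := R) (A := S') (B := S)).toRingHom).toAlgebra

noncomputable instance : Algebra R (P R S S' k) :=
  ((mkP R S S' k).comp (algebraMap R (S' ⊗[R] S))).toAlgebra

lemma algebraMap_P' (a : S') : algebraMap S' (P R S S' k) a = mkP R S S' k (a ⊗ₜ 1) := rfl

noncomputable instance : IsScalarTower R S' (P R S S' k) := by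
  refine IsScalarTower.of_algebraMap_eq (fun r => ?_)
  change mkP R S S' k (algebraMap R (S' ⊗[R] S) r) = mkP R S S' k (algebraMap R S' r ⊗ₜ 1)
  rfl

/-- `σ` as an `R`-algebra map. -/
noncomputable def σR : S' →ₐ[R] P R S S' k :=
  { (σ R S S' k).toRingHom with
    commutes' := fun r => by
      change σ R S S' k (algebraMap R S' r) = mkP R S S' k (algebraMap R (S' ⊗[R] S) r)
      rw [IsScalarTower.algebraMap_apply R S S', σ_algebraMap]
      congr 1
      rw [Algebra.TensorProduct.algebraMap_apply, Algebra.algebraMap_eq_smul_one,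
        Algebra.algebraMap_eq_smul_one, TensorProduct.smul_tmul] }

lemma σR_apply (b : S') : σR R S S' k b = σ R S S' k b := rfl

noncomputable def Ψ₀ : S' ⊗[R] S' →ₐ[S'] P R S S' k :=
  Algebra.TensorProduct.lift (Algebra.ofId S' (P R S S' k)) (σR R S S' k)
    (fun _ _ => Commute.all _ _)

lemma Ψ₀_tmul (a b : S') : Ψ₀ R S S' k (a ⊗ₜ b) = mkP R S S' k (a ⊗ₜ 1) * σ R S S' k b := by
  simp [Ψ₀, Algebra.ofId_apply, algebraMap_P', σR_apply]

lemma Ψ₀_Φ (x : S' ⊗[R] S) : Ψ₀ R S S' k (Φ R S S' x) = mkP R S S' k x := by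
  induction x using TensorProduct.induction_on with
  | zero => simp
  | tmul a s =>
    rw [Algebra.TensorProduct.map_tmul, Ψ₀_tmul]
    simp only [AlgHom.coe_id, id_eq, IsScalarTower.coe_toAlgHom']
    rw [σ_algebraMap, ← map_mul, Algebra.TensorProduct.tmul_mul_tmul, mul_one, one_mul]
  | add x y hx hy => rw [map_add, map_add, hx, hy, map_add]

lemma Ψ₀_J : J' R S' ≤ (RingHom.ker (πP₀ R S S' k)).comap (Ψ₀ R S S' k).toRingHom := by
  change KaehlerDifferential.ideal R S' ≤ _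
  rw [← KaehlerDifferential.span_range_eq_ideal, Ideal.span_le]
  rintro _ ⟨b, rfl⟩
  change πP₀ R S S' k (Ψ₀ R S S' k _) = 0
  rw [map_sub, Ψ₀_tmul, Ψ₀_tmul, map_sub, map_mul, map_mul, π_σ, π_σ, πP₀_mk, πP₀_mk, μA_tmul,
    μA_tmul]
  simp

lemma Ψ₀_Jpow : (J' R S') ^ (k+1) ≤ RingHom.ker (Ψ₀ R S S' k).toRingHom := by
  have h1 := Ideal.pow_right_mono (Ψ₀_J R S S' k) (k+1)
  have h2 := Ideal.le_comap_pow (Ψ₀ R S S' k).toRingHom (K := RingHom.ker (πP₀ R S S' k)) (k+1)
  refine (h1.trans h2).trans ?_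
  have h3 : RingHom.ker (πP₀ R S S' k) ^ (k+1) = ⊥ := by
    rw [ker_πP₀, ← Ideal.map_pow, Ideal.map_eq_bot_iff_le_ker, ker_mkP]
  rw [h3]
  exact le_rfl

noncomputable def Ψ : Q R S' k →+* P R S S' k :=
  Ideal.Quotient.lift _ (Ψ₀ R S S' k).toRingHom (fun _ h => Ψ₀_Jpow R S S' k h)

lemma Ψ_mk (y) : Ψ R S S' k (mkQ R S' k y) = Ψ₀ R S S' k y := Ideal.Quotient.lift_mk _ _ _


/-- the comparison map. -/
noncomputable def q : P R S S' k →+* Q R S' k :=
  Ideal.quotientMap ((J' R S') ^ (k + 1)) (Φ R S S').toRingHom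
    (Ideal.le_comap_pow (Φ R S S').toRingHom (K := J' R S') (k + 1))

omit [Algebra.FormallyEtale S S'] in
lemma q_mk (x) : q R S S' k (mkP R S S' k x) = mkQ R S' k (Φ R S S' x) :=
  Ideal.quotientMap_mk ..

lemma Ψ_q (x : P R S S' k) : Ψ R S S' k (q R S S' k x) = x := by
  obtain ⟨y, rfl⟩ := mkP_surj R S S' k x
  rw [q_mk, Ψ_mk, Ψ₀_Φ]

/-- `q` as an `S`-algebra map. -/
noncomputable def qS : P R S S' k →ₐ[S] Q R S' k :=
  { q R S S' k with
    commutes' := fun s => by
      change q R S S' k (algebraMap S (P R S S' k) s) = algebraMap S (Q R S' k) s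
      rw [algebraMap_P, q_mk, algebraMap_Q]
      simp }

/-- right inclusion `S' → Q` as an `S`-algebra map. -/
noncomputable def jQ : S' →ₐ[S] Q R S' k :=
  { (mkQ R S' k).comp
      (Algebra.TensorProduct.includeRight (R := R) (A := S') (B := S')).toRingHom with
    commutes' := fun s => rfl }

omit [Algebra.FormallyEtale S S'] in
lemma jQ_apply (b : S') : jQ R S S' k b = mkQ R S' k (1 ⊗ₜ b) := rfl

lemma q_σ (b : S') : q R S S' k (σ R S S' k b) = mkQ R S' k (1 ⊗ₜ b) := by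
  have h : (qS R S S' k).comp (σ R S S' k) = jQ R S S' k := by
    apply Algebra.FormallyUnramified.ext' (πQ₀ R S' k) (nilp_Q R S' k)
    intro b
    change πQ₀ R S' k (q R S S' k (σ R S S' k b)) = πQ₀ R S' k (mkQ R S' k (1 ⊗ₜ b))
    have hπ : ∀ x, πQ₀ R S' k (q R S S' k x) = πP₀ R S S' k x := by
      intro x
      obtain ⟨y, rfl⟩ := mkP_surj R S S' k x
      rw [q_mk, πQ₀_mk, πP₀_mk]
      rfl
    rw [hπ, π_σ, πQ₀_mk]
    simp [μB]
  exact AlgHom.congr_fun h b

lemma q_Ψ (y : Q R S' k) : q R S S' k (Ψ R S S' k y) = y := by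
  obtain ⟨z, rfl⟩ := mkQ_surj R S' k y
  rw [Ψ_mk]
  induction z using TensorProduct.induction_on with
  | zero => simp
  | tmul a b =>
    rw [Ψ₀_tmul, map_mul, q_mk, q_σ, ← map_mul]
    simp
  | add x y hx hy => rw [map_add, map_add, hx, hy, map_add]

theorem q_bijective : Function.Bijective (q R S S' k) :=
  ⟨Function.LeftInverse.injective (Ψ_q R S S' k),
   Function.RightInverse.surjective (q_Ψ R S S' k)⟩

end Et

end

end Groth.Agent.Lib.helper19.PPEt
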