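import Mathlib
import Groth.Prelude.Def_CohB1

/-!
# Linear substitutions of the homogeneous coordinates of projective space (helper19)

For a square matrix `M` the `k`-algebra endomorphism `x_j ↦ Σ_i M j i x_i` of the polynomial ring,
as a graded ring homomorphism; `α (M * N) = α N ∘ α M`.
-/

set_option autoImplicit false
universe u
open MvPolynomial
open scoped HomogeneousIdeal

namespace Groth.Agent.Lib.helper19.PnAutA

variable (k : Type u) [Field k] (n : ℕ)

local notation "𝒜" => CohB1.polyGrading n k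
local notation "AA" => MvPolynomial (Fin (n + 1)) k
local notation "Mat" => Matrix (Fin (n + 1)) (Fin (n + 1)) k

/-- the linear form `Σ_i M j i x_i` -/
noncomputable def lin (M : Mat) (j : Fin (n + 1)) : AA := ∑ i, C (M j i) * X i

theorem lin_isHomogeneous (M : Mat) (j : Fin (n + 1)) : (lin k n M j).IsHomogeneous 1 := by
  unfold lin
  refine IsHomogeneous.sum _ _ _ fun i _ => ?_
  have h := (isHomogeneous_C (Fin (n + 1)) (M j i)).mul (isHomogeneous_X k i)
  simpa using h

theorem lin_mem (M : Mat) (j : Fin (n + 1)) : lin k n M j ∈ 𝒜 1 :=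
  (mem_homogeneousSubmodule 1 _).2 (lin_isHomogeneous k n M j)

/-- the substitution `x_j ↦ Σ_i M j i x_i` -/
noncomputable def αa (M : Mat) : AA →ₐ[k] AA := aeval (lin k n M)

@[simp] theorem αa_X (M : Mat) (j : Fin (n + 1)) : αa k n M (X j) = lin k n M j := aeval_X _ _

theorem αa_lin (M N : Mat) (j : Fin (n + 1)) : αa k n N (lin k n M j) = lin k n (M * N) j := by
  unfold lin
  simp only [map_sum, map_mul, αa_X, Matrix.mul_apply]
  have h1 : ∀ i, (αa k n N) (C (M j i)) = C (M j i) := fun i => (αa k n N).commutes (M j i)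
  simp only [h1]
  unfold lin
  simp only [Finset.mul_sum, Finset.sum_mul]
  rw [Finset.sum_comm]
  refine Finset.sum_congr rfl fun i _ => Finset.sum_congr rfl fun l _ => ?_
  ring

theorem αa_comp (M N : Mat) : (αa k n N).comp (αa k n M) = αa k n (M * N) := by
  apply MvPolynomial.algHom_ext
  intro j
  rw [AlgHom.comp_apply, αa_X, αa_lin, αa_X]

theorem αa_comp_apply (M N : Mat) (F : AA) : αa k n N (αa k n M F) = αa k n (M * N) F := by
  rw [← αa_comp]; rfl

theorem lin_one (j : Fin (n + 1)) : lin k n 1 j = X j := by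
  unfold lin
  rw [Finset.sum_eq_single j]
  · simp
  · intro i _ hij
    rw [Matrix.one_apply_ne hij.symm]
    simp
  · intro h
    exact absurd (Finset.mem_univ j) h

theorem αa_one : αa k n 1 = AlgHom.id k AA := by
  apply MvPolynomial.algHom_ext
  intro j
  rw [αa_X, lin_one]
  rfl

theorem αa_mem (M : Mat) {d : ℕ} {F : AA} (hF : F ∈ 𝒜 d) : αa k n M F ∈ 𝒜 d := by
  have h := MvPolynomial.IsHomogeneous.aeval ((mem_homogeneousSubmodule d F).1 hF) (lin k n M)
    (lin_isHomogeneous k n M)
  rw [one_mul] at h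
  exact (mem_homogeneousSubmodule d _).2 h

/-- the substitution as a graded ring homomorphism -/
noncomputable def αg (M : Mat) : 𝒜 →+*ᵍ 𝒜 where
  toRingHom := (αa k n M).toRingHom
  map_mem := fun hx => αa_mem k n M hx

theorem αg_apply (M : Mat) (F : AA) : αg k n M F = αa k n M F := rfl

theorem αg_comp (M N : Mat) : (αg k n N).comp (αg k n M) = αg k n (M * N) := by
  refine DFunLike.ext _ _ fun F => ?_
  exact αa_comp_apply k n M N F

theorem αg_one : αg k n 1 = GradedRingHom.id 𝒜 := by
  refine DFunLike.ext _ _ fun F => ?_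
  show αa k n 1 F = F
  rw [αa_one]; rfl

/-- the irrelevant ideal condition for an invertible substitution -/
theorem irrelevant_le (M N : Mat) (h : N * M = 1) : 𝒜₊ ≤ (𝒜₊).map (αg k n M) := by
  rw [HomogeneousIdeal.irrelevant_le]
  intro i hi x hx
  have hx' : x ∈ 𝒜 i := hx
  have h1 : αg k n M (αg k n N x) = x := by
    rw [αg_apply, αg_apply, αa_comp_apply, h, αa_one]; rfl
  have h2 : αg k n N x ∈ (𝒜₊).toIdeal :=
    HomogeneousIdeal.mem_irrelevant_of_mem _ hi (αa_mem k n N hx')
  show x ∈ ((𝒜₊).map (αg k n M)).toIdeal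
  rw [HomogeneousIdeal.toIdeal_map, ← h1]
  exact Ideal.mem_map_of_mem _ h2

end Groth.Agent.Lib.helper19.PnAutA
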