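import Groth.Agent.Lib.Helper28.ProjUPUniq2

/-!
# Pull back of `O(1)` along `Proj.map` (helper19)

For a graded homomorphism `φ : 𝒮 → 𝒯` with `Proj.map φ` everywhere defined, `(Proj.map φ)^* O(1) ≅ O(1)`,
the pulled back sections `x_j` going to prescribed degree one elements `y_j` proportional to `φ x_j`.
-/

set_option autoImplicit false
universe u
open CategoryTheory CategoryTheory.Limits AlgebraicGeometry Opposite TopologicalSpace HomogeneousLocalization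
open scoped HomogeneousIdeal
noncomputable section

namespace Groth.Agent.Lib.helper19.PnAutB

open Groth.Agent.Lib.Helper28 Groth.Agent.Lib.Helper28.QCohLoc Groth.Agent.Lib.Helper28.GenLocus
  Groth.Agent.Lib.Helper28.PullbackInv Groth.Agent.Lib.Helper28.ProjUPGeom
  Groth.Agent.Lib.Helper28.ProjUPUniq

variable {A : Type u} [CommRing A] {S T : Type u} [CommRing S] [CommRing T] [Algebra A S] [Algebra A T]
  (𝒮 : ℕ → Submodule A S) (𝒯 : ℕ → Submodule A T) [GradedAlgebra 𝒮] [GradedAlgebra 𝒯]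
  (φ : 𝒮 →+*ᵍ 𝒯) (hφ : 𝒯₊ ≤ (𝒮₊).map φ)

set_option backward.isDefEq.respectTransparency false in
/-- `(Proj.map φ)^♯ (f/g) = φ f / φ g` -/
theorem appLE_fr {f g : S} (hf : f ∈ 𝒮 1) (hg : g ∈ 𝒮 1) :
    (Proj.map φ hφ).appLE (Proj.basicOpen 𝒮 g) (Proj.basicOpen 𝒯 (φ g)) (by rfl)
        (ProjFrac.fr 𝒮 hg 1 f hf) =
      ProjFrac.fr 𝒯 (φ.map_mem hg) 1 (φ f) (φ.map_mem hf) := by
  have h := Proj.awayToSection_comp_appLE φ hφ hg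
  have h2 := congrArg (fun ψ => ψ.hom (Away.mk 𝒮 hg 1 f (ProjFrac.mem_smul_one 𝒮 hf))) h
  simp only [CommRingCat.hom_comp, RingHom.comp_apply, CommRingCat.hom_ofHom] at h2
  have h3 : Away.map φ g (Away.mk 𝒮 hg 1 f (ProjFrac.mem_smul_one 𝒮 hf)) =
      Away.mk 𝒯 (φ.map_mem hg) 1 (φ f) (ProjFrac.mem_smul_one 𝒯 (φ.map_mem hf)) :=
    Away.map_mk φ _ hg 1 _ _
  rw [h3] at h2
  exact h2

/-- proportional degree one sections: `y = (φ f/φ g) • y'` on `D₊(φ g)` when `y * φ g = φ f * y'` -/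
theorem gsec_eq_fr_smul' {f g : S} (hf : f ∈ 𝒮 1) (hg : g ∈ 𝒮 1) {y y' : T} (hy : y ∈ 𝒯 1)
    (hy' : y' ∈ 𝒯 1) (hrel : y * φ g = φ f * y') :
    res (Twist.twist 𝒯 ((1 : ℕ) : ℤ)) (le_top : Proj.basicOpen 𝒯 (φ g) ≤ ⊤) (TwistGen.gsec 𝒯 y hy) =
      (ProjFrac.fr 𝒯 (φ.map_mem hg) 1 (φ f) (φ.map_mem hf) •
        res (Twist.twist 𝒯 ((1 : ℕ) : ℤ)) (le_top : Proj.basicOpen 𝒯 (φ g) ≤ ⊤)
        (TwistGen.gsec 𝒯 y' hy') : Γ(Twist.twist 𝒯 ((1 : ℕ) : ℤ), Proj.basicOpen 𝒯 (φ g))) := by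
  apply TwistQC.ext_val
  intro x
  rw [TwistQC.val_smul, TwistQC.val_res, TwistQC.val_res, TwistGen.val_gsec, TwistGen.val_gsec,
    ProjFrac.val_fr, Localization.mk_mul, Localization.mk_eq_mk_iff, Localization.r_iff_exists]
  refine ⟨1, ?_⟩
  simp only [OneMemClass.coe_one, one_mul, Submonoid.coe_mul, mul_one, pow_one]
  linear_combination hrel

/-- **`(Proj.map φ)^* O(1) ≅ O(1)`**, with prescribed images of the coordinate sections -/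
theorem exists_map_pullback_iso {J : Type*} (xs : J → S) (hxs : ∀ j, xs j ∈ 𝒮 1)
    (hcov : ∀ x : Proj 𝒮, ∃ j, x ∈ Proj.basicOpen 𝒮 (xs j))
    (ys : J → T) (hys : ∀ j, ys j ∈ 𝒯 1)
    (hle : ∀ j, Proj.basicOpen 𝒯 (φ (xs j)) ≤ Proj.basicOpen 𝒯 (ys j))
    (hrel : ∀ i j, ys i * φ (xs j) = φ (xs i) * ys j) :
    ∃ ψ : (Scheme.Modules.pullback (Proj.map φ hφ)).obj (Twist.twist 𝒮 ((1 : ℕ) : ℤ)) ≅
        Twist.twist 𝒯 ((1 : ℕ) : ℤ),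
      ∀ j, ψ.hom.app ⊤ (pbs (Proj.map φ hφ) (Twist.twist 𝒮 ((1 : ℕ) : ℤ)) ⊤
          (TwistGen.gsec 𝒮 (xs j) (hxs j))) = TwistGen.gsec 𝒯 (ys j) (hys j) := by
  have hpre : ∀ j, Proj.basicOpen 𝒯 (φ (xs j)) ≤
      (Proj.map φ hφ) ⁻¹ᵁ Proj.basicOpen 𝒮 (xs j) := fun j => le_rfl
  refine exists_iso_of_sections
    ((Scheme.Modules.pullback (Proj.map φ hφ)).obj (Twist.twist 𝒮 ((1 : ℕ) : ℤ)))
    (Twist.twist 𝒯 ((1 : ℕ) : ℤ))
    (fun j => Proj.basicOpen 𝒯 (φ (xs j)))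
    (fun j => pbs (Proj.map φ hφ) (Twist.twist 𝒮 ((1 : ℕ) : ℤ)) ⊤ (TwistGen.gsec 𝒮 (xs j) (hxs j)))
    (fun j => TwistGen.gsec 𝒯 (ys j) (hys j))
    (fun j => isGen_pbs_gsec 𝒮 (Proj.map φ hφ) (hxs j) _ (hpre j))
    (fun j => by
      have h := (isGen_gsec 𝒯 (hys j)).res (hle j)
      rw [res_res] at h
      exact h)
    (fun y => by
      obtain ⟨j, hj⟩ := hcov ((Proj.map φ hφ) y)
      exact ⟨j, hj⟩)
    (fun i j => (Proj.map φ hφ).appLE (Proj.basicOpen 𝒮 (xs j)) (Proj.basicOpen 𝒯 (φ (xs j)))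
      (hpre j) (ProjFrac.fr 𝒮 (hxs j) 1 (xs i) (hxs i)))
    (fun i j => pbs_gsec_coef 𝒮 (Proj.map φ hφ) (hxs i) (hxs j) _ (hpre j))
    (fun i j => by
      rw [appLE_fr 𝒮 𝒯 φ hφ (hxs i) (hxs j)]
      exact gsec_eq_fr_smul' 𝒮 𝒯 φ (hxs i) (hxs j) (hys i) (hys j) (hrel i j))

end Groth.Agent.Lib.helper19.PnAutB
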