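import Groth.Agent.Lib.helper19.PnAutA
import Groth.Agent.Lib.helper19.PnAutB
import Groth.Agent.Lib.Helper28.ProjMapG
import Groth.Agent.Lib.helper19.PnHomC

/-!
# The homomorphism `GL_{n+1}(k) → Aut(P^n_k / k)` (helper19)
-/

set_option autoImplicit false
universe u
open CategoryTheory CategoryTheory.Limits AlgebraicGeometry Opposite TopologicalSpace HomogeneousLocalization
open MvPolynomial
open scoped HomogeneousIdeal
noncomputable section

namespace Groth.Agent.Lib.helper19.PnAutC

open Groth.Agent.Lib.Helper28 Groth.Agent.Lib.Helper28.QCohLoc Groth.Agent.Lib.Helper28.GenLocus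
  Groth.Agent.Lib.Helper28.PullbackInv Groth.Agent.Lib.Helper28.ProjUPGeom
  Groth.Agent.Lib.Helper28.ProjUPUniq Groth.Agent.Lib.Helper17
open Groth.Agent.Lib.helper19.PnAutA Groth.Agent.Lib.helper19.PnAutB

variable (k : Type u) [Field k] (n : ℕ)

local notation "𝒜" => CohB1.polyGrading n k
local notation "AA" => MvPolynomial (Fin (n + 1)) k
local notation "GLn" => Matrix.GeneralLinearGroup (Fin (n + 1)) k

theorem hM (M : GLn) : 𝒜₊ ≤ (𝒜₊).map (αg k n M.1) :=
  irrelevant_le k n M.1 (M⁻¹).1 (by
    have h := inv_mul_cancel M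
    exact congrArg Units.val h)

/-- the automorphism of `P^n_k` given by an invertible matrix -/
def pm (M : GLn) : Proj 𝒜 ⟶ Proj 𝒜 := Proj.map (αg k n M.1) (hM k n M)

theorem pm_mul (M N : GLn) : pm k n (M * N) = pm k n N ≫ pm k n M := by
  unfold pm
  rw [← Proj.map_comp]
  congr 1
  exact (αg_comp k n M.1 N.1).symm

theorem pm_one : pm k n 1 = 𝟙 (Proj 𝒜) := by
  unfold pm
  rw [← Proj.map_id]
  congr 1
  exact αg_one k n

set_option backward.isDefEq.respectTransparency false in
theorem pm_toSpec (M : GLn) :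
    pm k n M ≫ (show Proj 𝒜 ⟶ Spec (CommRingCat.of k) from CohB1.ProjSpace.toSpec n k) =
      CohB1.ProjSpace.toSpec n k := by
  unfold pm CohB1.ProjSpace.toSpec
  rw [ProjMapG.map_toSpecZero_assoc, ← Spec.map_comp, ← CommRingCat.ofHom_comp]
  congr 3
  refine RingHom.ext fun c => Subtype.ext ?_
  show αa k n M.1 (algebraMap k AA c) = algebraMap k AA c
  exact (αa k n M.1).commutes c

/-- the automorphism of `P^n_k` over `k` given by an invertible matrix -/
def autOf (M : GLn) : Aut (Over.mk (CohB1.ProjSpace.toSpec n k)) where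
  hom := Over.homMk (pm k n M) (pm_toSpec k n M)
  inv := Over.homMk (pm k n M⁻¹) (pm_toSpec k n M⁻¹)
  hom_inv_id := by
    apply Over.OverMorphism.ext
    show pm k n M ≫ pm k n M⁻¹ = 𝟙 _
    rw [← pm_mul, inv_mul_cancel, pm_one]
  inv_hom_id := by
    apply Over.OverMorphism.ext
    show pm k n M⁻¹ ≫ pm k n M = 𝟙 _
    rw [← pm_mul, mul_inv_cancel, pm_one]

theorem autOf_hom_left (M : GLn) : (autOf k n M).hom.left = pm k n M := rfl

/-- **the homomorphism `GL_{n+1}(k) → Aut(P^n_k / k)`** -/
def φhom : GLn →* Aut (Over.mk (CohB1.ProjSpace.toSpec n k)) where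
  toFun := autOf k n
  map_one' := by
    apply Iso.ext
    apply Over.OverMorphism.ext
    exact pm_one k n
  map_mul' M N := by
    apply Iso.ext
    apply Over.OverMorphism.ext
    show pm k n (M * N) = pm k n N ≫ pm k n M
    exact pm_mul k n M N

theorem φhom_eq_one_iff (M : GLn) : φhom k n M = 1 ↔ pm k n M = pm k n 1 := by
  constructor
  · intro h
    have h1 := congrArg (fun a : Aut (Over.mk (CohB1.ProjSpace.toSpec n k)) => a.hom.left) h
    rw [pm_one]
    exact h1
  · intro h
    apply Iso.ext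
    apply Over.OverMorphism.ext
    show pm k n M = 𝟙 _
    rw [h, pm_one]

end Groth.Agent.Lib.helper19.PnAutC
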