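import Groth.Agent.Lib.helper19.PnAutC

/-!
# The kernel of `GL_{n+1}(k) → Aut(P^n_k / k)` consists of the scalar matrices (helper19)
-/

set_option autoImplicit false
universe u
open CategoryTheory CategoryTheory.Limits AlgebraicGeometry Opposite TopologicalSpace HomogeneousLocalization
open MvPolynomial
open scoped HomogeneousIdeal
noncomputable section

namespace Groth.Agent.Lib.helper19.PnAutD

open Groth.Agent.Lib.Helper28 Groth.Agent.Lib.Helper28.QCohLoc Groth.Agent.Lib.Helper28.GenLocus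
  Groth.Agent.Lib.Helper28.PullbackInv Groth.Agent.Lib.Helper28.ProjUPGeom
  Groth.Agent.Lib.Helper28.ProjUPUniq Groth.Agent.Lib.Helper17
open Groth.Agent.Lib.helper19.PnAutA Groth.Agent.Lib.helper19.PnAutB Groth.Agent.Lib.helper19.PnAutC

theorem iso_inv_app_hom_app {X : Scheme.{u}} {M N : X.Modules} (e : M ≅ N) (U : X.Opens) (y : Γ(M, U)) :
    e.inv.app U (e.hom.app U y) = y := by
  have h : (e.hom ≫ e.inv).app U y = y := by rw [Iso.hom_inv_id]; rfl
  exact h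

theorem iso_hom_app_inv_app {X : Scheme.{u}} {M N : X.Modules} (e : M ≅ N) (U : X.Opens) (y : Γ(N, U)) :
    e.hom.app U (e.inv.app U y) = y := by
  have h : (e.inv ≫ e.hom).app U y = y := by rw [Iso.inv_hom_id]; rfl
  exact h

/-- pull backs along equal morphisms -/
theorem exists_pullback_congr {X Y : Scheme.{u}} {r r' : X ⟶ Y} (h : r = r') (L : Y.Modules) :
    ∃ κ : (Scheme.Modules.pullback r).obj L ≅ (Scheme.Modules.pullback r').obj L,
      ∀ s : Γ(L, ⊤), κ.hom.app ⊤ (pbs r L ⊤ s) = pbs r' L ⊤ s := by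
  subst h
  exact ⟨Iso.refl _, fun s => rfl⟩

variable (k : Type u) [Field k] (n : ℕ)

local notation "𝒜" => CohB1.polyGrading n k
local notation "AA" => MvPolynomial (Fin (n + 1)) k
local notation "GLn" => Matrix.GeneralLinearGroup (Fin (n + 1)) k

theorem gsec_congr {d : ℕ} {F G : AA} (h : F = G) (hF : F ∈ 𝒜 d) (hG : G ∈ 𝒜 d) :
    TwistGen.gsec 𝒜 F hF = TwistGen.gsec 𝒜 G hG := by
  subst h; rfl

theorem hcovX (x : Proj 𝒜) : ∃ j : Fin (n + 1), x ∈ Proj.basicOpen 𝒜 (X j : AA) := by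
  have h : x ∈ (⨆ i, ProjSpaceGamma.U n k i) := by rw [ProjSpaceGamma.iSup_U]; trivial
  exact TopologicalSpace.Opens.mem_iSup.1 h

/-- the pull back of `O(1)` along the automorphism of a matrix, with the images of the coordinates -/
theorem exists_iso_pm (M : GLn) :
    ∃ ψ : (Scheme.Modules.pullback (pm k n M)).obj (Twist.twist 𝒜 ((1 : ℕ) : ℤ)) ≅
        Twist.twist 𝒜 ((1 : ℕ) : ℤ),
      ∀ j, ψ.hom.app ⊤ (pbs (pm k n M) (Twist.twist 𝒜 ((1 : ℕ) : ℤ)) ⊤
          (TwistGen.gsec 𝒜 (X j) (ProjSpaceGamma.hX n k j))) =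
        TwistGen.gsec 𝒜 (lin k n M.1 j) (lin_mem k n M.1 j) := by
  obtain ⟨ψ, hψ⟩ := exists_map_pullback_iso 𝒜 𝒜 (αg k n M.1) (hM k n M)
    (fun j : Fin (n + 1) => (X j : AA)) (ProjSpaceGamma.hX n k) (hcovX k n)
    (fun j => αg k n M.1 (X j)) (fun j => (αg k n M.1).map_mem (ProjSpaceGamma.hX n k j))
    (fun j => le_rfl) (fun i j => rfl)
  refine ⟨ψ, fun j => ?_⟩
  have h := hψ j
  unfold pm
  rw [h]
  exact gsec_congr k n (by rw [αg_apply, αa_X]) _ _

/-- for a scalar matrix the coordinate sections are preserved -/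
theorem exists_iso_pm_scalar (M : GLn) (c : k) (hc : ∀ j, lin k n M.1 j = C c * X j) :
    ∃ ψ : (Scheme.Modules.pullback (pm k n M)).obj (Twist.twist 𝒜 ((1 : ℕ) : ℤ)) ≅
        Twist.twist 𝒜 ((1 : ℕ) : ℤ),
      ∀ j, ψ.hom.app ⊤ (pbs (pm k n M) (Twist.twist 𝒜 ((1 : ℕ) : ℤ)) ⊤
          (TwistGen.gsec 𝒜 (X j) (ProjSpaceGamma.hX n k j))) =
        TwistGen.gsec 𝒜 (X j) (ProjSpaceGamma.hX n k j) := by
  have hα : ∀ j, αg k n M.1 (X j : AA) = C c * X j := fun j => by rw [αg_apply, αa_X, hc]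
  exact exists_map_pullback_iso 𝒜 𝒜 (αg k n M.1) (hM k n M)
    (fun j : Fin (n + 1) => (X j : AA)) (ProjSpaceGamma.hX n k) (hcovX k n)
    (fun j => (X j : AA)) (ProjSpaceGamma.hX n k)
    (fun j => by
      show Proj.basicOpen 𝒜 (αg k n M.1 (X j : AA)) ≤ Proj.basicOpen 𝒜 (X j : AA)
      rw [hα, Proj.basicOpen_mul]
      exact inf_le_right)
    (fun i j => by
      show (X i : AA) * αg k n M.1 (X j : AA) = αg k n M.1 (X i : AA) * X j
      rw [hα, hα]; ring)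

theorem lin_one' (j : Fin (n + 1)) : lin k n (1 : GLn).1 j = C (1 : k) * X j := by
  rw [Units.val_one, lin_one, map_one, one_mul]

/-- **scalar matrices act trivially** -/
theorem pm_eq_of_scalar (M : GLn) (c : k) (hc : ∀ j, lin k n M.1 j = C c * X j) :
    pm k n M = pm k n 1 := by
  obtain ⟨ψ, hψ⟩ := exists_iso_pm_scalar k n M c hc
  obtain ⟨ψ₁, hψ₁⟩ := exists_iso_pm_scalar k n 1 1 (lin_one' k n)
  refine eq_of_iso 𝒜 (fun j : Fin (n + 1) => (X j : AA)) (ProjSpaceGamma.hX n k)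
    MvPolynomial.adjoin_range_X (pm k n M) (pm k n 1) ?_ (ψ ≪≫ ψ₁.symm) ?_
  · exact (pm_toSpec k n M).trans (pm_toSpec k n 1).symm
  · intro j
    show ψ₁.inv.app ⊤ (ψ.hom.app ⊤ _) = _
    have h1 := iso_inv_app_hom_app ψ₁ ⊤ (pbs (pm k n 1) (Twist.twist 𝒜 ((1 : ℕ) : ℤ)) ⊤
      (TwistGen.gsec 𝒜 (X j) (ProjSpaceGamma.hX n k j)))
    rw [hψ₁ j] at h1
    rw [hψ j]
    exact h1

end Groth.Agent.Lib.helper19.PnAutD
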