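import Groth.Agent.Lib.helper19.PnAutD
import Groth.Agent.Lib.helper19.PnHomA

/-!
# Only the scalar matrices act trivially on `P^n_k` (helper19)
-/

set_option autoImplicit false
universe u
open CategoryTheory CategoryTheory.Limits AlgebraicGeometry Opposite TopologicalSpace HomogeneousLocalization
open MvPolynomial
open scoped HomogeneousIdeal
noncomputable section

namespace Groth.Agent.Lib.helper19.PnAutE

open Groth.Agent.Lib.Helper28 Groth.Agent.Lib.Helper28.QCohLoc Groth.Agent.Lib.Helper28.GenLocus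
  Groth.Agent.Lib.Helper28.PullbackInv Groth.Agent.Lib.Helper28.ProjUPGeom
  Groth.Agent.Lib.Helper28.ProjUPUniq Groth.Agent.Lib.Helper17
open Groth.Agent.Lib.helper19.PnAutA Groth.Agent.Lib.helper19.PnAutB Groth.Agent.Lib.helper19.PnAutC
  Groth.Agent.Lib.helper19.PnAutD

variable (k : Type u) [Field k] (n : ℕ)

local notation "𝒜" => CohB1.polyGrading n k
local notation "AA" => MvPolynomial (Fin (n + 1)) k
local notation "GLn" => Matrix.GeneralLinearGroup (Fin (n + 1)) k
local notation "Mat" => Matrix (Fin (n + 1)) (Fin (n + 1)) k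

/-- an endomorphism of `O(1)` taking the coordinates to forms `F_j` forces `x_j F_i = x_i F_j` -/
theorem rel_of_hom (θ : Twist.twist 𝒜 ((1 : ℕ) : ℤ) ⟶ Twist.twist 𝒜 ((1 : ℕ) : ℤ))
    (F : Fin (n + 1) → AA) (hF : ∀ j, F j ∈ 𝒜 1)
    (hθ : ∀ j, θ.app ⊤ (TwistGen.gsec 𝒜 (X j) (ProjSpaceGamma.hX n k j)) = TwistGen.gsec 𝒜 (F j) (hF j))
    (i j : Fin (n + 1)) : (X j : AA) * F i = X i * F j := by
  have h0 := gsec_eq_fr_smul 𝒜 (ProjSpaceGamma.hX n k i) (ProjSpaceGamma.hX n k j)
  have h1 := congrArg (θ.app (Proj.basicOpen 𝒜 (X j : AA))) h0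
  rw [app_res, Scheme.Modules.Hom.app_smul, app_res, hθ i, hθ j] at h1
  have h2 := congrArg (fun s => TwistQC.val 𝒜 s
    ⟨PnHomA.gen0 n k, PnHomA.gen0_mem n k _ (X_ne_zero j)⟩) h1
  simp only at h2
  rw [TwistQC.val_smul, TwistQC.val_res, TwistQC.val_res, TwistGen.val_gsec, TwistGen.val_gsec,
    ProjFrac.val_fr, Localization.mk_mul, Localization.mk_eq_mk_iff, Localization.r_iff_exists] at h2
  obtain ⟨u, hu⟩ := h2
  have hu0 : (u : AA) ≠ 0 := fun h => u.2 (by rw [h]; exact zero_mem _)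
  have h3 := mul_left_cancel₀ hu0 hu
  simp only [OneMemClass.coe_one, one_mul, Submonoid.coe_mul, mul_one, pow_one] at h3
  linear_combination h3

theorem coeff_lin (M : Mat) (i l : Fin (n + 1)) :
    coeff (Finsupp.single l 1) (lin k n M i) = M i l := by
  classical
  unfold lin
  rw [coeff_sum, Finset.sum_eq_single l]
  · rw [coeff_C_mul, coeff_X, if_pos rfl, mul_one]
  · intro b _ hb
    rw [coeff_C_mul, coeff_X, if_neg, mul_zero]
    intro h
    exact hb (Finsupp.single_left_injective one_ne_zero h)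
  · intro h
    exact absurd (Finset.mem_univ l) h

/-- the linear algebra: proportionality of all the rows to the coordinates forces a scalar matrix -/
theorem scalar_of_rel (M : Mat) (h : ∀ i j, (X j : AA) * lin k n M i = X i * lin k n M j) :
    M = Matrix.scalar (Fin (n + 1)) (M 0 0) := by
  classical
  have hoff : ∀ i l, i ≠ l → M i l = 0 := by
    intro i l hil
    have h1 := congrArg (coeff (Finsupp.single l 1 + Finsupp.single l 1)) (h i l)
    rw [coeff_X_mul, coeff_lin, coeff_X_mul', if_neg] at h1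
    · exact h1
    · rw [Finsupp.mem_support_iff, not_not, Finsupp.add_apply, Finsupp.single_apply, if_neg (Ne.symm hil)]
      rfl
  have hdiag : ∀ i j, i ≠ j → M i i = M j j := by
    intro i j hij
    have h1 := congrArg (coeff (Finsupp.single j 1 + Finsupp.single i 1)) (h i j)
    have e : (Finsupp.single j 1 + Finsupp.single i 1 : Fin (n + 1) →₀ ℕ) =
        Finsupp.single i 1 + Finsupp.single j 1 := add_comm _ _
    rw [coeff_X_mul, coeff_lin, e, coeff_X_mul, coeff_lin] at h1
    exact h1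
  ext i l
  rw [Matrix.scalar_apply, Matrix.diagonal_apply]
  by_cases hil : i = l
  · subst hil
    rw [if_pos rfl]
    by_cases hi0 : i = 0
    · rw [hi0]
    · exact hdiag i 0 hi0
  · rw [if_neg hil]
    exact hoff i l hil

theorem lin_scalar (c : k) (j : Fin (n + 1)) :
    lin k n (Matrix.scalar (Fin (n + 1)) c) j = C c * X j := by
  unfold lin
  rw [Finset.sum_eq_single j]
  · rw [Matrix.scalar_apply, Matrix.diagonal_apply_eq]
  · intro i _ hij
    rw [Matrix.scalar_apply, Matrix.diagonal_apply_ne _ hij.symm]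
    simp
  · intro h
    exact absurd (Finset.mem_univ j) h

/-- **only the scalar matrices act trivially** -/
theorem scalar_of_pm_eq (M : GLn) (h : pm k n M = pm k n 1) :
    M.1 = Matrix.scalar (Fin (n + 1)) (M.1 0 0) := by
  obtain ⟨ψ, hψ⟩ := exists_iso_pm k n M
  obtain ⟨ψ₁, hψ₁⟩ := exists_iso_pm_scalar k n 1 1 (lin_one' k n)
  obtain ⟨κ, hκ⟩ := exists_pullback_congr h.symm (Twist.twist 𝒜 ((1 : ℕ) : ℤ))
  refine scalar_of_rel k n M.1 fun i j => ?_
  refine rel_of_hom k n (ψ₁.inv ≫ κ.hom ≫ ψ.hom) (lin k n M.1) (lin_mem k n M.1) (fun j => ?_) i j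
  show ψ.hom.app ⊤ (κ.hom.app ⊤ (ψ₁.inv.app ⊤ _)) = _
  have h1 := iso_inv_app_hom_app ψ₁ ⊤ (pbs (pm k n 1) (Twist.twist 𝒜 ((1 : ℕ) : ℤ)) ⊤
    (TwistGen.gsec 𝒜 (X j) (ProjSpaceGamma.hX n k j)))
  rw [hψ₁ j] at h1
  rw [h1, hκ, hψ j]

/-- **the kernel of `GL_{n+1}(k) → Aut(P^n_k / k)` is the group of scalar matrices** -/
theorem ker_φhom :
    (φhom k n).ker = (Units.map (Matrix.scalar (Fin (n + 1)) :
      k →+* Matrix (Fin (n + 1)) (Fin (n + 1)) k).toMonoidHom).range := by
  ext M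
  rw [MonoidHom.mem_ker, MonoidHom.mem_range, φhom_eq_one_iff]
  constructor
  · intro h
    have hM := scalar_of_pm_eq k n M h
    have hc : M.1 0 0 ≠ 0 := by
      intro h0
      rw [h0, map_zero] at hM
      have h1 : M.1 * (M⁻¹).1 = 1 := congrArg Units.val (mul_inv_cancel M)
      rw [hM, zero_mul] at h1
      exact zero_ne_one h1
    refine ⟨Units.mk0 _ hc, Units.ext ?_⟩
    exact hM.symm
  · rintro ⟨c, rfl⟩
    exact pm_eq_of_scalar k n _ c.1 (fun j => lin_scalar k n c.1 j)

end Groth.Agent.Lib.helper19.PnAutE
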