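import Groth.Agent.Lib.helper19.PnAutE
import Groth.Agent.Lib.helper19.PnHomC
import Groth.Agent.Lib.Helper17.PnPicUniq
import Groth.Agent.Lib.Helper28.AmpleIso
import Groth.Agent.Lib.Helper28.TensorPowGen

/-!
# Every automorphism of `P^n_k` over `k` comes from a matrix (helper19)
-/

set_option autoImplicit false
universe u
open CategoryTheory CategoryTheory.Limits AlgebraicGeometry Opposite TopologicalSpace HomogeneousLocalization
open MvPolynomial
open scoped HomogeneousIdeal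
noncomputable section

namespace Groth.Agent.Lib.helper19.PnAutF

open Groth.Agent.Lib.Helper28 Groth.Agent.Lib.Helper28.QCohLoc Groth.Agent.Lib.Helper28.GenLocus
  Groth.Agent.Lib.Helper28.PullbackInv Groth.Agent.Lib.Helper28.ProjUPGeom
  Groth.Agent.Lib.Helper28.ProjUPUniq Groth.Agent.Lib.Helper17
open Groth.Agent.Lib.helper19.PnAutA Groth.Agent.Lib.helper19.PnAutB Groth.Agent.Lib.helper19.PnAutC
  Groth.Agent.Lib.helper19.PnAutD Groth.Agent.Lib.helper19.PnAutE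

variable (k : Type u) [Field k] (n : ℕ)

local notation "𝒜" => CohB1.polyGrading n k
local notation "AA" => MvPolynomial (Fin (n + 1)) k
local notation "GLn" => Matrix.GeneralLinearGroup (Fin (n + 1)) k
local notation "Mat" => Matrix (Fin (n + 1)) (Fin (n + 1)) k
local notation "O1" => Twist.twist (CohB1.polyGrading n k) ((1 : ℕ) : ℤ)

theorem hO1 : PicF.IsInvertible O1 := TwistCov.isInvertible_twist 𝒜 (PnHomC.hcov n k) _

/-- the pull back of `O(1)` along an endomorphism of `P^n_k` is some `O(d)`, `d ≥ 0`, and the coordinates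
pull back to forms of degree `d` -/
theorem exists_forms (hn : 1 ≤ n) (f : Proj 𝒜 ⟶ Proj 𝒜) :
    ∃ (d : ℕ) (e : (Scheme.Modules.pullback f).obj O1 ≅ Twist.twist 𝒜 (d : ℤ))
      (F : Fin (n + 1) → AA) (hF : ∀ j, F j ∈ 𝒜 d),
      (∀ j, e.hom.app ⊤ (pbs f O1 ⊤ (TwistGen.gsec 𝒜 (X j) (ProjSpaceGamma.hX n k j))) =
        TwistGen.gsec 𝒜 (F j) (hF j)) ∧
      (∀ j, f ⁻¹ᵁ Proj.basicOpen 𝒜 (X j : AA) = Proj.basicOpen 𝒜 (F j)) := by
  classical
  have hL := isInvertible_pullback f (hO1 k n)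
  obtain ⟨d, ⟨e⟩⟩ := PnPic.main (n := n) (R := k) _ hL
  let σ : Fin (n + 1) → (Coh.structureModule (Proj 𝒜) ⟶ (Scheme.Modules.pullback f).obj O1) :=
    fun i => pbSec f (TwistAmple.secHom 𝒜 (ProjSpaceGamma.hX n k i))
  have hσ : ∀ i, CohB1.genLocus _ (σ i) = f ⁻¹ᵁ Proj.basicOpen 𝒜 (X i : AA) := fun i => by
    rw [genLocus_pbSec f (hO1 k n), genLocus_secHom 𝒜 (PnHomC.hcov n k)]
  let τ : Fin (n + 1) → (Coh.structureModule (Proj 𝒜) ⟶ Twist.twist 𝒜 d) := fun i => σ i ≫ e.hom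
  have hτ : ∀ i, CohB1.genLocus _ (τ i) = f ⁻¹ᵁ Proj.basicOpen 𝒜 (X i : AA) := fun i => by
    rw [AmpleUnit.genLocus_comp_iso, hσ]
  have hsec : ∀ i, secOf (τ i) = e.hom.app ⊤ (pbs f O1 ⊤
      (TwistGen.gsec 𝒜 (X i) (ProjSpaceGamma.hX n k i))) := fun i => by
    have h1 : secOf (σ i) = pbs f O1 ⊤ (TwistGen.gsec 𝒜 (X i) (ProjSpaceGamma.hX n k i)) := by
      rw [secOf_pbSec]
      congr 1
      exact secOf_ofSection _
    rw [← h1]
    rfl
  have hcover : ∀ x : Proj 𝒜, ∃ i, x ∈ CohB1.genLocus _ (τ i) := by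
    intro x
    obtain ⟨i, hi⟩ := hcovX k n (f x)
    exact ⟨i, by rw [hτ]; exact hi⟩
  rcases lt_or_ge d 0 with hd | hd
  · exfalso
    obtain ⟨i, hi⟩ := hcover (PnHomA.gen0 n k)
    have h0 : secOf (τ i) = 0 := PnHomA.eq_zero_of_neg n k hn d hd _
    have h1 : τ i = 0 := by
      rw [← ofSection_secOf (τ i), h0, ← secOf_zero, ofSection_secOf]
    rw [h1, genLocus_zero (TwistCov.isInvertible_twist 𝒜 (PnHomC.hcov n k) d)] at hi
    exact hi
  · obtain ⟨d', rfl⟩ := Int.eq_ofNat_of_zero_le hd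
    choose F hF hsF using fun i => PnHomA.exists_form n k hn d' (secOf (τ i))
    refine ⟨d', e, F, hF, fun j => ?_, fun j => ?_⟩
    · rw [← hsec j, hsF j]
    · rw [← hτ j, ← ofSection_secOf (τ j), hsF j, PnHomC.genLocus_gsec]

/-- the degrees of the pull backs of `O(1)` along two mutually inverse endomorphisms multiply to one -/
theorem deg_mul_eq_one (hn : 1 ≤ n) (f g : Proj 𝒜 ⟶ Proj 𝒜) (hgf : g ≫ f = 𝟙 _) (d d' : ℕ)
    (e : (Scheme.Modules.pullback f).obj O1 ≅ Twist.twist 𝒜 (d : ℤ))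
    (e' : (Scheme.Modules.pullback g).obj O1 ≅ Twist.twist 𝒜 (d' : ℤ)) : d' * d = 1 := by
  obtain ⟨td⟩ := TwistCov.nonempty_twist_iso_tensorPow 𝒜 (PnHomC.hcov n k) d
  obtain ⟨td'⟩ := TwistCov.nonempty_twist_iso_tensorPow 𝒜 (PnHomC.hcov n k) d'
  obtain ⟨tdd⟩ := TwistCov.nonempty_twist_iso_tensorPow 𝒜 (PnHomC.hcov n k) (d' * d)
  have hO : PicF.IsInvertible (Twist.twist 𝒜 1) := hO1 k n
  obtain ⟨i6, -⟩ := exists_pullback_tensorPow_iso g hO d
  obtain ⟨i9, -⟩ := exists_tensorPow_tensorPow_iso hO d' d (d' * d) rfl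
  let i1 : Twist.twist 𝒜 ((1 : ℕ) : ℤ) ≅ (Scheme.Modules.pullback (𝟙 (Proj 𝒜))).obj (Twist.twist 𝒜 1) :=
    ((Scheme.Modules.pullbackId (Proj 𝒜)).app (Twist.twist 𝒜 1)).symm
  let i2 : (Scheme.Modules.pullback (𝟙 (Proj 𝒜))).obj (Twist.twist 𝒜 1) ≅
      (Scheme.Modules.pullback (g ≫ f)).obj (Twist.twist 𝒜 1) :=
    (Scheme.Modules.pullbackCongr hgf.symm).app (Twist.twist 𝒜 1)
  let i3 : (Scheme.Modules.pullback (g ≫ f)).obj (Twist.twist 𝒜 1) ≅
      (Scheme.Modules.pullback g).obj ((Scheme.Modules.pullback f).obj (Twist.twist 𝒜 1)) :=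
    ((Scheme.Modules.pullbackComp g f).app (Twist.twist 𝒜 1)).symm
  let i4 : (Scheme.Modules.pullback g).obj ((Scheme.Modules.pullback f).obj (Twist.twist 𝒜 1)) ≅
      (Scheme.Modules.pullback g).obj (Twist.twist 𝒜 (d : ℤ)) := (Scheme.Modules.pullback g).mapIso e
  let i5 : (Scheme.Modules.pullback g).obj (Twist.twist 𝒜 (d : ℤ)) ≅
      (Scheme.Modules.pullback g).obj (CohB1.tensorPow (Twist.twist 𝒜 1) d) :=
    (Scheme.Modules.pullback g).mapIso td
  let i7 : CohB1.tensorPow ((Scheme.Modules.pullback g).obj (Twist.twist 𝒜 1)) d ≅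
      CohB1.tensorPow (Twist.twist 𝒜 (d' : ℤ)) d := AmpleIso.tensorPowIso e' d
  let i8 : CohB1.tensorPow (Twist.twist 𝒜 (d' : ℤ)) d ≅
      CohB1.tensorPow (CohB1.tensorPow (Twist.twist 𝒜 1) d') d := AmpleIso.tensorPowIso td' d
  let ψ : Twist.twist 𝒜 ((1 : ℕ) : ℤ) ≅ Twist.twist 𝒜 ((d' * d : ℕ) : ℤ) :=
    i1 ≪≫ i2 ≪≫ i3 ≪≫ i4 ≪≫ i5 ≪≫ i6 ≪≫ i7 ≪≫ i8 ≪≫ i9 ≪≫ tdd.symm
  have h := PnPicUniq.twist_injective (n := n) (R := k) hn _ _ ψ
  exact_mod_cast h.symm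

/-- the matrix of coefficients of a family of linear forms -/
def matOf (F : Fin (n + 1) → AA) : Mat := fun j i => coeff (Finsupp.single i 1) (F j)

theorem lin_matOf (F : Fin (n + 1) → AA) (hF : ∀ j, F j ∈ 𝒜 1) (j : Fin (n + 1)) :
    lin k n (matOf k n F) j = F j := by
  ext m
  by_cases hm : m.degree = 1
  · have h1 : m ∈ {d : Fin (n + 1) →₀ ℕ | d.degree = 1} := hm
    rw [← Finsupp.range_single_one] at h1
    obtain ⟨l, rfl⟩ := h1
    exact coeff_lin k n _ j l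
  · rw [(lin_isHomogeneous k n _ j).coeff_eq_zero hm,
      ((mem_homogeneousSubmodule 1 _).1 (hF j)).coeff_eq_zero hm]

theorem sum_lin_eq_zero (M : Mat) (v : Fin (n + 1) → k) (hv : Matrix.vecMul v M = 0) :
    ∑ j, C (v j) * lin k n M j = 0 := by
  unfold lin
  simp only [Finset.mul_sum]
  rw [Finset.sum_comm]
  refine Finset.sum_eq_zero fun i _ => ?_
  have h1 : ∑ j, C (v j) * (C (M j i) * X i) = C (∑ j, v j * M j i) * (X i : AA) := by
    rw [map_sum, Finset.sum_mul]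
    refine Finset.sum_congr rfl fun j _ => ?_
    rw [C_mul]; ring
  rw [h1]
  have h2 : ∑ j, v j * M j i = 0 := by
    have := congrFun hv i
    simpa [Matrix.vecMul, dotProduct] using this
  rw [h2, map_zero, zero_mul]

/-- the matrix of an automorphism is invertible -/
theorem det_ne_zero_of_preimage (hn : 1 ≤ n) (M : Mat) (f g : Proj 𝒜 ⟶ Proj 𝒜) (hgf : g ≫ f = 𝟙 _)
    (hpre : ∀ j, f ⁻¹ᵁ Proj.basicOpen 𝒜 (X j : AA) = Proj.basicOpen 𝒜 (lin k n M j)) :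
    M.det ≠ 0 := by
  classical
  intro hdet
  obtain ⟨v, hv0, hv⟩ := Matrix.exists_vecMul_eq_zero_iff.2 hdet
  obtain ⟨j₀, hj₀⟩ := Function.ne_iff.1 hv0
  have hj₀' : v j₀ ≠ 0 := hj₀
  obtain ⟨m, rfl⟩ : ∃ m, n = m + 1 := ⟨n - 1, by omega⟩
  obtain ⟨z, hz⟩ := PnHomB.exists_common_zero (m + 1) k m (Nat.lt_succ_self m) 1 one_pos
    (fun i => (X (j₀.succAbove i) : MvPolynomial (Fin (m + 1 + 1)) k))
    (fun i => ProjSpaceGamma.hX (m + 1) k _)
  have hfz : f (g z) = z := by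
    have h1 : (g ≫ f) z = z := by rw [hgf]; rfl
    exact h1
  have hmem : ∀ j, z ∉ Proj.basicOpen (CohB1.polyGrading (m + 1) k) (X j : MvPolynomial (Fin (m + 1 + 1)) k) →
      lin k (m + 1) M j ∈ (g z).asHomogeneousIdeal := by
    intro j hj
    by_contra hcon
    apply hj
    have h1 : g z ∈ Proj.basicOpen (CohB1.polyGrading (m + 1) k) (lin k (m + 1) M j) := by
      rw [Proj.mem_basicOpen]; exact hcon
    rw [← hpre j] at h1
    have h2 : f (g z) ∈ Proj.basicOpen (CohB1.polyGrading (m + 1) k)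
        (X j : MvPolynomial (Fin (m + 1 + 1)) k) := h1
    rwa [hfz] at h2
  have hne : ∀ j, j ≠ j₀ → lin k (m + 1) M j ∈ (g z).asHomogeneousIdeal := by
    intro j hj
    obtain ⟨i, rfl⟩ := Fin.exists_succAbove_eq hj
    exact hmem _ (hz i)
  have hsum := sum_lin_eq_zero k (m + 1) M v hv
  rw [← Finset.add_sum_erase Finset.univ _ (Finset.mem_univ j₀)] at hsum
  have hrest : ∑ j ∈ Finset.univ.erase j₀, C (v j) * lin k (m + 1) M j ∈
      (g z).asHomogeneousIdeal.toIdeal := by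
    refine Ideal.sum_mem _ fun j hj => Ideal.mul_mem_left _ _ (hne j (Finset.ne_of_mem_erase hj))
  have h0 : C (v j₀) * lin k (m + 1) M j₀ ∈ (g z).asHomogeneousIdeal.toIdeal := by
    have e : C (v j₀) * lin k (m + 1) M j₀ =
        -(∑ j ∈ Finset.univ.erase j₀, C (v j) * lin k (m + 1) M j) := eq_neg_of_add_eq_zero_left hsum
    rw [e]
    exact neg_mem hrest
  have h1 : lin k (m + 1) M j₀ ∈ (g z).asHomogeneousIdeal.toIdeal := by
    have e : lin k (m + 1) M j₀ = C (v j₀)⁻¹ * (C (v j₀) * lin k (m + 1) M j₀) := by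
      rw [← mul_assoc, ← C_mul, inv_mul_cancel₀ hj₀', map_one, one_mul]
    rw [e]
    exact Ideal.mul_mem_left _ _ h0
  have hz0 : z ∉ Proj.basicOpen (CohB1.polyGrading (m + 1) k)
      (X j₀ : MvPolynomial (Fin (m + 1 + 1)) k) := by
    intro h2
    have h3 : f (g z) ∈ Proj.basicOpen (CohB1.polyGrading (m + 1) k)
        (X j₀ : MvPolynomial (Fin (m + 1 + 1)) k) := by rwa [hfz]
    have h4 : g z ∈ f ⁻¹ᵁ Proj.basicOpen (CohB1.polyGrading (m + 1) k)
        (X j₀ : MvPolynomial (Fin (m + 1 + 1)) k) := h3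
    rw [hpre j₀, Proj.mem_basicOpen] at h4
    exact h4 h1
  obtain ⟨j, hj⟩ := hcovX k (m + 1) z
  by_cases hjj : j = j₀
  · exact hz0 (hjj ▸ hj)
  · obtain ⟨i, rfl⟩ := Fin.exists_succAbove_eq hjj
    exact hz i hj

end Groth.Agent.Lib.helper19.PnAutF
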