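import Groth.Agent.Lib.helper19.PnAutF

/-!
# `Aut(P^n_k / k) = PGL_{n+1}(k)` (helper19)
-/

set_option autoImplicit false
universe u
open CategoryTheory CategoryTheory.Limits AlgebraicGeometry Opposite TopologicalSpace HomogeneousLocalization
open MvPolynomial
open scoped HomogeneousIdeal
noncomputable section

namespace Groth.Agent.Lib.helper19.PnAutG

open Groth.Agent.Lib.Helper28 Groth.Agent.Lib.Helper28.QCohLoc Groth.Agent.Lib.Helper28.GenLocus
  Groth.Agent.Lib.Helper28.PullbackInv Groth.Agent.Lib.Helper28.ProjUPGeom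
  Groth.Agent.Lib.Helper28.ProjUPUniq Groth.Agent.Lib.Helper17
open Groth.Agent.Lib.helper19.PnAutA Groth.Agent.Lib.helper19.PnAutB Groth.Agent.Lib.helper19.PnAutC
  Groth.Agent.Lib.helper19.PnAutD Groth.Agent.Lib.helper19.PnAutE Groth.Agent.Lib.helper19.PnAutF

variable (k : Type u) [Field k] (n : ℕ)

local notation "𝒜" => CohB1.polyGrading n k
local notation "AA" => MvPolynomial (Fin (n + 1)) k
local notation "GLn" => Matrix.GeneralLinearGroup (Fin (n + 1)) k
local notation "Mat" => Matrix (Fin (n + 1)) (Fin (n + 1)) k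
local notation "O1" => Twist.twist (CohB1.polyGrading n k) ((1 : ℕ) : ℤ)

/-- **every automorphism of `P^n_k` over `k`, `n ≥ 1`, comes from an invertible matrix** -/
theorem surjective_pos (hn : 1 ≤ n) : Function.Surjective (φhom k n) := by
  intro r
  let f : Proj 𝒜 ⟶ Proj 𝒜 := r.hom.left
  let g : Proj 𝒜 ⟶ Proj 𝒜 := r.inv.left
  have hgf : g ≫ f = 𝟙 _ := by
    have h := congrArg CommaMorphism.left r.inv_hom_id
    exact h
  have hf : f ≫ (show Proj 𝒜 ⟶ Spec (CommRingCat.of k) from CohB1.ProjSpace.toSpec n k) =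
      CohB1.ProjSpace.toSpec n k := Over.w r.hom
  obtain ⟨d, e, F, hF, hsec, hpre⟩ := exists_forms k n hn f
  obtain ⟨d', e', -⟩ := exists_forms k n hn g
  have hdd := deg_mul_eq_one k n hn f g hgf d d' e e'
  have hd : d = 1 := Nat.eq_one_of_mul_eq_one_left hdd
  subst hd
  have hlin := lin_matOf k n F hF
  have hdet := det_ne_zero_of_preimage k n hn (matOf k n F) f g hgf
    (fun j => by rw [hlin j]; exact hpre j)
  refine ⟨Matrix.GeneralLinearGroup.mkOfDetNeZero (matOf k n F) hdet, ?_⟩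
  apply Iso.ext
  apply Over.OverMorphism.ext
  show pm k n (Matrix.GeneralLinearGroup.mkOfDetNeZero (matOf k n F) hdet) = f
  obtain ⟨ψ, hψ⟩ := exists_iso_pm k n (Matrix.GeneralLinearGroup.mkOfDetNeZero (matOf k n F) hdet)
  refine eq_of_iso 𝒜 (fun j : Fin (n + 1) => (X j : AA)) (ProjSpaceGamma.hX n k)
    MvPolynomial.adjoin_range_X _ f ?_ (ψ ≪≫ e.symm) ?_
  · exact (pm_toSpec k n _).trans hf.symm
  · intro j
    show e.inv.app ⊤ (ψ.hom.app ⊤ _) = _
    rw [hψ j]
    have h1 := iso_inv_app_hom_app e ⊤ (pbs f O1 ⊤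
      (TwistGen.gsec 𝒜 (X j) (ProjSpaceGamma.hX n k j)))
    rw [hsec j] at h1
    rw [← h1]
    congr 1
    exact gsec_congr k n (hlin j) _ _

/-- `P^0_k = Spec k` -/
theorem isIso_toSpec_zero : IsIso (CohB1.ProjSpace.toSpec 0 k) := by
  have htop : ProjSpaceGamma.U 0 k 0 = ⊤ := by
    rw [← ProjSpaceGamma.iSup_U 0 k]
    apply le_antisymm
    · exact le_iSup (fun i => ProjSpaceGamma.U 0 k i) 0
    · refine iSup_le fun i => ?_
      have hi : i = 0 := by
        apply Fin.ext
        have := i.isLt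
        simp only [Fin.val_zero]
        omega
      rw [hi]
  have haff : IsAffineOpen (⊤ : (Proj (CohB1.polyGrading 0 k)).Opens) := by
    rw [← htop]
    exact Proj.isAffineOpen_basicOpen _ _ (ProjSpaceGamma.hX 0 k 0) one_pos
  have haff' : IsAffine (Proj (CohB1.polyGrading 0 k)) := by
    haveI : IsAffine ((⊤ : (Proj (CohB1.polyGrading 0 k)).Opens) : Scheme.{u}) := haff
    exact .of_isIso (Scheme.topIso (Proj (CohB1.polyGrading 0 k))).inv
  exact (HasAffineProperty.iff_of_isAffine (P := MorphismProperty.isomorphisms Scheme.{u})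
    (f := CohB1.ProjSpace.toSpec 0 k)).2 ⟨haff', ProjSpaceGamma.isIso_toSpec_appTop 0 k⟩

theorem surjective_zero : Function.Surjective (φhom k 0) := by
  intro r
  refine ⟨1, ?_⟩
  rw [map_one]
  apply Iso.ext
  apply Over.OverMorphism.ext
  haveI := isIso_toSpec_zero k
  have h : r.hom.left ≫ CohB1.ProjSpace.toSpec 0 k = CohB1.ProjSpace.toSpec 0 k := Over.w r.hom
  show 𝟙 _ = r.hom.left
  rw [← cancel_mono (CohB1.ProjSpace.toSpec 0 k), h, Category.id_comp]

/-- **the automorphism group of `P^n_k` over `k` is `PGL_{n+1}(k)`** -/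
theorem main :
    ∃ φ : Matrix.GeneralLinearGroup (Fin (n + 1)) k →* Aut (Over.mk (CohB1.ProjSpace.toSpec n k)),
      Function.Surjective φ ∧
        φ.ker = (Units.map (Matrix.scalar (Fin (n + 1)) :
          k →+* Matrix (Fin (n + 1)) (Fin (n + 1)) k).toMonoidHom).range := by
  refine ⟨φhom k n, ?_, ker_φhom k n⟩
  rcases Nat.eq_zero_or_pos n with h0 | hpos
  · subst h0
    exact surjective_zero k
  · exact surjective_pos k n hpos

end Groth.Agent.Lib.helper19.PnAutG
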