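import Groth.Agent.Lib.Helper28.ConeAlg
import Groth.Agent.Lib.Helper17.ProjSpaceGamma

/-!
# The standard charts of projective space are affine spaces (helper19)
-/

set_option autoImplicit false
universe u
open MvPolynomial HomogeneousLocalization AlgebraicGeometry

noncomputable section

namespace Groth.Agent.Lib.helper19.PnChart

open Groth.Agent.Lib.Helper17

variable (n : ℕ) (R : Type u) [CommRing R] (i : Fin (n + 1))

local notation "𝒜" => CohB1.polyGrading n R
local notation "AA" => MvPolynomial (Fin (n + 1)) R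
local notation "PP" => MvPolynomial {j : Fin (n + 1) // j ≠ i} R
local notation "QQ" => (MvPolynomial (Fin (n + 1)) R ⧸ Ideal.span {(X i - 1 : MvPolynomial (Fin (n + 1)) R)})

/-- `T_j ↦ class of X_j` -/
def ρ : PP →+* QQ :=
  eval₂Hom ((Ideal.Quotient.mk _).comp (C : R →+* AA))
    (fun j : {j : Fin (n + 1) // j ≠ i} => Ideal.Quotient.mk _ (X j.1 : AA))

/-- `X_j ↦ T_j`, `X_i ↦ 1` -/
def σ₀ : AA →+* PP :=
  eval₂Hom (C : R →+* PP) (fun j : Fin (n + 1) => if h : j = i then (1 : PP) else X ⟨j, h⟩)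

theorem σ₀_X_self : σ₀ n R i (X i) = 1 := by
  unfold σ₀
  rw [eval₂Hom_X', dif_pos rfl]

theorem σ₀_X_ne (j : {j : Fin (n + 1) // j ≠ i}) : σ₀ n R i (X j.1) = X j := by
  unfold σ₀
  rw [eval₂Hom_X', dif_neg j.2]

def σ : QQ →+* PP :=
  Ideal.Quotient.lift _ (σ₀ n R i) (by
    intro a ha
    rw [Ideal.mem_span_singleton] at ha
    obtain ⟨c, rfl⟩ := ha
    rw [map_mul, map_sub, σ₀_X_self, map_one, sub_self, zero_mul])

theorem σ_ρ : (σ n R i).comp (ρ n R i) = RingHom.id _ := by
  apply MvPolynomial.ringHom_ext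
  · intro r
    show σ n R i (ρ n R i (C r)) = C r
    unfold ρ
    rw [eval₂Hom_C]
    show σ n R i (Ideal.Quotient.mk _ (C r)) = C r
    unfold σ
    rw [Ideal.Quotient.lift_mk]
    unfold σ₀
    rw [eval₂Hom_C]
  · intro j
    show σ n R i (ρ n R i (X j)) = X j
    unfold ρ
    rw [eval₂Hom_X']
    unfold σ
    rw [Ideal.Quotient.lift_mk, σ₀_X_ne]

theorem ρ_σ : (ρ n R i).comp (σ n R i) = RingHom.id _ := by
  apply Ideal.Quotient.ringHom_ext
  apply MvPolynomial.ringHom_ext
  · intro r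
    show ρ n R i (σ n R i (Ideal.Quotient.mk _ (C r))) = Ideal.Quotient.mk _ (C r)
    unfold σ
    rw [Ideal.Quotient.lift_mk]
    unfold σ₀
    rw [eval₂Hom_C]
    unfold ρ
    rw [eval₂Hom_C]
    rfl
  · intro j
    show ρ n R i (σ n R i (Ideal.Quotient.mk _ (X j))) = Ideal.Quotient.mk _ (X j)
    unfold σ
    rw [Ideal.Quotient.lift_mk]
    by_cases h : j = i
    · subst h
      rw [σ₀_X_self, map_one]
      symm
      rw [← sub_eq_zero, ← map_one (Ideal.Quotient.mk (Ideal.span {(X j - 1 : AA)})), ← map_sub,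
        Ideal.Quotient.eq_zero_iff_mem]
      exact Ideal.subset_span rfl
    · have := σ₀_X_ne n R i ⟨j, h⟩
      simp only at this
      rw [this]
      unfold ρ
      rw [eval₂Hom_X']

theorem ρ_bijective : Function.Bijective (ρ n R i) := by
  constructor
  · intro a b hab
    have h1 := congrArg (σ n R i) hab
    have h2 : ∀ x, σ n R i (ρ n R i x) = x := fun x => RingHom.congr_fun (σ_ρ n R i) x
    rwa [h2, h2] at h1
  · intro q
    exact ⟨σ n R i q, RingHom.congr_fun (ρ_σ n R i) q⟩

/-- the chart map -/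
def Φ : PP →+* Away 𝒜 (X i : AA) :=
  MvPolynomial.eval₂Hom
    ((HomogeneousLocalization.fromZeroRingHom 𝒜 (Submonoid.powers (X i : AA))).comp
      (algebraMap R (𝒜 0)))
    (fun j : {j : Fin (n + 1) // j ≠ i} =>
      (HomogeneousLocalization.mk ⟨1, ⟨X j.1, isHomogeneous_X R j.1⟩,
        ⟨X i, isHomogeneous_X R i⟩, ⟨1, pow_one _⟩⟩ : Away 𝒜 (X i : AA)))

theorem Φ_bijective : Function.Bijective (Φ n R i) := by
  obtain ⟨e, he⟩ := Groth.Agent.Lib.Helper28.ConeAlg.exists_dehom 𝒜 (ProjSpaceGamma.hX n R i)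
  have hΦ : Φ n R i = (e.symm : QQ →+* Away 𝒜 (X i : AA)).comp (ρ n R i) := by
    apply MvPolynomial.ringHom_ext
    · intro r
      apply HomogeneousLocalization.val_injective
      show (Φ n R i (C r)).val = (e.symm (ρ n R i (C r))).val
      have h1 : ρ n R i (C r) = Ideal.Quotient.mk _ (C r : AA) := by
        unfold ρ; rw [eval₂Hom_C]; rfl
      rw [h1, he 0 (C r) ((mem_homogeneousSubmodule 0 _).2 (isHomogeneous_C _ r))]
      unfold Φ
      rw [eval₂Hom_C]
      show Localization.mk _ _ = _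
      congr 1
    · intro j
      apply HomogeneousLocalization.val_injective
      show (Φ n R i (X j)).val = (e.symm (ρ n R i (X j))).val
      have h1 : ρ n R i (X j) = Ideal.Quotient.mk _ (X j.1 : AA) := by
        unfold ρ; rw [eval₂Hom_X']
      rw [h1, he 1 (X j.1) (ProjSpaceGamma.hX n R j.1)]
      unfold Φ
      rw [eval₂Hom_X']
      show Localization.mk _ _ = _
      congr 1
      exact Subtype.ext (pow_one _).symm
  rw [hΦ]
  exact e.symm.bijective.comp (ρ_bijective n R i)

end Groth.Agent.Lib.helper19.PnChart
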