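import Mathlib

set_option autoImplicit false
universe u

open CategoryTheory AlgebraicGeometry TopologicalSpace

namespace Groth.Agent.Lib.helper19.ProjAvoidA

variable {A σ : Type u} [CommRing A] [SetLike σ A] [AddSubgroupClass σ A] (𝒜 : ℕ → σ) [GradedRing 𝒜]

/-- a homogeneous ideal not contained in `q` has a homogeneous element outside `q` -/
theorem exists_homogeneous_notMem_of_not_le (p q : Ideal A) (hp : p.IsHomogeneous 𝒜) (h : ¬ p ≤ q) :
    ∃ j, ∃ x ∈ 𝒜 j, x ∈ p ∧ x ∉ q := by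
  classical
  rw [SetLike.not_le_iff_exists] at h
  obtain ⟨y, hyp, hyq⟩ := h
  by_contra hcon
  push Not at hcon
  apply hyq
  rw [← DirectSum.sum_support_decompose 𝒜 y]
  exact Ideal.sum_mem _ fun j _ => hcon j _ (SetLike.coe_mem _) (hp j hyp)

/-- **Graded prime avoidance** -/
theorem exists_homogeneous_forall_notMem (J : Ideal A) (P : Finset (Ideal A))
    (hprime : ∀ p ∈ P, p.IsPrime) (hhom : ∀ p ∈ P, p.IsHomogeneous 𝒜)
    (hJ : ∀ p ∈ P, ∃ i, 0 < i ∧ ∃ f ∈ 𝒜 i, f ∈ J ∧ f ∉ p) :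
    ∃ i, 0 < i ∧ ∃ f ∈ 𝒜 i, f ∈ J ∧ ∀ p ∈ P, f ∉ p := by
  classical
  induction P using Finset.strongInduction with
  | H P ih =>
    rcases P.eq_empty_or_nonempty with rfl | ⟨q, hq⟩
    · exact ⟨1, one_pos, 0, zero_mem _, zero_mem _, by simp⟩
    haveI hqprime : q.IsPrime := hprime q hq
    obtain ⟨i, hi, g, hgi, hgJ, hg⟩ := ih (P.erase q) (Finset.erase_ssubset hq)
      (fun p hp => hprime p (Finset.mem_of_mem_erase hp))
      (fun p hp => hhom p (Finset.mem_of_mem_erase hp))
      (fun p hp => hJ p (Finset.mem_of_mem_erase hp))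
    by_cases hgq : g ∈ q
    swap
    · refine ⟨i, hi, g, hgi, hgJ, fun p hp => ?_⟩
      by_cases h : p = q
      · subst h; exact hgq
      · exact hg p (Finset.mem_erase.2 ⟨h, hp⟩)
    by_cases hex : ∃ p ∈ P.erase q, p ≤ q
    · obtain ⟨p, hp, hpq⟩ := hex
      have hpP : p ∈ P := Finset.mem_of_mem_erase hp
      have hpq' : p ≠ q := (Finset.mem_erase.1 hp).1
      obtain ⟨i', hi', g', hg'i, hg'J, hg'⟩ := ih (P.erase p) (Finset.erase_ssubset hpP)
        (fun p hp => hprime p (Finset.mem_of_mem_erase hp))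
        (fun p hp => hhom p (Finset.mem_of_mem_erase hp))
        (fun p hp => hJ p (Finset.mem_of_mem_erase hp))
      refine ⟨i', hi', g', hg'i, hg'J, fun p' hp' => ?_⟩
      by_cases h : p' = p
      · subst h
        intro hmem
        exact hg' q (Finset.mem_erase.2 ⟨fun h => hpq' h.symm, hq⟩) (hpq hmem)
      · exact hg' p' (Finset.mem_erase.2 ⟨h, hp'⟩)
    push Not at hex
    -- a homogeneous element outside `q` lying in all other primes
    have hx : ∀ S : Finset (Ideal A), S ⊆ P.erase q →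
        ∃ j, ∃ x ∈ 𝒜 j, x ∉ q ∧ ∀ p ∈ S, x ∈ p := by
      intro S
      induction S using Finset.induction_on with
      | empty =>
        intro _
        exact ⟨0, 1, SetLike.GradedOne.one_mem, fun h => hqprime.ne_top ((Ideal.eq_top_iff_one _).2 h),
          by simp⟩
      | insert p S hpS ihS =>
        intro hsub
        obtain ⟨j, x, hxj, hxq, hxS⟩ := ihS ((Finset.subset_insert _ _).trans hsub)
        have hpmem : p ∈ P.erase q := hsub (Finset.mem_insert_self _ _)
        obtain ⟨j', x', hx'j, hx'p, hx'q⟩ := exists_homogeneous_notMem_of_not_le 𝒜 p q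
          (hhom p (Finset.mem_of_mem_erase hpmem)) (hex p hpmem)
        refine ⟨j + j', x * x', SetLike.mul_mem_graded hxj hx'j, fun h => ?_, fun p' hp' => ?_⟩
        · rcases hqprime.mem_or_mem h with h1 | h1
          · exact hxq h1
          · exact hx'q h1
        · rcases Finset.mem_insert.1 hp' with rfl | h1
          · exact Ideal.mul_mem_left _ _ hx'p
          · exact Ideal.mul_mem_right _ _ (hxS p' h1)
    obtain ⟨j, x, hxj, hxq, hxS⟩ := hx (P.erase q) subset_rfl
    obtain ⟨i₀, hi₀, f₀, hf₀i, hf₀J, hf₀q⟩ := hJ q hq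
    -- `h = f₀ * x`
    have hh_deg : f₀ * x ∈ 𝒜 (i₀ + j) := SetLike.mul_mem_graded hf₀i hxj
    have hhJ : f₀ * x ∈ J := Ideal.mul_mem_right _ _ hf₀J
    have hhq : f₀ * x ∉ q := fun h => by
      rcases hqprime.mem_or_mem h with h1 | h1
      · exact hf₀q h1
      · exact hxq h1
    have hhS : ∀ p ∈ P.erase q, f₀ * x ∈ p := fun p hp => Ideal.mul_mem_left _ _ (hxS p hp)
    have hpos : 0 < i₀ + j := by omega
    refine ⟨i * (i₀ + j), Nat.mul_pos hi hpos, g ^ (i₀ + j) + (f₀ * x) ^ i, ?_, ?_, fun p hp => ?_⟩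
    · refine add_mem ?_ ?_
      · have := SetLike.pow_mem_graded (i₀ + j) hgi
        rwa [smul_eq_mul, mul_comm] at this
      · have := SetLike.pow_mem_graded i hh_deg
        rwa [smul_eq_mul] at this
    · exact J.add_mem (Ideal.pow_mem_of_mem _ hgJ _ hpos) (Ideal.pow_mem_of_mem _ hhJ _ hi)
    · by_cases h : p = q
      · subst h
        intro hmem
        have h1 : g ^ (i₀ + j) ∈ p := Ideal.pow_mem_of_mem _ hgq _ hpos
        have h2 : (f₀ * x) ^ i ∈ p := (Ideal.add_mem_iff_right _ h1).1 hmem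
        exact hhq (hqprime.mem_of_pow_mem _ h2)
      · have hpmem : p ∈ P.erase q := Finset.mem_erase.2 ⟨h, hp⟩
        haveI : p.IsPrime := hprime p hp
        intro hmem
        have h1 : (f₀ * x) ^ i ∈ p := Ideal.pow_mem_of_mem _ (hhS p hpmem) _ hi
        have h2 : g ^ (i₀ + j) ∈ p := (Ideal.add_mem_iff_left _ h1).1 hmem
        exact hg p hpmem (Ideal.IsPrime.mem_of_pow_mem ‹_› _ h2)

end Groth.Agent.Lib.helper19.ProjAvoidA
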