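import Groth.Agent.Lib.helper19.ProjAvoidA

set_option autoImplicit false
universe u

open CategoryTheory AlgebraicGeometry TopologicalSpace

namespace Groth.Agent.Lib.helper19.ProjAvoidB

variable {A σ : Type u} [CommRing A] [SetLike σ A] [AddSubgroupClass σ A] (𝒜 : ℕ → σ) [GradedRing 𝒜]

/-- homogeneous basic opens of positive degree form a basis -/
theorem exists_pos_basicOpen (V : Set (ProjectiveSpectrum 𝒜)) (hV : IsOpen V)
    (x : ProjectiveSpectrum 𝒜) (hx : x ∈ V) :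
    ∃ (e : ℕ) (g : A), 0 < e ∧ g ∈ 𝒜 e ∧ g ∉ x.asHomogeneousIdeal ∧
      ∀ y : ProjectiveSpectrum 𝒜, g ∉ y.asHomogeneousIdeal → y ∈ V := by
  classical
  obtain ⟨T, hT⟩ := (ProjectiveSpectrum.isOpen_iff 𝒜 V).1 hV
  have hx' : x ∉ ProjectiveSpectrum.zeroLocus 𝒜 T := by
    rw [← hT]
    exact fun h => h hx
  rw [ProjectiveSpectrum.mem_zeroLocus, Set.not_subset] at hx'
  obtain ⟨t, htT, htx⟩ := hx'
  have hex : ∃ k, (DirectSum.decompose 𝒜 t k : A) ∉ x.asHomogeneousIdeal := by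
    by_contra hcon
    push Not at hcon
    apply htx
    change t ∈ x.asHomogeneousIdeal.toIdeal
    rw [← DirectSum.sum_support_decompose 𝒜 t]
    exact Ideal.sum_mem _ fun k _ => hcon k
  obtain ⟨k, hk⟩ := hex
  have hx'' := x.not_irrelevant_le
  rw [SetLike.not_le_iff_exists] at hx''
  obtain ⟨r, hr, hrx⟩ := hx''
  have hex : ∃ j, 0 < j ∧ (DirectSum.decompose 𝒜 r j : A) ∉ x.asHomogeneousIdeal := by
    by_contra hcon
    push Not at hcon
    apply hrx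
    change r ∈ x.asHomogeneousIdeal.toIdeal
    rw [← DirectSum.sum_support_decompose 𝒜 r]
    refine Ideal.sum_mem _ fun j _ => ?_
    by_cases hj : j = 0
    · subst hj
      have : (DirectSum.decompose 𝒜 r 0 : A) = 0 := by
        have := (HomogeneousIdeal.mem_irrelevant_iff 𝒜 r).1 hr
        rwa [GradedRing.proj_apply] at this
      rw [this]
      exact zero_mem _
    · exact hcon j (Nat.pos_of_ne_zero hj)
  obtain ⟨j, hj, hjx⟩ := hex
  refine ⟨k + j, (DirectSum.decompose 𝒜 t k : A) * (DirectSum.decompose 𝒜 r j : A), by omega,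
    SetLike.mul_mem_graded (SetLike.coe_mem _) (SetLike.coe_mem _), ?_, fun y hy => ?_⟩
  · intro h
    rcases x.isPrime.mem_or_mem h with h1 | h1
    · exact hk h1
    · exact hjx h1
  · by_contra hyV
    have hy' : y ∈ ProjectiveSpectrum.zeroLocus 𝒜 T := by
      rw [← hT]
      exact hyV
    rw [ProjectiveSpectrum.mem_zeroLocus] at hy'
    exact hy (Ideal.mul_mem_right _ _ (y.asHomogeneousIdeal.2 k (hy' htT)))

/-- finitely many points of an open subset of `Proj` lie in a `D₊(f)` inside it -/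
theorem exists_basicOpen_le (W : (Proj 𝒜).Opens) (E : Set (Proj 𝒜)) (hE : E.Finite) (hEW : E ⊆ W) :
    ∃ (m : ℕ) (f : A), 0 < m ∧ f ∈ 𝒜 m ∧ E ⊆ Proj.basicOpen 𝒜 f ∧ Proj.basicOpen 𝒜 f ≤ W := by
  classical
  let J : Ideal A :=
    (ProjectiveSpectrum.vanishingIdeal (𝒜 := 𝒜) ((W : Set (Proj 𝒜))ᶜ)).toIdeal
  let P : Finset (Ideal A) :=
    hE.toFinset.image (fun x : Proj 𝒜 => (show ProjectiveSpectrum 𝒜 from x).asHomogeneousIdeal.toIdeal)
  have hP : ∀ p ∈ P, ∃ x : ProjectiveSpectrum 𝒜, x ∈ E ∧ x.asHomogeneousIdeal.toIdeal = p := by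
    intro p hp
    obtain ⟨x, hx, rfl⟩ := Finset.mem_image.1 hp
    exact ⟨x, hE.mem_toFinset.1 hx, rfl⟩
  obtain ⟨m, hm, f, hfm, hfJ, hf⟩ := ProjAvoidA.exists_homogeneous_forall_notMem 𝒜 J P
    (fun p hp => by
      obtain ⟨x, -, rfl⟩ := hP p hp
      exact x.isPrime)
    (fun p hp => by
      obtain ⟨x, -, rfl⟩ := hP p hp
      exact x.asHomogeneousIdeal.isHomogeneous)
    (fun p hp => by
      obtain ⟨x, hxE, rfl⟩ := hP p hp
      obtain ⟨e, g, he, hge, hgx, hgW⟩ := exists_pos_basicOpen 𝒜 (W : Set (Proj 𝒜)) W.2 x (hEW hxE)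
      refine ⟨e, he, g, hge, ?_, hgx⟩
      show g ∈ ProjectiveSpectrum.vanishingIdeal (𝒜 := 𝒜) ((W : Set (Proj 𝒜))ᶜ)
      rw [ProjectiveSpectrum.mem_vanishingIdeal]
      intro y hy
      by_contra hgy
      exact hy (hgW y hgy))
  refine ⟨m, f, hm, hfm, fun x hxE => ?_, fun y hy => ?_⟩
  · show f ∉ (show ProjectiveSpectrum 𝒜 from x).asHomogeneousIdeal
    exact hf _ (Finset.mem_image.2 ⟨x, hE.mem_toFinset.2 hxE, rfl⟩)
  · by_contra hyW
    have h1 : f ∈ ProjectiveSpectrum.vanishingIdeal (𝒜 := 𝒜) ((W : Set (Proj 𝒜))ᶜ) := hfJ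
    rw [ProjectiveSpectrum.mem_vanishingIdeal] at h1
    exact hy (h1 y hyW)

/-- **Main**: a finite set of points of a scheme immersed in `Proj` lies in an affine open. -/
theorem main {X : Scheme.{u}} (ι : X ⟶ Proj 𝒜) [IsImmersion ι] (E : Set X) (hE : E.Finite) :
    ∃ U : X.Opens, IsAffineOpen U ∧ E ⊆ U := by
  let W : (Proj 𝒜).Opens := ι.coborderRange
  have hEW : ι '' E ⊆ W := by
    rintro _ ⟨e, -, rfl⟩
    exact subset_coborder ⟨e, rfl⟩
  obtain ⟨m, f, hm, hfm, hEf, hfW⟩ := exists_basicOpen_le 𝒜 W (ι '' E) (hE.image _) hEW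
  have hD : IsAffineOpen (Proj.basicOpen 𝒜 f) := Proj.isAffineOpen_basicOpen 𝒜 f hfm hm
  have hD' : IsAffineOpen (W.ι ⁻¹ᵁ Proj.basicOpen 𝒜 f) :=
    hD.preimage_of_isOpenImmersion W.ι (by rw [Scheme.Opens.opensRange_ι]; exact hfW)
  refine ⟨ι.liftCoborder ⁻¹ᵁ (W.ι ⁻¹ᵁ Proj.basicOpen 𝒜 f), hD'.preimage ι.liftCoborder, ?_⟩
  intro e he
  show W.ι (ι.liftCoborder e) ∈ Proj.basicOpen 𝒜 f
  have h1 : W.ι (ι.liftCoborder e) = ι e := by
    rw [← Scheme.Hom.comp_apply, ι.liftCoborder_ι]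
  rw [h1]
  exact hEf ⟨e, he, rfl⟩

end Groth.Agent.Lib.helper19.ProjAvoidB
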