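import Groth.Agent.Lib.Helper28.ProjClosed
import Groth.Agent.Lib.Helper28.ConeAlg
import Groth.Agent.Lib.Helper17.ProjSpaceGamma
import Groth.Prelude.Def_CohB1
import Mathlib

set_option autoImplicit false
set_option linter.unusedVariables false
set_option linter.style.haveILetI false
universe u

namespace Groth.Agent.Lib.Helper19.ProjBertA

open CategoryTheory AlgebraicGeometry MvPolynomial HomogeneousLocalization
open Groth.Agent.Lib.Helper28.ProjClosed

section first

variable (k : Type u) [Field k] (n : ℕ)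

theorem hX (j : Fin (n + 1)) : (X j : (MvPolynomial (Fin (n + 1)) k)) ∈ (CohB1.polyGrading n k) 1 :=
  Groth.Agent.Lib.Helper17.ProjSpaceGamma.hX n k j

/-- dehomogenisation of the `j`-th chart of projective space -/
noncomputable def e (j : Fin (n + 1)) :
    Away (CohB1.polyGrading n k) (X j : (MvPolynomial (Fin (n + 1)) k)) ≃+* (MvPolynomial (Fin (n + 1)) k) ⧸ Ideal.span {(X j - 1 : (MvPolynomial (Fin (n + 1)) k))} :=
  (Groth.Agent.Lib.Helper28.ConeAlg.exists_dehom (CohB1.polyGrading n k) (hX k n j)).choose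

theorem e_spec (j : Fin (n + 1)) (m : ℕ) (x : (MvPolynomial (Fin (n + 1)) k)) (hx : x ∈ (CohB1.polyGrading n k) m) :
    ((e k n j).symm (Ideal.Quotient.mk (Ideal.span {(X j - 1 : (MvPolynomial (Fin (n + 1)) k))}) x)).val =
      Localization.mk x ⟨(X j : (MvPolynomial (Fin (n + 1)) k)) ^ m, pow_mem (Submonoid.mem_powers _) m⟩ :=
  (Groth.Agent.Lib.Helper28.ConeAlg.exists_dehom (CohB1.polyGrading n k) (hX k n j)).choose_spec m x hx

end first

variable {k : Type u} [Field k] {n : ℕ} {Z : Scheme.{u}}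

/-- the `j`-th standard chart of `Z` -/
noncomputable abbrev W (ι : Z ⟶ Proj (CohB1.polyGrading n k)) (j : Fin (n + 1)) : Z.Opens := ι ⁻¹ᵁ Proj.basicOpen (CohB1.polyGrading n k) (X j : (MvPolynomial (Fin (n + 1)) k))

/-- the coordinate functions of the chart -/
noncomputable def π (ι : Z ⟶ Proj (CohB1.polyGrading n k)) (j : Fin (n + 1)) : (MvPolynomial (Fin (n + 1)) k) →+* Γ(Z, W ι j) :=
  (θ ι (X j : (MvPolynomial (Fin (n + 1)) k))).comp ((e k n j).symm.toRingHom.comp
    (Ideal.Quotient.mk (Ideal.span {(X j - 1 : (MvPolynomial (Fin (n + 1)) k))})))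

theorem π_apply (ι : Z ⟶ Proj (CohB1.polyGrading n k)) (j : Fin (n + 1)) (p : (MvPolynomial (Fin (n + 1)) k)) :
    π ι j p = θ ι (X j : (MvPolynomial (Fin (n + 1)) k)) ((e k n j).symm (Ideal.Quotient.mk _ p)) := rfl

theorem π_X_self (ι : Z ⟶ Proj (CohB1.polyGrading n k)) (j : Fin (n + 1)) : π ι j (X j) = 1 := by
  have h1 : Ideal.Quotient.mk (Ideal.span {(X j - 1 : (MvPolynomial (Fin (n + 1)) k))}) (X j) = 1 := by
    rw [← sub_eq_zero, ← map_one (Ideal.Quotient.mk (Ideal.span {(X j - 1 : (MvPolynomial (Fin (n + 1)) k))})), ← map_sub,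
      Ideal.Quotient.eq_zero_iff_mem]
    exact Ideal.subset_span rfl
  rw [π_apply, h1, map_one, map_one]

/-- the germ of a coordinate function of degree one -/
theorem germ_π (ι : Z ⟶ Proj (CohB1.polyGrading n k)) (j : Fin (n + 1)) (x : Z)
    (hj : (X j : (MvPolynomial (Fin (n + 1)) k)) ∉ (ι.base x).asHomogeneousIdeal) (h : (MvPolynomial (Fin (n + 1)) k)) (hh : h ∈ (CohB1.polyGrading n k) 1) :
    Z.presheaf.germ (W ι j) x hj (π ι j h) =
      (ι.stalkMap x).hom ((Proj.stalkIso' (CohB1.polyGrading n k) (ι.base x)).symm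
        (HomogeneousLocalization.mk ⟨1, ⟨h, hh⟩, ⟨X j, hX k n j⟩, hj⟩)) := by
  set q : Away (CohB1.polyGrading n k) (X j : (MvPolynomial (Fin (n + 1)) k)) := (e k n j).symm (Ideal.Quotient.mk _ h) with hq
  have h1 : π ι j h = (ι.app (Proj.basicOpen (CohB1.polyGrading n k) (X j : (MvPolynomial (Fin (n + 1)) k)))).hom
      ((Proj.awayToSection (CohB1.polyGrading n k) (X j : (MvPolynomial (Fin (n + 1)) k))).hom q) := rfl
  rw [h1]
  have h2 := Scheme.Hom.germ_stalkMap_apply ι (Proj.basicOpen (CohB1.polyGrading n k) (X j : (MvPolynomial (Fin (n + 1)) k))) x hj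
    ((Proj.awayToSection (CohB1.polyGrading n k) (X j : (MvPolynomial (Fin (n + 1)) k))).hom q)
  rw [← h2]
  congr 1
  apply (Proj.stalkIso' (CohB1.polyGrading n k) (ι.base x)).eq_symm_apply.mpr
  have h3 := AlgebraicGeometry.Proj.stalkIso'_germ (𝒜 := (CohB1.polyGrading n k)) (Proj.basicOpen (CohB1.polyGrading n k) (X j : (MvPolynomial (Fin (n + 1)) k)))
    (ι.base x) hj ((Proj.awayToSection (CohB1.polyGrading n k) (X j : (MvPolynomial (Fin (n + 1)) k))).hom q)
  refine h3.trans ?_
  apply HomogeneousLocalization.val_injective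
  have h4 := ProjectiveSpectrum.Proj.awayToSection_apply (CohB1.polyGrading n k) (X j : (MvPolynomial (Fin (n + 1)) k)) q ⟨ι.base x, hj⟩
  refine h4.trans ?_
  rw [hq, e_spec k n j 1 h hh, HomogeneousLocalization.val_mk, Localization.mk_eq_mk',
    IsLocalization.map_mk', Localization.mk_eq_mk']
  congr 1
  ext
  simp

theorem isAffineOpen_W (ι : Z ⟶ Proj (CohB1.polyGrading n k)) [IsClosedImmersion ι] (j : Fin (n + 1)) :
    IsAffineOpen (W ι j) :=
  (Proj.isAffineOpen_basicOpen (CohB1.polyGrading n k) (X j : (MvPolynomial (Fin (n + 1)) k)) (hX k n j) Nat.one_pos).preimage ι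

theorem θ_surjective (ι : Z ⟶ Proj (CohB1.polyGrading n k)) [IsClosedImmersion ι] (j : Fin (n + 1)) :
    Function.Surjective (θ ι (X j : (MvPolynomial (Fin (n + 1)) k))) := by
  have h1 : Function.Surjective (ι.app (Proj.basicOpen (CohB1.polyGrading n k) (X j : (MvPolynomial (Fin (n + 1)) k)))).hom :=
    ι.app_surjective _ (Proj.isAffineOpen_basicOpen (CohB1.polyGrading n k) (X j : (MvPolynomial (Fin (n + 1)) k)) (hX k n j) Nat.one_pos)
  have h2 : Function.Bijective (Proj.awayToSection (CohB1.polyGrading n k) (X j : (MvPolynomial (Fin (n + 1)) k))).hom :=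
    ConcreteCategory.bijective_of_isIso
      (Proj.basicOpenIsoAway (CohB1.polyGrading n k) (X j : (MvPolynomial (Fin (n + 1)) k)) (hX k n j) Nat.one_pos).hom
  exact h1.comp h2.2

theorem π_surjective (ι : Z ⟶ Proj (CohB1.polyGrading n k)) [IsClosedImmersion ι] (j : Fin (n + 1)) :
    Function.Surjective (π ι j) :=
  (θ_surjective ι j).comp ((e k n j).symm.surjective.comp Ideal.Quotient.mk_surjective)

end Groth.Agent.Lib.Helper19.ProjBertA
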