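import Groth.Agent.Lib.helper19.ProjBertA
import Groth.Agent.Lib.Helper5.RegSmoothPerfect

set_option autoImplicit false
set_option linter.unusedVariables false
set_option linter.style.haveILetI false
universe u

namespace Groth.Agent.Lib.Helper19.ProjBertB

open CategoryTheory AlgebraicGeometry MvPolynomial HomogeneousLocalization KaehlerDifferential
open Groth.Agent.Lib.Helper28.ProjClosed Groth.Agent.Lib.Helper19.ProjBertA

variable {k : Type u} [Field k] {n : ℕ} {Z : Scheme.{u}}

/-- the `k`-algebra structure on the coordinate ring of a chart -/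
noncomputable abbrev algK (ι : Z ⟶ Proj (CohB1.polyGrading n k)) (j : Fin (n + 1)) : Algebra k Γ(Z, W ι j) :=
  ((π ι j).comp MvPolynomial.C).toAlgebra

/-- the coordinate map as an algebra map -/
noncomputable def πₐ (ι : Z ⟶ Proj (CohB1.polyGrading n k)) (j : Fin (n + 1)) :
    letI := algK ι j
    (MvPolynomial (Fin (n + 1)) k) →ₐ[k] Γ(Z, W ι j) :=
  letI := algK ι j
  { π ι j with commutes' := fun c => rfl }

theorem finiteType (ι : Z ⟶ Proj (CohB1.polyGrading n k)) [IsClosedImmersion ι] (j : Fin (n + 1)) :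
    letI := algK ι j
    Algebra.FiniteType k Γ(Z, W ι j) := by
  letI := algK ι j
  exact Algebra.FiniteType.of_surjective (πₐ ι j) (π_surjective ι j)

theorem smooth [PerfectField k] (ι : Z ⟶ Proj (CohB1.polyGrading n k)) [IsClosedImmersion ι]
    (hreg : ∀ x : Z, IsRegularLocalRing (Z.presheaf.stalk x)) (j : Fin (n + 1)) :
    letI := algK ι j
    Algebra.Smooth k Γ(Z, W ι j) := by
  letI := algK ι j
  haveI := finiteType ι j
  haveI : Algebra.FinitePresentation k Γ(Z, W ι j) :=
    Algebra.FinitePresentation.of_finiteType.mp inferInstance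
  refine ⟨?_, inferInstance⟩
  rw [← Algebra.smoothLocus_eq_univ_iff, Set.eq_univ_iff_forall]
  intro q
  have hW := isAffineOpen_W ι j
  have hx : hW.fromSpec q ∈ W ι j := by
    have : hW.fromSpec q ∈ Set.range hW.fromSpec := ⟨q, rfl⟩
    rw [hW.range_fromSpec] at this
    exact this
  letI := Z.presheaf.algebra_section_stalk (⟨hW.fromSpec q, hx⟩ : W ι j)
  haveI : IsLocalization.AtPrime (Z.presheaf.stalk (hW.fromSpec q)) q.asIdeal :=
    hW.isLocalization_stalk' q hx
  haveI := hreg (hW.fromSpec q)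
  haveI : IsRegularLocalRing (Localization.AtPrime q.asIdeal) :=
    IsRegularLocalRing.of_ringEquiv
      (IsLocalization.algEquiv q.asIdeal.primeCompl (Z.presheaf.stalk (hW.fromSpec q))
        (Localization.AtPrime q.asIdeal)).toRingEquiv
  exact Groth.Agent.Lib.Helper5.RegSmoothCore.isSmoothAt_of_regular k Γ(Z, W ι j) q.asIdeal

set_option maxHeartbeats 800000 in
theorem surj (ι : Z ⟶ Proj (CohB1.polyGrading n k)) [IsClosedImmersion ι] (j : Fin (n + 1)) :
    letI := algK ι j
    ∀ (a : Γ(Z, W ι j)) (ω : Ω[Γ(Z, W ι j)⁄k]), ∃ c : Fin (n + 1) → Γ(Z, W ι j),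
      ∑ i, c i * π ι j (X i) = a ∧ ∑ i, c i • D k Γ(Z, W ι j) (π ι j (X i)) = ω := by
  letI := algK ι j
  classical
  intro a ω
  have hspan : ∀ P : (MvPolynomial (Fin (n + 1)) k), D k Γ(Z, W ι j) (π ι j P) ∈
      Submodule.span Γ(Z, W ι j) (Set.range fun i => D k Γ(Z, W ι j) (π ι j (X i))) := by
    intro P
    induction P using MvPolynomial.induction_on with
    | C c =>
      have : π ι j (C c) = algebraMap k Γ(Z, W ι j) c := rfl
      rw [this, Derivation.map_algebraMap]
      exact Submodule.zero_mem _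
    | add p q hp hq =>
      rw [map_add, map_add]
      exact Submodule.add_mem _ hp hq
    | mul_X p i hp =>
      rw [map_mul, Derivation.leibniz]
      exact Submodule.add_mem _ (Submodule.smul_mem _ _ (Submodule.subset_span ⟨i, rfl⟩))
        (Submodule.smul_mem _ _ hp)
  have htop : Submodule.span Γ(Z, W ι j)
      (Set.range fun i => D k Γ(Z, W ι j) (π ι j (X i))) = ⊤ := by
    rw [eq_top_iff, ← KaehlerDifferential.span_range_derivation k Γ(Z, W ι j), Submodule.span_le]
    rintro _ ⟨y, rfl⟩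
    obtain ⟨P, rfl⟩ := π_surjective ι j y
    exact hspan P
  have hω : ω ∈ Submodule.span Γ(Z, W ι j)
      (Set.range fun i => D k Γ(Z, W ι j) (π ι j (X i))) := htop ▸ Submodule.mem_top
  obtain ⟨r, hr⟩ := (Submodule.mem_span_range_iff_exists_fun _).1 hω
  set t : Γ(Z, W ι j) := a - ∑ i, r i * π ι j (X i) with ht
  have hs1 : ∑ i, (Pi.single j t : Fin (n + 1) → Γ(Z, W ι j)) i * π ι j (X i) = t := by
    rw [Finset.sum_eq_single j (fun b _ hb => by rw [Pi.single_eq_of_ne hb, zero_mul])
      (fun h => absurd (Finset.mem_univ j) h), Pi.single_eq_same, π_X_self, mul_one]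
  have hs2 : ∑ i, (Pi.single j t : Fin (n + 1) → Γ(Z, W ι j)) i •
      D k Γ(Z, W ι j) (π ι j (X i)) = 0 := by
    rw [Finset.sum_eq_single j (fun b _ hb => by rw [Pi.single_eq_of_ne hb, zero_smul])
      (fun h => absurd (Finset.mem_univ j) h), π_X_self, Derivation.map_one_eq_zero, smul_zero]
  refine ⟨r + Pi.single j t, ?_, ?_⟩
  · simp only [Pi.add_apply, add_mul, Finset.sum_add_distrib]
    rw [hs1, ht]
    ring
  · simp only [Pi.add_apply, add_smul, Finset.sum_add_distrib]
    rw [hs2, add_zero, hr]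

end Groth.Agent.Lib.Helper19.ProjBertB
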