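import Groth.Agent.Lib.helper19.ProjQuotA
import Groth.Agent.Lib.Helper28.Segre5

/-!
# A closed subscheme of `Proj 𝒜` is `Proj` of any graded quotient with the right kernel, II (helper19)
-/

set_option autoImplicit false
universe u
open CategoryTheory CategoryTheory.Limits AlgebraicGeometry Opposite TopologicalSpace
open HomogeneousLocalization
open scoped HomogeneousIdeal

noncomputable section

namespace Groth.Agent.Lib.helper19.ProjQuotB

open Groth.Agent.Lib.Helper28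
open Groth.Agent.Lib.Helper28.QCohLoc Groth.Agent.Lib.Helper28.GenLocus
  Groth.Agent.Lib.Helper28.PullbackInv Groth.Agent.Lib.Helper28.ProjClosed
open Groth.Agent.Lib.helper19.ProjQuotA

variable {R A : Type u} [CommRing R] [CommRing A] [Algebra R A] {𝒜 : ℕ → Submodule R A}
  [GradedAlgebra 𝒜]

section general
variable {Z : Scheme.{u}} (i : Z ⟶ Proj 𝒜) (s : Finset A) (hs1 : ∀ f ∈ s, f ∈ 𝒜 1)
  {B : Type u} [CommRing B] [Algebra R B] {ℬ : ℕ → Submodule R B} [GradedAlgebra ℬ]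
  (φ : 𝒜 →+*ᵍ ℬ)
  (hI : ∀ (d : ℕ) (c : A), c ∈ 𝒜 d → (φ c = 0 ↔ c ∈ I i (s : Set A)))

include hs1 hI in
theorem map_eq_zero_iff' [QuasiCompact i] {g : A} (hg : g ∈ 𝒜 1) (hgs : g ∈ s) (q : Away 𝒜 g) :
    Away.map φ g q = 0 ↔ θ i g q = 0 := by
  obtain ⟨n, a, ha, rfl⟩ := fr_surjective 𝒜 hg q
  have hgk : ∀ k, g ^ k ∈ 𝒜 k := fun k => by
    have := SetLike.pow_mem_graded k hg
    rwa [smul_eq_mul, mul_one] at this
  have key : Away.map φ g (fr 𝒜 hg n a) = 0 ↔ ∃ N : ℕ, g ^ N * a ∈ I i (s : Set A) := by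
    rw [fr_of_mem 𝒜 hg ha, Away.map_mk, ← (HomogeneousLocalization.val_injective _).eq_iff,
      Away.val_mk, HomogeneousLocalization.val_zero, Localization.mk_eq_mk',
      IsLocalization.mk'_eq_zero_iff]
    constructor
    · rintro ⟨⟨_, N, rfl⟩, hN⟩
      refine ⟨N, ?_⟩
      rw [← hI (N + n) _ (SetLike.mul_mem_graded (hgk N) ha), map_mul, map_pow]
      exact hN
    · rintro ⟨N, hN⟩
      refine ⟨⟨_, N, rfl⟩, ?_⟩
      rw [← hI (N + n) _ (SetLike.mul_mem_graded (hgk N) ha), map_mul, map_pow] at hN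
      exact hN
  rw [key]
  constructor
  · rintro ⟨N, hN⟩
    have := (mem_I_iff i (s : Set A) _).1 hN (N + n) g hg hgs
    rwa [fr_pow_mul 𝒜 hg N ha] at this
  · intro h0
    exact exists_pow_mul_mem_I i s hs1 hg ha h0

include hs1 hI in
theorem ker_eq' [IsClosedImmersion i] (hφs : Function.Surjective φ) (hφ : ℬ₊ ≤ (𝒜₊).map φ)
    (hs : (HomogeneousIdeal.irrelevant 𝒜).toIdeal = Ideal.span (s : Set A)) :
    (Proj.map φ hφ).ker = i.ker := by
  have : IsClosedImmersion (Proj.map φ hφ) := ProjMapG.isClosedImmersion_map _ _ hφs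
  refine Scheme.IdealSheafData.ext_of_iSup_eq_top
    (fun g : s => (⟨Proj.basicOpen 𝒜 g.1,
      Proj.isAffineOpen_basicOpen 𝒜 g.1 (hs1 g.1 g.2) Nat.one_pos⟩ : (Proj 𝒜).affineOpens))
    ?_ (fun g => ?_)
  · apply Proj.iSup_basicOpen_eq_top 𝒜 (fun g : s => g.1)
    rw [hs]
    apply Ideal.span_mono
    intro x hx
    exact ⟨⟨x, hx⟩, rfl⟩
  · rw [Scheme.Hom.ker_apply, Scheme.Hom.ker_apply]
    ext x
    rw [RingHom.mem_ker, RingHom.mem_ker]
    have hg := hs1 g.1 g.2
    obtain ⟨q, rfl⟩ := (ConcreteCategory.bijective_of_isIso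
      (Proj.basicOpenIsoAway 𝒜 g.1 hg Nat.one_pos).hom).2 x
    have hinj := (ConcreteCategory.bijective_of_isIso
      (Proj.basicOpenIsoAway ℬ (φ g.1) (φ.map_mem hg) Nat.one_pos).hom).1
    rw [Proj.basicOpenIsoAway_hom]
    change ((Proj.map φ _).app (Proj.basicOpen 𝒜 g.1)).hom _ = 0 ↔
      (i.app (Proj.basicOpen 𝒜 g.1)).hom _ = 0
    rw [map_app_awayToSection _ _ hg, ← θ_apply, ← map_eq_zero_iff' i s hs1 φ hI hg g.2 q]
    constructor
    · intro h
      apply hinj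
      rw [Proj.basicOpenIsoAway_hom]
      exact h.trans (map_zero _).symm
    · intro h
      rw [h]
      exact map_zero _

include hs1 hI in
/-- **A closed subscheme of `Proj 𝒜` is `Proj ℬ`** for any graded surjection `φ : 𝒜 → ℬ` whose homogeneous
kernel is the ideal `I i s` of the closed immersion `i`. -/
theorem exists_iso' [IsClosedImmersion i] (hφs : Function.Surjective φ) (hφ : ℬ₊ ≤ (𝒜₊).map φ)
    (hs : (HomogeneousIdeal.irrelevant 𝒜).toIdeal = Ideal.span (s : Set A)) :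
    ∃ e : Z ≅ Proj ℬ, e.hom ≫ Proj.map φ hφ = i := by
  have hcl : IsClosedImmersion (Proj.map φ hφ) := ProjMapG.isClosedImmersion_map _ _ hφs
  have hk := ker_eq' i s hs1 φ hI hφs hφ hs
  have hiso := IsClosedImmersion.isIso_lift (Proj.map φ hφ) i hk
  exact ⟨asIso (IsClosedImmersion.lift (Proj.map φ hφ) i hk.le), IsClosedImmersion.lift_fac _ _ _⟩

/-- the version with the kernel described by vanishing of the pulled back forms -/
theorem exists_iso_of_pbs [IsClosedImmersion i] (hφs : Function.Surjective φ) (hφ : ℬ₊ ≤ (𝒜₊).map φ)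
    (hs : (HomogeneousIdeal.irrelevant 𝒜).toIdeal = Ideal.span (s : Set A))
    (hs1 : ∀ f ∈ s, f ∈ 𝒜 1)
    (hker : ∀ (d : ℕ) (c : A) (hc : c ∈ 𝒜 d),
      φ c = 0 ↔ pbs i (Twist.twist 𝒜 (d : ℤ)) ⊤ (TwistGen.gsec 𝒜 c hc) = 0) :
    ∃ e : Z ≅ Proj ℬ, e.hom ≫ Proj.map φ hφ = i :=
  exists_iso' i s hs1 φ (fun d c hc => (hker d c hc).trans (pbs_gsec_eq_zero_iff i s hs1 hs hc))
    hφs hφ hs

end general

section poly
variable (n : ℕ) (R₀ : Type u) [CommRing R₀]

open Classical in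
/-- the variables, as a finset -/
def vars : Finset (MvPolynomial (Fin (n + 1)) R₀) :=
  Finset.univ.image (fun j : Fin (n + 1) => (MvPolynomial.X j : MvPolynomial (Fin (n + 1)) R₀))

theorem vars_mem (f : MvPolynomial (Fin (n + 1)) R₀) (hf : f ∈ vars n R₀) :
    f ∈ CohB1.polyGrading n R₀ 1 := by
  classical
  rw [vars] at hf
  obtain ⟨j, -, rfl⟩ := Finset.mem_image.1 hf
  exact MvPolynomial.isHomogeneous_X R₀ j

theorem irrelevant_eq_span :
    (HomogeneousIdeal.irrelevant (CohB1.polyGrading n R₀)).toIdeal =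
      Ideal.span ((vars n R₀ : Finset (MvPolynomial (Fin (n + 1)) R₀)) : Set _) := by
  have hrange : ((vars n R₀ : Finset (MvPolynomial (Fin (n + 1)) R₀)) : Set _) =
      Set.range (fun j : Fin (n + 1) => (MvPolynomial.X j : MvPolynomial (Fin (n + 1)) R₀)) := by
    classical
    ext f
    simp [vars]
  rw [hrange]
  apply le_antisymm
  · exact Segre5.irrelevant_le_span (CohB1.polyGrading n R₀)
      (fun j : Fin (n + 1) => (MvPolynomial.X j : MvPolynomial (Fin (n + 1)) R₀))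
      (fun j => MvPolynomial.isHomogeneous_X R₀ j) (MvPolynomial.adjoin_range_X)
  · rw [Ideal.span_le]
    rintro _ ⟨j, rfl⟩
    exact HomogeneousIdeal.mem_irrelevant_of_mem (CohB1.polyGrading n R₀) Nat.one_pos
      (MvPolynomial.isHomogeneous_X R₀ j)

end poly

end Groth.Agent.Lib.helper19.ProjQuotB
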