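import Mathlib
import Groth.Agent.Lib.helper19.QFL6

set_option autoImplicit false
set_option linter.style.haveILetI false
universe u

open TensorProduct AlgebraicGeometry CategoryTheory CategoryTheory.Limits

namespace Groth.Agent.Lib.Helper19.QFL7

open Groth.Agent.Lib.Helper19.QFL Groth.Agent.Lib.Helper19.QFL6

theorem quasiFiniteAt_of_isOpen_singleton_aux {X Y : Scheme.{u}} (f : X ⟶ Y)
    [LocallyOfFiniteType f] (x : X) (s : Y) (h : f x = s) (z : ↑(f.fiber s))
    (hz : f.fiberι s z = x) (hopen : IsOpen ({z} : Set ↑(f.fiber s))) : f.QuasiFiniteAt x := by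
  subst h
  have : z = f.asFiber x := by
    apply (f.fiberι (f x)).isEmbedding.injective
    rw [hz, Scheme.Hom.fiberι_asFiber]
  rw [Scheme.Hom.quasiFiniteAt_iff_isOpen_singleton_asFiber, ← this]
  exact hopen

theorem quasiFiniteAt_of_isOpen_singleton {X Y : Scheme.{u}} (f : X ⟶ Y)
    [LocallyOfFiniteType f] (s : Y) (z : ↑(f.fiber s))
    (hopen : IsOpen ({z} : Set ↑(f.fiber s))) : f.QuasiFiniteAt (f.fiberι s z) := by
  have h : f (f.fiberι s z) = s := by
    have : f.fiberι s z ∈ Set.range (f.fiberι s) := ⟨z, rfl⟩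
    rw [f.range_fiberι s] at this
    exact this
  exact quasiFiniteAt_of_isOpen_singleton_aux f _ s h z rfl hopen

/-- The comparison of fibres for a base change along `g` at a point with trivial residue field
extension. -/
theorem isOpen_singleton_fiber_of_isIso {X S U : Scheme.{u}} (f : X ⟶ S) (g : U ⟶ S) (u : U)
    (hres : IsIso (g.residueFieldMap u)) (w : ↑((pullback.snd f g).fiber u))
    (hw : IsOpen ({w} : Set ↑((pullback.snd f g).fiber u))) :
    ∃ z : ↑(f.fiber (g u)), IsOpen ({z} : Set ↑(f.fiber (g u))) ∧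
      f.fiberι (g u) z = pullback.fst f g ((pullback.snd f g).fiberι u w) := by
  have hpb := isPullback_fiberToSpecResidueField_of_isPullback (IsPullback.of_hasPullback f g) u
  let τ : (pullback.snd f g).fiber u ⟶ f.fiber (g u) :=
    pullback.map (pullback.snd f g) (U.fromSpecResidueField u) f
    (S.fromSpecResidueField (g u)) (pullback.fst f g) (Spec.map (g.residueFieldMap u)) g
    (IsPullback.of_hasPullback f g).w.symm (by simp)
  haveI : IsIso (Spec.map (g.residueFieldMap u)) := inferInstance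
  haveI : IsIso τ := hpb.isIso_fst_of_isIso
  have hfac : τ ≫ f.fiberι (g u) = (pullback.snd f g).fiberι u ≫ pullback.fst f g :=
    pullback.lift_fst _ _ _
  refine ⟨τ w, ?_, ?_⟩
  · have := (asIso τ).schemeIsoToHomeo.isOpenMap _ hw
    rw [Set.image_singleton] at this
    exact this
  · rw [← Scheme.Hom.comp_apply, hfac, Scheme.Hom.comp_apply]

/-- S9762. -/
theorem main_isolated {X S : Scheme.{u}} (f : X ⟶ S) [LocallyOfFiniteType f] [IsSeparated f]
    (s : S) (hfin : {x : ↑(f.fiber s) | IsOpen ({x} : Set ↑(f.fiber s))}.Finite) :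
    ∃ (U : Scheme.{u}) (g : U ⟶ S) (u : U), Hens2.IsEtaleNbhd g u s ∧
      ∃ V : (pullback f g).Opens, IsClopen (V : Set ↑(pullback f g)) ∧
        IsFinite (V.ι ≫ pullback.snd f g) ∧
        ∀ w : ↑((pullback.snd f g).fiber u), (pullback.snd f g).fiberι u w ∉ V →
          ¬ IsOpen ({w} : Set ↑((pullback.snd f g).fiber u)) := by
  classical
  haveI : Finite ↥{x : ↑(f.fiber s) | IsOpen ({x} : Set ↑(f.fiber s))} := hfin.to_subtype
  obtain ⟨n, ⟨eqv⟩⟩ := Finite.exists_equiv_fin ↥{x : ↑(f.fiber s) | IsOpen ({x} : Set ↑(f.fiber s))}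
  let x : Fin n → X := fun i => f.fiberι s (eqv.symm i).1
  have hs : ∀ i, f (x i) = s := by
    intro i
    have : x i ∈ Set.range (f.fiberι s) := ⟨_, rfl⟩
    rw [f.range_fiberι s] at this
    exact this
  have hx : ∀ i, f.QuasiFiniteAt (x i) := fun i =>
    quasiFiniteAt_of_isOpen_singleton f s _ (eqv.symm i).2
  obtain ⟨U, g, u, hg, hu, hres, V, v, h⟩ := main_core_sep f s x hs hx
  obtain ⟨hc, hf⟩ := finite_finsetSup (pullback.snd f g) V (fun i => (h i).2.1)
    (fun i => (h i).2.2.1) Finset.univ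
  refine ⟨U, g, u, ⟨hg, hu, (ConcreteCategory.isIso_iff_bijective _).mp hres⟩,
    Finset.univ.sup V, ⟨hc, (Finset.univ.sup V).2⟩, hf, ?_⟩
  intro w hwV hwopen
  subst hu
  obtain ⟨z, hz, hzw⟩ := isOpen_singleton_fiber_of_isIso f g u hres w hwopen
  let i : Fin n := eqv ⟨z, hz⟩
  have hxi : x i = pullback.fst f g ((pullback.snd f g).fiberι u w) := by
    show f.fiberι (g u) (eqv.symm (eqv ⟨z, hz⟩)).1 = _
    rw [Equiv.symm_apply_apply]
    exact hzw
  obtain ⟨h1, h2, h3, h4, h5, h6⟩ := h i
  have hres' : IsIso (g.residueFieldMap (pullback.snd f g (v i))) :=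
    isIso_residueFieldMap_of_eq g h4.symm hres
  have hsnd : pullback.snd f g ((pullback.snd f g).fiberι u w) = u := by
    have : (pullback.snd f g).fiberι u w ∈ Set.range ((pullback.snd f g).fiberι u) := ⟨w, rfl⟩
    rw [(pullback.snd f g).range_fiberι u] at this
    exact this
  have hwv : (pullback.snd f g).fiberι u w = v i :=
    eq_of_fst_eq_of_snd_eq f g _ (v i) hres' (hxi.symm.trans h6.symm) (hsnd.trans h4.symm)
  have : V i ≤ Finset.univ.sup V := Finset.le_sup (f := V) (Finset.mem_univ i)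
  exact hwV (this (hwv ▸ h1))

end Groth.Agent.Lib.Helper19.QFL7
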