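import Mathlib

set_option autoImplicit false
set_option linter.style.haveILetI false
universe u

namespace Groth.Agent.Lib.Helper19.QFProd

open TensorProduct

section Order

variable {R S : Type*} [CommRing R] [CommRing S] [Algebra R S] [Algebra.FiniteType R S]

theorem quasiFiniteAt_iff_isMax_isMin (P : PrimeSpectrum R)
    (y : PrimeSpectrum.comap (algebraMap R S) ⁻¹' {P}) :
    Algebra.QuasiFiniteAt R y.1.asIdeal ↔ IsMax y ∧ IsMin y := by
  obtain ⟨y, hy⟩ := y
  have hy' : PrimeSpectrum.comap (algebraMap R S) y = P := hy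
  subst hy'
  refine (Algebra.quasiFiniteAt_iff_isOpen_singleton_fiber (R := R) y).trans ?_
  haveI : IsNoetherianRing ((PrimeSpectrum.comap (algebraMap R S) y).asIdeal.Fiber S) :=
    Algebra.FiniteType.isNoetherianRing
      (PrimeSpectrum.comap (algebraMap R S) y).asIdeal.ResidueField _
  haveI : IsJacobsonRing ((PrimeSpectrum.comap (algebraMap R S) y).asIdeal.Fiber S) :=
    isJacobsonRing_of_finiteType
      (A := (PrimeSpectrum.comap (algebraMap R S) y).asIdeal.ResidueField)
  let e := PrimeSpectrum.preimageHomeomorphFiber R S (PrimeSpectrum.comap (algebraMap R S) y)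
  have hmem : y ∈ PrimeSpectrum.comap (algebraMap R S) ⁻¹'
      {PrimeSpectrum.comap (algebraMap R S) y} := rfl
  show IsOpen {(⟨y, hmem⟩ : (PrimeSpectrum.comap (algebraMap R S) ⁻¹'
      {PrimeSpectrum.comap (algebraMap R S) y} : Set (PrimeSpectrum S)))} ↔
    IsMax (⟨y, hmem⟩ : (PrimeSpectrum.comap (algebraMap R S) ⁻¹'
      {PrimeSpectrum.comap (algebraMap R S) y} : Set (PrimeSpectrum S))) ∧ IsMin
      (⟨y, hmem⟩ : (PrimeSpectrum.comap (algebraMap R S) ⁻¹'
      {PrimeSpectrum.comap (algebraMap R S) y} : Set (PrimeSpectrum S)))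
  generalize (⟨y, hmem⟩ : (PrimeSpectrum.comap (algebraMap R S) ⁻¹'
      {PrimeSpectrum.comap (algebraMap R S) y} : Set (PrimeSpectrum S))) = x
  rw [← e.isOpen_image, Set.image_singleton]
  have h02 := (PrimeSpectrum.isOpen_singleton_tfae_of_isNoetherian_of_isJacobsonRing
    (e x)).out 0 2
  rw [h02]
  rw [PrimeSpectrum.isClosed_singleton_iff_isMaximal, ← PrimeSpectrum.isMax_iff,
    PrimeSpectrum.stableUnderGeneralization_singleton, ← PrimeSpectrum.isMin_iff]
  have he : e x = PrimeSpectrum.preimageOrderIsoFiber R S _ x := rfl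
  rw [he, OrderIso.isMax_apply, OrderIso.isMin_apply]

theorem quasiFiniteAt_iff_primesOver (p : Ideal R) [p.IsPrime] (Q : p.primesOver S) :
    @Algebra.QuasiFiniteAt R _ _ _ _ Q.1 Q.2.1 ↔ IsMax Q ∧ IsMin Q := by
  haveI := Q.2.1
  let P : PrimeSpectrum R := ⟨p, inferInstance⟩
  let y : PrimeSpectrum.comap (algebraMap R S) ⁻¹' {P} :=
    ⟨⟨Q.1, Q.2.1⟩, PrimeSpectrum.ext Q.2.2.over.symm⟩
  have h1 := quasiFiniteAt_iff_isMax_isMin (S := S) P y
  let f : p.primesOver S ≃o PrimeSpectrum.comap (algebraMap R S) ⁻¹' {P} :=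
    (PrimeSpectrum.primesOverOrderIsoFiber R S p).trans
      (PrimeSpectrum.preimageOrderIsoFiber R S P).symm
  have hf : f Q = y := by
    show (PrimeSpectrum.preimageOrderIsoFiber R S P).symm
      ((PrimeSpectrum.preimageOrderIsoFiber R S P) y) = y
    exact OrderIso.symm_apply_apply _ _
  rw [← OrderIso.isMax_apply f, ← OrderIso.isMin_apply f, hf]
  exact h1

end Order

section Descent

variable {R R' S : Type*} [CommRing R] [CommRing R'] [CommRing S] [Algebra R R'] [Algebra R S]
    [Algebra.FiniteType R S]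
    {p : Ideal R} {q : Ideal R'} [p.IsPrime] [q.IsPrime] [q.LiesOver p]

theorem quasiFiniteAt_comap_iff
    (H : Function.Bijective (Ideal.ResidueField.mapₐ p q (Algebra.ofId _ _) (q.over_def p)))
    (Q : Ideal (R' ⊗[R] S)) [Q.IsPrime] [Q.LiesOver q] :
    Algebra.QuasiFiniteAt R (Q.comap Algebra.TensorProduct.includeRight.toRingHom) ↔
      Algebra.QuasiFiniteAt R' Q := by
  let Q' : q.primesOver (R' ⊗[R] S) := ⟨Q, inferInstance, inferInstance⟩
  let f := Ideal.fiberIsoOfBijectiveResidueField (S := S) H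
  have h1 := quasiFiniteAt_iff_primesOver (R := R') (S := R' ⊗[R] S) q Q'
  have h2 := quasiFiniteAt_iff_primesOver (R := R) (S := S) p (f Q')
  have h3 : (f Q').1 = Q.comap Algebra.TensorProduct.includeRight.toRingHom :=
    Ideal.comap_fiberIsoOfBijectiveResidueField_apply H Q'
  rw [OrderIso.isMax_apply, OrderIso.isMin_apply] at h2
  constructor
  · intro h
    refine h1.mpr (h2.mp ?_)
    convert h
  · intro h
    have := h2.mpr (h1.mp h)
    convert this
    exact h3.symm

end Descent

end Groth.Agent.Lib.Helper19.QFProd
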