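import Mathlib
import Groth.Agent.Lib.helper19.QFProd1
import Groth.Agent.Lib.Helper12.QuasiFiniteAtAux

set_option autoImplicit false
set_option linter.style.haveILetI false
universe u

namespace Groth.Agent.Lib.Helper19.QFProd

open TensorProduct

/-- The set of quasi-finite primes over `p`. -/
def Zset (R S : Type*) [CommRing R] [CommRing S] [Algebra R S] (p : Ideal R) : Set (Ideal S) :=
  {q | ∃ (_ : q.IsPrime), q.LiesOver p ∧ Algebra.QuasiFiniteAt R q}

theorem Zset_finite (R S : Type*) [CommRing R] [CommRing S] [Algebra R S]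
    [Algebra.FiniteType R S] (p : Ideal R) [p.IsPrime] : (Zset R S p).Finite :=
  Groth.Agent.Lib.Helper12.finite_quasiFiniteAt_primesOver R S p

section Count

variable {R R₁ S : Type*} [CommRing R] [CommRing R₁] [CommRing S] [Algebra R R₁] [Algebra R S]
    [Algebra.FiniteType R S]
    {p : Ideal R} {P₁ : Ideal R₁} [p.IsPrime] [P₁.IsPrime] [P₁.LiesOver p]

theorem liesOver_comap_includeRight (Q : Ideal (R₁ ⊗[R] S)) [Q.IsPrime] [Q.LiesOver P₁] :
    (Q.comap (Algebra.TensorProduct.includeRight : S →ₐ[R] R₁ ⊗[R] S).toRingHom).LiesOver p := by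
  refine ⟨?_⟩
  rw [Ideal.under_def, Ideal.comap_comap]
  have h1 : (Algebra.TensorProduct.includeRight : S →ₐ[R] R₁ ⊗[R] S).toRingHom.comp
      (algebraMap R S) = (algebraMap R₁ (R₁ ⊗[R] S)).comp (algebraMap R R₁) := by
    ext r
    show (1 : R₁) ⊗ₜ[R] (algebraMap R S r) = (algebraMap R R₁ r) ⊗ₜ[R] (1 : S)
    rw [Algebra.algebraMap_eq_smul_one, Algebra.algebraMap_eq_smul_one, TensorProduct.smul_tmul]
  rw [h1, ← Ideal.comap_comap]
  have h2 : Ideal.comap (algebraMap R₁ (R₁ ⊗[R] S)) Q = P₁ := (Ideal.over_def Q P₁).symm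
  rw [h2]
  exact Ideal.over_def P₁ p

theorem ncard_lt
    (H : Function.Bijective (Ideal.ResidueField.mapₐ p P₁ (Algebra.ofId _ _) (P₁.over_def p)))
    (e : R₁ ⊗[R] S) (he : IsIdempotentElem e) (P' : Ideal (R₁ ⊗[R] S)) [P'.IsPrime]
    [P'.LiesOver P₁] (heP' : e ∉ P')
    (hq : P'.comap (Algebra.TensorProduct.includeRight : S →ₐ[R] R₁ ⊗[R] S).toRingHom ∈
      Zset R S p) :
    (Zset R₁ ((R₁ ⊗[R] S) ⧸ Ideal.span {e}) P₁).ncard < (Zset R S p).ncard := by
  classical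
  let T₁ := R₁ ⊗[R] S
  let B₁ := T₁ ⧸ Ideal.span {e}
  let mk : T₁ →+* B₁ := Ideal.Quotient.mk _
  let ι : S →+* T₁ := (Algebra.TensorProduct.includeRight : S →ₐ[R] R₁ ⊗[R] S).toRingHom
  let φ : Ideal B₁ → Ideal S := fun Q => (Q.comap mk).comap ι
  let q := P'.comap ι
  -- facts about a point of `Zset R₁ B₁ P₁`
  have key : ∀ Q ∈ Zset R₁ B₁ P₁, ∃ (_ : (Q.comap mk).IsPrime) (_ : (Q.comap mk).LiesOver P₁),
      e ∈ Q.comap mk ∧ Algebra.QuasiFiniteAt R₁ (Q.comap mk) := by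
    rintro Q ⟨hQp, hQo, hQf⟩
    haveI : (Q.comap mk).IsPrime := Ideal.comap_isPrime _ _
    have hover : (Q.comap mk).LiesOver P₁ := by
      refine ⟨?_⟩
      rw [hQo.over, Ideal.under_def, Ideal.under_def, Ideal.comap_comap]
      rfl
    refine ⟨inferInstance, hover, ?_, ?_⟩
    · rw [Ideal.mem_comap]
      have : mk e = 0 := Ideal.Quotient.eq_zero_iff_mem.mpr (Ideal.mem_span_singleton_self e)
      rw [this]
      exact Q.zero_mem
    · exact Groth.Agent.Lib.Helper12.quasiFiniteAt_of_quotient_idem e he Q (Q.comap mk) rfl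
  have hmaps : ∀ Q ∈ Zset R₁ B₁ P₁, φ Q ∈ Zset R S p \ {q} := by
    intro Q hQ
    obtain ⟨hp, ho, heQ, hf⟩ := key Q hQ
    refine ⟨⟨Ideal.comap_isPrime _ _, liesOver_comap_includeRight (p := p) (P₁ := P₁) (Q.comap mk), ?_⟩, ?_⟩
    · exact (quasiFiniteAt_comap_iff H (Q.comap mk)).mpr hf
    · intro hφ
      have heq : Q.comap mk = P' :=
        Ideal.eq_of_comap_eq_comap_of_bijective_residueFieldMap H _ _ hφ
      exact heP' (heq ▸ heQ)
  have hinj : Set.InjOn φ (Zset R₁ B₁ P₁) := by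
    intro Q₁ hQ₁ Q₂ hQ₂ h
    obtain ⟨hp₁, ho₁, -, -⟩ := key Q₁ hQ₁
    obtain ⟨hp₂, ho₂, -, -⟩ := key Q₂ hQ₂
    have heq : Q₁.comap mk = Q₂.comap mk :=
      Ideal.eq_of_comap_eq_comap_of_bijective_residueFieldMap H _ _ h
    exact Ideal.comap_injective_of_surjective mk Ideal.Quotient.mk_surjective heq
  have hfin : (Zset R S p).Finite := Zset_finite R S p
  calc (Zset R₁ B₁ P₁).ncard = (φ '' Zset R₁ B₁ P₁).ncard := (Set.ncard_image_of_injOn hinj).symm
    _ ≤ (Zset R S p \ {q}).ncard :=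
        Set.ncard_le_ncard (Set.image_subset_iff.mpr hmaps) (hfin.subset Set.diff_subset)
    _ < (Zset R S p).ncard := Set.ncard_diff_singleton_lt_of_mem hq hfin

end Count

end Groth.Agent.Lib.Helper19.QFProd
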