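import Mathlib
import Groth.Agent.Lib.helper19.QFProd2
import Groth.Agent.Lib.helper19.GraphIdem
import Groth.Agent.Lib.helper19.UnramProd2

set_option autoImplicit false
set_option linter.style.haveILetI false
universe u

namespace Groth.Agent.Lib.Helper19.QFProd

open TensorProduct

theorem bijective_residueField_trans {R R₁ R₂ : Type*} [CommRing R] [CommRing R₁] [CommRing R₂]
    [Algebra R R₁] [Algebra R₁ R₂] [Algebra R R₂] [IsScalarTower R R₁ R₂]
    (p : Ideal R) (p₁ : Ideal R₁) (p₂ : Ideal R₂) [p.IsPrime] [p₁.IsPrime] [p₂.IsPrime]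
    [p₁.LiesOver p] [p₂.LiesOver p₁] [p₂.LiesOver p]
    (H₁ : Function.Bijective (Ideal.ResidueField.mapₐ p p₁ (Algebra.ofId _ _) (p₁.over_def p)))
    (H₂ : Function.Bijective (Ideal.ResidueField.mapₐ p₁ p₂ (Algebra.ofId _ _) (p₂.over_def p₁))) :
    Function.Bijective (Ideal.ResidueField.mapₐ p p₂ (Algebra.ofId _ _) (p₂.over_def p)) := by
  have h : (Ideal.ResidueField.map p p₂ (algebraMap R R₂) (p₂.over_def p)) =
      (Ideal.ResidueField.map p₁ p₂ (algebraMap R₁ R₂) (p₂.over_def p₁)).comp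
        (Ideal.ResidueField.map p p₁ (algebraMap R R₁) (p₁.over_def p)) := by
    refine Ideal.ResidueField.ringHom_ext (RingHom.ext fun r => ?_)
    simp [Ideal.ResidueField.map_algebraMap, IsScalarTower.algebraMap_apply R R₁ R₂]
  show Function.Bijective (Ideal.ResidueField.map p p₂ (algebraMap R R₂) (p₂.over_def p))
  rw [h]
  exact H₂.comp H₁

/-- Phase-1 conclusion. -/
def Q₁ (R S : Type u) [CommRing R] [CommRing S] [Algebra R S] (p : Ideal R) [p.IsPrime] : Prop :=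
  ∃ (R' : Type u) (_ : CommRing R') (_ : Algebra R R') (_ : Algebra.Etale R R') (p' : Ideal R')
    (_ : p'.IsPrime) (_ : p'.LiesOver p)
    (_ : Function.Bijective (Ideal.ResidueField.mapₐ p p' (Algebra.ofId _ _) (p'.over_def p)))
    (C : Type u) (_ : CommRing C) (_ : Algebra R' C) (_ : Module.Finite R' C)
    (B : Type u) (_ : CommRing B) (_ : Algebra R' B),
    Nonempty (R' ⊗[R] S ≃ₐ[R'] (C × B)) ∧
    ∀ (Q : Ideal B) [Q.IsPrime], Q.LiesOver p' → ¬ Algebra.QuasiFiniteAt R' Q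

theorem Q₁_base (R S : Type u) [CommRing R] [CommRing S] [Algebra R S] (p : Ideal R) [p.IsPrime]
    (h : Zset R S p = ∅) : Q₁ R S p := by
  refine ⟨R, inferInstance, inferInstance, inferInstance, p, inferInstance, ⟨rfl⟩, ?_, PUnit,
    inferInstance, inferInstance, inferInstance, S, inferInstance, inferInstance, ⟨?_⟩, ?_⟩
  · rw! [Algebra.ofId_self, Ideal.ResidueField.mapₐ_id]; exact Function.bijective_id
  · refine (Algebra.TensorProduct.lid R S).trans ?_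
    exact
      { toFun := fun s => (PUnit.unit, s)
        invFun := Prod.snd
        left_inv := fun _ => rfl
        right_inv := fun ⟨_, _⟩ => rfl
        map_mul' := fun _ _ => rfl
        map_add' := fun _ _ => rfl
        commutes' := fun _ => rfl }
  · intro Q hQ hQo hQf
    have : Q ∈ Zset R S p := ⟨hQ, hQo, hQf⟩
    rw [h] at this
    exact this

theorem Q₁_step (R : Type u) [CommRing R] (S : Type u) [CommRing S] [Algebra R S] (p : Ideal R)
    [p.IsPrime] (R₁ : Type u) [CommRing R₁] [Algebra R R₁] [Algebra.Etale R R₁] (p₁ : Ideal R₁)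
    [p₁.IsPrime] [p₁.LiesOver p]
    (H₁ : Function.Bijective (Ideal.ResidueField.mapₐ p p₁ (Algebra.ofId _ _) (p₁.over_def p)))
    (A₁ : Type u) [CommRing A₁] [Algebra R₁ A₁] [Module.Finite R₁ A₁]
    (B₁ : Type u) [CommRing B₁] [Algebra R₁ B₁]
    (e₁ : R₁ ⊗[R] S ≃ₐ[R₁] A₁ × B₁) (h : Q₁ R₁ B₁ p₁) : Q₁ R S p := by
  obtain ⟨R₂, _, _, _, p₂, _, _, H₂, C₂, _, _, _, B₂, _, _, ⟨e₂⟩, hB⟩ := h
  letI : Algebra R R₂ := ((algebraMap R₁ R₂).comp (algebraMap R R₁)).toAlgebra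
  haveI : IsScalarTower R R₁ R₂ := .of_algebraMap_eq (fun _ => rfl)
  haveI : Algebra.Etale R R₂ := Algebra.Etale.comp R R₁ R₂
  haveI : p₂.LiesOver p := Ideal.LiesOver.trans p₂ p₁ p
  refine ⟨R₂, inferInstance, inferInstance, inferInstance, p₂, inferInstance, inferInstance,
    bijective_residueField_trans p p₁ p₂ H₁ H₂, (R₂ ⊗[R₁] A₁) × C₂, inferInstance, inferInstance,
    inferInstance, B₂, inferInstance, inferInstance, ⟨?_⟩, hB⟩
  let f1 : R₂ ⊗[R] S ≃ₐ[R₂] R₂ ⊗[R₁] (R₁ ⊗[R] S) :=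
    (Algebra.TensorProduct.cancelBaseChange R R₁ R₂ R₂ S).symm
  let f2 : R₂ ⊗[R₁] (R₁ ⊗[R] S) ≃ₐ[R₂] R₂ ⊗[R₁] (A₁ × B₁) :=
    Algebra.TensorProduct.congr AlgEquiv.refl e₁
  let f3 : R₂ ⊗[R₁] (A₁ × B₁) ≃ₐ[R₂] ((R₂ ⊗[R₁] A₁) × (R₂ ⊗[R₁] B₁)) :=
    Algebra.TensorProduct.prodRight R₁ R₂ R₂ _ _
  let f4 : ((R₂ ⊗[R₁] A₁) × (R₂ ⊗[R₁] B₁)) ≃ₐ[R₂] ((R₂ ⊗[R₁] A₁) × (C₂ × B₂)) :=
    AlgEquiv.prodCongr AlgEquiv.refl e₂
  let f5 := Groth.Agent.Lib.Helper19.UnramProd.prodAssocAlgEquiv R₂ (R₂ ⊗[R₁] A₁) C₂ B₂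
  exact f1.trans (f2.trans (f3.trans (f4.trans f5)))

theorem Q₁_main : ∀ (n : ℕ) (R : Type u) [CommRing R] (S : Type u) [CommRing S] [Algebra R S]
    [Algebra.FiniteType R S] (p : Ideal R) [p.IsPrime], (Zset R S p).ncard = n → Q₁ R S p := by
  intro n
  induction n using Nat.strong_induction_on with
  | _ n IH =>
    intro R _ S _ _ _ p _ hn
    by_cases h0 : Zset R S p = ∅
    · exact Q₁_base R S p h0
    · obtain ⟨q, hq⟩ := Set.nonempty_iff_ne_empty.mpr h0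
      obtain ⟨hqp, hqo, hqf⟩ := id hq
      obtain ⟨R₁, _, _, _, P₁, _, _, e, he, P', _, _, hP'q, heP', H₁, hfin, -⟩ :=
        Algebra.exists_etale_isIdempotentElem_forall_liesOver_eq p q
      have hlt := ncard_lt H₁ e he P' heP' (hP'q ▸ hq)
      have IH' := IH _ (hn ▸ hlt) R₁ ((R₁ ⊗[R] S) ⧸ Ideal.span {e}) P₁ rfl
      haveI : IsLocalization.Away e ((R₁ ⊗[R] S) ⧸ Ideal.span {1 - e}) :=
        IsLocalization.Away.quotient_of_isIdempotentElem he
      let g : Localization.Away e ≃ₐ[R₁ ⊗[R] S] ((R₁ ⊗[R] S) ⧸ Ideal.span {1 - e}) :=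
        IsLocalization.algEquiv (Submonoid.powers e) _ _
      haveI : Module.Finite R₁ ((R₁ ⊗[R] S) ⧸ Ideal.span {1 - e}) :=
        Module.Finite.equiv (g.restrictScalars R₁).toLinearEquiv
      exact Q₁_step R S p R₁ P₁ H₁ ((R₁ ⊗[R] S) ⧸ Ideal.span {1 - e})
        ((R₁ ⊗[R] S) ⧸ Ideal.span {e}) (GraphIdem.prodEquiv e he) IH'

theorem Q₁_holds (R : Type u) [CommRing R] (S : Type u) [CommRing S] [Algebra R S]
    [Algebra.FiniteType R S] (p : Ideal R) [p.IsPrime] : Q₁ R S p :=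
  Q₁_main _ R S p rfl

end Groth.Agent.Lib.Helper19.QFProd
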