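import Mathlib
import Groth.Agent.Lib.helper19.QFProd3

set_option autoImplicit false
set_option linter.style.haveILetI false
universe u

namespace Groth.Agent.Lib.Helper19.QFProd

open TensorProduct

/-- Splitting off the last factor of a product over `Fin (n+1)`. -/
def piFinCastSuccAlgEquiv (R : Type*) [CommSemiring R] {n : ℕ} (α : Fin (n + 1) → Type*)
    [∀ i, Semiring (α i)] [∀ i, Algebra R (α i)] :
    (∀ i, α i) ≃ₐ[R] ((∀ i : Fin n, α i.castSucc) × α (Fin.last n)) where
  toFun f := (fun i => f i.castSucc, f (Fin.last n))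
  invFun x := Fin.snoc (α := α) x.1 x.2
  left_inv f := by
    funext i
    refine Fin.lastCases ?_ (fun j => ?_) i
    · simp
    · simp
  right_inv x := by
    ext i
    · simp
    · simp
  map_mul' _ _ := rfl
  map_add' _ _ := rfl
  commutes' _ := rfl

/-- The product decomposition attached to complete orthogonal idempotents. -/
noncomputable def coiEquiv (R : Type*) [CommRing R] {T : Type*} [CommRing T] [Algebra R T]
    {ι : Type*} [Fintype ι] (e : ι → T) (he : CompleteOrthogonalIdempotents e) :
    T ≃ₐ[R] ∀ i, T ⧸ Ideal.span {1 - e i} :=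
  AlgEquiv.ofBijective (Pi.algHom R _ (fun i => Ideal.Quotient.mkₐ R (Ideal.span {1 - e i})))
    he.bijective_pi

theorem closure_range_eq_top {R R' : Type*} [CommRing R] [CommRing R'] [Algebra R R']
    (p : Ideal R) (q : Ideal R') [p.IsPrime] [q.IsPrime] [q.LiesOver p]
    (H : Function.Bijective (Ideal.ResidueField.mapₐ p q (Algebra.ofId _ _) (q.over_def p))) :
    Subfield.closure (Set.range (algebraMap R q.ResidueField)) = ⊤ := by
  let f : p.ResidueField →+* q.ResidueField :=
    Ideal.ResidueField.map p q (algebraMap R R') (q.over_def p)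
  have hf : Function.Surjective f := H.2
  have h1 : Subfield.closure (Set.range (algebraMap R p.ResidueField)) = ⊤ := by
    have := IsFractionRing.closure_range_algebraMap (R ⧸ p) p.ResidueField
    rw [← this]
    congr 1
    ext x
    constructor
    · rintro ⟨r, rfl⟩
      exact ⟨Ideal.Quotient.mk p r, rfl⟩
    · rintro ⟨r, rfl⟩
      obtain ⟨r, rfl⟩ := Ideal.Quotient.mk_surjective r
      exact ⟨r, rfl⟩
  have h2 : Set.range (algebraMap R q.ResidueField) =
      f '' Set.range (algebraMap R p.ResidueField) := by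
    rw [← Set.range_comp]
    congr 1
    ext r
    simp [f, Ideal.ResidueField.map_algebraMap, ← IsScalarTower.algebraMap_apply]
  rw [h2, ← RingHom.map_field_closure, h1, ← RingHom.fieldRange_eq_map,
    RingHom.fieldRange_eq_top_iff]
  exact hf

theorem existsUnique_prime_quotient {R T : Type*} [CommRing R] [CommRing T] [Algebra R T]
    (P : Ideal R) (e : T) (he : IsIdempotentElem e) (P' : Ideal T) [P'.IsPrime]
    (hP' : P'.comap (algebraMap R T) = P) (heP' : e ∉ P')
    (huniq : ∀ P'' : Ideal T, P''.IsPrime → P''.comap (algebraMap R T) = P → e ∉ P'' → P'' = P') :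
    ∃! r : Ideal (T ⧸ Ideal.span {1 - e}),
      r.IsPrime ∧ r.comap (algebraMap R (T ⧸ Ideal.span {1 - e})) = P := by
  have hle : Ideal.span {1 - e} ≤ P' := by
    rw [Ideal.span_singleton_le_iff_mem]
    have : e * (1 - e) ∈ P' := by
      rw [mul_sub, mul_one, he.eq, sub_self]
      exact P'.zero_mem
    exact (Ideal.IsPrime.mem_or_mem ‹_› this).resolve_left heP'
  let mk := Ideal.Quotient.mk (Ideal.span {1 - e})
  have hcm : (P'.map mk).comap mk = P' := by
    rw [Ideal.comap_map_of_surjective _ Ideal.Quotient.mk_surjective, ← RingHom.ker_eq_comap_bot,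
      Ideal.mk_ker]
    exact sup_eq_left.mpr hle
  have halg : algebraMap R (T ⧸ Ideal.span {1 - e}) = mk.comp (algebraMap R T) := rfl
  refine ⟨P'.map mk, ⟨?_, ?_⟩, ?_⟩
  · exact Ideal.map_isPrime_of_surjective Ideal.Quotient.mk_surjective (by rwa [Ideal.mk_ker])
  · rw [halg, ← Ideal.comap_comap, hcm, hP']
  · rintro r ⟨hr, hrP⟩
    have h1 : r.comap mk = P' := by
      refine huniq _ (Ideal.comap_isPrime _ _) ?_ ?_
      · rw [Ideal.comap_comap, ← halg, hrP]
      · intro hmem
        have h2 : (1 - e) ∈ r.comap mk := by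
          rw [Ideal.mem_comap]
          have : mk (1 - e) = 0 :=
            Ideal.Quotient.eq_zero_iff_mem.mpr (Ideal.mem_span_singleton_self _)
          rw [this]
          exact r.zero_mem
        have h3 : (1 : T) ∈ r.comap mk := by
          have := add_mem hmem h2
          rwa [add_sub_cancel] at this
        exact (Ideal.comap_isPrime mk r).ne_top ((Ideal.eq_top_iff_one _).mpr h3)
    rw [← h1, Ideal.map_comap_of_surjective _ Ideal.Quotient.mk_surjective]

theorem no_prime_quotient {R T : Type*} [CommRing R] [CommRing T] [Algebra R T]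
    (P : Ideal R) (e : T)
    (hall : ∀ P'' : Ideal T, P''.IsPrime → P''.comap (algebraMap R T) = P → e ∈ P'') :
    ∀ r : Ideal (T ⧸ Ideal.span {1 - e}), r.IsPrime →
      r.comap (algebraMap R (T ⧸ Ideal.span {1 - e})) ≠ P := by
  intro r hr hrP
  let mk := Ideal.Quotient.mk (Ideal.span {1 - e})
  have halg : algebraMap R (T ⧸ Ideal.span {1 - e}) = mk.comp (algebraMap R T) := rfl
  have hmem : e ∈ r.comap mk := by
    refine hall _ (Ideal.comap_isPrime _ _) ?_
    rw [Ideal.comap_comap, ← halg, hrP]
  have h2 : (1 - e) ∈ r.comap mk := by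
    rw [Ideal.mem_comap]
    have : mk (1 - e) = 0 :=
      Ideal.Quotient.eq_zero_iff_mem.mpr (Ideal.mem_span_singleton_self _)
    rw [this]
    exact r.zero_mem
  have h3 : (1 : T) ∈ r.comap mk := by
    have := add_mem hmem h2
    rwa [add_sub_cancel] at this
  exact (Ideal.comap_isPrime mk r).ne_top ((Ideal.eq_top_iff_one _).mpr h3)

theorem not_quasiFiniteAt_prod {R D X : Type*} [CommRing R] [CommRing D] [CommRing X]
    [Algebra R D] [Algebra R X] (P : Ideal R)
    (hD : ∀ r : Ideal D, r.IsPrime → r.comap (algebraMap R D) ≠ P)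
    (hX : ∀ (r : Ideal X) [r.IsPrime], r.comap (algebraMap R X) = P →
      ¬ Algebra.QuasiFiniteAt R r)
    (q : Ideal (D × X)) [hqp : q.IsPrime] (hq : q.comap (algebraMap R (D × X)) = P) :
    ¬ Algebra.QuasiFiniteAt R q := by
  intro hqf
  rcases (Ideal.ideal_prod_prime q).mp hqp with ⟨r, hr, hqr⟩ | ⟨r, hr, hqr⟩
  · subst hqr
    refine hD r hr ?_
    rw [← hq]
    ext x
    simp [Ideal.mem_prod]
  · subst hqr
    haveI := hr
    refine hX r ?_ ?_
    · rw [← hq]
      ext x
      simp [Ideal.mem_prod]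
    · exact Algebra.QuasiFiniteAt.of_surjectiveOnStalks (Ideal.prod ⊤ r) (AlgHom.snd R D X)
        (RingHom.surjectiveOnStalks_of_surjective Prod.snd_surjective) r
        (by ext x; simp [Ideal.mem_prod])

theorem not_quasiFiniteAt_baseChange {R R' S : Type*} [CommRing R] [CommRing R'] [CommRing S]
    [Algebra R R'] [Algebra R S] [Algebra.FiniteType R S]
    {p : Ideal R} {q : Ideal R'} [p.IsPrime] [q.IsPrime] [q.LiesOver p]
    (H : Function.Bijective (Ideal.ResidueField.mapₐ p q (Algebra.ofId _ _) (q.over_def p)))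
    (hS : ∀ (Q : Ideal S) [Q.IsPrime], Q.LiesOver p → ¬ Algebra.QuasiFiniteAt R Q)
    (r : Ideal (R' ⊗[R] S)) [r.IsPrime] (hr : r.comap (algebraMap R' (R' ⊗[R] S)) = q) :
    ¬ Algebra.QuasiFiniteAt R' r := by
  intro h
  haveI : r.LiesOver q := ⟨hr.symm⟩
  have h1 := (quasiFiniteAt_comap_iff H r).mpr h
  exact hS _ (liesOver_comap_includeRight (p := p) (P₁ := q) r) h1

end Groth.Agent.Lib.Helper19.QFProd
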