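import Mathlib
import Groth.Agent.Lib.helper19.QFProd4

set_option autoImplicit false
set_option linter.style.haveILetI false
universe u

namespace Groth.Agent.Lib.Helper19.QFProd

open TensorProduct

theorem main (R : Type u) [CommRing R] (S : Type u) [CommRing S] [Algebra R S]
    [Algebra.FiniteType R S] (p : Ideal R) [p.IsPrime] :
    ∃ (R' : Type u) (_ : CommRing R') (_ : Algebra R R') (_ : Algebra.Etale R R') (p' : Ideal R')
      (_ : p'.IsPrime) (_ : p'.LiesOver p) (n : ℕ) (A : Fin n → Type u) (_ : ∀ i, CommRing (A i))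
      (_ : ∀ i, Algebra R' (A i)) (B : Type u) (_ : CommRing B) (_ : Algebra R' B),
      Subfield.closure (Set.range (algebraMap R p'.ResidueField)) = ⊤ ∧
      Nonempty ((R' ⊗[R] S) ≃ₐ[R'] ((∀ i, A i) × B)) ∧
        (∀ i, Module.Finite R' (A i) ∧
          ∃! r : Ideal (A i), r.IsPrime ∧ r.comap (algebraMap R' (A i)) = p') ∧
        ∀ (q : Ideal B) [q.IsPrime], q.comap (algebraMap R' B) = p' →
          ¬ Algebra.QuasiFiniteAt R' q := by
  obtain ⟨R₁, _, _, _, p₁, _, _, H₁, C, _, _, _, B, _, _, ⟨e₁⟩, hB⟩ := Q₁_holds R S p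
  obtain ⟨R₂, _, _, _, p₂, _, _, n, e, he, P', hP'p, hP'o, H₂, heP', hall⟩ :=
    Algebra.exists_etale_completeOrthogonalIdempotents_forall_liesOver_eq (R := R₁) (S := C) p₁
  letI : Algebra R R₂ := ((algebraMap R₁ R₂).comp (algebraMap R R₁)).toAlgebra
  haveI : IsScalarTower R R₁ R₂ := .of_algebraMap_eq (fun _ => rfl)
  haveI : Algebra.Etale R R₂ := Algebra.Etale.comp R R₁ R₂
  haveI : p₂.LiesOver p := Ideal.LiesOver.trans p₂ p₁ p
  have H := bijective_residueField_trans p p₁ p₂ H₁ H₂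
  haveI : Algebra.FiniteType R₁ B :=
    Algebra.FiniteType.of_surjective ((AlgHom.snd R₁ C B).comp e₁.toAlgHom)
      (Prod.snd_surjective.comp e₁.surjective)
  refine ⟨R₂, inferInstance, inferInstance, inferInstance, p₂, inferInstance, inferInstance, n,
    fun i => (R₂ ⊗[R₁] C) ⧸ Ideal.span {1 - e i.castSucc}, fun i => inferInstance,
    fun i => inferInstance,
    ((R₂ ⊗[R₁] C) ⧸ Ideal.span {1 - e (Fin.last n)}) × (R₂ ⊗[R₁] B), inferInstance, inferInstance,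
    closure_range_eq_top p p₂ H, ⟨?_⟩, ?_, ?_⟩
  · let f1 : R₂ ⊗[R] S ≃ₐ[R₂] R₂ ⊗[R₁] (R₁ ⊗[R] S) :=
      (Algebra.TensorProduct.cancelBaseChange R R₁ R₂ R₂ S).symm
    let f2 : R₂ ⊗[R₁] (R₁ ⊗[R] S) ≃ₐ[R₂] R₂ ⊗[R₁] (C × B) :=
      Algebra.TensorProduct.congr AlgEquiv.refl e₁
    let f3 : R₂ ⊗[R₁] (C × B) ≃ₐ[R₂] ((R₂ ⊗[R₁] C) × (R₂ ⊗[R₁] B)) :=
      Algebra.TensorProduct.prodRight R₁ R₂ R₂ _ _
    let f4 : ((R₂ ⊗[R₁] C) × (R₂ ⊗[R₁] B)) ≃ₐ[R₂]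
        ((∀ i, (R₂ ⊗[R₁] C) ⧸ Ideal.span {1 - e i}) × (R₂ ⊗[R₁] B)) :=
      AlgEquiv.prodCongr (coiEquiv R₂ e he) AlgEquiv.refl
    let f5 : ((∀ i, (R₂ ⊗[R₁] C) ⧸ Ideal.span {1 - e i}) × (R₂ ⊗[R₁] B)) ≃ₐ[R₂]
        (((∀ i : Fin n, (R₂ ⊗[R₁] C) ⧸ Ideal.span {1 - e i.castSucc}) ×
          ((R₂ ⊗[R₁] C) ⧸ Ideal.span {1 - e (Fin.last n)})) × (R₂ ⊗[R₁] B)) :=
      AlgEquiv.prodCongr
        (piFinCastSuccAlgEquiv R₂ (fun i => (R₂ ⊗[R₁] C) ⧸ Ideal.span {1 - e i})) AlgEquiv.refl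
    let f6 := (Groth.Agent.Lib.Helper19.UnramProd.prodAssocAlgEquiv R₂
      (∀ i : Fin n, (R₂ ⊗[R₁] C) ⧸ Ideal.span {1 - e i.castSucc})
      ((R₂ ⊗[R₁] C) ⧸ Ideal.span {1 - e (Fin.last n)}) (R₂ ⊗[R₁] B)).symm
    exact f1.trans (f2.trans (f3.trans (f4.trans (f5.trans f6))))
  · intro i
    refine ⟨?_, ?_⟩
    · exact Module.Finite.of_surjective
        (Ideal.Quotient.mkₐ R₂ (Ideal.span {1 - e i.castSucc})).toLinearMap
        Ideal.Quotient.mk_surjective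
    · haveI := hP'p i
      refine existsUnique_prime_quotient p₂ (e i.castSucc) (he.idem _) (P' i)
        ((P' i).over_def p₂).symm (heP' i) ?_
      intro P'' hP'' hP''o hne
      exact (hall P'' hP'' ⟨hP''o.symm⟩).2 i hne
  · intro q hq hqo
    refine not_quasiFiniteAt_prod p₂ ?_ ?_ q hqo
    · exact no_prime_quotient p₂ (e (Fin.last n))
        (fun P'' hP'' hP''o => (hall P'' hP'' ⟨hP''o.symm⟩).1)
    · intro r hr hro
      exact not_quasiFiniteAt_baseChange H₂ hB r hro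

end Groth.Agent.Lib.Helper19.QFProd
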