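import Mathlib
import Groth.Agent.Lib.helper19.PrimaryPrelim
import Groth.Agent.S13293

/-!
# Central division algebras of dimension 4 are quaternion algebras (char ≠ 2)
-/

set_option autoImplicit false

namespace Groth.Agent.Lib.helper19.Quat

open TensorProduct Groth.Agent.Lib.helper19.CSA

universe u v

theorem exists_quaternion_equiv (k : Type u) [Field k] (h2 : (2 : k) ≠ 0)
    (D : Type v) [DivisionRing D] [Algebra k D] [Algebra.IsCentral k D] [FiniteDimensional k D]
    (hD : Module.finrank k D = 4) :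
    ∃ a b : k, Nonempty (QuaternionAlgebra k a 0 b ≃ₐ[k] D) := by
  classical
  obtain ⟨L, _, _, hfin, hsep, hdim, ⟨ι₀⟩⟩ := Idx.exists_subfield k D
  have hL2 : Module.finrank k L = 2 := by
    have : Module.finrank k L ^ 2 = 2 ^ 2 := by rw [← hdim, hD]; norm_num
    exact Nat.pow_left_injective (by norm_num : 2 ≠ 0) this
  haveI : Algebra.IsQuadraticExtension k L := ⟨hL2⟩
  haveI : IsGalois k L := Algebra.IsQuadraticExtension.isGalois k L
  haveI : IsCyclic (L ≃ₐ[k] L) := Algebra.IsQuadraticExtension.isCyclic k L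
  obtain ⟨σ, hσ⟩ := IsCyclic.exists_generator (α := L ≃ₐ[k] L)
  have hs : Curves.Splits k D L :=
    Groth.Agent.Lib.Helper7.CSA.splits_matrix_of_subfield k D L ι₀ hdim (Fin 1)
      (Prim.oneByOneAlg k D)
  obtain ⟨-, h2nd⟩ := Groth.Agent.S13293.result k L σ hσ D hs
  obtain ⟨b, ι, y, hy, hrel, hadj, -, -⟩ := h2nd (by rw [hD, hL2]; norm_num)
  rw [hL2] at hy
  have hcard : Nat.card (L ≃ₐ[k] L) = 2 := by rw [IsGalois.card_aut_eq_finrank, hL2]
  have hσ1 : σ ≠ 1 := by
    intro h
    have hall : ∀ τ : L ≃ₐ[k] L, τ = 1 := by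
      intro τ
      have := hσ τ
      rw [h, Subgroup.zpowers_one_eq_bot, Subgroup.mem_bot] at this
      exact this
    haveI : Subsingleton (L ≃ₐ[k] L) := ⟨fun a b => by rw [hall a, hall b]⟩
    rw [Nat.card_unique] at hcard
    omega
  have hσ2 : σ * σ = 1 := by
    have := pow_card_eq_one' (G := L ≃ₐ[k] L) (x := σ)
    rw [hcard, pow_two] at this
    exact this
  have hσσ : ∀ x : L, σ (σ x) = x := fun x => by
    have := congrArg (fun f : L ≃ₐ[k] L => f x) hσ2
    exact this
  obtain ⟨α, hα⟩ : ∃ α : L, σ α ≠ α := by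
    by_contra hcon
    push Not at hcon
    exact hσ1 (AlgEquiv.ext hcon)
  set i₀ : L := α - σ α with hi₀
  have hi₀ne : i₀ ≠ 0 := fun h => hα (sub_eq_zero.mp h).symm
  have hσi : σ i₀ = -i₀ := by rw [hi₀, map_sub, hσσ]; ring
  -- the square is in k
  have hfix : ∀ f : L ≃ₐ[k] L, f (i₀ * i₀) = i₀ * i₀ := by
    intro f
    have h1 : σ ∈ MulAction.stabilizer (L ≃ₐ[k] L) (i₀ * i₀) := by
      rw [MulAction.mem_stabilizer_iff, AlgEquiv.smul_def, map_mul, hσi]; ring
    have h2 : f ∈ MulAction.stabilizer (L ≃ₐ[k] L) (i₀ * i₀) :=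
      (Subgroup.zpowers_le.mpr h1) (hσ f)
    rwa [MulAction.mem_stabilizer_iff, AlgEquiv.smul_def] at h2
  obtain ⟨a, ha⟩ := (IsGalois.mem_range_algebraMap_iff_fixed (i₀ * i₀)).mpr hfix
  -- `1, i₀` span `L`
  have hli : LinearIndependent k ![(1 : L), i₀] := by
    rw [LinearIndependent.pair_iff]
    intro s t hst
    have h1 := congrArg σ hst
    rw [map_add, map_smul, map_smul, map_one, hσi, map_zero, smul_neg] at h1
    have h3 : (2 * s) • (1 : L) = 0 := by
      have := congrArg₂ (· + ·) hst h1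
      simp only [add_zero] at this
      rw [← this, mul_smul, two_smul]; abel
    have hs0 : s = 0 := by
      rw [Algebra.smul_def, mul_one] at h3
      have := (algebraMap k L).injective (h3.trans (map_zero _).symm)
      exact (mul_eq_zero.mp this).resolve_left h2
    subst hs0
    rw [zero_smul, zero_add] at hst
    exact ⟨rfl, (smul_eq_zero.mp hst).resolve_right hi₀ne⟩
  have hspan : ∀ x : L, ∃ c₁ c₂ : k, x = c₁ • (1 : L) + c₂ • i₀ := by
    intro x
    let bs := basisOfLinearIndependentOfCardEqFinrank hli (by simp [hL2])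
    refine ⟨bs.repr x 0, bs.repr x 1, ?_⟩
    have := bs.sum_repr x
    rw [Fin.sum_univ_two] at this
    simpa [bs] using this.symm
  -- the quaternion basis
  have hyy : y * y = (b : k) • (1 : D) := by
    rw [← pow_two, hy, Algebra.algebraMap_eq_smul_one]
  have hiy : y * ι i₀ = -(ι i₀ * y) := by
    rw [hrel i₀, hσi, map_neg, mul_neg, neg_neg]
  let q : QuaternionAlgebra.Basis D a 0 (b : k) :=
    { i := ι i₀
      j := y
      k := ι i₀ * y
      i_mul_i := by
        rw [← map_mul, ← ha, AlgHom.commutes, zero_smul, add_zero, Algebra.algebraMap_eq_smul_one]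
      j_mul_j := hyy
      i_mul_j := rfl
      j_mul_i := by rw [zero_smul, zero_sub, hiy] }
  have hrange : q.liftHom.range = ⊤ := by
    rw [QuaternionAlgebra.Basis.range_liftHom, eq_top_iff, ← hadj]
    apply Algebra.adjoin_le
    rintro z (⟨x, rfl⟩ | hz)
    · obtain ⟨c₁, c₂, rfl⟩ := hspan x
      rw [map_add, map_smul, map_smul, map_one]
      refine Subalgebra.add_mem _ (Subalgebra.smul_mem _ (Subalgebra.one_mem _) _)
        (Subalgebra.smul_mem _ (Algebra.subset_adjoin ?_) _)
      simp [q]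
    · rw [Set.mem_singleton_iff] at hz
      subst hz
      apply Algebra.subset_adjoin
      simp [q]
  have hsurj : Function.Surjective q.liftHom := by
    intro z
    have : z ∈ q.liftHom.range := by rw [hrange]; exact Algebra.mem_top
    exact this
  have hinj : Function.Injective q.liftHom := by
    have h4 : Module.finrank k (QuaternionAlgebra k a 0 (b : k)) = Module.finrank k D := by
      rw [QuaternionAlgebra.finrank_eq_four, hD]
    exact (LinearMap.injective_iff_surjective_of_finrank_eq_finrank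
      (f := q.liftHom.toLinearMap) h4).mpr hsurj
  exact ⟨a, b, ⟨AlgEquiv.ofBijective q.liftHom ⟨hinj, hsurj⟩⟩⟩

end Groth.Agent.Lib.helper19.Quat
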