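import Groth.Statements.S19968
import Groth.Agent.Lib.Helper28.GenLocus
import Groth.Agent.Lib.Helper28.TwistGen

set_option autoImplicit false
universe u
open CategoryTheory CategoryTheory.Limits AlgebraicGeometry Opposite TopologicalSpace
noncomputable section

namespace Groth.Agent.Lib.helper19.RatPts

open Groth.Agent.Lib.Helper28 Groth.Agent.Lib.Helper28.QCohLoc Groth.Agent.Lib.Helper28.GenLocus
  Groth.Agent.Lib.Helper28.TwistGen

variable {X : Scheme.{u}}

/-- coefficient of a global section with respect to a local generator -/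
def coeff (L : X.Modules) (U : X.Opens) (g : Γ(L, U)) (hg : IsGen L U g) (σ : Γ(L, ⊤)) : Γ(X, U) :=
  Classical.choose ((hg U le_rfl).2 (res L le_top σ))

theorem coeff_spec (L : X.Modules) (U : X.Opens) (g : Γ(L, U)) (hg : IsGen L U g) (σ : Γ(L, ⊤)) :
    (coeff L U g hg σ • g : Γ(L, U)) = res L le_top σ := by
  have h : (coeff L U g hg σ • res L le_rfl g : Γ(L, U)) = res L le_top σ :=
    Classical.choose_spec ((hg U le_rfl).2 (res L le_top σ))
  rwa [res_self] at h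

theorem coeff_eq (L : X.Modules) (U : X.Opens) (g : Γ(L, U)) (hg : IsGen L U g) (σ : Γ(L, ⊤))
    (r : Γ(X, U)) (h : (r • g : Γ(L, U)) = res L le_top σ) : coeff L U g hg σ = r := by
  apply (hg U le_rfl).1
  show (coeff L U g hg σ • res L le_rfl g : Γ(L, U)) = (r • res L le_rfl g : Γ(L, U))
  rw [res_self, coeff_spec, h]

theorem coeff_sum (L : X.Modules) (U : X.Opens) (g : Γ(L, U)) (hg : IsGen L U g) {ι : Type*}
    (s : Finset ι) (a : ι → Γ(X, ⊤)) (τ : ι → Γ(L, ⊤)) :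
    coeff L U g hg (∑ j ∈ s, (a j • τ j : Γ(L, ⊤))) =
      ∑ j ∈ s, resO le_top (a j) * coeff L U g hg (τ j) := by
  apply coeff_eq
  have hsum : res L (le_top : U ≤ ⊤) (∑ j ∈ s, (a j • τ j : Γ(L, ⊤))) =
      ∑ j ∈ s, res L (le_top : U ≤ ⊤) (a j • τ j : Γ(L, ⊤)) :=
    map_sum (L.presheaf.map (homOfLE (le_top : U ≤ ⊤)).op).hom _ _
  rw [Finset.sum_smul, hsum]
  refine Finset.sum_congr rfl fun j _ => ?_
  rw [mul_smul, coeff_spec, res_smul]

variable {k : Type u} [Field k]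

theorem top_le_preimage (p : Spec (CommRingCat.of k) ⟶ X) (U : X.Opens)
    (hU : p (IsLocalRing.closedPoint k) ∈ U) :
    (⊤ : (Spec (CommRingCat.of k)).Opens) ≤ p ⁻¹ᵁ U := by
  intro y _
  have : y = IsLocalRing.closedPoint k := (inferInstance : Subsingleton (PrimeSpectrum k)).elim _ _
  show p y ∈ U
  rw [this]; exact hU

/-- evaluation of a function at a rational point -/
def ev (p : Spec (CommRingCat.of k) ⟶ X) (U : X.Opens) (hU : p (IsLocalRing.closedPoint k) ∈ U) :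
    Γ(X, U) →+* k :=
  (Scheme.ΓSpecIso (CommRingCat.of k)).hom.hom.comp (p.appLE U ⊤ (top_le_preimage p U hU)).hom

theorem appLE_top_of_eq_id {Y : Scheme.{u}} (q : Y ⟶ Y) (h : q = 𝟙 Y) (e) :
    q.appLE ⊤ ⊤ e = 𝟙 _ := by
  subst h
  simp [Scheme.Hom.appLE]

theorem ev_toGlobal (p : Spec (CommRingCat.of k) ⟶ X) (U : X.Opens)
    (hU : p (IsLocalRing.closedPoint k) ∈ U) (f : X ⟶ Spec (CommRingCat.of k)) (hp : p ≫ f = 𝟙 _)
    (c : k) : ev p U hU (resO le_top (Coh.toGlobal f c)) = c := by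
  have h1 : p.appLE U ⊤ (top_le_preimage p U hU) (resO le_top (Coh.toGlobal f c)) =
      (Scheme.ΓSpecIso (CommRingCat.of k)).inv c := by
    have e1 : X.presheaf.map (homOfLE (le_top : U ≤ ⊤)).op ≫ p.appLE U ⊤ (top_le_preimage p U hU) =
        p.appLE ⊤ ⊤ le_top := Scheme.Hom.map_appLE _ _ _
    have e2 : f.appTop ≫ p.appLE ⊤ ⊤ le_top = (p ≫ f).appLE ⊤ ⊤ le_top :=
      (Scheme.Hom.comp_appLE p f ⊤ ⊤ le_top).symm
    have e3 : (p ≫ f).appLE ⊤ ⊤ le_top = 𝟙 _ := appLE_top_of_eq_id _ hp _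
    calc p.appLE U ⊤ (top_le_preimage p U hU) (resO le_top (Coh.toGlobal f c))
        = (X.presheaf.map (homOfLE (le_top : U ≤ ⊤)).op ≫ p.appLE U ⊤ (top_le_preimage p U hU))
            (Coh.toGlobal f c) := rfl
      _ = p.appLE ⊤ ⊤ le_top (Coh.toGlobal f c) := by rw [e1]
      _ = (f.appTop ≫ p.appLE ⊤ ⊤ le_top) ((Scheme.ΓSpecIso (CommRingCat.of k)).inv c) := rfl
      _ = (Scheme.ΓSpecIso (CommRingCat.of k)).inv c := by rw [e2, e3]; rfl
  show (Scheme.ΓSpecIso (CommRingCat.of k)).hom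
    (p.appLE U ⊤ (top_le_preimage p U hU) (resO le_top (Coh.toGlobal f c))) = c
  rw [h1]
  exact Iso.inv_hom_id_apply (Scheme.ΓSpecIso (CommRingCat.of k)) c

theorem ev_ne_zero (p : Spec (CommRingCat.of k) ⟶ X) (U : X.Opens)
    (hU : p (IsLocalRing.closedPoint k) ∈ U) (r : Γ(X, U))
    (h : p (IsLocalRing.closedPoint k) ∈ X.basicOpen r) : ev p U hU r ≠ 0 := by
  have h1 : IsLocalRing.closedPoint k ∈ p ⁻¹ᵁ X.basicOpen r := h
  rw [Scheme.Hom.preimage_basicOpen] at h1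
  have h2 : IsLocalRing.closedPoint k ∈
      (Spec (CommRingCat.of k)).basicOpen (p.appLE U ⊤ (top_le_preimage p U hU) r) := by
    have e : p.appLE U ⊤ (top_le_preimage p U hU) r =
        (Spec (CommRingCat.of k)).presheaf.map (homOfLE (top_le_preimage p U hU)).op (p.app U r) := rfl
    rw [e, Scheme.basicOpen_res]
    exact ⟨trivial, h1⟩
  rw [basicOpen_eq_of_affine'] at h2
  intro h0
  apply h2
  show ev p U hU r ∈ _
  rw [h0]
  exact zero_mem _

theorem main (k : Type u) [Field k] (X : Scheme.{u}) [X.Over (Spec (CommRingCat.of k))]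
    (L : X.Modules) (hL : PicF.IsInvertible L)
    (n : ℕ) (p : Fin n → (Spec (CommRingCat.of k) ⟶ X))
    (hp : ∀ i, p i ≫ (X ↘ Spec (CommRingCat.of k)) = 𝟙 _)
    (t : Fin (n + 1) → (Coh.structureModule X ⟶ L))
    (ht : LinSer.LinIndep k X L (fun j => (L.unitHomEquiv (t j)).val (op ⊤))) :
    ∃ s : Coh.structureModule X ⟶ L, s ≠ 0 ∧
      ∀ i, (p i) (IsLocalRing.closedPoint k) ∉ CohB1.genLocus L s := by
  classical
  choose U g hxU hg using fun i => exists_isGen L hL ((p i) (IsLocalRing.closedPoint k))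
  let τ : Fin (n + 1) → Γ(L, ⊤) := fun j => (L.unitHomEquiv (t j)).val (op ⊤)
  let A : Matrix (Fin n) (Fin (n + 1)) k :=
    Matrix.of fun i j => ev (p i) (U i) (hxU i) (coeff L (U i) (g i) (hg i) (τ j))
  have hker : LinearMap.ker A.mulVecLin ≠ ⊥ :=
    LinearMap.ker_ne_bot_of_finrank_lt (by simp)
  obtain ⟨c, hc, hc0⟩ := Submodule.exists_mem_ne_zero_of_ne_bot hker
  have hcA : ∀ i, ∑ j, A i j * c j = 0 := by
    intro i
    have := congr_fun (LinearMap.mem_ker.1 hc) i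
    simpa [Matrix.mulVec, dotProduct] using this
  let a : Fin (n + 1) → Γ(X, ⊤) := fun j =>
    (show Γ(X, ⊤) from Coh.toGlobal (X ↘ Spec (CommRingCat.of k)) (c j))
  let σ : Γ(L, ⊤) := ∑ j, (a j • τ j : Γ(L, ⊤))
  have hσ : σ = 0 → c = 0 := fun h => ht c h
  refine ⟨ofSection L σ, ?_, ?_⟩
  · intro h0
    have h1 : σ = 0 := by
      have h2 := ofSection_app_one L σ ⊤
      rw [h0, res_self] at h2
      exact h2.symm
    exact hc0 (hσ h1)
  · intro i hi
    have h1 := genLocus_inf_eq_basicOpen (ofSection L σ) (U i) (g i) (hg i)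
      (coeff L (U i) (g i) (hg i) σ) (by rw [coeff_spec]; exact ofSection_app_one L σ (U i))
    have h2 : (p i) (IsLocalRing.closedPoint k) ∈ X.basicOpen (coeff L (U i) (g i) (hg i) σ) := by
      rw [← h1]; exact ⟨hi, hxU i⟩
    refine ev_ne_zero (p i) (U i) (hxU i) _ h2 ?_
    rw [coeff_sum, map_sum]
    rw [← hcA i]
    refine Finset.sum_congr rfl fun j _ => ?_
    rw [map_mul, mul_comm]
    congr 1
    exact ev_toGlobal _ _ _ _ (hp i) (c j)

end Groth.Agent.Lib.helper19.RatPts
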