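import Groth.Agent.Lib.helper19.DualExtend
import Mathlib.Algebra.Module.Torsion.Free
import Mathlib.Algebra.Exact.Basic

set_option autoImplicit false

namespace Groth.Agent.Lib.helper19

universe u v w

variable {R : Type u} [CommRing R] [IsDomain R]

/-- A finite torsion-free module over a domain embeds into its double dual. -/
theorem eval_injective_of_isTorsionFree (M : Type v) [AddCommGroup M] [Module R M]
    [Module.Finite R M] [Module.IsTorsionFree R M] :
    Function.Injective (Module.Dual.eval R M) := by
  rw [← LinearMap.ker_eq_bot, Submodule.eq_bot_iff]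
  intro x hx
  by_contra hx0
  have hinj : Function.Injective (LinearMap.toSpanSingleton R M x) := by
    intro a b hab
    simp only [LinearMap.toSpanSingleton_apply] at hab
    exact smul_left_injective R hx0 hab
  obtain ⟨r, ψ, hr, hψ⟩ := exists_dual_extension (LinearMap.toSpanSingleton R M x) hinj
    (LinearMap.id : R →ₗ[R] R)
  have h1 : ψ x = r := by
    have := LinearMap.congr_fun hψ 1
    simpa using this
  have h2 : ψ x = 0 := by
    have := LinearMap.congr_fun (LinearMap.mem_ker.mp hx) ψ
    simpa using this
  exact hr (h1.symm.trans h2)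

/-- The double dual of an injective map into a finite module over a domain is injective. -/
theorem dualMap_dualMap_injective {M : Type v} {M' : Type w} [AddCommGroup M] [Module R M]
    [AddCommGroup M'] [Module R M'] [Module.Finite R M']
    (f : M →ₗ[R] M') (hf : Function.Injective f) : Function.Injective f.dualMap.dualMap := by
  rw [← LinearMap.ker_eq_bot, Submodule.eq_bot_iff]
  intro ξ hξ
  ext φ
  obtain ⟨r, ψ, hr, hψ⟩ := exists_dual_extension f hf φ
  have h1 : ξ (r • φ) = 0 := by
    rw [← hψ]
    have := LinearMap.congr_fun (LinearMap.mem_ker.mp hξ) ψ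
    simpa [LinearMap.dualMap_apply'] using this
  rw [map_smul, smul_eq_mul] at h1
  rcases mul_eq_zero.mp h1 with h | h
  · exact absurd h hr
  · simpa using h

/-- `0 → M → M' → M''` exact, `M'` reflexive, `M''` torsion free (all finite over a domain)
implies `M` reflexive. -/
theorem isReflexive_of_exact {M : Type v} {M' : Type w} {M'' : Type*} [AddCommGroup M] [Module R M]
    [AddCommGroup M'] [Module R M'] [Module.Finite R M'] [AddCommGroup M''] [Module R M'']
    [Module.Finite R M'']
    (f : M →ₗ[R] M') (g : M' →ₗ[R] M'') (hf : Function.Injective f) (hfg : Function.Exact f g)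
    [Module.IsReflexive R M'] [Module.IsTorsionFree R M''] : Module.IsReflexive R M := by
  have hM' := Module.IsReflexive.bijective_dual_eval' (R := R) (M := M')
  have hnat : ∀ m, f.dualMap.dualMap (Module.Dual.eval R M m) = Module.Dual.eval R M' (f m) := by
    intro m; ext ψ; simp
  have hnat' : ∀ m', g.dualMap.dualMap (Module.Dual.eval R M' m') =
      Module.Dual.eval R M'' (g m') := by
    intro m; ext ψ; simp
  refine ⟨⟨?_, ?_⟩⟩
  · intro a b hab
    apply hf
    apply hM'.1
    rw [← hnat, ← hnat, hab]
  · intro ξ
    obtain ⟨m', hm'⟩ := hM'.2 (f.dualMap.dualMap ξ)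
    have hgm' : g m' = 0 := by
      apply eval_injective_of_isTorsionFree (R := R) M''
      rw [← hnat', hm', map_zero]
      ext ψ
      have hz : f.dualMap (g.dualMap ψ) = 0 := by
        ext m
        simp [hfg.apply_apply_eq_zero]
      change ξ (f.dualMap (g.dualMap ψ)) = 0
      rw [hz, map_zero]
    obtain ⟨m, rfl⟩ := (hfg m').mp hgm'
    refine ⟨m, ?_⟩
    apply dualMap_dualMap_injective f hf
    rw [hnat, hm']

end Groth.Agent.Lib.helper19
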