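import Groth.Agent.Lib.helper19.Reflexive
import Mathlib.LinearAlgebra.FreeModule.Finite.Matrix
import Mathlib.RingTheory.Noetherian.Basic
import Mathlib.LinearAlgebra.Pi

set_option autoImplicit false

namespace Groth.Agent.Lib.helper19

universe u v

variable {R : Type u} [CommRing R] [IsDomain R] [IsNoetherianRing R]

theorem isReflexive_iff_exists_injective_torsionFree_coker (M : Type v) [AddCommGroup M]
    [Module R M] [Module.Finite R M] :
    Module.IsReflexive R M ↔ ∃ (n : ℕ) (f : M →ₗ[R] (Fin n → R)), Function.Injective f ∧
      Module.IsTorsionFree R ((Fin n → R) ⧸ LinearMap.range f) := by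
  constructor
  · intro hM
    have hMbij := Module.IsReflexive.bijective_dual_eval' (R := R) (M := M)
    obtain ⟨n, π, hπ⟩ := Module.Finite.exists_fin' R (Module.Dual R M)
    have hker : Module.Finite R (LinearMap.ker π) := Module.Finite.of_injective _
      (Submodule.injective_subtype _)
    obtain ⟨m, p', hp'⟩ := Module.Finite.exists_fin' R (LinearMap.ker π)
    let p : (Fin m → R) →ₗ[R] (Fin n → R) := (LinearMap.ker π).subtype.comp p'
    have hrange : LinearMap.range p = LinearMap.ker π := by
      rw [LinearMap.range_comp, LinearMap.range_eq_top.mpr hp', Submodule.map_top,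
        Submodule.range_subtype]
    let e : Module.Dual R (Fin n → R) ≃ₗ[R] (Fin n → R) := LinearEquiv.piRing R R (Fin n) R
    let f : M →ₗ[R] (Fin n → R) :=
      e.toLinearMap ∘ₗ π.dualMap ∘ₗ Module.Dual.eval R M
    refine ⟨n, f, ?_, ?_⟩
    · exact e.injective.comp ((LinearMap.dualMap_injective_of_surjective hπ).comp hMbij.1)
    · rw [Module.isTorsionFree_iff_smul_eq_zero]
      intro r y hry
      obtain ⟨y, rfl⟩ := Submodule.mkQ_surjective _ y
      by_cases hr : r = 0
      · exact Or.inl hr
      right
      have h1 : r • y ∈ LinearMap.range f := by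
        rwa [Submodule.mkQ_apply, ← Submodule.Quotient.mk_smul,
          Submodule.Quotient.mk_eq_zero] at hry
      obtain ⟨x, hx⟩ := h1
      let lam : Module.Dual R (Fin n → R) := e.symm y
      have h2 : r • lam = π.dualMap (Module.Dual.eval R M x) := by
        apply e.injective
        rw [map_smul, LinearEquiv.apply_symm_apply, ← hx]
        rfl
      have h3 : lam ∘ₗ p = 0 := by
        have : r • (lam ∘ₗ p) = 0 := by
          rw [← LinearMap.smul_comp, h2]
          refine LinearMap.ext fun z => ?_
          have hz : π (p z) = 0 := by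
            have : p z ∈ LinearMap.ker π := by rw [← hrange]; exact ⟨_, rfl⟩
            exact this
          simp [hz]
        exact (smul_eq_zero.mp this).resolve_left hr
      have hle : LinearMap.ker π ≤ LinearMap.ker lam := by
        rw [← hrange]
        rintro _ ⟨z, rfl⟩
        exact LinearMap.congr_fun h3 z
      let ξ : Module.Dual R (Module.Dual R M) := ((LinearMap.ker π).liftQ lam hle).comp
        (π.quotKerEquivOfSurjective hπ).symm.toLinearMap
      have h4 : π.dualMap ξ = lam := by
        refine LinearMap.ext fun z => ?_
        simp only [ξ, LinearMap.dualMap_apply, LinearMap.comp_apply, LinearEquiv.coe_coe]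
        have : (π.quotKerEquivOfSurjective hπ).symm (π z) = Submodule.Quotient.mk z := by
          rw [LinearEquiv.symm_apply_eq]
          rfl
        rw [this, Submodule.liftQ_apply]
      obtain ⟨x', hx'⟩ := hMbij.2 ξ
      rw [Submodule.mkQ_apply, Submodule.Quotient.mk_eq_zero]
      refine ⟨x', ?_⟩
      simp only [f, LinearMap.comp_apply, LinearEquiv.coe_coe, hx', h4, lam,
        LinearEquiv.apply_symm_apply]
  · rintro ⟨n, f, hf, htf⟩
    exact isReflexive_of_exact f (LinearMap.range f).mkQ hf (LinearMap.exact_map_mkQ_range f)

end Groth.Agent.Lib.helper19
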