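import Groth.Agent.Lib.helper19.Reflexive
import Mathlib.LinearAlgebra.FreeModule.Finite.Matrix
import Mathlib.RingTheory.Noetherian.Basic
import Mathlib.LinearAlgebra.Pi

set_option autoImplicit false

namespace Groth.Agent.Lib.helper19

universe u v w

theorem isReflexive_pi_fin {R : Type u} [CommRing R] (N : Type v) [AddCommGroup N] [Module R N]
    [Module.IsReflexive R N] : ∀ n : ℕ, Module.IsReflexive R (Fin n → N) := by
  intro n
  induction n with
  | zero => exact Module.IsReflexive.of_finite_of_free _ _
  | succ n ih =>
    exact Module.equiv (Fin.consLinearEquiv R (fun _ : Fin n.succ => N))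

variable {R : Type u} [CommRing R] [IsDomain R] [IsNoetherianRing R]

/-- `Hom(M, N)` is reflexive when `N` is (finite modules over a Noetherian domain). -/
theorem isReflexive_linearMap (M : Type v) (N : Type w) [AddCommGroup M] [Module R M]
    [Module.Finite R M] [AddCommGroup N] [Module R N] [Module.Finite R N]
    [Module.IsReflexive R N] : Module.IsReflexive R (M →ₗ[R] N) := by
  obtain ⟨n, q, hq⟩ := Module.Finite.exists_fin' R M
  have hker : Module.Finite R (LinearMap.ker q) := Module.Finite.of_injective _
    (Submodule.injective_subtype _)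
  obtain ⟨m, p', hp'⟩ := Module.Finite.exists_fin' R (LinearMap.ker q)
  let p : (Fin m → R) →ₗ[R] (Fin n → R) := (LinearMap.ker q).subtype.comp p'
  have hrange : LinearMap.range p = LinearMap.ker q := by
    rw [LinearMap.range_comp, LinearMap.range_eq_top.mpr hp', Submodule.map_top,
      Submodule.range_subtype]
  let F : (M →ₗ[R] N) →ₗ[R] ((Fin n → R) →ₗ[R] N) := LinearMap.lcomp R N q
  let G : ((Fin n → R) →ₗ[R] N) →ₗ[R] ((Fin m → R) →ₗ[R] N) := LinearMap.lcomp R N p
  have hF : Function.Injective F := by
    intro a b hab
    ext x
    obtain ⟨y, rfl⟩ := hq x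
    exact LinearMap.congr_fun hab y
  have hFG : Function.Exact F G := by
    intro h
    constructor
    · intro hG
      have hle : LinearMap.ker q ≤ LinearMap.ker h := by
        rw [← hrange]
        rintro _ ⟨z, rfl⟩
        exact LinearMap.congr_fun hG z
      refine ⟨((LinearMap.ker q).liftQ h hle).comp
        (q.quotKerEquivOfSurjective hq).symm.toLinearMap, ?_⟩
      refine LinearMap.ext fun x => ?_
      simp only [F, LinearMap.lcomp_apply', LinearMap.comp_apply, LinearEquiv.coe_coe]
      have : (q.quotKerEquivOfSurjective hq).symm (q x) = Submodule.Quotient.mk x := by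
        rw [LinearEquiv.symm_apply_eq]
        rfl
      rw [this, Submodule.liftQ_apply]
    · rintro ⟨h', rfl⟩
      refine LinearMap.ext fun z => ?_
      simp only [G, F, LinearMap.lcomp_apply', LinearMap.comp_apply]
      have : q (p z) = 0 := by
        have : p z ∈ LinearMap.ker q := by
          rw [← hrange]; exact ⟨_, rfl⟩
        exact this
      simp [this]
  have : Module.IsReflexive R ((Fin n → R) →ₗ[R] N) :=
    have := isReflexive_pi_fin (R := R) N n
    Module.equiv (LinearEquiv.piRing R N (Fin n) R).symm
  exact isReflexive_of_exact F G hF hFG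

end Groth.Agent.Lib.helper19
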