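import Mathlib

set_option autoImplicit false
universe u
open CategoryTheory CategoryTheory.Limits AlgebraicGeometry TopologicalSpace

namespace Groth.Agent.Lib.Helper19.RegAmbient

theorem regular_stalk_Spec (P : Type u) [CommRing P] [IsRegularRing P]
    (y : Spec (CommRingCat.of P)) :
    IsRegularLocalRing ((Spec (CommRingCat.of P)).presheaf.stalk y) := by
  have hU : IsAffineOpen (⊤ : (Spec (CommRingCat.of P)).Opens) := isAffineOpen_top _
  haveI : IsRegularRing Γ(Spec (CommRingCat.of P), ⊤) :=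
    IsRegularRing.of_ringEquiv (Scheme.ΓSpecIso (CommRingCat.of P)).symm.commRingCatIsoToRingEquiv
  letI : Algebra Γ(Spec (CommRingCat.of P), ⊤) ((Spec (CommRingCat.of P)).presheaf.stalk y) :=
    TopCat.Presheaf.algebra_section_stalk (Spec (CommRingCat.of P)).presheaf (⟨y, trivial⟩ : (⊤ : (Spec (CommRingCat.of P)).Opens))
  haveI : IsLocalization.AtPrime ((Spec (CommRingCat.of P)).presheaf.stalk y)
      (hU.primeIdealOf (⟨y, trivial⟩ : (⊤ : (Spec (CommRingCat.of P)).Opens))).asIdeal :=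
    hU.isLocalization_stalk (⟨y, trivial⟩ : (⊤ : (Spec (CommRingCat.of P)).Opens))
  let ey : Localization.AtPrime (hU.primeIdealOf (⟨y, trivial⟩ : (⊤ : (Spec (CommRingCat.of P)).Opens))).asIdeal ≃ₐ[Γ(Spec (CommRingCat.of P), ⊤)]
      (Spec (CommRingCat.of P)).presheaf.stalk y :=
    IsLocalization.algEquiv (hU.primeIdealOf (⟨y, trivial⟩ : (⊤ : (Spec (CommRingCat.of P)).Opens))).asIdeal.primeCompl _ _
  exact IsRegularLocalRing.of_ringEquiv ey.toRingEquiv

theorem hom_to_Spec_eq {Z : Scheme.{u}} {R : CommRingCat.{u}} (h : Z ⟶ Spec R) :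
    h = Z.toSpecΓ ≫ Spec.map ((Scheme.ΓSpecIso R).inv ≫ h.appTop) := by
  rw [Spec.map_comp, ← Category.assoc, ← Scheme.toSpecΓ_naturality, Category.assoc,
    toSpecΓ_SpecMap_ΓSpecIso_inv, Category.comp_id]

theorem main (k : Type u) [Field k] {X : Scheme.{u}}
    (f : X ⟶ Spec (CommRingCat.of k)) [LocallyOfFiniteType f] (x : X) :
    ∃ (U : X.Opens) (_ : x ∈ U) (Y : Scheme.{u}) (g : Y ⟶ Spec (CommRingCat.of k))
      (i : (U : Scheme.{u}) ⟶ Y),
      IsImmersion i ∧ i ≫ g = U.ι ≫ f ∧ ∀ y : Y, IsRegularLocalRing (Y.presheaf.stalk y) := by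
  obtain ⟨U, hU, hxU, -⟩ := exists_isAffineOpen_mem_and_subset (x := x) (U := ⊤) trivial
  haveI : IsAffine U := hU
  let h : (U : Scheme.{u}) ⟶ Spec (CommRingCat.of k) := U.ι ≫ f
  haveI : LocallyOfFiniteType h := inferInstance
  have hft : RingHom.FiniteType h.appTop.hom :=
    (HasRingHomProperty.iff_of_isAffine (P := @LocallyOfFiniteType)).mp inferInstance
  let ψ : k →+* Γ(U, ⊤) := ((Scheme.ΓSpecIso (CommRingCat.of k)).inv ≫ h.appTop).hom
  have hψ : ψ.FiniteType := by
    have : ψ = h.appTop.hom.comp (Scheme.ΓSpecIso (CommRingCat.of k)).inv.hom := rfl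
    rw [this]
    exact hft.comp (RingHom.FiniteType.of_surjective _
      (ConcreteCategory.bijective_of_isIso (Scheme.ΓSpecIso (CommRingCat.of k)).inv).surjective)
  algebraize [ψ]
  obtain ⟨n, π, hπ⟩ := Algebra.FiniteType.iff_quotient_mvPolynomial''.mp
    (inferInstance : Algebra.FiniteType k Γ(U, ⊤))
  refine ⟨U, hxU, Spec (CommRingCat.of (MvPolynomial (Fin n) k)),
    Spec.map (CommRingCat.ofHom MvPolynomial.C),
    (U : Scheme.{u}).toSpecΓ ≫ Spec.map (CommRingCat.ofHom π.toRingHom), ?_, ?_, ?_⟩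
  · have h2 : IsClosedImmersion (Spec.map (CommRingCat.ofHom π.toRingHom)) :=
      IsClosedImmersion.spec_of_surjective (CommRingCat.ofHom π.toRingHom) hπ
    haveI : IsIso (U : Scheme.{u}).toSpecΓ := IsAffine.affine
    have h1 : IsClosedImmersion (U : Scheme.{u}).toSpecΓ := inferInstance
    have h3 := @IsClosedImmersion.comp _ _ _ (U : Scheme.{u}).toSpecΓ
      (Spec.map (CommRingCat.ofHom π.toRingHom)) h1 h2
    have h4 : IsImmersion ((U : Scheme.{u}).toSpecΓ ≫
        (Spec.map (CommRingCat.ofHom π.toRingHom) : Spec Γ(U, ⊤) ⟶ _)) := by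
      haveI := h3; infer_instance
    exact h4
  · rw [Category.assoc, ← Spec.map_comp]
    have hc : CommRingCat.ofHom (MvPolynomial.C : k →+* MvPolynomial (Fin n) k) ≫
        CommRingCat.ofHom π.toRingHom = (Scheme.ΓSpecIso (CommRingCat.of k)).inv ≫ h.appTop := by
      ext a
      change π (MvPolynomial.C a) = ψ a
      rw [← MvPolynomial.algebraMap_eq, π.commutes]
      rfl
    have h2 := hom_to_Spec_eq h
    rw [← hc] at h2
    exact h2.symm
  · intro y
    exact regular_stalk_Spec (MvPolynomial (Fin n) k) y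

end Groth.Agent.Lib.Helper19.RegAmbient
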