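import Groth.Agent.Lib.helper19.RegSeqGen

set_option autoImplicit false
universe u
open IsLocalRing

namespace Groth.Agent.Lib.Helper19.RegSeqGen2

theorem aux {P : Type u} [CommRing P] (I : Ideal P) (q : Ideal (P ⧸ I)) [q.IsPrime]
    (R : Type u) [CommRing R] [Algebra P R] [IsLocalization.AtPrime R (q.comap (Ideal.Quotient.mk I))]
    [IsRegularLocalRing R] (c : ℕ)
    (hc : (c : ℕ∞) + q.height = (q.comap (Ideal.Quotient.mk I)).height)
    (f : Fin c → R)
    (hf : ∀ i, f i ∈ I.map (algebraMap P R))
    (hgen : Ideal.span (Set.range f) ⊔ IsLocalRing.maximalIdeal R * I.map (algebraMap P R) =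
      I.map (algebraMap P R)) :
    RingTheory.Sequence.IsRegular R (List.ofFn f) := by
  have hIq : I ≤ q.comap (Ideal.Quotient.mk I) := by
    intro x hx
    rw [Ideal.mem_comap, Ideal.Quotient.eq_zero_iff_mem.mpr hx]
    exact q.zero_mem
  have hJm : I.map (algebraMap P R) ≤ maximalIdeal R := by
    rw [← IsLocalization.AtPrime.map_eq_maximalIdeal (q.comap (Ideal.Quotient.mk I)) R]
    exact Ideal.map_mono hIq
  -- span f = J
  have hspan : Ideal.span (Set.range f) = I.map (algebraMap P R) := by
    apply le_antisymm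
    · rw [Ideal.span_le]
      rintro _ ⟨i, rfl⟩
      exact hf i
    · apply Submodule.le_of_le_smul_of_le_jacobson_bot (I := maximalIdeal R)
        (IsNoetherian.noetherian _) (IsLocalRing.maximalIdeal_le_jacobson _)
      rw [smul_eq_mul]
      exact hgen.ge
  apply RegSeqGen.isRegular_of_dim c f (fun i => hJm (hf i))
  rw [hspan]
  -- dimensions
  have h1 : ringKrullDim R = (q.comap (Ideal.Quotient.mk I)).height :=
    IsLocalization.AtPrime.ringKrullDim_eq_height _ R
  haveI hloc : IsLocalization (Algebra.algebraMapSubmonoid (P ⧸ I)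
      (q.comap (Ideal.Quotient.mk I)).primeCompl) (R ⧸ I.map (algebraMap P R)) := inferInstance
  have hsub : Algebra.algebraMapSubmonoid (P ⧸ I) (q.comap (Ideal.Quotient.mk I)).primeCompl =
      q.primeCompl := by
    ext x
    constructor
    · rintro ⟨y, hy, rfl⟩
      exact hy
    · intro hx
      obtain ⟨y, rfl⟩ := Ideal.Quotient.mk_surjective x
      exact ⟨y, hx, rfl⟩
  rw [hsub] at hloc
  haveI : IsLocalization.AtPrime (R ⧸ I.map (algebraMap P R)) q := hloc
  have h2 : ringKrullDim (R ⧸ I.map (algebraMap P R)) = q.height :=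
    IsLocalization.AtPrime.ringKrullDim_eq_height q _
  rw [h1, h2, ← hc]
  push_cast
  rfl

theorem main (k : Type u) [Field k] (n : ℕ)
    (I : Ideal (MvPolynomial (Fin n) k)) (q : Ideal (MvPolynomial (Fin n) k ⧸ I)) [q.IsPrime] (c : ℕ)
    (hc : (c : ℕ∞) + q.height = (q.comap (Ideal.Quotient.mk I)).height)
    (f : Fin c → Localization.AtPrime (q.comap (Ideal.Quotient.mk I)))
    (hf : ∀ i, f i ∈ I.map (algebraMap _ (Localization.AtPrime (q.comap (Ideal.Quotient.mk I)))))
    (hgen : Ideal.span (Set.range f) ⊔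
        IsLocalRing.maximalIdeal (Localization.AtPrime (q.comap (Ideal.Quotient.mk I))) *
          I.map (algebraMap _ (Localization.AtPrime (q.comap (Ideal.Quotient.mk I)))) =
      I.map (algebraMap _ (Localization.AtPrime (q.comap (Ideal.Quotient.mk I))))) :
    RingTheory.Sequence.IsRegular (Localization.AtPrime (q.comap (Ideal.Quotient.mk I))) (List.ofFn f) :=
  aux I q _ c hc f hf hgen

end Groth.Agent.Lib.Helper19.RegSeqGen2
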