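import Groth.Statements.S18912

set_option autoImplicit false
universe u
open CategoryTheory CategoryTheory.Limits AlgebraicGeometry

namespace Groth.Agent.Lib.helper19.RootGen

/-- A `d`-th root of unity in an extension field of an algebraically closed field comes from
the base field. -/
lemma exists_root_of_pow_eq_one {k K : Type*} [Field k] [IsAlgClosed k] [Field K] (φ : k →+* K)
    (d : ℕ) (hd : 1 ≤ d) (ζ : K) (hζ : ζ ^ d = 1) : ∃ ξ : k, ξ ^ d = 1 ∧ φ ξ = ζ := by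
  let p : Polynomial k := Polynomial.X ^ d - Polynomial.C 1
  have hm : p.Monic := Polynomial.monic_X_pow_sub_C 1 (by omega)
  have hs : p.Splits := IsAlgClosed.splits p
  have hroot : (p.map φ).IsRoot ζ := by
    simp [p, Polynomial.IsRoot, hζ]
  obtain ⟨ξ, hξ⟩ := hs.mem_range_of_isRoot hm.ne_zero hroot
  refine ⟨ξ, ?_, hξ⟩
  apply φ.injective
  rw [map_pow, hξ, hζ, map_one]

/-- The algebra: in a field `K` over alg. closed `k`, if `t ≠ 0` and `t' ^ d = t ^ d` there is a root of unity. -/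
lemma exists_root {k K : Type*} [Field k] [IsAlgClosed k] [Field K] (φ : k →+* K)
    (d : ℕ) (hd : 1 ≤ d) (t t' : K) (ht : t ≠ 0) (h : t' ^ d = t ^ d) :
    ∃ ξ : k, ξ ^ d = 1 ∧ ∀ s s' : K, s' * t' ^ (d - 1) = s * t ^ (d - 1) → s' = φ ξ * s := by
  have hζ : (t' / t) ^ d = 1 := by
    rw [div_pow, h, div_self (pow_ne_zero _ ht)]
  obtain ⟨ξ, hξ, hφ⟩ := exists_root_of_pow_eq_one φ d hd (t' / t) hζ
  refine ⟨ξ, hξ, fun s s' hs => ?_⟩
  have ht' : t' ≠ 0 := by
    intro h0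
    rw [h0, zero_pow (by omega)] at h
    exact pow_ne_zero _ ht h.symm
  rw [hφ]
  have h1 : t' ^ (d - 1) ≠ 0 := pow_ne_zero _ ht'
  have h2 : t' ^ d = t' ^ (d - 1) * t' := by
    rw [← pow_succ]; congr 1; omega
  have h3 : t ^ d = t ^ (d - 1) * t := by
    rw [← pow_succ]; congr 1; omega
  -- s' = s * t^(d-1) / t'^(d-1), and t^(d-1) / t'^(d-1) = t'/t since t'^d = t^d
  have h4 : t ^ (d - 1) * t = t' ^ (d - 1) * t' := by rw [← h2, ← h3, h]
  field_simp
  calc s' * t = s' * t * t' ^ (d - 1) / t' ^ (d - 1) := by field_simp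
    _ = (s' * t' ^ (d - 1)) * t / t' ^ (d - 1) := by ring
    _ = (s * t ^ (d - 1)) * t / t' ^ (d - 1) := by rw [hs]
    _ = s * (t ^ (d - 1) * t) / t' ^ (d - 1) := by ring
    _ = s * (t' ^ (d - 1) * t') / t' ^ (d - 1) := by rw [h4]
    _ = t' * s := by field_simp

variable {X : Scheme.{u}}

lemma app_res (F : X.Modules) (τ : F ⟶ Coh.structureModule X) {U V : X.Opens} (i : V ⟶ U)
    (a : Γ(F, U)) :
    (τ.app V (F.presheaf.map i.op a) : Γ(X, V)) = X.presheaf.map i.op (τ.app U a : Γ(X, U)) := by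
  have := congr($(τ.mapPresheaf.naturality i.op) a)
  exact this

lemma germ_app_res (F : X.Modules) (τ : F ⟶ Coh.structureModule X) {U V : X.Opens} (i : V ⟶ U)
    (a : Γ(F, U)) (η : X) (hV : η ∈ V) :
    X.presheaf.germ V η hV (τ.app V (F.presheaf.map i.op a) : Γ(X, V)) =
      X.presheaf.germ U η (i.le hV) (τ.app U a : Γ(X, U)) := by
  rw [app_res]
  exact TopCat.Presheaf.germ_res_apply X.presheaf i η hV _

theorem main (k : Type u) [Field k] [IsAlgClosed k]
    (X : Scheme.{u}) [X.Over (Spec (CommRingCat.of k))]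
    (F : X.Modules) (τ τ' : F ⟶ Coh.structureModule X) (d : ℕ) (hd : 1 ≤ d)
    (hS : ∀ (U : X.Opens) (a : Fin d → Γ(F, U)),
      (∏ i, (τ.app U (a i) : Γ(X, U)) : Γ(X, U)) = (∏ i, (τ'.app U (a i) : Γ(X, U)) : Γ(X, U)))
    (η : X) (hη : IsField (X.presheaf.stalk η)) :
    ∃ ξ : k, ξ ^ d = 1 ∧ ∀ (U : X.Opens) (hU : η ∈ U) (a : Γ(F, U)),
      (X.presheaf.germ U η hU (τ'.app U a : Γ(X, U)) : X.presheaf.stalk η) =
        Curv2.stalkMap k X η ξ * X.presheaf.germ U η hU (τ.app U a : Γ(X, U)) := by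
  letI : Field (X.presheaf.stalk η) := hη.toField
  by_cases h0 : ∀ (U : X.Opens) (hU : η ∈ U) (a : Γ(F, U)),
      X.presheaf.germ U η hU (τ.app U a : Γ(X, U)) = 0
  · refine ⟨1, one_pow _, fun U hU a => ?_⟩
    have h1 := congr(X.presheaf.germ U η hU $(hS U (fun _ => a)))
    simp only [Finset.prod_const, Finset.card_univ, Fintype.card_fin, map_pow] at h1
    rw [h0 U hU a, zero_pow (by omega)] at h1
    rw [h0 U hU a, mul_zero]
    exact (pow_eq_zero_iff (by omega)).1 h1.symm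
  · push_neg at h0
    obtain ⟨U₀, hU₀, a₀, ht⟩ := h0
    have hpow : (X.presheaf.germ U₀ η hU₀ (τ'.app U₀ a₀ : Γ(X, U₀))) ^ d =
        (X.presheaf.germ U₀ η hU₀ (τ.app U₀ a₀ : Γ(X, U₀))) ^ d := by
      have h1 := congr(X.presheaf.germ U₀ η hU₀ $(hS U₀ (fun _ => a₀)))
      simp only [Finset.prod_const, Finset.card_univ, Fintype.card_fin, map_pow] at h1
      exact h1.symm
    obtain ⟨ξ, hξ, hmain⟩ := exists_root (Curv2.stalkMap k X η) d hd _ _ ht hpow
    refine ⟨ξ, hξ, fun U hU a => ?_⟩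
    apply hmain
    obtain ⟨e, rfl⟩ : ∃ e, d = e + 1 := ⟨d - 1, by omega⟩
    have hW : η ∈ U ⊓ U₀ := ⟨hU, hU₀⟩
    let iU : U ⊓ U₀ ⟶ U := homOfLE inf_le_left
    let i₀ : U ⊓ U₀ ⟶ U₀ := homOfLE inf_le_right
    have h1 := congr(X.presheaf.germ (U ⊓ U₀) η hW $(hS (U ⊓ U₀)
      (Fin.cons (F.presheaf.map iU.op a) (fun _ => F.presheaf.map i₀.op a₀))))
    rw [Fin.prod_univ_succ, Fin.prod_univ_succ] at h1
    simp only [Fin.cons_zero, Fin.cons_succ, Finset.prod_const, Finset.card_univ,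
      Fintype.card_fin, map_mul, map_pow] at h1
    rw [germ_app_res, germ_app_res, germ_app_res, germ_app_res] at h1
    simpa using h1.symm

end Groth.Agent.Lib.helper19.RootGen
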