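import Mathlib
import Groth.Prelude.Def_BlowUp2
import Groth.Agent.Lib.helper19.Diag4
import Groth.Agent.Lib.lead.SmoothRelDim

set_option autoImplicit false
universe u

namespace Groth.Agent.Lib.Helper19.SecCart

open CategoryTheory AlgebraicGeometry

theorem main {X Y : Scheme.{u}} (f : X ⟶ Y) [IsSeparated f] [SmoothOfRelativeDimension 1 f]
    (σ : Y ⟶ X) (hσ : σ ≫ f = 𝟙 Y) :
    BlowUp.IsEffCartierIdeal σ.ker ∧ Flat (σ.ker.subschemeι ≫ f) := by
  haveI : Smooth f := SmoothOfRelativeDimension.smooth 1 f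
  haveI : IsClosedImmersion (σ ≫ f) := by rw [hσ]; infer_instance
  haveI : IsClosedImmersion σ := IsClosedImmersion.of_comp σ f
  have hreg := Groth.Agent.Lib.Helper19.Diag4.section_regular f σ hσ 1
    (fun z => Groth.Agent.Lib.lead.SmoothRelDim.S2768 1 f (σ z))
  constructor
  · intro x
    by_cases hx : x ∈ Set.range σ
    · obtain ⟨y, rfl⟩ := hx
      obtain ⟨U, hyU, -, rs, hlen, hseq, hker⟩ := hreg.2 y
      refine ⟨U, hyU, ?_⟩
      match rs, hlen with
      | [r], _ =>
        refine ⟨r, ?_, ?_⟩
        · have h1 : RingTheory.Sequence.IsRegular Γ(X, U.1) [r] := hseq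
          have h2 := h1.toIsWeaklyRegular
          rw [RingTheory.Sequence.isWeaklyRegular_cons_iff] at h2
          have h3 : IsSMulRegular Γ(X, U.1) r := h2.1
          rw [mem_nonZeroDivisors_iff_right]
          intro z hz
          apply h3
          simp only [smul_eq_mul, mul_zero]
          rw [mul_comm]; exact hz
        · rw [Scheme.Hom.ker_apply, hker]
          simp [Ideal.ofList]
    · have hcl : IsClosed (Set.range σ) := σ.isClosedEmbedding.isClosed_range
      obtain ⟨_, ⟨U, hU, rfl⟩, hxU, hUsub⟩ := X.isBasis_affineOpens.exists_subset_of_mem_open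
        (show x ∈ (Set.range σ)ᶜ from hx) hcl.isOpen_compl
      refine ⟨⟨U, hU⟩, hxU, 1, one_mem _, ?_⟩
      rw [Scheme.Hom.ker_apply, Ideal.span_singleton_one]
      have hempty : σ ⁻¹ᵁ U = ⊥ := by
        ext y
        simp only [TopologicalSpace.Opens.coe_bot, Set.mem_empty_iff_false, iff_false]
        intro hy
        exact hUsub hy ⟨y, rfl⟩
      haveI : Subsingleton Γ(Y, σ ⁻¹ᵁ U) := by rw [hempty]; infer_instance
      rw [Ideal.eq_top_iff_one, RingHom.mem_ker]
      exact Subsingleton.elim _ _
  · have h1 : σ.ker.subschemeι ≫ f = inv σ.toImage := by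
      rw [← cancel_epi σ.toImage, IsIso.hom_inv_id, ← Category.assoc]
      erw [σ.toImage_imageι]
      exact hσ
    rw [h1]
    infer_instance

end Groth.Agent.Lib.Helper19.SecCart
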