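import Mathlib
import Groth.Agent.Lib.helper19.SmChart1v

set_option autoImplicit false
universe u
open TensorProduct KaehlerDifferential

namespace Groth.Agent.Lib.Helper19.SecChart1

open Groth.Agent.Lib.Helper19

/-- Ring-level chart along a section. -/
theorem ring_chart (k R : Type u) [CommRing k] [CommRing R] [Algebra k R]
    [Algebra.FinitePresentation k R] (σ : R →+* k) (hσ : ∀ a, σ (algebraMap k R a) = a)
    (m : Ideal R) [m.IsPrime] [Algebra.IsSmoothAt k m] :
    ∃ (d : ℕ) (v : Fin d → R) (g : R), g ∉ m ∧ (∀ j, σ (v j) = 0) ∧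
      ∀ (S' : Type u) [CommRing S'] [Algebra R S'] [IsLocalization.Away g S'],
        ((algebraMap R S').comp (MvPolynomial.aeval v : MvPolynomial (Fin d) k →ₐ[k] R).toRingHom).Etale := by
  haveI : Module.Finite R Ω[R⁄k] := inferInstance
  haveI : Module.Finite m.ResidueField (m.ResidueField ⊗[R] Ω[R⁄k]) := inferInstance
  obtain ⟨d, c, hli, hsp⟩ := SmChart1v.exists_coords k R m
  let v : Fin d → R := fun j => c j - algebraMap k R (σ (c j))
  have hD : ∀ j, D k R (v j) = D k R (c j) := by
    intro j
    simp only [v, map_sub, Derivation.map_algebraMap, sub_zero]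
  have hli' : LinearIndependent m.ResidueField
      (fun i => (1 : m.ResidueField) ⊗ₜ[R] D k R (v i)) := by
    simp only [hD]; exact hli
  have hsp' : Submodule.span m.ResidueField
      (Set.range fun i => (1 : m.ResidueField) ⊗ₜ[R] D k R (v i)) = ⊤ := by
    simp only [hD]; exact hsp
  obtain ⟨g, hg, hét⟩ := SmChart1v.chart_of_coords k R m v hli' hsp'
  refine ⟨d, v, g, hg, ?_, ?_⟩
  · intro j
    simp only [v, map_sub, hσ, sub_self]
  · intro S' _ _ _
    let e : Localization.Away g ≃ₐ[R] S' := IsLocalization.algEquiv (Submonoid.powers g) _ _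
    have : (algebraMap R S').comp (MvPolynomial.aeval v : MvPolynomial (Fin d) k →ₐ[k] R).toRingHom =
        (e.toRingEquiv.toRingHom).comp (((algebraMap R (Localization.Away g)).comp
        (MvPolynomial.aeval v : MvPolynomial (Fin d) k →ₐ[k] R).toRingHom)) := by
      ext x <;> simp [e]
    rw [this]
    exact RingHom.Etale.respectsIso.1 _ e.toRingEquiv hét

end Groth.Agent.Lib.Helper19.SecChart1
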