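import Groth.Agent.Lib.helper19.SecChart3

set_option autoImplicit false
universe u
open AlgebraicGeometry CategoryTheory CategoryTheory.Limits

namespace Groth.Agent.Lib.Helper19.SecChart4

open SecChart3

theorem mem_smoothLocus_of_chart {X Y : Scheme.{u}} (f : X ⟶ Y) [LocallyOfFinitePresentation f]
    (i : Y ⟶ X) (y : Y) (U : Y.Opens) (V : X.Opens) (hy : y ∈ U) (hUV : U ≤ i ⁻¹ᵁ V)
    (hVU : V ≤ f ⁻¹ᵁ U) (m : ℕ) (v : ULift.{u} (Fin m) → Γ(V, ⊤))
    (het : Etale (AffineSpace.homOfVector (f.resLE U V hVU) v)) : i.base y ∈ f.smoothLocus := by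
  haveI : Smooth (AffineSpace.homOfVector (f.resLE U V hVU) v) := inferInstance
  haveI h1 : Smooth (f.resLE U V hVU) := by
    rw [← AffineSpace.homOfVector_over (f.resLE U V hVU) v]
    infer_instance
  haveI h2 : Smooth (V.ι ≫ f) := by
    rw [← Scheme.Hom.resLE_comp_ι f hVU]
    infer_instance
  have h3 := Scheme.Hom.preimage_smoothLocus_eq V.ι f
  rw [(V.ι ≫ f).smoothLocus_eq_top] at h3
  have h4 : (⟨i.base y, hUV hy⟩ : V) ∈ V.ι ⁻¹ᵁ f.smoothLocus := by rw [h3]; trivial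
  exact h4

end Groth.Agent.Lib.Helper19.SecChart4
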