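import Groth.Agent.Lib.helper19.SecChart4

set_option autoImplicit false
universe u
open AlgebraicGeometry CategoryTheory CategoryTheory.Limits

namespace Groth.Agent.Lib.Helper19.SecChart5

theorem exists_affine_nbhds {X Y : Scheme.{u}} (f : X ⟶ Y) (i : Y ⟶ X) (hi : i ≫ f = 𝟙 Y) (y : Y) :
    ∃ (U₁ : Y.Opens) (V₁ : X.Opens), IsAffineOpen U₁ ∧ IsAffineOpen V₁ ∧ y ∈ U₁ ∧
      V₁ ≤ f ⁻¹ᵁ U₁ ∧ U₁ ≤ i ⁻¹ᵁ V₁ := by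
  have hfi : ∀ u : Y, f.base (i.base u) = u := by
    intro u
    have := congrArg (fun q => q.base u) hi
    simpa using this
  obtain ⟨_, ⟨U₀, hU₀, rfl⟩, hyU₀, -⟩ :=
    Y.isBasis_affineOpens.exists_subset_of_mem_open (Set.mem_univ y) isOpen_univ
  have hmem : i.base y ∈ ((f ⁻¹ᵁ U₀ : X.Opens) : Set X) := by
    show f.base (i.base y) ∈ U₀
    rw [hfi]; exact hyU₀
  obtain ⟨_, ⟨V₀, hV₀, rfl⟩, hxV₀, hle⟩ := X.isBasis_affineOpens.exists_subset_of_mem_open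
    hmem (f ⁻¹ᵁ U₀).2
  have hyW : y ∈ (i ⁻¹ᵁ V₀ ⊓ U₀ : Y.Opens) := ⟨hxV₀, hyU₀⟩
  obtain ⟨h, hh1, hh2⟩ := hU₀.exists_basicOpen_le (V := i ⁻¹ᵁ V₀ ⊓ U₀) ⟨y, hyW⟩ hyU₀
  refine ⟨Y.basicOpen h, X.basicOpen (f.appLE U₀ V₀ hle h), hU₀.basicOpen h, hV₀.basicOpen _,
    hh2, ?_, ?_⟩
  · rw [Scheme.basicOpen_appLE]
    exact inf_le_right
  · rw [Scheme.basicOpen_appLE]
    intro u hu
    refine ⟨(hh1 hu).1, ?_⟩
    show f.base (i.base u) ∈ Y.basicOpen h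
    rw [hfi]; exact hu

end Groth.Agent.Lib.Helper19.SecChart5
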