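import Groth.Agent.Lib.helper19.SecChart5
import Groth.Agent.Lib.helper19.SecChart1

set_option autoImplicit false
universe u
open AlgebraicGeometry CategoryTheory CategoryTheory.Limits

namespace Groth.Agent.Lib.Helper19.SecChart6

theorem appLE_of_eq_id {Y : Scheme.{u}} (φ : Y ⟶ Y) (hφ : φ = 𝟙 Y) (U : Y.Opens)
    (hle : U ≤ φ ⁻¹ᵁ U) : φ.appLE U U hle = 𝟙 _ := by
  subst hφ
  unfold Scheme.Hom.appLE
  rw [Scheme.Hom.id_app]
  erw [Category.id_comp]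
  exact Y.presheaf.map_id _

set_option maxHeartbeats 800000 in
theorem exists_ring_chart {X Y : Scheme.{u}} (f : X ⟶ Y) [LocallyOfFinitePresentation f]
    (i : Y ⟶ X) (hi : i ≫ f = 𝟙 Y) (y : Y) (hx : i.base y ∈ f.smoothLocus)
    (U₁ : Y.Opens) (V₁ : X.Opens) (hU₁ : IsAffineOpen U₁) (hV₁ : IsAffineOpen V₁) (hy : y ∈ U₁)
    (e₁ : V₁ ≤ f ⁻¹ᵁ U₁) (e₂ : U₁ ≤ i ⁻¹ᵁ V₁) :
    ∃ (d : ℕ) (v : Fin d → Γ(X, V₁)) (g : Γ(X, V₁)), i.base y ∈ X.basicOpen g ∧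
      (∀ j, (i.appLE V₁ U₁ e₂).hom (v j) = 0) ∧
      ((X.presheaf.map (homOfLE (X.basicOpen_le g)).op).hom.comp
        (MvPolynomial.eval₂Hom (f.appLE U₁ V₁ e₁).hom v)).Etale := by
  letI alg : Algebra Γ(Y, U₁) Γ(X, V₁) := (f.appLE U₁ V₁ e₁).hom.toAlgebra
  haveI : Algebra.FinitePresentation Γ(Y, U₁) Γ(X, V₁) := f.finitePresentation_appLE hU₁ hV₁ e₁
  have hσ : ∀ a, (i.appLE V₁ U₁ e₂).hom (algebraMap Γ(Y, U₁) Γ(X, V₁) a) = a := by
    intro a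
    have h1 := Scheme.Hom.appLE_comp_appLE i f U₁ V₁ U₁ e₁ e₂
    rw [appLE_of_eq_id (i ≫ f) hi] at h1
    have := congrArg (fun q => q.hom a) h1
    simp only [CommRingCat.hom_comp, RingHom.comp_apply, CommRingCat.hom_id, RingHom.id_apply] at this
    exact this
  have hxV₁ : i.base y ∈ V₁ := e₂ hy
  haveI hsm : Algebra.IsSmoothAt Γ(Y, U₁) (hV₁.primeIdealOf ⟨i.base y, hxV₁⟩).asIdeal :=
    (formallySmooth_stalkMap_iff U₁ hU₁ V₁ hV₁ e₁ hxV₁).mp hx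
  obtain ⟨d, v, g, hg, hσv, hét⟩ := SecChart1.ring_chart Γ(Y, U₁) Γ(X, V₁) (i.appLE V₁ U₁ e₂).hom hσ
    (hV₁.primeIdealOf ⟨i.base y, hxV₁⟩).asIdeal
  refine ⟨d, v, g, ?_, hσv, ?_⟩
  · letI : Algebra Γ(X, V₁) (X.presheaf.stalk (i.base y)) :=
      TopCat.Presheaf.algebra_section_stalk X.presheaf (⟨i.base y, hxV₁⟩ : V₁)
    haveI := hV₁.isLocalization_stalk ⟨i.base y, hxV₁⟩
    rw [Scheme.mem_basicOpen X g (i.base y) hxV₁]
    exact (IsLocalization.AtPrime.isUnit_to_map_iff (X.presheaf.stalk (i.base y))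
      (hV₁.primeIdealOf ⟨i.base y, hxV₁⟩).asIdeal g).mpr hg
  · haveI := hV₁.isLocalization_basicOpen g
    have key := hét Γ(X, X.basicOpen g)
    have heq : (X.presheaf.map (homOfLE (X.basicOpen_le g)).op).hom.comp
        (MvPolynomial.eval₂Hom (f.appLE U₁ V₁ e₁).hom v) =
        (algebraMap Γ(X, V₁) Γ(X, X.basicOpen g)).comp
          (MvPolynomial.aeval v : MvPolynomial (Fin d) Γ(Y, U₁) →ₐ[Γ(Y, U₁)] Γ(X, V₁)).toRingHom := by
      apply MvPolynomial.ringHom_ext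
      · intro a
        simp [RingHom.algebraMap_toAlgebra]
      · intro j
        simp [RingHom.algebraMap_toAlgebra]
    rw [heq]
    exact key

end Groth.Agent.Lib.Helper19.SecChart6
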