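import Groth.Agent.Lib.helper19.SecChart6
import Groth.Agent.Lib.helper19.SecChart2

set_option autoImplicit false
universe u
open AlgebraicGeometry CategoryTheory CategoryTheory.Limits

namespace Groth.Agent.Lib.Helper19.SecChart7

set_option maxHeartbeats 800000 in
theorem etale_big {X Y : Scheme.{u}} (f : X ⟶ Y) (U₁ : Y.Opens) (V₁ : X.Opens)
    (hU₁ : IsAffineOpen U₁) (hV₁ : IsAffineOpen V₁) (e₁ : V₁ ≤ f ⁻¹ᵁ U₁) (d : ℕ)
    (v : Fin d → Γ(X, V₁)) (g : Γ(X, V₁))
    (hét : ((X.presheaf.map (homOfLE (X.basicOpen_le g)).op).hom.comp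
        (MvPolynomial.eval₂Hom (f.appLE U₁ V₁ e₁).hom v)).Etale) :
    Etale (AffineSpace.homOfVector (f.resLE U₁ (X.basicOpen g) ((X.basicOpen_le g).trans e₁))
      (fun j : ULift.{u} (Fin d) => (X.basicOpen g).topIso.inv
        (X.presheaf.map (homOfLE (X.basicOpen_le g)).op (v j.down)))) := by
  haveI : IsAffine (U₁ : Scheme.{u}) := hU₁
  haveI : IsAffine ((X.basicOpen g : X.Opens) : Scheme.{u}) := hV₁.basicOpen g
  apply SecChart2.etale_homOfVector
  set e₃ := (X.basicOpen_le g).trans e₁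
  let α : Γ(U₁, ⊤) ≃+* Γ(Y, U₁) := U₁.topIso.commRingCatIsoToRingEquiv
  let β : Γ((X.basicOpen g : X.Opens), ⊤) ≃+* Γ(X, X.basicOpen g) :=
    (X.basicOpen g).topIso.commRingCatIsoToRingEquiv
  let esrc : MvPolynomial (ULift.{u} (Fin d)) Γ(U₁, ⊤) ≃+* MvPolynomial (Fin d) Γ(Y, U₁) :=
    (MvPolynomial.renameEquiv Γ(U₁, ⊤) Equiv.ulift).toRingEquiv.trans (MvPolynomial.mapEquiv (Fin d) α)
  have hsq := (arrowResLEAppIso f U₁ (X.basicOpen g) e₃).hom.w
  have key : MvPolynomial.eval₂Hom (f.resLE U₁ (X.basicOpen g) e₃).appTop.hom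
      (fun j : ULift.{u} (Fin d) => (X.basicOpen g).topIso.inv
        (X.presheaf.map (homOfLE (X.basicOpen_le g)).op (v j.down))) =
      (β.symm.toRingHom.comp ((X.presheaf.map (homOfLE (X.basicOpen_le g)).op).hom.comp
        (MvPolynomial.eval₂Hom (f.appLE U₁ V₁ e₁).hom v))).comp esrc.toRingHom := by
    apply MvPolynomial.ringHom_ext
    · intro a
      simp only [MvPolynomial.coe_eval₂Hom, MvPolynomial.eval₂_C, RingHom.comp_apply,
        RingEquiv.toRingHom_eq_coe, RingHom.coe_coe, esrc, RingEquiv.trans_apply,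
        AlgEquiv.coe_ringEquiv, MvPolynomial.renameEquiv_apply, MvPolynomial.rename_C,
        MvPolynomial.mapEquiv_apply, MvPolynomial.map_C]
      rw [RingEquiv.eq_symm_apply]
      have h1 := congrArg (fun q => q.hom a) hsq
      simp only [Arrow.mk_hom, CommRingCat.hom_comp, RingHom.comp_apply] at h1
      have h2 := congrArg (fun q => q.hom (α a))
        (Scheme.Hom.appLE_map f e₁ (homOfLE (X.basicOpen_le g)).op)
      simp only [CommRingCat.hom_comp, RingHom.comp_apply] at h2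
      rw [h2]
      exact h1.symm
    · intro j
      simp only [MvPolynomial.coe_eval₂Hom, MvPolynomial.eval₂_X, RingHom.comp_apply,
        RingEquiv.toRingHom_eq_coe, RingHom.coe_coe, esrc, RingEquiv.trans_apply,
        AlgEquiv.coe_ringEquiv, MvPolynomial.renameEquiv_apply, MvPolynomial.rename_X,
        MvPolynomial.mapEquiv_apply, MvPolynomial.map_X]
      rfl
  rw [key]
  exact RingHom.Etale.respectsIso.2 _ esrc (RingHom.Etale.respectsIso.1 _ β.symm hét)

end Groth.Agent.Lib.Helper19.SecChart7
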