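import Groth.Agent.Lib.helper19.SecChart7

set_option autoImplicit false
universe u
open AlgebraicGeometry CategoryTheory CategoryTheory.Limits

namespace Groth.Agent.Lib.Helper19.SecChart8

open SecChart3

set_option maxHeartbeats 1600000 in
theorem chart_of_mem_smoothLocus {X Y : Scheme.{u}} (f : X ⟶ Y) [LocallyOfFinitePresentation f]
    (i : Y ⟶ X) (hi : i ≫ f = 𝟙 Y) (y : Y) (hx : i.base y ∈ f.smoothLocus) :
    ∃ (U : Y.Opens) (V : X.Opens) (_ : y ∈ U) (hUV : U ≤ i ⁻¹ᵁ V) (hVU : V ≤ f ⁻¹ᵁ U) (m : ℕ)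
      (v : ULift.{u} (Fin m) → Γ(V, ⊤)),
      Etale (AffineSpace.homOfVector (f.resLE U V hVU) v) ∧
        ∀ j, (i.resLE V U hUV).appTop (v j) = 0 := by
  have hfi : ∀ u : Y, f.base (i.base u) = u := by
    intro u
    have := congrArg (fun q => q.base u) hi
    simpa using this
  obtain ⟨U₁, V₁, hU₁, hV₁, hy, e₁, e₂⟩ := SecChart5.exists_affine_nbhds f i hi y
  obtain ⟨d, v, g, hxg, hσv, hét⟩ :=
    SecChart6.exists_ring_chart f i hi y hx U₁ V₁ hU₁ hV₁ hy e₁ e₂
  have hbig := SecChart7.etale_big f U₁ V₁ hU₁ hV₁ e₁ d v g hét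
  set V₂ : X.Opens := X.basicOpen g with hV₂
  have hV₂V₁ : V₂ ≤ V₁ := X.basicOpen_le g
  let U : Y.Opens := U₁ ⊓ i ⁻¹ᵁ V₂
  let V : X.Opens := V₂ ⊓ f ⁻¹ᵁ U
  have hyU : y ∈ U := ⟨hy, hxg⟩
  have hUV : U ≤ i ⁻¹ᵁ V := by
    intro u hu
    refine ⟨hu.2, ?_⟩
    show f.base (i.base u) ∈ U
    rw [hfi]; exact hu
  have hVU : V ≤ f ⁻¹ᵁ U := inf_le_right
  have hVV₂ : V ≤ V₂ := inf_le_left
  have hVV₁ : V ≤ V₁ := hVV₂.trans hV₂V₁
  have hUU₁ : U ≤ U₁ := inf_le_left
  let v' : ULift.{u} (Fin d) → Γ(V, ⊤) := fun j =>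
    V.topIso.inv (X.presheaf.map (homOfLE hVV₁).op (v j.down))
  refine ⟨U, V, hyU, hUV, hVU, d, v', ?_, ?_⟩
  · have hcomp : X.homOfLE hVV₂ ≫ AffineSpace.homOfVector
          (f.resLE U₁ (X.basicOpen g) ((X.basicOpen_le g).trans e₁))
          (fun j : ULift.{u} (Fin d) => (X.basicOpen g).topIso.inv
            (X.presheaf.map (homOfLE (X.basicOpen_le g)).op (v j.down))) =
        AffineSpace.homOfVector (f.resLE U V hVU) v' ≫
          AffineSpace.map (ULift.{u} (Fin d)) (Y.homOfLE hUU₁) := by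
      apply AffineSpace.hom_ext
      · simp only [Category.assoc, AffineSpace.homOfVector_over, AffineSpace.map_over,
          AffineSpace.homOfVector_over_assoc, Scheme.Hom.resLE_map]
        exact Scheme.Hom.map_resLE f _ hVV₂
      · intro j
        rw [Scheme.Hom.comp_appTop, Scheme.Hom.comp_appTop, CommRingCat.comp_apply,
          CommRingCat.comp_apply, AffineSpace.homOfVector_appTop_coord,
          AffineSpace.map_appTop_coord, AffineSpace.homOfVector_appTop_coord]
        show (X.homOfLE hVV₂).appTop.hom ((X.basicOpen g).topIso.inv.hom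
          ((X.presheaf.map (homOfLE (X.basicOpen_le g)).op).hom (v j.down))) =
          V.topIso.inv.hom ((X.presheaf.map (homOfLE hVV₁).op).hom (v j.down))
        rw [Scheme.homOfLE_appTop, Scheme.Opens.topIso_inv, Scheme.Opens.topIso_inv,
          ← CommRingCat.comp_apply, ← CommRingCat.comp_apply, ← CommRingCat.comp_apply]
        erw [← Functor.map_comp, ← Functor.map_comp, ← Functor.map_comp]
        rfl
    haveI : IsOpenImmersion (AffineSpace.map (ULift.{u} (Fin d)) (Y.homOfLE hUU₁)) :=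
      isOpenImmersion_map _ _
    haveI := hbig
    haveI : Etale (AffineSpace.homOfVector (f.resLE U V hVU) v' ≫
          AffineSpace.map (ULift.{u} (Fin d)) (Y.homOfLE hUU₁)) := by
      rw [← hcomp]
      infer_instance
    exact Etale.of_comp _ (AffineSpace.map (ULift.{u} (Fin d)) (Y.homOfLE hUU₁))
  · intro j
    have hsq := (arrowResLEAppIso i V U hUV).hom.w
    have h1 := congrArg (fun q => q.hom (v' j)) hsq
    simp only [Arrow.mk_hom, CommRingCat.hom_comp, RingHom.comp_apply] at h1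
    have h2 : (arrowResLEAppIso i V U hUV).hom.left.hom (v' j) =
        (X.presheaf.map (homOfLE hVV₁).op).hom (v j.down) := by
      show V.topIso.hom.hom (V.topIso.inv.hom _) = _
      rw [← CommRingCat.comp_apply, Iso.inv_hom_id, CommRingCat.id_apply]
    rw [h2] at h1
    have h3 := congrArg (fun q => q.hom (v j.down))
      (Scheme.Hom.map_appLE i hUV (homOfLE hVV₁).op)
    simp only [CommRingCat.hom_comp, RingHom.comp_apply] at h3
    rw [h3] at h1
    have h4 := congrArg (fun q => q.hom (v j.down))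
      (Scheme.Hom.appLE_map i e₂ (homOfLE hUU₁).op)
    simp only [CommRingCat.hom_comp, RingHom.comp_apply] at h4
    rw [hσv j.down, map_zero] at h4
    rw [← h4] at h1
    have h5 : U.topIso.hom.hom ((i.resLE V U hUV).appTop.hom (v' j)) = 0 := h1.symm
    have h6 := congrArg U.topIso.inv.hom h5
    rw [← CommRingCat.comp_apply, Iso.hom_inv_id, CommRingCat.id_apply, map_zero] at h6
    exact h6

end Groth.Agent.Lib.Helper19.SecChart8
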