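import Mathlib

set_option autoImplicit false
set_option linter.style.haveILetI false
set_option linter.unusedSectionVars false

namespace Groth.Agent.Lib.helper19.SepDesc

open TensorProduct IntermediateField

universe u v

/-- a finite-dimensional algebra over an algebraic extension `F'` of `K` descends to a
finite subextension -/
theorem exists_form (K : Type u) (F' : Type v) [Field K] [Field F'] [Algebra K F']
    [Algebra.IsAlgebraic K F'] (D : Type*) [Ring D] [Algebra F' D] [FiniteDimensional F' D] :
    ∃ (E : IntermediateField K F') (_ : FiniteDimensional K E) (D₀ : Subalgebra E D),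
      Module.Finite E D₀ ∧ Nonempty (F' ⊗[E] D₀ ≃ₐ[F'] D) := by
  classical
  let bs := Module.finBasis F' D
  let S : Finset F' :=
    (Finset.univ.image fun p : Fin (Module.finrank F' D) × Fin (Module.finrank F' D) ×
      Fin (Module.finrank F' D) => bs.repr (bs p.1 * bs p.2.1) p.2.2) ∪
    (Finset.univ.image fun l => bs.repr 1 l)
  let E : IntermediateField K F' := adjoin K (S : Set F')
  have hc : ∀ i j l, bs.repr (bs i * bs j) l ∈ E := by
    intro i j l
    apply subset_adjoin
    rw [Finset.mem_coe, Finset.mem_union]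
    left
    exact Finset.mem_image.2 ⟨(i, j, l), Finset.mem_univ _, rfl⟩
  have hu : ∀ l, bs.repr 1 l ∈ E := by
    intro l
    apply subset_adjoin
    rw [Finset.mem_coe, Finset.mem_union]
    right
    exact Finset.mem_image.2 ⟨l, Finset.mem_univ _, rfl⟩
  haveI hfin : FiniteDimensional K E := by
    haveI : Finite (S : Set F') := S.finite_toSet
    exact finiteDimensional_adjoin fun x _ => Algebra.IsIntegral.isIntegral x
  let W : Submodule E D := Submodule.span E (Set.range bs)
  have hone : (1 : D) ∈ W := by
    rw [← bs.sum_repr 1]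
    refine Submodule.sum_mem _ fun l _ => ?_
    have : bs.repr 1 l • bs l = (⟨bs.repr 1 l, hu l⟩ : E) • bs l := rfl
    rw [this]
    exact Submodule.smul_mem _ _ (Submodule.subset_span ⟨l, rfl⟩)
  have hmul : ∀ x y, x ∈ W → y ∈ W → x * y ∈ W := by
    intro x y hx hy
    have h1 : x * y ∈ W * W := Submodule.mul_mem_mul hx hy
    have h2 : W * W ≤ W := by
      rw [Submodule.span_mul_span, Submodule.span_le]
      rintro _ ⟨_, ⟨i, rfl⟩, _, ⟨j, rfl⟩, rfl⟩
      show bs i * bs j ∈ W
      rw [← bs.sum_repr (bs i * bs j)]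
      refine Submodule.sum_mem _ fun l _ => ?_
      have : bs.repr (bs i * bs j) l • bs l = (⟨bs.repr (bs i * bs j) l, hc i j l⟩ : E) • bs l :=
        rfl
      rw [this]
      exact Submodule.smul_mem _ _ (Submodule.subset_span ⟨l, rfl⟩)
    exact h2 h1
  let D₀ : Subalgebra E D := W.toSubalgebra hone hmul
  refine ⟨E, hfin, D₀, ?_⟩
  let Φ : F' ⊗[E] D₀ →ₐ[F'] D :=
    Algebra.TensorProduct.lift (Algebra.ofId F' D) D₀.val
      (fun x y => show Commute (Algebra.ofId F' D x) (D₀.val y) from Algebra.commutes x (D₀.val y))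
  have hsurj : Function.Surjective Φ := by
    intro d
    rw [← bs.sum_repr d]
    refine ⟨∑ l, (bs.repr d l) ⊗ₜ[E] (⟨bs l, Submodule.subset_span ⟨l, rfl⟩⟩ : D₀), ?_⟩
    rw [map_sum]
    refine Finset.sum_congr rfl fun l _ => ?_
    rw [Algebra.smul_def]
    exact Algebra.TensorProduct.lift_tmul _ _ _ _ _
  haveI : Module.Finite E D₀ := by
    show Module.Finite E W
    exact Module.Finite.span_of_finite E (Set.finite_range bs)
  have h1 : Module.finrank F' (F' ⊗[E] D₀) = Module.finrank E D₀ := Module.finrank_baseChange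
  have h2 : Module.finrank E D₀ ≤ Module.finrank F' D := by
    show Module.finrank E W ≤ _
    have := finrank_range_le_card (R := E) (b := bs)
    simp only [Fintype.card_fin] at this
    exact this
  have h3 : Module.finrank F' D ≤ Module.finrank F' (F' ⊗[E] D₀) :=
    LinearMap.finrank_le_finrank_of_surjective (f := Φ.toLinearMap) hsurj
  have h4 : Module.finrank F' (F' ⊗[E] D₀) = Module.finrank F' D := le_antisymm (h1 ▸ h2) h3
  have hinj : Function.Injective Φ :=
    (LinearMap.injective_iff_surjective_of_finrank_eq_finrank (f := Φ.toLinearMap) h4).2 hsurj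
  exact ⟨inferInstance, ⟨AlgEquiv.ofBijective Φ ⟨hinj, hsurj⟩⟩⟩

end Groth.Agent.Lib.helper19.SepDesc
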