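import Mathlib
import Groth.Agent.Lib.helper19.SepDescForm
import Groth.Agent.Lib.helper19.IndexBasic
import Groth.Agent.Lib.helper19.Morita
import Groth.Agent.S7721
import Groth.Agent.Lib.helper19.PrimaryPrelim
import Groth.Agent.Lib.helper19.TensorPow2
import Groth.Agent.Lib.helper19.CSABaseChange

set_option autoImplicit false
set_option linter.style.haveILetI false
set_option linter.unusedSectionVars false

namespace Groth.Agent.Lib.helper19.SepDesc

open TensorProduct IntermediateField

universe u

theorem finrank_eq_one_of_restriction_trivial (K F : Type u) [Field K] [Field F] [Algebra K F]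
    [Algebra.IsSeparable K F]
    (hb : ∀ (E : Type u) [Field E] [Algebra K E] [FiniteDimensional K E] [Algebra.IsSeparable K E]
        (D : Type u) [DivisionRing D] [Algebra E D] [Algebra.IsCentral E D] [FiniteDimensional E D]
        (M : Type u) [Field M] [Algebra K M] [Algebra E M] [Algebra F M] [IsScalarTower K E M]
        [IsScalarTower K F M],
        ∃ n : ℕ, Nonempty ((M ⊗[E] D) ≃ₐ[M] Matrix (Fin n) (Fin n) M))
    (F' : Type u) [Field F'] [Algebra F F'] [FiniteDimensional F F'] [Algebra.IsSeparable F F']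
    (D : Type u) [DivisionRing D] [Algebra F' D] [Algebra.IsCentral F' D]
    [FiniteDimensional F' D] : Module.finrank F' D = 1 := by
  letI : Algebra K F' := ((algebraMap F F').comp (algebraMap K F)).toAlgebra
  haveI : IsScalarTower K F F' := IsScalarTower.of_algebraMap_eq (fun _ => rfl)
  haveI : Algebra.IsSeparable K F' := Algebra.IsSeparable.trans K F F'
  obtain ⟨E, hfin, D₀, hD₀fin, ⟨φ⟩⟩ := exists_form K F' D
  haveI : Algebra.IsCentral F' (F' ⊗[E] D₀) := CSA.isCentral_of_algEquiv φ.symm
  haveI : IsSimpleRing (F' ⊗[E] D₀) := IsSimpleRing.of_ringEquiv φ.symm.toRingEquiv inferInstance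
  obtain ⟨hc, hs⟩ := (Groth.Agent.S7721.result E F' D₀).2 ⟨inferInstance, inferInstance⟩
  obtain ⟨m, hm, Δ, _, _, _, _, ⟨e⟩⟩ := Idx.exists_matrix_division E D₀
  haveI : Algebra.IsSeparable K E := Algebra.isSeparable_tower_bot_of_isSeparable K E F'
  obtain ⟨n, ⟨ψ⟩⟩ := hb E Δ F'
  have hn : n ≠ 0 := by
    rintro rfl
    have h1 : Module.finrank F' (F' ⊗[E] Δ) = Module.finrank E Δ := Module.finrank_baseChange
    rw [ψ.toLinearEquiv.finrank_eq, Module.finrank_matrix] at h1
    have h2 : 0 < Module.finrank E Δ := Module.finrank_pos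
    simp at h1
    omega
  have hsplit : Curves.Splits E Δ F' := ⟨n, hn, ⟨ψ⟩⟩
  have h2 : Curves.Splits E D₀ F' := Idx.splits_congr e.symm (Idx.splits_matrix m hm hsplit)
  obtain ⟨r, hr, ⟨χ⟩⟩ := h2
  obtain ⟨d, hd0, hd⟩ := Idx.exists_finrank_eq_sq F' D
  have i1 : CSAGal.IsIndex F' D d :=
    ⟨hd0, 1, D, inferInstance, inferInstance, one_pos, hd, ⟨Prim.oneByOneAlg F' D⟩⟩
  have i2 : CSAGal.IsIndex F' D 1 :=
    ⟨one_pos, r, F', inferInstance, inferInstance, Nat.pos_of_ne_zero hr, by simp,
      ⟨φ.symm.trans χ⟩⟩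
  have := Idx.isIndex_unique i1 i2
  rw [hd, this, one_pow]


theorem restriction_trivial_of_finrank_eq_one (K F : Type u) [Field K] [Field F] [Algebra K F]
    (ha : ∀ (F' : Type u) [Field F'] [Algebra F F'] [FiniteDimensional F F']
        [Algebra.IsSeparable F F']
        (D : Type u) [DivisionRing D] [Algebra F' D] [Algebra.IsCentral F' D]
        [FiniteDimensional F' D], Module.finrank F' D = 1)
    (E : Type u) [Field E] [Algebra K E] [FiniteDimensional K E] [Algebra.IsSeparable K E]
    (D : Type u) [DivisionRing D] [Algebra E D] [Algebra.IsCentral E D] [FiniteDimensional E D]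
    (M : Type u) [Field M] [Algebra K M] [Algebra E M] [Algebra F M] [IsScalarTower K E M]
    [IsScalarTower K F M] :
    ∃ n : ℕ, Nonempty ((M ⊗[E] D) ≃ₐ[M] Matrix (Fin n) (Fin n) M) := by
  classical
  let bE := Module.finBasis K E
  let T : Set M := Set.range (fun i => algebraMap E M (bE i))
  let F'' : IntermediateField F M := adjoin F T
  have hT : ∀ i, algebraMap E M (bE i) ∈ F'' := fun i => subset_adjoin F T ⟨i, rfl⟩
  have hE : ∀ x : E, algebraMap E M x ∈ F'' := by
    intro x
    rw [← bE.sum_repr x, map_sum]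
    refine sum_mem fun i _ => ?_
    rw [Algebra.smul_def, map_mul, ← IsScalarTower.algebraMap_apply K E M,
      IsScalarTower.algebraMap_apply K F M]
    exact mul_mem (F''.algebraMap_mem _) (hT i)
  have hint : ∀ i, IsIntegral K (algebraMap E M (bE i)) := fun i =>
    (Algebra.IsIntegral.isIntegral (R := K) (bE i)).map (IsScalarTower.toAlgHom K E M)
  haveI : FiniteDimensional F F'' := by
    haveI : Finite T := Set.finite_range _
    apply finiteDimensional_adjoin
    rintro _ ⟨i, rfl⟩
    exact (hint i).tower_top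
  haveI : Algebra.IsSeparable F F'' := by
    rw [isSeparable_adjoin_iff_isSeparable]
    rintro _ ⟨i, rfl⟩
    have h1 : IsSeparable K (bE i) := Algebra.IsSeparable.isSeparable K (bE i)
    have h2 : IsSeparable K (algebraMap E M (bE i)) :=
      h1.map (IsScalarTower.toAlgHom K E M) (algebraMap E M).injective
    exact h2.tower_top F
  let ι : E →+* F'' :=
    { toFun := fun x => ⟨algebraMap E M x, hE x⟩
      map_one' := Subtype.ext (map_one _)
      map_mul' := fun x y => Subtype.ext (map_mul _ x y)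
      map_zero' := Subtype.ext (map_zero _)
      map_add' := fun x y => Subtype.ext (map_add _ x y) }
  letI : Algebra E F'' := ι.toAlgebra
  haveI : IsScalarTower E F'' M := IsScalarTower.of_algebraMap_eq (fun _ => rfl)
  haveI : Algebra.IsCentral F'' (F'' ⊗[E] D) := CSA.isCentral_baseChange
  haveI : IsSimpleRing (F'' ⊗[E] D) := CSA.isSimpleRing_baseChange
  obtain ⟨m, hm, Δ, _, _, _, _, ⟨e⟩⟩ := Idx.exists_matrix_division F'' (F'' ⊗[E] D)
  have h1 : Module.finrank F'' Δ = 1 := ha F'' Δ
  have h2 : Curves.Splits F'' (F'' ⊗[E] D) F'' := Idx.splits_of_finrank_one m hm e h1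
  have h3 : Curves.Splits E D F'' := (TPow.splits_baseChange_iff (k := E) F'' F'' D).1 h2
  let φ : F'' →ₐ[E] M := { F''.val.toRingHom with commutes' := fun _ => rfl }
  obtain ⟨n, _, ⟨ψ⟩⟩ := Idx.splits_of_algHom φ h3
  exact ⟨n, ⟨ψ⟩⟩

end Groth.Agent.Lib.helper19.SepDesc
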