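import Mathlib

set_option autoImplicit false
universe u
open Polynomial IntermediateField

namespace Groth.Agent.Lib.Helper19.SepHyp1

set_option maxHeartbeats 800000 in
theorem exists_hypersurface (k K : Type u) [Field k] [Field K] [Algebra k K] [Algebra.EssFiniteType k K]
    (d : ℕ) (s : Fin d → K) (hs : IsTranscendenceBasis k s)
    (hsep : Algebra.IsSeparable ↥(IntermediateField.adjoin k (Set.range s)) K) :
    ∃ (g : Polynomial (MvPolynomial (Fin d) k)), g.Monic ∧
      Irreducible (g.map (algebraMap _ (FractionRing (MvPolynomial (Fin d) k)))) ∧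
      (g.map (algebraMap _ (FractionRing (MvPolynomial (Fin d) k)))).Separable ∧
      ∃ φ : AdjoinRoot g →ₐ[k] K, Function.Injective φ ∧
        ∀ x : K, ∃ a b : AdjoinRoot g, φ b ≠ 0 ∧ x * φ b = φ a := by
  let A := MvPolynomial (Fin d) k
  let L := FractionRing A
  have hinj0 : Function.Injective (MvPolynomial.aeval s : A →ₐ[k] K) :=
    algebraicIndependent_iff_injective_aeval.1 hs.1
  letI algAK : Algebra A K := (MvPolynomial.aeval s : A →ₐ[k] K).toRingHom.toAlgebra
  haveI : IsScalarTower k A K := IsScalarTower.of_algebraMap_eq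
    (fun c => ((MvPolynomial.aeval s : A →ₐ[k] K).commutes c).symm)
  have hinj : Function.Injective (algebraMap A K) := hinj0
  letI algLK : Algebra L K := (IsFractionRing.lift hinj).toAlgebra
  haveI : IsScalarTower A L K := IsScalarTower.of_algebraMap_eq
    (fun x => (IsFractionRing.lift_algebraMap hinj x).symm)
  haveI : IsScalarTower k L K := IsScalarTower.of_algebraMap_eq (fun c => by
    rw [IsScalarTower.algebraMap_apply k A L, ← IsScalarTower.algebraMap_apply A L K,
      ← IsScalarTower.algebraMap_apply k A K])
  -- separability transfers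
  haveI : Algebra.IsSeparable L K := by
    refine Algebra.IsSeparable.of_equiv_equiv (A₁ := ↥(IntermediateField.adjoin k (Set.range s)))
      (B₁ := K) hs.1.aevalEquivField.symm.toRingEquiv (RingEquiv.refl K) ?_
    ext y
    obtain ⟨z, rfl⟩ := hs.1.aevalEquivField.surjective y
    simp only [RingHom.comp_apply, RingHom.coe_coe, AlgEquiv.toRingEquiv_eq_coe,
      RingEquiv.coe_toRingHom, AlgEquiv.coe_ringEquiv, AlgEquiv.symm_apply_apply,
      RingEquiv.refl_apply]
    rw [IntermediateField.algebraMap_apply, AlgebraicIndependent.aevalEquivField_apply_coe]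
    rfl
  haveI : Algebra.IsAlgebraic L K := inferInstance
  haveI : Algebra.EssFiniteType L K := Algebra.EssFiniteType.of_comp k L K
  haveI : Module.Finite L K := Algebra.finite_of_essFiniteType_of_isAlgebraic
  obtain ⟨α, hα⟩ := Field.exists_primitive_element L K
  have hαalg : IsAlgebraic A α :=
    (IsFractionRing.isAlgebraic_iff A L K).mpr (Algebra.IsAlgebraic.isAlgebraic α)
  obtain ⟨y, hy0, hy⟩ := hαalg.exists_integral_multiple
  set β : K := y • α with hβ
  have hyK : algebraMap A K y ≠ 0 := fun h => hy0 (hinj (by rw [h, map_zero]))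
  have hβtop : L⟮β⟯ = ⊤ := by
    rw [eq_top_iff, ← hα, IntermediateField.adjoin_simple_le_iff]
    have h1 : β ∈ L⟮β⟯ := IntermediateField.mem_adjoin_simple_self L β
    have h2 : algebraMap A K y ∈ L⟮β⟯ := by
      rw [IsScalarTower.algebraMap_apply A L K]
      exact IntermediateField.algebraMap_mem _ _
    have h3 : α = β / algebraMap A K y := by
      rw [hβ, Algebra.smul_def, mul_div_assoc, mul_comm, div_mul_cancel₀ _ hyK]
    rw [h3]
    exact div_mem h1 h2
  refine ⟨minpoly A β, minpoly.monic hy, ?_, ?_, ?_⟩
  · rw [← minpoly.isIntegrallyClosed_eq_field_fractions' L hy]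
    exact minpoly.irreducible (Algebra.IsIntegral.isIntegral β)
  · rw [← minpoly.isIntegrallyClosed_eq_field_fractions' L hy]
    exact Algebra.IsSeparable.isSeparable L β
  · have hroot : (minpoly A β).eval₂ ((MvPolynomial.aeval s : A →ₐ[k] K) : A →+* K) β = 0 := by
      show eval₂ (algebraMap A K) β _ = 0
      rw [← Polynomial.aeval_def]
      exact minpoly.aeval A β
    let φ : AdjoinRoot (minpoly A β) →ₐ[k] K :=
      AdjoinRoot.liftAlgHom (minpoly A β) (MvPolynomial.aeval s : A →ₐ[k] K) β hroot
    have hφmk : ∀ p : A[X], φ (AdjoinRoot.mk _ p) = Polynomial.aeval β p := by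
      intro p
      show AdjoinRoot.liftAlgHom (minpoly A β) (MvPolynomial.aeval s : A →ₐ[k] K) β hroot _ = _
      rw [AdjoinRoot.liftAlgHom_mk, Polynomial.aeval_def]
      rfl
    haveI : FaithfulSMul A K := (faithfulSMul_iff_algebraMap_injective A K).mpr hinj
    refine ⟨φ, ?_, ?_⟩
    · rw [injective_iff_map_eq_zero]
      intro z hz
      obtain ⟨p, rfl⟩ := AdjoinRoot.mk_surjective z
      rw [hφmk] at hz
      rw [AdjoinRoot.mk_eq_zero]
      exact minpoly.isIntegrallyClosed_dvd hy hz
    · intro x
      have hx : x ∈ Algebra.adjoin L {β} := by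
        rw [Algebra.adjoin_eq_top_of_primitive_element (Algebra.IsAlgebraic.isAlgebraic β) hβtop]
        trivial
      rw [Algebra.adjoin_singleton_eq_range_aeval] at hx
      obtain ⟨P, rfl⟩ := hx
      obtain ⟨b, hbM, hb⟩ := IsLocalization.integerNormalization_spec (nonZeroDivisors A) P
      refine ⟨AdjoinRoot.mk _ (IsLocalization.integerNormalization (nonZeroDivisors A) P),
        AdjoinRoot.mk _ (Polynomial.C (b : A)), ?_, ?_⟩
      · rw [hφmk, Polynomial.aeval_C]
        intro h
        exact nonZeroDivisors.ne_zero hbM (hinj (by rw [h, map_zero]))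
      · rw [hφmk, hφmk, Polynomial.aeval_C]
        have h1 : Polynomial.aeval β (IsLocalization.integerNormalization (nonZeroDivisors A) P) =
            Polynomial.aeval β ((IsLocalization.integerNormalization (nonZeroDivisors A) P).map
              (algebraMap A L)) := by
          rw [Polynomial.aeval_map_algebraMap]
        rw [h1, hb, ← algebraMap_smul L b P, map_smul, Algebra.smul_def, mul_comm,
          ← IsScalarTower.algebraMap_apply A L K]
        rfl

end Groth.Agent.Lib.Helper19.SepHyp1
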