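import Groth.Agent.Lib.helper19.SepHyp1
import Groth.Prelude.Def_CurvBase
import Groth.Agent.Lib.Helper7.ResFieldTrdeg
import Groth.Agent.Lib.Helper13.BiratOver

set_option autoImplicit false
universe u
open AlgebraicGeometry CategoryTheory
open Groth.Agent.Lib.Helper7

namespace Groth.Agent.Lib.Helper19.SepHyp2

attribute [local instance] Curv2.stalkAlgebra

theorem essFiniteType_stalk (k : Type u) [Field k] (X : Scheme.{u}) [X.Over (Spec (CommRingCat.of k))]
    [LocallyOfFiniteType (X ↘ Spec (CommRingCat.of k))] (x : X) :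
    Algebra.EssFiniteType k (X.presheaf.stalk x) := by
  obtain ⟨_, ⟨V, hV : IsAffineOpen V, rfl⟩, hxV, -⟩ :=
    X.isBasis_affineOpens.exists_subset_of_mem_open (Set.mem_univ x) isOpen_univ
  letI algΓ : Algebra k Γ(X, V) := (ResTrdeg.kToΓ k X V).toAlgebra
  letI algΓB : Algebra Γ(X, V) (X.presheaf.stalk x) := (X.presheaf.germ V x hxV).hom.toAlgebra
  haveI : IsScalarTower k Γ(X, V) (X.presheaf.stalk x) :=
    IsScalarTower.of_algebraMap_eq (fun c => (ResTrdeg.germ_kToΓ k X V x hxV c).symm)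
  haveI hloc : IsLocalization.AtPrime (X.presheaf.stalk x) (hV.primeIdealOf ⟨x, hxV⟩).asIdeal :=
    hV.isLocalization_stalk ⟨x, hxV⟩
  haveI : Algebra.FiniteType k Γ(X, V) := ResTrdeg.finiteType_kToΓ k X hV
  haveI : Algebra.EssFiniteType Γ(X, V) (X.presheaf.stalk x) :=
    Algebra.EssFiniteType.of_isLocalization _ (hV.primeIdealOf ⟨x, hxV⟩).asIdeal.primeCompl
  exact Algebra.EssFiniteType.comp k Γ(X, V) (X.presheaf.stalk x)

end Groth.Agent.Lib.Helper19.SepHyp2
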