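import Mathlib

set_option autoImplicit false
universe u
open AlgebraicGeometry CategoryTheory

namespace Groth.Agent.Lib.Helper19.SepHyp3a

theorem toStalk_surjective_of_field (k : Type u) [Field k] (p : Spec (CommRingCat.of k)) :
    Function.Surjective (fun c : k => ((Spec (CommRingCat.of k)).presheaf.germ ⊤ p trivial).hom
      ((Scheme.ΓSpecIso (CommRingCat.of k)).inv.hom c)) := by
  obtain rfl : p = IsLocalRing.closedPoint k := Subsingleton.elim (α := PrimeSpectrum k) _ _
  have h : (Scheme.ΓSpecIso (CommRingCat.of k)).inv ≫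
      (Spec (CommRingCat.of k)).presheaf.germ ⊤ (IsLocalRing.closedPoint k) trivial =
      (stalkClosedPointIso (CommRingCat.of k)).inv := by
    rw [← ΓSpecIso_hom_stalkClosedPointIso_inv, Iso.inv_hom_id_assoc]
  have hb := (ConcreteCategory.bijective_of_isIso (stalkClosedPointIso (CommRingCat.of k)).inv).2
  rw [← h] at hb
  exact hb

end Groth.Agent.Lib.Helper19.SepHyp3a
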