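import Groth.Agent.Lib.helper19.SepHyp2
import Groth.Agent.Lib.helper19.SepHyp3a

set_option autoImplicit false
universe u
open AlgebraicGeometry CategoryTheory
open Groth.Agent.Lib.Helper7 Groth.Agent.Lib.Helper13.BiratOver

namespace Groth.Agent.Lib.Helper19.SepHyp3

attribute [local instance] Curv2.stalkAlgebra

set_option maxHeartbeats 800000 in
theorem birational_spec (k : Type u) [Field k] (X : Scheme.{u}) [X.Over (Spec (CommRingCat.of k))]
    [IsIntegral X] [LocallyOfFiniteType (X ↘ Spec (CommRingCat.of k))]
    (B : Type u) [CommRing B] [IsDomain B] [Algebra k B] [Algebra.FiniteType k B]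
    (φ : B →ₐ[k] X.presheaf.stalk (genericPoint X)) (hinj : Function.Injective φ)
    (hfrac : ∀ x : X.presheaf.stalk (genericPoint X), ∃ a b : B, φ b ≠ 0 ∧ x * φ b = φ a) :
    ∃ (U : X.Opens) (V : (Spec (CommRingCat.of B)).Opens) (e : (U : Scheme.{u}) ≅ (V : Scheme.{u})),
      (U : Set X).Nonempty ∧ (V : Set (Spec (CommRingCat.of B))).Nonempty ∧
      e.hom ≫ V.ι ≫ Spec.map (CommRingCat.ofHom (algebraMap k B)) =
        U.ι ≫ (X ↘ Spec (CommRingCat.of k)) := by
  let Y : Scheme.{u} := Spec (CommRingCat.of B)
  let sY : Y ⟶ Spec (CommRingCat.of k) := Spec.map (CommRingCat.ofHom (algebraMap k B))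
  let sX : X ⟶ Spec (CommRingCat.of k) := X ↘ Spec (CommRingCat.of k)
  haveI : IsIntegral Y := inferInstance
  haveI : LocallyOfFiniteType sY := by
    rw [HasRingHomProperty.Spec_iff (P := @LocallyOfFiniteType)]
    exact (RingHom.finiteType_algebraMap (A := k) (B := B)).mpr inferInstance
  letI fK : Field (X.presheaf.stalk (genericPoint X)) := inferInstanceAs (Field X.functionField)
  letI algBK : Algebra B (X.presheaf.stalk (genericPoint X)) := φ.toRingHom.toAlgebra
  haveI : FaithfulSMul B (X.presheaf.stalk (genericPoint X)) :=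
    (faithfulSMul_iff_algebraMap_injective B _).mpr hinj
  haveI hfr : IsFractionRing B (X.presheaf.stalk (genericPoint X)) := by
    apply IsFractionRing.of_field
    intro z
    obtain ⟨a, b, hb, h⟩ := hfrac z
    refine ⟨a, b, ?_⟩
    show z = φ a / φ b
    rw [eq_div_iff hb, h]
  haveI : IsDomain (CommRingCat.of B) := inferInstanceAs (IsDomain B)
  letI algBFY : Algebra B (Spec (CommRingCat.of B)).functionField :=
    AlgebraicGeometry.instAlgebraCarrierFunctionFieldSpec (CommRingCat.of B)
  haveI hfrY : IsFractionRing B (Spec (CommRingCat.of B)).functionField :=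
    functionField_isFractionRing_of_affine (CommRingCat.of B)
  let θ : X.presheaf.stalk (genericPoint X) ≃ₐ[B] (Spec (CommRingCat.of B)).functionField :=
    IsLocalization.algEquiv (nonZeroDivisors B) _ _
  let e : X.residueField (genericPoint X) ≅ Y.residueField (genericPoint Y) :=
    (asIso (X.residue (genericPoint X))).symm ≪≫ θ.toRingEquiv.toCommRingCatIso ≪≫
      asIso (Y.residue (genericPoint Y))
  have hs : sX (genericPoint X) = sY (genericPoint Y) :=
    Subsingleton.elim (α := PrimeSpectrum k) _ _
  have he : sX.residueFieldMap (genericPoint X) ≫ e.hom =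
      eqToHom (congrArg (Spec (CommRingCat.of k)).residueField hs) ≫
        sY.residueFieldMap (genericPoint Y) := by
    -- key equation on stalks
    have key : sX.stalkMap (genericPoint X) ≫ θ.toRingEquiv.toCommRingCatIso.hom =
        (Spec (CommRingCat.of k)).presheaf.stalkSpecializes (Inseparable.of_eq hs.symm).specializes ≫
          sY.stalkMap (genericPoint Y) := by
      ext z
      obtain ⟨c, rfl⟩ := SepHyp3a.toStalk_surjective_of_field k (sX (genericPoint X)) z
      show θ ((sX.stalkMap (genericPoint X)).hom
          (((Spec (CommRingCat.of k)).presheaf.germ ⊤ (sX (genericPoint X)) trivial).hom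
            ((Scheme.ΓSpecIso (CommRingCat.of k)).inv.hom c))) =
        (sY.stalkMap (genericPoint Y)).hom
          (((Spec (CommRingCat.of k)).presheaf.stalkSpecializes
            (Inseparable.of_eq hs.symm).specializes).hom
            (((Spec (CommRingCat.of k)).presheaf.germ ⊤ (sX (genericPoint X)) trivial).hom
              ((Scheme.ΓSpecIso (CommRingCat.of k)).inv.hom c)))
      have h1 : (sX.stalkMap (genericPoint X)).hom
          (((Spec (CommRingCat.of k)).presheaf.germ ⊤ (sX (genericPoint X)) trivial).hom
            ((Scheme.ΓSpecIso (CommRingCat.of k)).inv.hom c)) =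
          algebraMap k (X.presheaf.stalk (genericPoint X)) c := by
        have := Scheme.Hom.germ_stalkMap_apply sX ⊤ (genericPoint X) trivial
          ((Scheme.ΓSpecIso (CommRingCat.of k)).inv.hom c)
        exact this
      have h2 : ((Spec (CommRingCat.of k)).presheaf.stalkSpecializes
            (Inseparable.of_eq hs.symm).specializes).hom
            (((Spec (CommRingCat.of k)).presheaf.germ ⊤ (sX (genericPoint X)) trivial).hom
              ((Scheme.ΓSpecIso (CommRingCat.of k)).inv.hom c)) =
          ((Spec (CommRingCat.of k)).presheaf.germ ⊤ (sY (genericPoint Y)) trivial).hom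
              ((Scheme.ΓSpecIso (CommRingCat.of k)).inv.hom c) :=
        TopCat.Presheaf.germ_stalkSpecializes_apply _ _ _ _
      have h3 : (sY.stalkMap (genericPoint Y)).hom
          (((Spec (CommRingCat.of k)).presheaf.germ ⊤ (sY (genericPoint Y)) trivial).hom
              ((Scheme.ΓSpecIso (CommRingCat.of k)).inv.hom c)) =
          (Y.presheaf.germ ⊤ (genericPoint Y) trivial).hom
            ((Scheme.ΓSpecIso (CommRingCat.of B)).inv.hom (algebraMap k B c)) := by
        have := Scheme.Hom.germ_stalkMap_apply sY ⊤ (genericPoint Y) trivial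
          ((Scheme.ΓSpecIso (CommRingCat.of k)).inv.hom c)
        rw [this]
        have h4 := congrArg (fun f => f.hom c)
          (Scheme.ΓSpecIso_inv_naturality (CommRingCat.ofHom (algebraMap k B)))
        simp only [CommRingCat.hom_comp, RingHom.comp_apply, CommRingCat.hom_ofHom] at h4
        rw [h4]
        rfl
      rw [h1, h2, h3, ← φ.commutes c]
      exact θ.commutes (algebraMap k B c)
    rw [← cancel_epi ((Spec (CommRingCat.of k)).residue (sX (genericPoint X)))]
    rw [Scheme.residue_residueFieldMap_assoc, ← Category.assoc _ (eqToHom _) _, residue_eqToHom hs,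
      Category.assoc, Scheme.residue_residueFieldMap, ← Category.assoc _ _ (Y.residue _), ← key]
    simp only [e, Iso.trans_hom, Iso.symm_hom, asIso_inv, asIso_hom, Category.assoc,
      IsIso.hom_inv_id_assoc]
  obtain ⟨W, j, g, hj, hg, hW, h⟩ :=
    exists_openImmersions_of_residue_iso sX sY (genericPoint X) (genericPoint Y) hs e he
  refine ⟨j.opensRange, g.opensRange, j.isoOpensRange.symm ≪≫ g.isoOpensRange, ?_, ?_, ?_⟩
  · obtain ⟨w⟩ := hW
    exact ⟨j w, w, rfl⟩
  · obtain ⟨w⟩ := hW
    exact ⟨g w, w, rfl⟩
  · simp only [Iso.trans_hom, Iso.symm_hom, Category.assoc]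
    rw [Scheme.Hom.isoOpensRange_hom_ι_assoc, Iso.inv_comp_eq, ← h,
      Scheme.Hom.isoOpensRange_hom_ι_assoc]

end Groth.Agent.Lib.Helper19.SepHyp3
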