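import Groth.Agent.Lib.helper19.SepHyp3

set_option autoImplicit false
universe u
open AlgebraicGeometry CategoryTheory

namespace Groth.Agent.Lib.Helper19.SepHyp4

attribute [local instance] Curv2.stalkAlgebra

theorem main (k : Type u) [Field k]
    (X : Scheme.{u}) [X.Over (Spec (CommRingCat.of k))] [IsIntegral X]
    [LocallyOfFiniteType (X ↘ Spec (CommRingCat.of k))] [QuasiCompact (X ↘ Spec (CommRingCat.of k))]
    (d : ℕ) (s : Fin d → X.presheaf.stalk (genericPoint X)) (hs : IsTranscendenceBasis k s)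
    (hsep : Algebra.IsSeparable ↥(IntermediateField.adjoin k (Set.range s)) (X.presheaf.stalk (genericPoint X))) :
    ∃ (g : Polynomial (MvPolynomial (Fin d) k)), g.Monic ∧
      Irreducible (g.map (algebraMap (MvPolynomial (Fin d) k) (FractionRing (MvPolynomial (Fin d) k)))) ∧
      (g.map (algebraMap (MvPolynomial (Fin d) k) (FractionRing (MvPolynomial (Fin d) k)))).Separable ∧
      ∃ (U : X.Opens) (V : (Spec (CommRingCat.of (AdjoinRoot g))).Opens) (e : (U : Scheme.{u}) ≅ (V : Scheme.{u})),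
        (U : Set X).Nonempty ∧ (V : Set (Spec (CommRingCat.of (AdjoinRoot g)))).Nonempty ∧
        e.hom ≫ V.ι ≫ Spec.map (CommRingCat.ofHom (algebraMap k (AdjoinRoot g))) =
          U.ι ≫ (X ↘ Spec (CommRingCat.of k)) := by
  haveI := SepHyp2.essFiniteType_stalk k X (genericPoint X)
  obtain ⟨g, hg1, hg2, hg3, φ, hφ, hfrac⟩ :=
    SepHyp1.exists_hypersurface k (X.presheaf.stalk (genericPoint X)) d s hs hsep
  refine ⟨g, hg1, hg2, hg3, ?_⟩
  haveI : IsDomain (AdjoinRoot g) := hφ.isDomain φ.toRingHom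
  haveI : Algebra.FiniteType k (AdjoinRoot g) := inferInstance
  exact SepHyp3.birational_spec k X (AdjoinRoot g) φ hφ hfrac

end Groth.Agent.Lib.Helper19.SepHyp4
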