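import Mathlib

set_option autoImplicit false
universe u

namespace Groth.Agent.Lib.Helper19.SepPtA

open IsLocalRing

/-- A local `k`-algebra `O`, essentially of finite type, formally unramified over a `k`-algebra `P`,
such that `P → O → κ` factors through a `k`-point `ε : P → k`, has finite separable residue field
over `k`. -/
theorem finite_separable_residueField {k P O : Type u} [Field k] [CommRing P] [CommRing O]
    [Algebra k P] [Algebra k O] [Algebra P O] [IsScalarTower k P O] [IsLocalRing O]
    [Algebra.FormallyUnramified P O] [Algebra.EssFiniteType k O]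
    (ε : P →ₐ[k] k)
    (hε : ∀ p : P, algebraMap P O p - algebraMap k O (ε p) ∈ maximalIdeal O) :
    Module.Finite k (ResidueField O) ∧ Algebra.IsSeparable k (ResidueField O) := by
  letI algPk : Algebra P k := ε.toRingHom.toAlgebra
  haveI tw1 : IsScalarTower P k (ResidueField O) := by
    apply IsScalarTower.of_algebraMap_eq
    intro p
    show residue O (algebraMap P O p) = residue O (algebraMap k O (ε p))
    rw [← sub_eq_zero, ← map_sub, residue_eq_zero_iff]
    exact hε p
  haveI : Algebra.FormallyUnramified P (ResidueField O) :=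
    Algebra.FormallyUnramified.comp P O (ResidueField O)
  haveI : Algebra.FormallyUnramified k (ResidueField O) :=
    Algebra.FormallyUnramified.of_restrictScalars P k (ResidueField O)
  haveI : Algebra.FiniteType O (ResidueField O) :=
    Algebra.FiniteType.of_surjective (Algebra.ofId O (ResidueField O))
      (IsLocalRing.residue_surjective)
  haveI : Algebra.EssFiniteType k (ResidueField O) :=
    Algebra.EssFiniteType.comp k O (ResidueField O)
  exact ⟨Algebra.FormallyUnramified.finite_of_free k (ResidueField O),
    Algebra.FormallyUnramified.isSeparable k (ResidueField O)⟩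

/-- In a standard smooth algebra over an infinite field, every nonempty basic open contains a
prime lying over a rational point of étale coordinates. -/
theorem exists_point {k B : Type u} [Field k] [Infinite k] [CommRing B] [Algebra k B]
    (n : ℕ) [Algebra.IsStandardSmoothOfRelativeDimension n k B]
    (f : B) (q₀ : PrimeSpectrum B) (hq₀ : f ∉ q₀.asIdeal) :
    ∃ (g : MvPolynomial (Fin n) k →ₐ[k] B), g.Etale ∧ ∃ (a : Fin n → k) (q : PrimeSpectrum B),
      f ∉ q.asIdeal ∧ ∀ p, g p - algebraMap k B (MvPolynomial.eval a p) ∈ q.asIdeal := by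
  obtain ⟨g, hg⟩ := Algebra.IsStandardSmoothOfRelativeDimension.exists_etale_mvPolynomial n k B
  refine ⟨g, hg, ?_⟩
  letI algPB : Algebra (MvPolynomial (Fin n) k) B := g.toRingHom.toAlgebra
  haveI : Algebra.Etale (MvPolynomial (Fin n) k) B := hg
  haveI : Algebra.Smooth (MvPolynomial (Fin n) k) B := inferInstance
  haveI : Module.Flat (MvPolynomial (Fin n) k) B := inferInstance
  have hopen : IsOpenMap (PrimeSpectrum.comap (algebraMap (MvPolynomial (Fin n) k) B)) :=
    PrimeSpectrum.isOpenMap_comap_of_hasGoingDown_of_finitePresentation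
  have hO : IsOpen (PrimeSpectrum.comap (algebraMap (MvPolynomial (Fin n) k) B) ''
      (PrimeSpectrum.basicOpen f : Set (PrimeSpectrum B))) :=
    hopen _ (PrimeSpectrum.basicOpen f).isOpen
  have hmem : PrimeSpectrum.comap (algebraMap (MvPolynomial (Fin n) k) B) q₀ ∈
      PrimeSpectrum.comap (algebraMap (MvPolynomial (Fin n) k) B) ''
      (PrimeSpectrum.basicOpen f : Set (PrimeSpectrum B)) := ⟨q₀, hq₀, rfl⟩
  obtain ⟨_, ⟨F, rfl⟩, hF1, hF2⟩ :=
    PrimeSpectrum.isTopologicalBasis_basic_opens.exists_subset_of_mem_open hmem hO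
  have hF0 : F ≠ 0 := by
    rintro rfl
    exact hF1 (Ideal.zero_mem _)
  obtain ⟨a, ha⟩ : ∃ a : Fin n → k, MvPolynomial.eval a F ≠ 0 := by
    by_contra hcon
    push_neg at hcon
    exact hF0 (MvPolynomial.funext (fun x => by rw [hcon x, map_zero]))
  let m : PrimeSpectrum (MvPolynomial (Fin n) k) :=
    ⟨RingHom.ker (MvPolynomial.eval a), RingHom.ker_isPrime _⟩
  have hm : m ∈ (PrimeSpectrum.basicOpen F : Set (PrimeSpectrum (MvPolynomial (Fin n) k))) := by
    show F ∉ RingHom.ker (MvPolynomial.eval a)
    rw [RingHom.mem_ker]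
    exact ha
  obtain ⟨q, hq1, hq2⟩ := hF2 hm
  refine ⟨a, q, hq1, ?_⟩
  intro p
  have h1 : p - MvPolynomial.C (MvPolynomial.eval a p) ∈ m.asIdeal := by
    show _ ∈ RingHom.ker (MvPolynomial.eval a)
    rw [RingHom.mem_ker, map_sub, MvPolynomial.eval_C, sub_self]
  rw [← hq2] at h1
  have h2 : algebraMap (MvPolynomial (Fin n) k) B (p - MvPolynomial.C (MvPolynomial.eval a p)) ∈
      q.asIdeal := h1
  have h3 : algebraMap (MvPolynomial (Fin n) k) B (p - MvPolynomial.C (MvPolynomial.eval a p)) =
      g p - algebraMap k B (MvPolynomial.eval a p) := by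
    show g (p - MvPolynomial.C (MvPolynomial.eval a p)) = _
    rw [map_sub]
    congr 1
    exact g.commutes _
  rw [← h3]
  exact h2

end Groth.Agent.Lib.Helper19.SepPtA
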