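import Mathlib
import Groth.Prelude.Def_CurvBase
import Groth.Agent.Lib.Helper7.ResFieldTrdeg
import Groth.Agent.Lib.Helper7.AffinePoints
import Groth.Agent.Lib.Helper18.PtCount.Immersion
import Groth.Agent.Lib.helper19.SepPtA

set_option autoImplicit false
universe u

namespace Groth.Agent.Lib.Helper19.SepPtB

open AlgebraicGeometry CategoryTheory IsLocalRing
open Groth.Agent.Lib.Helper7

variable (k : Type u) [Field k] (X : Scheme.{u}) [X.Over (Spec (CommRingCat.of k))]

theorem exists_stdSmooth_nhd [Smooth (X ↘ Spec (CommRingCat.of k))] (x : X) :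
    ∃ (V : X.Opens) (_ : IsAffineOpen V) (_ : x ∈ V),
      (ResTrdeg.kToΓ k X V).IsStandardSmooth := by
  obtain ⟨W, hW, V, hV, hxV, e, hφ⟩ :=
    Smooth.exists_isStandardSmooth (X ↘ Spec (CommRingCat.of k)) x
  have hWtop : W = ⊤ := by
    apply TopologicalSpace.Opens.ext
    apply Set.eq_univ_of_forall
    intro z
    have h1 : (X ↘ Spec (CommRingCat.of k)) x ∈ W := e hxV
    have : z = (X ↘ Spec (CommRingCat.of k)) x := Subsingleton.elim _ _
    rw [this]; exact h1
  subst hWtop
  refine ⟨V, hV, hxV, ?_⟩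
  unfold ResTrdeg.kToΓ
  exact RingHom.isStandardSmooth_respectsIso.2 _
    ((Scheme.ΓSpecIso (CommRingCat.of k)).symm.commRingCatIsoToRingEquiv) hφ

set_option maxHeartbeats 800000 in
/-- The key step for an infinite base field. -/
theorem exists_point_infinite [Infinite k] [Smooth (X ↘ Spec (CommRingCat.of k))]
    (U : X.Opens) (x₀ : X) (hx₀ : x₀ ∈ U) :
    ∃ x ∈ U, @Module.Finite k (X.residueField x) _ _ (Curv2.resAlgebra k X x).toModule ∧
      @Algebra.IsSeparable k (X.residueField x) _ _ (Curv2.resAlgebra k X x) := by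
  obtain ⟨V, hV, hx₀V, hφ⟩ := exists_stdSmooth_nhd k X x₀
  letI algΓ : Algebra k Γ(X, V) := (ResTrdeg.kToΓ k X V).toAlgebra
  haveI hstd : Algebra.IsStandardSmooth k Γ(X, V) := hφ
  obtain ⟨ι, σ, hσ, hι, ⟨Pr⟩⟩ := hstd.out
  haveI : Algebra.IsStandardSmoothOfRelativeDimension Pr.dimension k Γ(X, V) :=
    ⟨_, _, _, hι, Pr, rfl⟩
  obtain ⟨f, hfU, hfx₀⟩ := hV.exists_basicOpen_le (V := U) ⟨x₀, hx₀⟩ hx₀V
  have hq₀ : f ∉ (hV.primeIdealOf ⟨x₀, hx₀V⟩).asIdeal := by
    rw [AffPts.mem_primeIdealOf_iff hV]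
    exact fun h => h hfx₀
  obtain ⟨g, hg, a, q, hfq, hq⟩ :=
    Groth.Agent.Lib.Helper19.SepPtA.exists_point (k := k) (B := Γ(X, V)) Pr.dimension f
      (hV.primeIdealOf ⟨x₀, hx₀V⟩) hq₀
  obtain ⟨z, rfl⟩ := AffPts.primeIdealOf_surjective hV q
  have hzf : (z : X) ∈ X.basicOpen f := by
    by_contra hcon
    exact hfq ((AffPts.mem_primeIdealOf_iff hV z f).2 hcon)
  refine ⟨z.1, hfU hzf, ?_⟩
  -- the local ring
  letI algO : Algebra k (X.presheaf.stalk z.1) := Curv2.stalkAlgebra k X z.1
  letI algΓO : Algebra Γ(X, V) (X.presheaf.stalk z.1) := (X.presheaf.germ V z.1 z.2).hom.toAlgebra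
  haveI tw1 : IsScalarTower k Γ(X, V) (X.presheaf.stalk z.1) :=
    IsScalarTower.of_algebraMap_eq (fun c => (ResTrdeg.germ_kToΓ k X V z.1 z.2 c).symm)
  haveI hloc : IsLocalization.AtPrime (X.presheaf.stalk z.1) (hV.primeIdealOf z).asIdeal :=
    hV.isLocalization_stalk z
  haveI : Algebra.FormallyEtale Γ(X, V) (X.presheaf.stalk z.1) :=
    Algebra.FormallyEtale.of_isLocalization (hV.primeIdealOf z).asIdeal.primeCompl
  haveI : Algebra.FormallyUnramified Γ(X, V) (X.presheaf.stalk z.1) := inferInstance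
  haveI : Algebra.IsStandardSmooth k Γ(X, V) := hφ
  haveI : Algebra.FinitePresentation k Γ(X, V) := inferInstance
  haveI : Algebra.FiniteType k Γ(X, V) := inferInstance
  haveI : Algebra.EssFiniteType Γ(X, V) (X.presheaf.stalk z.1) :=
    Algebra.EssFiniteType.of_isLocalization _ (hV.primeIdealOf z).asIdeal.primeCompl
  haveI : Algebra.EssFiniteType k (X.presheaf.stalk z.1) :=
    Algebra.EssFiniteType.comp k Γ(X, V) (X.presheaf.stalk z.1)
  -- polynomial coordinates
  letI algPΓ : Algebra (MvPolynomial (Fin Pr.dimension) k) Γ(X, V) := g.toRingHom.toAlgebra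
  haveI : Algebra.Etale (MvPolynomial (Fin Pr.dimension) k) Γ(X, V) := hg
  haveI : Algebra.FormallyUnramified (MvPolynomial (Fin Pr.dimension) k) Γ(X, V) := inferInstance
  letI algPO : Algebra (MvPolynomial (Fin Pr.dimension) k) (X.presheaf.stalk z.1) :=
    ((algebraMap Γ(X, V) (X.presheaf.stalk z.1)).comp
      (algebraMap (MvPolynomial (Fin Pr.dimension) k) Γ(X, V))).toAlgebra
  haveI tw2 : IsScalarTower (MvPolynomial (Fin Pr.dimension) k) Γ(X, V) (X.presheaf.stalk z.1) :=
    IsScalarTower.of_algebraMap_eq' rfl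
  haveI tw3 : IsScalarTower k (MvPolynomial (Fin Pr.dimension) k) Γ(X, V) :=
    IsScalarTower.of_algebraMap_eq (fun c => (g.commutes c).symm)
  haveI tw4 : IsScalarTower k (MvPolynomial (Fin Pr.dimension) k) (X.presheaf.stalk z.1) := by
    apply IsScalarTower.of_algebraMap_eq
    intro c
    rw [IsScalarTower.algebraMap_apply k Γ(X, V) (X.presheaf.stalk z.1),
      IsScalarTower.algebraMap_apply (MvPolynomial (Fin Pr.dimension) k) Γ(X, V)
        (X.presheaf.stalk z.1),
      ← IsScalarTower.algebraMap_apply k (MvPolynomial (Fin Pr.dimension) k) Γ(X, V)]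
  haveI : Algebra.FormallyUnramified (MvPolynomial (Fin Pr.dimension) k)
      (X.presheaf.stalk z.1) :=
    Algebra.FormallyUnramified.comp (MvPolynomial (Fin Pr.dimension) k) Γ(X, V)
      (X.presheaf.stalk z.1)
  have hε : ∀ p : MvPolynomial (Fin Pr.dimension) k,
      algebraMap (MvPolynomial (Fin Pr.dimension) k) (X.presheaf.stalk z.1) p -
        algebraMap k (X.presheaf.stalk z.1) (MvPolynomial.aeval a p) ∈
        maximalIdeal (X.presheaf.stalk z.1) := by
    intro p
    have h1 := hq p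
    rw [hV.primeIdealOf_eq_map_closedPoint z] at h1
    have h2 : (X.presheaf.germ V z.1 z.2).hom (g p - algebraMap k Γ(X, V) (MvPolynomial.eval a p)) ∈
        maximalIdeal (X.presheaf.stalk z.1) := h1
    rw [map_sub] at h2
    have he : MvPolynomial.aeval a p = MvPolynomial.eval a p := rfl
    rw [he, IsScalarTower.algebraMap_apply k Γ(X, V) (X.presheaf.stalk z.1)]
    exact h2
  have hmain := Groth.Agent.Lib.Helper19.SepPtA.finite_separable_residueField
    (k := k) (P := MvPolynomial (Fin Pr.dimension) k) (O := X.presheaf.stalk z.1)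
    (MvPolynomial.aeval a) hε
  have hinst : (IsLocalRing.ResidueField.algebra (X.presheaf.stalk z.1) :
      Algebra k (IsLocalRing.ResidueField (X.presheaf.stalk z.1))) =
      Curv2.resAlgebra k X z.1 := Algebra.algebra_ext _ _ (fun c => rfl)
  rw [hinst] at hmain
  exact hmain

theorem main [Smooth (X ↘ Spec (CommRingCat.of k))] :
    Dense {x : X | IsClosed ({x} : Set X) ∧
      @FiniteDimensional k (X.residueField x) _ _ (Curv2.resAlgebra k X x).toModule ∧
      @Algebra.IsSeparable k (X.residueField x) _ _ (Curv2.resAlgebra k X x)} := by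
  rw [dense_iff_inter_open]
  intro U hU hne
  haveI : LocallyOfFiniteType (X ↘ Spec (CommRingCat.of k)) := inferInstance
  suffices h : ∃ x ∈ U,
      @Module.Finite k (X.residueField x) _ _ (Curv2.resAlgebra k X x).toModule ∧
      @Algebra.IsSeparable k (X.residueField x) _ _ (Curv2.resAlgebra k X x) by
    obtain ⟨x, hxU, hfin, hsep⟩ := h
    refine ⟨x, hxU, ?_, hfin, hsep⟩
    apply Groth.Agent.Lib.Helper18.PtCount.isClosed_of_resDeg_pos (X ↘ Spec (CommRingCat.of k))
    letI := Curv2.resAlgebra k X x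
    show 0 < Module.finrank k (X.residueField x)
    exact Module.finrank_pos
  obtain ⟨x₀, hx₀⟩ := hne
  rcases finite_or_infinite k with hk | hk
  · haveI : JacobsonSpace X :=
      LocallyOfFiniteType.jacobsonSpace (X ↘ Spec (CommRingCat.of k))
    obtain ⟨x, hxU, hxc⟩ := nonempty_inter_closedPoints (X := X) ⟨x₀, hx₀⟩ hU.isLocallyClosed
    have hpos := Groth.Agent.Lib.Helper18.PtCount.resDeg_pos_of_isClosed
      (X ↘ Spec (CommRingCat.of k)) hxc
    letI := Curv2.resAlgebra k X x
    have hpos' : 0 < Module.finrank k (X.residueField x) := hpos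
    haveI hfin : Module.Finite k (X.residueField x) := Module.finite_of_finrank_pos hpos'
    refine ⟨x, hxU, hfin, ?_⟩
    haveI : Algebra.IsAlgebraic k (X.residueField x) := Algebra.IsAlgebraic.of_finite k _
    exact Algebra.IsAlgebraic.isSeparable_of_perfectField
  · exact exists_point_infinite k X ⟨U, hU⟩ x₀ hx₀

end Groth.Agent.Lib.Helper19.SepPtB
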