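import Mathlib

set_option autoImplicit false
universe u v w

namespace Groth.Agent.Lib.Helper19.SmDiv1

open TensorProduct KaehlerDifferential

/-- Lemma C: a linear functional into a "residue field like" algebra detects non-vanishing in
`κ(q) ⊗ M`. -/
theorem tmul_ne_zero_of_linearMap {B : Type u} [CommRing B] (q : Ideal B) [q.IsPrime]
    {K : Type v} [Field K] [Algebra B K]
    (h₁ : ∀ b ∈ q, algebraMap B K b = 0) (h₂ : ∀ b ∉ q, algebraMap B K b ≠ 0)
    {M : Type w} [AddCommGroup M] [Module B M] (ℓ : M →ₗ[B] K) (ω : M) (hω : ℓ ω ≠ 0) :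
    (1 : q.ResidueField) ⊗ₜ[B] ω ≠ 0 := by
  let ι : q.ResidueField →ₐ[B] K := Ideal.ResidueField.liftₐ q (Algebra.ofId B K)
    (fun b hb => by simpa using h₁ b hb)
    (fun b hb => by
      simp only [Submonoid.mem_comap, IsUnit.mem_submonoid_iff]
      exact (h₂ b hb).isUnit)
  let Φ : q.ResidueField ⊗[B] M →ₗ[B] K :=
    TensorProduct.lift ((LinearMap.mul B K).compl₁₂ ι.toLinearMap ℓ)
  intro h0
  have : Φ ((1 : q.ResidueField) ⊗ₜ[B] ω) = ℓ ω := by
    simp [Φ]
  rw [h0, map_zero] at this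
  exact hω this.symm

end Groth.Agent.Lib.Helper19.SmDiv1
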