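import Mathlib
import Groth.Agent.Lib.Helper21.FibreStalk

set_option autoImplicit false
universe u v w
open CategoryTheory CategoryTheory.Limits AlgebraicGeometry TopologicalSpace

namespace Groth.Agent.Lib.Helper19.SmDiv11

open IsLocalRing

theorem exists_not_mem {B C : Type u} [CommRing B] [CommRing C] [IsLocalRing B] [IsLocalRing C]
    [IsNoetherianRing C] (ψ : B →+* C) (hψ : Function.Surjective ψ) (I₀ : Ideal B)
    (hI₀ : ∀ b ∈ I₀, ψ b = 0) (hC : maximalIdeal C ≠ ⊥) :
    ∃ h ∈ maximalIdeal B, h ∉ maximalIdeal B ^ 2 ⊔ I₀ := by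
  by_contra hcon
  push Not at hcon
  haveI : IsLocalHom ψ := IsLocalHom.of_surjective ψ hψ
  have hmC : maximalIdeal C = (maximalIdeal B).map ψ := by
    apply le_antisymm
    · intro c hc
      obtain ⟨b, rfl⟩ := hψ c
      refine Ideal.mem_map_of_mem _ ?_
      rw [mem_maximalIdeal, mem_nonunits_iff] at hc ⊢
      exact fun hb => hc (hb.map ψ)
    · rw [Ideal.map_le_iff_le_comap]
      intro b hb
      rw [Ideal.mem_comap, mem_maximalIdeal, mem_nonunits_iff] at *
      exact fun hu => hb (isUnit_of_map_unit ψ b hu)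
  have hI₀map : I₀.map ψ = ⊥ := by
    rw [eq_bot_iff, Ideal.map_le_iff_le_comap]
    intro b hb
    exact hI₀ b hb
  have hle : maximalIdeal C ≤ maximalIdeal C • maximalIdeal C := by
    calc maximalIdeal C = (maximalIdeal B).map ψ := hmC
      _ ≤ (maximalIdeal B ^ 2 ⊔ I₀).map ψ := Ideal.map_mono hcon
      _ = maximalIdeal C • maximalIdeal C := by
        rw [Ideal.map_sup, hI₀map, sup_bot_eq, Ideal.map_pow, ← hmC, pow_two, smul_eq_mul]
  exact hC (Submodule.eq_bot_of_le_smul_of_le_jacobson_bot (maximalIdeal C) (maximalIdeal C)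
    (IsNoetherian.noetherian _) hle (maximalIdeal_le_jacobson _))

theorem isNoetherianRing_fiber_stalk {X S : Scheme.{u}} (f : X ⟶ S) (y : S) (W : X.Opens)
    (hW : Smooth (W.ι ≫ f)) (z : f.fiber y) (hz : f.fiberι y z ∈ W) :
    IsNoetherianRing ((f.fiber y).presheaf.stalk z) := by
  haveI := hW
  have hpb : IsPullback (f.fiberι y) (f.fiberToSpecResidueField y) f
      (S.fromSpecResidueField y) := IsPullback.of_hasPullback _ _
  have h1 := isPullback_morphismRestrict (f.fiberι y) W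
  have h2 := h1.paste_vert hpb
  haveI : Smooth ((f.fiberι y ⁻¹ᵁ W).ι ≫ f.fiberToSpecResidueField y) :=
    MorphismProperty.of_isPullback (P := @Smooth) h2 hW
  haveI : IsLocallyNoetherian (f.fiberι y ⁻¹ᵁ W).toScheme :=
    LocallyOfFiniteType.isLocallyNoetherian
      ((f.fiberι y ⁻¹ᵁ W).ι ≫ f.fiberToSpecResidueField y)
  let z' : (f.fiberι y ⁻¹ᵁ W) := ⟨z, hz⟩
  haveI : IsNoetherianRing ((f.fiberι y ⁻¹ᵁ W).toScheme.presheaf.stalk z') := inferInstance
  exact isNoetherianRing_of_ringEquiv _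
    ((f.fiberι y ⁻¹ᵁ W).stalkIso z').commRingCatIsoToRingEquiv

end Groth.Agent.Lib.Helper19.SmDiv11
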