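import Mathlib
import Groth.Agent.Lib.helper19.SmChart1v

set_option autoImplicit false
universe u v w

namespace Groth.Agent.Lib.Helper19.SmDiv2

open TensorProduct KaehlerDifferential Groth.Agent.Lib.Helper19

theorem exists_coords_with (A : Type v) (B : Type w) [CommRing A] [CommRing B] [Algebra A B]
    (q : Ideal B) [q.IsPrime]
    [Module.Finite q.ResidueField (q.ResidueField ⊗[B] Ω[B⁄A])] (h₀ : B)
    (hv : (1 : q.ResidueField) ⊗ₜ[B] D A B h₀ ≠ 0) :
    ∃ (d : ℕ) (x : Fin d → B) (i₀ : Fin d), x i₀ = h₀ ∧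
      LinearIndependent q.ResidueField (fun i => (1 : q.ResidueField) ⊗ₜ[B] D A B (x i)) ∧
      Submodule.span q.ResidueField
        (Set.range fun i => (1 : q.ResidueField) ⊗ₜ[B] D A B (x i)) = ⊤ := by
  classical
  set v₀ : q.ResidueField ⊗[B] Ω[B⁄A] := (1 : q.ResidueField) ⊗ₜ[B] D A B h₀ with hv₀
  set t : Set (q.ResidueField ⊗[B] Ω[B⁄A]) :=
    Set.range fun r : B => (1 : q.ResidueField) ⊗ₜ[B] D A B r with ht
  have hspan : Submodule.span q.ResidueField t = ⊤ := SmChart1v.span_tmul_D_eq_top A B q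
  have hs : LinearIndepOn q.ResidueField id ({v₀} : Set (q.ResidueField ⊗[B] Ω[B⁄A])) := by
    rw [linearIndepOn_singleton_iff]; exact hv
  have hst : ({v₀} : Set (q.ResidueField ⊗[B] Ω[B⁄A])) ⊆ t := by
    rintro _ rfl; exact ⟨h₀, rfl⟩
  obtain ⟨b, hbt, hsb, htb, hb⟩ := exists_linearIndepOn_id_extension hs hst
  have hbspan : Submodule.span q.ResidueField b = ⊤ := by
    rw [eq_top_iff, ← hspan]
    exact Submodule.span_le.mpr htb
  have hbfin : b.Finite := LinearIndependent.set_finite_of_isNoetherian hb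
  haveI : Fintype b := hbfin.fintype
  let e : Fin (Fintype.card b) ≃ b := (Fintype.equivFin b).symm
  let wfun : Fin (Fintype.card b) → q.ResidueField ⊗[B] Ω[B⁄A] := fun i => (e i : _)
  have hwli : LinearIndependent q.ResidueField wfun := by
    have : LinearIndependent q.ResidueField (fun x : b => (x : q.ResidueField ⊗[B] Ω[B⁄A])) := hb
    exact this.comp e e.injective
  have hwrange : Set.range wfun = b := by
    ext z
    constructor
    · rintro ⟨i, rfl⟩; exact (e i).2
    · intro hz; exact ⟨e.symm ⟨z, hz⟩, by simp [wfun]⟩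
  let i₀ : Fin (Fintype.card b) := e.symm ⟨v₀, hsb rfl⟩
  have hwi₀ : wfun i₀ = v₀ := by simp [wfun, i₀]
  have hpre : ∀ i, ∃ r : B, (1 : q.ResidueField) ⊗ₜ[B] D A B r = wfun i := fun i => hbt (e i).2
  choose y hy using hpre
  refine ⟨Fintype.card b, fun i => if i = i₀ then h₀ else y i, i₀, by simp, ?_, ?_⟩
  · have : (fun i => (1 : q.ResidueField) ⊗ₜ[B] D A B (if i = i₀ then h₀ else y i)) = wfun := by
      funext i
      by_cases hi : i = i₀
      · subst hi; simp only [if_true]; rw [hwi₀]
      · simp only [if_neg hi]; exact hy i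
    rw [this]; exact hwli
  · have : (fun i => (1 : q.ResidueField) ⊗ₜ[B] D A B (if i = i₀ then h₀ else y i)) = wfun := by
      funext i
      by_cases hi : i = i₀
      · subst hi; simp only [if_true]; rw [hwi₀]
      · simp only [if_neg hi]; exact hy i
    rw [this, hwrange]; exact hbspan

end Groth.Agent.Lib.Helper19.SmDiv2
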