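import Mathlib

set_option autoImplicit false
universe u v w

namespace Groth.Agent.Lib.Helper19.SmDiv3

open MvPolynomial

/-- The quotient of a polynomial ring by one variable is smooth over the base. -/
theorem smooth_quot_X (A : Type u) [CommRing A] (d : ℕ) (i₀ : Fin d) :
    Algebra.Smooth A (MvPolynomial (Fin d) A ⧸ Ideal.span {(X i₀ : MvPolynomial (Fin d) A)}) := by
  classical
  refine ⟨?_, ?_⟩
  · apply Algebra.FormallySmooth.of_comp_surjective
    intro C _ _ I hI g
    -- choose lifts
    have hsurj : Function.Surjective (Ideal.Quotient.mk I) := Ideal.Quotient.mk_surjective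
    let c : Fin d → C := fun i =>
      if i = i₀ then 0 else (hsurj (g (Ideal.Quotient.mk _ (X i)))).choose
    have hc : ∀ i, Ideal.Quotient.mk I (c i) = g (Ideal.Quotient.mk _ (X i)) := by
      intro i
      by_cases hi : i = i₀
      · subst hi
        simp only [c, if_true, map_zero]
        have : (Ideal.Quotient.mk (Ideal.span {(X i : MvPolynomial (Fin d) A)})) (X i) = 0 :=
          Ideal.Quotient.eq_zero_iff_mem.mpr (Ideal.subset_span rfl)
        rw [this, map_zero]
      · simp only [c, if_neg hi]
        exact (hsurj (g (Ideal.Quotient.mk _ (X i)))).choose_spec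
    let F : MvPolynomial (Fin d) A →ₐ[A] C := aeval c
    have hF : ∀ a ∈ Ideal.span {(X i₀ : MvPolynomial (Fin d) A)}, F a = 0 := by
      intro a ha
      have hle : Ideal.span {(X i₀ : MvPolynomial (Fin d) A)} ≤ RingHom.ker F.toRingHom := by
        rw [Ideal.span_le]
        rintro _ rfl
        show F (X i₀) = 0
        simp [F, c]
      exact hle ha
    refine ⟨Ideal.Quotient.liftₐ _ F hF, ?_⟩
    apply Ideal.Quotient.algHom_ext
    apply MvPolynomial.algHom_ext
    intro i
    simp only [AlgHom.comp_apply, Ideal.Quotient.mkₐ_eq_mk, Ideal.Quotient.liftₐ_apply,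
      Ideal.Quotient.lift_mk]
    show Ideal.Quotient.mk I (F (X i)) = g _
    simp only [F, aeval_X]
    exact hc i
  · exact Algebra.FinitePresentation.quotient (Submodule.fg_span_singleton _)

theorem X_mem_nonZeroDivisors (A : Type u) [CommRing A] {σ : Type*} (i : σ) :
    (X i : MvPolynomial σ A) ∈ nonZeroDivisors (MvPolynomial σ A) := by
  rw [mem_nonZeroDivisors_iff_right]
  intro p hp
  ext m
  have := congrArg (fun f => MvPolynomial.coeff (m + Finsupp.single i 1) f) hp
  simp only [coeff_mul_X, coeff_zero] at this
  simpa using this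

end Groth.Agent.Lib.Helper19.SmDiv3
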