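import Mathlib
import Groth.Agent.Lib.helper19.SmDiv1
import Groth.Agent.Lib.helper19.SmDiv2
import Groth.Agent.Lib.helper19.SmDiv3

set_option autoImplicit false
universe u v w

namespace Groth.Agent.Lib.Helper19.SmDiv4

open TensorProduct KaehlerDifferential Groth.Agent.Lib.Helper19

/-- Ring-level core: if `1 ⊗ d h₀ ≠ 0` in `κ(q) ⊗ Ω` at a smooth point `q`, then after localizing at
some `g ∉ q`, `h₀` is a nonzerodivisor and `B_g / h₀` is smooth over `A`. -/
theorem exists_smooth_slice_of_tmul_ne_zero {A : Type u} {B : Type u} [CommRing A] [CommRing B]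
    [Algebra A B] [Algebra.FinitePresentation A B] (q : Ideal B) [q.IsPrime]
    [Algebra.IsSmoothAt A q] (h₀ : B)
    (hv : (1 : q.ResidueField) ⊗ₜ[B] D A B h₀ ≠ 0) :
    ∃ g : B, g ∉ q ∧
      algebraMap B (Localization.Away g) h₀ ∈ nonZeroDivisors (Localization.Away g) ∧
      ((Ideal.Quotient.mk (Ideal.span {algebraMap B (Localization.Away g) h₀})).comp
        ((algebraMap B (Localization.Away g)).comp (algebraMap A B))).Smooth := by
  classical
  haveI : Module.Finite q.ResidueField (q.ResidueField ⊗[B] Ω[B⁄A]) := inferInstance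
  obtain ⟨d, x, i₀, hxi₀, hli, hsp⟩ := SmDiv2.exists_coords_with A B q h₀ hv
  obtain ⟨g, hg, hφ⟩ := SmChart1v.chart_of_coords A B q x hli hsp
  refine ⟨g, hg, ?_⟩
  let Bg := Localization.Away g
  let φ : MvPolynomial (Fin d) A →+* Bg :=
    (algebraMap B Bg).comp (MvPolynomial.aeval x : MvPolynomial (Fin d) A →ₐ[A] B).toRingHom
  have hφC : φ.comp MvPolynomial.C = (algebraMap B Bg).comp (algebraMap A B) := by
    ext a
    simp [φ]
  have hφX : φ (MvPolynomial.X i₀) = algebraMap B Bg h₀ := by simp [φ, hxi₀]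
  letI : Algebra (MvPolynomial (Fin d) A) Bg := φ.toAlgebra
  haveI : Algebra.Etale (MvPolynomial (Fin d) A) Bg := RingHom.etale_algebraMap.mp hφ
  let I : Ideal (MvPolynomial (Fin d) A) := Ideal.span {(MvPolynomial.X i₀ : MvPolynomial (Fin d) A)}
  let J₀ : Ideal Bg := I.map (algebraMap (MvPolynomial (Fin d) A) Bg)
  have hJ₀ : J₀ = Ideal.span {algebraMap B Bg h₀} := by
    simp only [J₀, I, Ideal.map_span, Set.image_singleton]
    congr 2
  constructor
  · -- nonzerodivisor
    haveI : Module.Flat (MvPolynomial (Fin d) A) Bg := inferInstance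
    have hreg : IsSMulRegular Bg (MvPolynomial.X i₀ : MvPolynomial (Fin d) A) :=
      Module.Flat.isSMulRegular_of_nonZeroDivisors (SmDiv3.X_mem_nonZeroDivisors A (σ := Fin d) i₀)
    have h2 : algebraMap (MvPolynomial (Fin d) A) Bg (MvPolynomial.X i₀) = algebraMap B Bg h₀ := hφX
    rw [mem_nonZeroDivisors_iff_right]
    intro y hy
    apply hreg
    show (MvPolynomial.X i₀ : MvPolynomial (Fin d) A) • y =
      (MvPolynomial.X i₀ : MvPolynomial (Fin d) A) • (0 : Bg)
    rw [smul_zero, Algebra.smul_def, h2, mul_comm]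
    exact hy
  · -- smoothness
    rw [← hJ₀]
    haveI : Algebra.Etale (MvPolynomial (Fin d) A ⧸ I) (Bg ⧸ J₀) :=
      Algebra.Etale.of_equiv (R := MvPolynomial (Fin d) A ⧸ I)
        (A := (MvPolynomial (Fin d) A ⧸ I) ⊗[MvPolynomial (Fin d) A] Bg) (B := Bg ⧸ J₀)
        (Algebra.TensorProduct.quotIdealMapEquivQuotTensor Bg I).symm
    haveI : Algebra.Smooth A (MvPolynomial (Fin d) A ⧸ I) := SmDiv3.smooth_quot_X A d i₀
    haveI : IsScalarTower A (MvPolynomial (Fin d) A) Bg := by
      refine IsScalarTower.of_algebraMap_eq' (R := A) (S := MvPolynomial (Fin d) A) (A := Bg) ?_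
      rw [RingHom.algebraMap_toAlgebra, MvPolynomial.algebraMap_eq, hφC,
        IsScalarTower.algebraMap_eq A B Bg]
    haveI htower : IsScalarTower A (MvPolynomial (Fin d) A ⧸ I) (Bg ⧸ J₀) := by
      refine IsScalarTower.of_algebraMap_eq' (R := A) (S := MvPolynomial (Fin d) A ⧸ I)
        (A := Bg ⧸ J₀) ?_
      ext c
      have h4 : algebraMap A (MvPolynomial (Fin d) A ⧸ I) c =
          Ideal.Quotient.mk I (MvPolynomial.C c) := rfl
      have h5 := congrArg (fun F => F c) hφC
      simp only [RingHom.comp_apply] at h5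
      rw [RingHom.comp_apply, h4, Ideal.Quotient.algebraMap_quotient_map_quotient]
      show Ideal.Quotient.mk J₀ (algebraMap A Bg c) = Ideal.Quotient.mk J₀ (φ (MvPolynomial.C c))
      rw [h5, IsScalarTower.algebraMap_apply A B Bg]
    haveI : Algebra.Smooth (MvPolynomial (Fin d) A ⧸ I) (Bg ⧸ J₀) := inferInstance
    haveI : Algebra.Smooth A (Bg ⧸ J₀) :=
      Algebra.Smooth.comp A (MvPolynomial (Fin d) A ⧸ I) (Bg ⧸ J₀)
    have h6 := RingHom.smooth_algebraMap.mpr this
    convert h6 using 1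
    ext c
    simp only [RingHom.comp_apply]
    show _ = Ideal.Quotient.mk J₀ (algebraMap A Bg c)
    rw [IsScalarTower.algebraMap_apply A B Bg]

end Groth.Agent.Lib.Helper19.SmDiv4
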