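import Mathlib
import Groth.Agent.Lib.helper19.SmDiv4

set_option autoImplicit false
universe u v w

namespace Groth.Agent.Lib.Helper19.SmDiv5

open TensorProduct KaehlerDifferential

theorem tmul_ne_zero_of_derivation {A B : Type u} [CommRing A] [CommRing B]
    [Algebra A B] (q : Ideal B) [q.IsPrime] (h₀ : B)
    {K : Type v} [Field K] (ψ : B →+* K) (hψ₁ : ∀ b ∈ q, ψ b = 0) (hψ₂ : ∀ b ∉ q, ψ b ≠ 0)
    (δ : B → K) (hadd : ∀ a b, δ (a + b) = δ a + δ b)
    (hmul : ∀ a b, δ (a * b) = ψ a * δ b + ψ b * δ a)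
    (hA : ∀ a : A, δ (algebraMap A B a) = 0) (hδ : δ h₀ ≠ 0) :
    (1 : q.ResidueField) ⊗ₜ[B] D A B h₀ ≠ 0 := by
  letI : Algebra B K := ψ.toAlgebra
  letI : Algebra A K := (ψ.comp (algebraMap A B)).toAlgebra
  haveI : IsScalarTower A B K := IsScalarTower.of_algebraMap_eq (fun _ => rfl)
  have hsmulB : ∀ (b : B) (k : K), b • k = ψ b * k := fun b k => by
    rw [Algebra.smul_def]; rfl
  have hsmulA : ∀ (a : A) (k : K), a • k = ψ (algebraMap A B a) * k := fun a k => by
    rw [Algebra.smul_def]; rfl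
  let δl : B →ₗ[A] K :=
    { toFun := δ
      map_add' := hadd
      map_smul' := fun a b => by
        simp only [RingHom.id_apply]
        rw [Algebra.smul_def, hmul, hA, mul_zero, add_zero, hsmulA] }
  let δd : Derivation A B K := Derivation.mk' δl (fun a b => by
    show δ (a * b) = a • δ b + b • δ a
    rw [hmul, hsmulB, hsmulB])
  have hℓ : δd.liftKaehlerDifferential (D A B h₀) = δ h₀ := by
    rw [Derivation.liftKaehlerDifferential_comp_D]; rfl
  exact SmDiv1.tmul_ne_zero_of_linearMap q (K := K) hψ₁ hψ₂ δd.liftKaehlerDifferential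
    (D A B h₀) (by rw [hℓ]; exact hδ)

end Groth.Agent.Lib.Helper19.SmDiv5
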