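import Mathlib
import Groth.Agent.Lib.helper19.SmDiv5

set_option autoImplicit false
universe u v w

namespace Groth.Agent.Lib.Helper19.SmDiv6

open TensorProduct KaehlerDifferential

/-- transport the conclusion of the slice lemma to an arbitrary localization away from `g`. -/
theorem transport {A B : Type u} [CommRing A] [CommRing B] [Algebra A B] (g h₀ : B)
    (B' : Type u) [CommRing B'] [Algebra B B'] [IsLocalization.Away g B']
    (hnzd : algebraMap B (Localization.Away g) h₀ ∈ nonZeroDivisors (Localization.Away g))
    (hsm : ((Ideal.Quotient.mk (Ideal.span {algebraMap B (Localization.Away g) h₀})).comp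
        ((algebraMap B (Localization.Away g)).comp (algebraMap A B))).Smooth) :
    algebraMap B B' h₀ ∈ nonZeroDivisors B' ∧
      ((Ideal.Quotient.mk (Ideal.span {algebraMap B B' h₀})).comp
        ((algebraMap B B').comp (algebraMap A B))).Smooth := by
  let e : Localization.Away g ≃ₐ[B] B' :=
    IsLocalization.algEquiv (Submonoid.powers g) (Localization.Away g) B'
  have he : e (algebraMap B (Localization.Away g) h₀) = algebraMap B B' h₀ := e.commutes h₀
  constructor
  · rw [mem_nonZeroDivisors_iff_right] at hnzd ⊢
    intro y hy
    have h1 : e.symm y * algebraMap B (Localization.Away g) h₀ = 0 := by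
      apply e.injective
      rw [map_mul, he, map_zero, AlgEquiv.apply_symm_apply]
      exact hy
    have h2 := hnzd _ h1
    have : y = e (e.symm y) := (e.apply_symm_apply y).symm
    rw [this, h2, map_zero]
  · have hIJ : Ideal.span {algebraMap B B' h₀} =
        (Ideal.span {algebraMap B (Localization.Away g) h₀}).map (e : Localization.Away g →+* B') := by
      rw [Ideal.map_span, Set.image_singleton]
      congr 2
      exact he.symm
    let E : (Localization.Away g ⧸ Ideal.span {algebraMap B (Localization.Away g) h₀}) ≃+*
        (B' ⧸ Ideal.span {algebraMap B B' h₀}) :=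
      Ideal.quotientEquiv _ _ e.toRingEquiv hIJ
    have hcomp : (Ideal.Quotient.mk (Ideal.span {algebraMap B B' h₀})).comp
        ((algebraMap B B').comp (algebraMap A B)) =
        E.toRingHom.comp ((Ideal.Quotient.mk (Ideal.span {algebraMap B (Localization.Away g) h₀})).comp
        ((algebraMap B (Localization.Away g)).comp (algebraMap A B))) := by
      ext a
      simp only [RingHom.comp_apply, RingEquiv.toRingHom_eq_coe, RingHom.coe_coe]
      show _ = E (Ideal.Quotient.mk _ _)
      rw [Ideal.quotientEquiv_mk]
      congr 1
      exact (e.commutes _).symm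
    rw [hcomp]
    exact RingHom.Smooth.respectsIso.1 _ E hsm

end Groth.Agent.Lib.Helper19.SmDiv6
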