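import Mathlib

set_option autoImplicit false
universe u
open CategoryTheory CategoryTheory.Limits AlgebraicGeometry TopologicalSpace

namespace Groth.Agent.Lib.Helper19.SmDiv7

theorem smooth_appLE_of_nhd {X S : Scheme.{u}} (f : X ⟶ S) (W : X.Opens) [Smooth (W.ι ≫ f)]
    {V : S.Opens} (hV : IsAffineOpen V) {U : X.Opens} (hU : IsAffineOpen U) (hUW : U ≤ W)
    (e : U ≤ f ⁻¹ᵁ V) : (f.appLE V U e).hom.Smooth := by
  haveI h1 : Smooth (U.ι ≫ f) := by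
    rw [← X.homOfLE_ι hUW, Category.assoc]; infer_instance
  have hU' : IsAffineOpen (⊤ : U.toScheme.Opens) := by
    haveI : IsAffine U := hU
    exact isAffineOpen_top _
  have e' : (⊤ : U.toScheme.Opens) ≤ (U.ι ≫ f) ⁻¹ᵁ V := by
    intro z _
    show f (U.ι z) ∈ V
    exact e z.2
  have h2 := HasRingHomProperty.appLE (P := @Smooth) (U.ι ≫ f) h1 ⟨V, hV⟩ ⟨⊤, hU'⟩ e'
  have e₂ : (⊤ : U.toScheme.Opens) ≤ U.ι ⁻¹ᵁ U := by
    intro z _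
    exact z.2
  have h3 : f.appLE V U e ≫ U.ι.appLE U ⊤ e₂ = (U.ι ≫ f).appLE V ⊤ e' :=
    Scheme.Hom.appLE_comp_appLE _ _ _ _ _ _ _
  haveI : IsIso (U.ι.appLE U ⊤ e₂) := by
    rw [Scheme.Opens.ι_appLE]
    have hle : U.ι ''ᵁ ⊤ ≤ U := by rw [U.ι_image_top]
    have hge : U ≤ U.ι ''ᵁ ⊤ := by rw [U.ι_image_top]
    haveI : IsIso (homOfLE hle : U.ι ''ᵁ ⊤ ⟶ U) :=
      ⟨⟨homOfLE hge, Subsingleton.elim _ _, Subsingleton.elim _ _⟩⟩
    haveI : IsIso (homOfLE hle : U.ι ''ᵁ ⊤ ⟶ U).op := inferInstance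
    exact Functor.map_isIso X.presheaf (homOfLE hle : U.ι ''ᵁ ⊤ ⟶ U).op
  have h4 : ((U.ι.appLE U ⊤ e₂).hom.comp (f.appLE V U e).hom).Smooth := by
    rw [← CommRingCat.hom_comp, h3]; exact h2
  exact (RingHom.Smooth.respectsIso.cancel_right_isIso _ (U.ι.appLE U ⊤ e₂)).mp h4

end Groth.Agent.Lib.Helper19.SmDiv7
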