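import Mathlib
import Groth.Agent.Lib.helper19.SmDiv6
import Groth.Agent.Lib.helper19.SmDiv7
import Groth.Agent.Lib.helper19.SmSlice2

set_option autoImplicit false
universe u
open CategoryTheory CategoryTheory.Limits AlgebraicGeometry TopologicalSpace

namespace Groth.Agent.Lib.Helper19.SmDiv8

open TensorProduct KaehlerDifferential Groth.Agent.Lib.Helper19

set_option maxHeartbeats 800000 in
theorem main9725 {X S : Scheme.{u}} (f : X ⟶ S) (x : X)
    (W : X.Opens) (hxW : x ∈ W) (hW : Smooth (W.ι ≫ f))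
    (h : ↑(X.presheaf.stalk x))
    (hd : letI := (f.stalkMap x).hom.toAlgebra
      (1 : IsLocalRing.ResidueField ↑(X.presheaf.stalk x)) ⊗ₜ[↑(X.presheaf.stalk x)]
          (KaehlerDifferential.D ↑(S.presheaf.stalk (f x)) ↑(X.presheaf.stalk x) h) ≠ 0) :
    ∃ (U : X.Opens) (hU : IsAffineOpen U) (hx : x ∈ U) (h' : Γ(X, U)),
      X.presheaf.germ U x hx h' = h ∧ h' ∈ nonZeroDivisors Γ(X, U) ∧
      Smooth (Spec.map (CommRingCat.ofHom (Ideal.Quotient.mk (Ideal.span {h'}))) ≫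
        hU.fromSpec ≫ f) := by
  classical
  haveI := hW
  letI algst : Algebra (S.presheaf.stalk (f x)) (X.presheaf.stalk x) :=
    (f.stalkMap x).hom.toAlgebra
  -- a functional detecting `dh`
  obtain ⟨lam, hlam⟩ : ∃ lam : Module.Dual (IsLocalRing.ResidueField (X.presheaf.stalk x))
      (IsLocalRing.ResidueField (X.presheaf.stalk x) ⊗[X.presheaf.stalk x]
        Ω[X.presheaf.stalk x⁄S.presheaf.stalk (f x)]),
      lam ((1 : IsLocalRing.ResidueField (X.presheaf.stalk x)) ⊗ₜ[X.presheaf.stalk x]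
        D (S.presheaf.stalk (f x)) (X.presheaf.stalk x) h) ≠ 0 := by
    by_contra hcon
    push Not at hcon
    exact hd ((Module.forall_dual_apply_eq_zero_iff _ _).mp hcon)
  -- represent `h` by a section
  obtain ⟨U₁, hxU₁, s, hs⟩ := X.presheaf.exists_germ_eq (x := x) h
  obtain ⟨_, ⟨V, hV, rfl⟩, hfxV, -⟩ := S.isBasis_affineOpens.exists_subset_of_mem_open
    (Set.mem_univ (f x)) isOpen_univ
  obtain ⟨U₀, hU₀, hxU₀, hU₀le⟩ := exists_isAffineOpen_mem_and_subset (x := x)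
    (U := U₁ ⊓ W ⊓ f ⁻¹ᵁ V) ⟨⟨hxU₁, hxW⟩, hfxV⟩
  have hU₀U₁ : U₀ ≤ U₁ := hU₀le.trans (inf_le_left.trans inf_le_left)
  have hU₀W : U₀ ≤ W := hU₀le.trans (inf_le_left.trans inf_le_right)
  have hU₀V : U₀ ≤ f ⁻¹ᵁ V := hU₀le.trans inf_le_right
  let h₀ : Γ(X, U₀) := X.presheaf.map (homOfLE hU₀U₁).op s
  have hh₀ : X.presheaf.germ U₀ x hxU₀ h₀ = h := by
    rw [← hs]; exact X.presheaf.germ_res_apply (homOfLE hU₀U₁) x hxU₀ s
  have hsm := SmDiv7.smooth_appLE_of_nhd f W hV hU₀ hU₀W hU₀V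
  algebraize [(f.appLE V U₀ hU₀V).hom]
  haveI : Algebra.FinitePresentation Γ(S, V) Γ(X, U₀) := Algebra.Smooth.finitePresentation
  let q : Ideal Γ(X, U₀) := (hU₀.primeIdealOf ⟨x, hxU₀⟩).asIdeal
  haveI : q.IsPrime := (hU₀.primeIdealOf ⟨x, hxU₀⟩).isPrime
  haveI : Algebra.IsSmoothAt Γ(S, V) q := inferInstance
  let ψ : Γ(X, U₀) →+* IsLocalRing.ResidueField (X.presheaf.stalk x) :=
    (IsLocalRing.residue (X.presheaf.stalk x)).comp (X.presheaf.germ U₀ x hxU₀).hom
  have hψ₁ : ∀ b ∈ q, ψ b = 0 := fun b hb =>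
    (SmSlice2.mem_primeIdealOf_iff hU₀ x hxU₀ b).mp hb
  have hψ₂ : ∀ b ∉ q, ψ b ≠ 0 := fun b hb hb0 =>
    hb ((SmSlice2.mem_primeIdealOf_iff hU₀ x hxU₀ b).mpr hb0)
  let δ : Γ(X, U₀) → IsLocalRing.ResidueField (X.presheaf.stalk x) := fun b =>
    lam ((1 : IsLocalRing.ResidueField (X.presheaf.stalk x)) ⊗ₜ[X.presheaf.stalk x]
      D (S.presheaf.stalk (f x)) (X.presheaf.stalk x) (X.presheaf.germ U₀ x hxU₀ b))
  have hadd : ∀ a b, δ (a + b) = δ a + δ b := by
    intro a b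
    simp only [δ, map_add, TensorProduct.tmul_add]
  have hmul : ∀ a b, δ (a * b) = ψ a * δ b + ψ b * δ a := by
    intro a b
    simp only [δ, map_mul, Derivation.leibniz, TensorProduct.tmul_add, map_add]
    congr 1
    · rw [TensorProduct.tmul_smul, ← algebraMap_smul (IsLocalRing.ResidueField (X.presheaf.stalk x))
        ((X.presheaf.germ U₀ x hxU₀) a), map_smul, smul_eq_mul]
      rfl
    · rw [TensorProduct.tmul_smul, ← algebraMap_smul (IsLocalRing.ResidueField (X.presheaf.stalk x))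
        ((X.presheaf.germ U₀ x hxU₀) b), map_smul, smul_eq_mul]
      rfl
  have hA : ∀ a : Γ(S, V), δ (algebraMap Γ(S, V) Γ(X, U₀) a) = 0 := by
    intro a
    have h1 : X.presheaf.germ U₀ x hxU₀ (algebraMap Γ(S, V) Γ(X, U₀) a) =
        algebraMap (S.presheaf.stalk (f x)) (X.presheaf.stalk x)
          (S.presheaf.germ V (f x) hfxV a) := by
      simp only [RingHom.algebraMap_toAlgebra, Scheme.Hom.germ_stalkMap_apply, Scheme.Hom.appLE,
        homOfLE_leOfHom, CommRingCat.hom_comp, RingHom.coe_comp, Function.comp_apply,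
        X.presheaf.germ_res_apply]
    simp only [δ]
    rw [h1, Derivation.map_algebraMap, TensorProduct.tmul_zero, map_zero]
  have hδ : δ h₀ ≠ 0 := by
    simp only [δ]
    rw [hh₀]; exact hlam
  have hv := SmDiv5.tmul_ne_zero_of_derivation (A := Γ(S, V)) q h₀ ψ hψ₁ hψ₂ δ hadd hmul hA hδ
  obtain ⟨g, hgq, hnzd, hsmooth⟩ := SmDiv4.exists_smooth_slice_of_tmul_ne_zero q h₀ hv
  haveI hloc : IsLocalization.Away g Γ(X, X.basicOpen g) := hU₀.isLocalization_basicOpen g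
  obtain ⟨hnzd', hsmooth'⟩ := SmDiv6.transport (A := Γ(S, V)) g h₀ Γ(X, X.basicOpen g) hnzd hsmooth
  have hxg : x ∈ X.basicOpen g := by
    rw [← X.evaluation_ne_zero_iff_mem_basicOpen x hxU₀ g]
    exact hψ₂ g hgq
  have hUg : IsAffineOpen (X.basicOpen g) := hU₀.basicOpen g
  refine ⟨X.basicOpen g, hUg, hxg, algebraMap Γ(X, U₀) Γ(X, X.basicOpen g) h₀, ?_, hnzd', ?_⟩
  · rw [← hh₀]
    exact X.presheaf.germ_res_apply (homOfLE (X.basicOpen_le g)) x hxg h₀
  · have hle : X.basicOpen g ≤ f ⁻¹ᵁ V := (X.basicOpen_le g).trans hU₀V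
    have h1 : Spec.map (f.appLE V (X.basicOpen g) hle) ≫ hV.fromSpec = hUg.fromSpec ≫ f :=
      IsAffineOpen.SpecMap_appLE_fromSpec f hV hUg hle
    rw [← h1, ← Category.assoc, ← Spec.map_comp]
    haveI : Smooth (Spec.map (f.appLE V (X.basicOpen g) hle ≫
        CommRingCat.ofHom (Ideal.Quotient.mk (Ideal.span
          {algebraMap Γ(X, U₀) Γ(X, X.basicOpen g) h₀})))) := by
      rw [HasRingHomProperty.Spec_iff (P := @Smooth)]
      have heq : (f.appLE V (X.basicOpen g) hle ≫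
          CommRingCat.ofHom (Ideal.Quotient.mk (Ideal.span
            {algebraMap Γ(X, U₀) Γ(X, X.basicOpen g) h₀}))).hom =
          (Ideal.Quotient.mk (Ideal.span {algebraMap Γ(X, U₀) Γ(X, X.basicOpen g) h₀})).comp
            ((algebraMap Γ(X, U₀) Γ(X, X.basicOpen g)).comp (algebraMap Γ(S, V) Γ(X, U₀))) := by
        ext a
        simp only [CommRingCat.hom_comp, CommRingCat.hom_ofHom, RingHom.comp_apply]
        congr 1
        show (f.appLE V (X.basicOpen g) hle) a =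
          X.presheaf.map (homOfLE (X.basicOpen_le g)).op ((f.appLE V U₀ hU₀V) a)
        rw [← ConcreteCategory.comp_apply, Scheme.Hom.appLE_map]
      rw [heq]
      exact hsmooth'
    infer_instance

end Groth.Agent.Lib.Helper19.SmDiv8
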