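import Mathlib
import Groth.Agent.Lib.Helper21.FibreStalk
import Groth.Agent.Lib.helper19.SmDiv8
import Groth.Agent.Lib.helper19.SmDiv10
import Groth.Agent.Lib.helper19.SmDiv11

set_option autoImplicit false
universe u v w
open CategoryTheory CategoryTheory.Limits AlgebraicGeometry TopologicalSpace

namespace Groth.Agent.Lib.Helper19.SmDiv12

open IsLocalRing Groth.Agent.Lib.Helper21

set_option maxHeartbeats 800000 in
theorem main9724 {X S : Scheme.{u}} (f : X ⟶ S) (x : X)
    (W : X.Opens) (hxW : x ∈ W) (hW : Smooth (W.ι ≫ f))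
    (hsep : letI := (f.residueFieldMap x).hom.toAlgebra
      Algebra.FormallySmooth (S.residueField (f x)) (X.residueField x))
    (hgen : IsLocalRing.maximalIdeal ↑((f.fiber (f x)).presheaf.stalk (f.asFiber x)) ≠ ⊥) :
    ∃ (U : X.Opens) (hU : IsAffineOpen U) (hx : x ∈ U) (h' : Γ(X, U)), h' ∈ nonZeroDivisors Γ(X, U) ∧
      X.presheaf.germ U x hx h' ∈ IsLocalRing.maximalIdeal ↑(X.presheaf.stalk x) ∧
      Smooth (Spec.map (CommRingCat.ofHom (Ideal.Quotient.mk (Ideal.span {h'}))) ≫ hU.fromSpec ≫ f) := by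
  letI algst : Algebra (S.presheaf.stalk (f x)) (X.presheaf.stalk x) :=
    (f.stalkMap x).hom.toAlgebra
  haveI : IsLocalHom (algebraMap (S.presheaf.stalk (f x)) (X.presheaf.stalk x)) :=
    inferInstanceAs (IsLocalHom (f.stalkMap x).hom)
  letI algκ : Algebra (ResidueField (S.presheaf.stalk (f x))) (ResidueField (X.presheaf.stalk x)) :=
    (f.residueFieldMap x).hom.toAlgebra
  haveI : Algebra.FormallySmooth (ResidueField (S.presheaf.stalk (f x)))
      (ResidueField (X.presheaf.stalk x)) := hsep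
  have hz := f.fiberι_asFiber x
  haveI : IsNoetherianRing ((f.fiber (f x)).presheaf.stalk (f.asFiber x)) :=
    SmDiv11.isNoetherianRing_fiber_stalk f (f x) W hW (f.asFiber x) (by rw [hz]; exact hxW)
  obtain ⟨h, hm, hh⟩ := SmDiv11.exists_not_mem
    (FibreStalk.toFibStalk f x (f.asFiber x) hz).hom
    (FibreStalk.toFibStalk_surjective f x _ hz) (FibreStalk.fibIdeal f x)
    (by
      intro b hb
      have hle : FibreStalk.fibIdeal f x ≤
          RingHom.ker (FibreStalk.toFibStalk f x (f.asFiber x) hz).hom := by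
        rw [Ideal.map_le_iff_le_comap]
        intro a ha
        exact FibreStalk.toFibStalk_stalkMap_eq_zero f x _ hz a ha
      exact hle hb) hgen
  have hd := SmDiv10.tmul_D_ne_zero (A := S.presheaf.stalk (f x)) (B := X.presheaf.stalk x)
    (fun a => rfl) h hm hh
  obtain ⟨U, hU, hx, h', hgerm, hnzd, hsm⟩ :=
    Groth.Agent.Lib.Helper19.SmDiv8.main9725 f x W hxW hW h hd
  exact ⟨U, hU, hx, h', hnzd, by rw [hgerm]; exact hm, hsm⟩

end Groth.Agent.Lib.Helper19.SmDiv12
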