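import Mathlib
import Groth.Agent.Lib.helper19.SmChart1

set_option autoImplicit false
set_option linter.style.haveILetI false
universe u
open TensorProduct KaehlerDifferential

namespace Groth.Agent.Lib.Helper19.SmQF

theorem fibre_subsingleton (A B : Type u) [CommRing A] [CommRing B] [Algebra A B]
    [Algebra.Smooth A B] [Algebra.QuasiFinite A B] (q : Ideal B) [q.IsPrime] :
    Subsingleton (q.ResidueField ⊗[B] Ω[B⁄A]) := by
  classical
  let p : Ideal A := q.comap (algebraMap A B)
  haveI : p.IsPrime := Ideal.comap_isPrime _ _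
  haveI : Algebra.FinitePresentation A B := Algebra.Smooth.finitePresentation
  haveI : Algebra.IsSmoothAt A q := inferInstance
  haveI : Module.Finite q.ResidueField (q.ResidueField ⊗[B] Ω[B⁄A]) := inferInstance
  obtain ⟨d, x, hli, hsp⟩ := SmChart1.exists_coords A B q
  rcases Nat.eq_zero_or_pos d with hd | hd
  · subst hd
    have : (⊤ : Submodule q.ResidueField (q.ResidueField ⊗[B] Ω[B⁄A])) = ⊥ := by
      rw [← hsp]
      simp
    exact (Submodule.subsingleton_iff q.ResidueField).mp
      ((subsingleton_iff_bot_eq_top).mp this.symm)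
  · exfalso
    let i₀ : Fin d := ⟨0, hd⟩
    obtain ⟨g, hg, hφ⟩ := SmChart1.chart_of_coords A B q x hli hsp
    let Bg := Localization.Away g
    let φ : MvPolynomial (Fin d) A →+* Bg :=
      (algebraMap B Bg).comp (MvPolynomial.aeval x : MvPolynomial (Fin d) A →ₐ[A] B).toRingHom
    have hφC : φ.comp MvPolynomial.C = (algebraMap B Bg).comp (algebraMap A B) := by
      ext a
      simp [φ]
    have hopen : IsOpen (Set.range (PrimeSpectrum.comap φ)) := by
      letI : Algebra (MvPolynomial (Fin d) A) Bg := φ.toAlgebra
      haveI : Algebra.Etale (MvPolynomial (Fin d) A) Bg := RingHom.etale_algebraMap.mp hφ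
      haveI : Algebra.FinitePresentation (MvPolynomial (Fin d) A) Bg :=
        Algebra.Etale.finitePresentation
      have := PrimeSpectrum.isOpenMap_comap_of_hasGoingDown_of_finitePresentation
        (R := MvPolynomial (Fin d) A) (S := Bg)
      exact this.isOpen_range
    have hdisj : Disjoint (Submonoid.powers g : Set B) (q : Set B) := by
      rw [Set.disjoint_left]
      rintro _ ⟨n, rfl⟩ hn
      exact hg (Ideal.IsPrime.mem_of_pow_mem inferInstance n hn)
    have hqg_prime : (q.map (algebraMap B Bg)).IsPrime :=
      IsLocalization.isPrime_of_isPrime_disjoint (Submonoid.powers g) Bg q inferInstance hdisj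
    have hqg_comap : (q.map (algebraMap B Bg)).comap (algebraMap B Bg) = q :=
      IsLocalization.comap_map_of_isPrime_disjoint (Submonoid.powers g) Bg inferInstance hdisj
    let qg : PrimeSpectrum Bg := ⟨q.map (algebraMap B Bg), hqg_prime⟩
    let t : PrimeSpectrum (MvPolynomial (Fin d) A) := PrimeSpectrum.comap φ qg
    have ht : t ∈ Set.range (PrimeSpectrum.comap φ) := ⟨qg, rfl⟩
    have hηprime : (Ideal.map (MvPolynomial.C : A →+* MvPolynomial (Fin d) A) p).IsPrime := by
      rw [← Ideal.Quotient.isDomain_iff_prime]
      exact MulEquiv.isDomain (MvPolynomial (Fin d) (A ⧸ p))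
        (MvPolynomial.quotientEquivQuotientMvPolynomial (σ := Fin d) p).symm.toMulEquiv
    let η : PrimeSpectrum (MvPolynomial (Fin d) A) :=
      ⟨Ideal.map (MvPolynomial.C : A →+* MvPolynomial (Fin d) A) p, hηprime⟩
    have hηt : η ≤ t := by
      show Ideal.map (MvPolynomial.C : A →+* MvPolynomial (Fin d) A) p ≤ t.asIdeal
      rw [Ideal.map_le_iff_le_comap]
      intro a ha
      show φ (MvPolynomial.C a) ∈ q.map (algebraMap B Bg)
      have : φ (MvPolynomial.C a) = algebraMap B Bg (algebraMap A B a) := by
        simpa using congrArg (fun F => F a) hφC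
      rw [this]
      exact Ideal.mem_map_of_mem _ ha
    have hη : η ∈ Set.range (PrimeSpectrum.comap φ) :=
      ((PrimeSpectrum.le_iff_specializes η t).mp hηt).mem_open hopen ht
    obtain ⟨Q', hQ'⟩ := hη
    -- the one-variable polynomial map
    let f : Polynomial A →ₐ[A] Bg := Polynomial.aeval (φ (MvPolynomial.X i₀))
    haveI : Algebra.QuasiFiniteAt A Q'.asIdeal := inferInstance
    have hlt := Polynomial.map_under_lt_comap_of_quasiFiniteAt f Q'.asIdeal
    have hunder : Q'.asIdeal.under A = p := by
      ext a
      have h1 : algebraMap A Bg a = φ (MvPolynomial.C a) := by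
        have := congrArg (fun F => F a) hφC
        simp only [RingHom.comp_apply] at this
        rw [this, IsScalarTower.algebraMap_apply A B Bg]
      rw [Ideal.under_def, Ideal.mem_comap, h1]
      have h2 : φ (MvPolynomial.C a) ∈ Q'.asIdeal ↔ MvPolynomial.C a ∈ η.asIdeal := by
        rw [← hQ']; rfl
      rw [h2]
      show MvPolynomial.C a ∈ Ideal.map (MvPolynomial.C : A →+* MvPolynomial (Fin d) A) p ↔ _
      rw [MvPolynomial.mem_map_C_iff]
      constructor
      · intro h
        simpa using h 0
      · intro h m
        rw [MvPolynomial.coeff_C]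
        split_ifs
        · exact h
        · exact p.zero_mem
    rw [hunder] at hlt
    obtain ⟨h, hh1, hh2⟩ := Set.exists_of_ssubset hlt
    apply hh2
    -- `h ∈ comap f Q'` means `aeval (X i₀) h ∈ η`
    have h3 : (Polynomial.aeval (MvPolynomial.X i₀ : MvPolynomial (Fin d) A) : Polynomial A →ₐ[A] MvPolynomial (Fin d) A) h ∈ η.asIdeal := by
      rw [← hQ']
      show φ _ ∈ Q'.asIdeal
      have h4 : φ ((Polynomial.aeval (MvPolynomial.X i₀ : MvPolynomial (Fin d) A)) h) = f h := by
        show φ (Polynomial.eval₂ (algebraMap A (MvPolynomial (Fin d) A)) (MvPolynomial.X i₀) h) =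
          Polynomial.eval₂ (algebraMap A Bg) (φ (MvPolynomial.X i₀)) h
        rw [Polynomial.hom_eval₂]
        congr 1
      rw [h4]
      exact hh1
    let ρ : MvPolynomial (Fin d) A →ₐ[A] Polynomial A :=
      MvPolynomial.aeval (fun i => if i = i₀ then (Polynomial.X : Polynomial A) else 0)
    have hρ : ρ ((Polynomial.aeval (MvPolynomial.X i₀ : MvPolynomial (Fin d) A)) h) = h := by
      have h5 : ρ.comp (Polynomial.aeval (MvPolynomial.X i₀ : MvPolynomial (Fin d) A)) = AlgHom.id A (Polynomial A) := by
        apply Polynomial.algHom_ext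
        simp [ρ]
      exact congrArg (fun F => F h) h5
    have hρle : Ideal.map (MvPolynomial.C : A →+* MvPolynomial (Fin d) A) p ≤
        (Ideal.map (Polynomial.C : A →+* Polynomial A) p).comap ρ.toRingHom := by
      rw [Ideal.map_le_iff_le_comap]
      intro a ha
      rw [Ideal.mem_comap, Ideal.mem_comap]
      have : ρ.toRingHom (MvPolynomial.C a) = Polynomial.C a := by simp [ρ]
      rw [this]
      exact Ideal.mem_map_of_mem _ ha
    have := hρle h3
    rw [Ideal.mem_comap] at this
    change ρ _ ∈ _ at this
    rwa [hρ] at this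

theorem etale_of_smooth_of_quasiFinite (A B : Type u) [CommRing A] [CommRing B] [Algebra A B]
    [Algebra.Smooth A B] [Algebra.QuasiFinite A B] : Algebra.Etale A B := by
  haveI : Algebra.FinitePresentation A B := Algebra.Smooth.finitePresentation
  haveI : Module.Finite B Ω[B⁄A] := inferInstance
  have hΩ : Subsingleton Ω[B⁄A] := by
    rw [← Module.support_eq_empty_iff (R := B), Set.eq_empty_iff_forall_notMem]
    intro q hq
    rw [Module.mem_support_iff_nontrivial_residueField_tensorProduct] at hq
    haveI := fibre_subsingleton A B q.asIdeal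
    exact not_subsingleton _ ‹_›
  haveI : Algebra.FormallyUnramified A B := (Algebra.formallyUnramified_iff _ _).mpr hΩ
  haveI : Algebra.FormallyEtale A B := Algebra.FormallyEtale.of_formallyUnramified_and_formallySmooth
  exact ⟨inferInstance, inferInstance⟩

open AlgebraicGeometry CategoryTheory in
theorem scheme_etale_iff {X Y : Scheme.{u}} (f : X ⟶ Y) :
    Etale f ↔ Smooth f ∧ LocallyQuasiFinite f := by
  constructor
  · intro h
    refine ⟨inferInstance, ?_⟩
    rw [HasRingHomProperty.iff_appLE (P := @LocallyQuasiFinite)]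
    intro U V e
    have h1 := HasRingHomProperty.appLE (P := @Etale) f inferInstance U V e
    algebraize [(f.appLE U V e).hom]
    haveI : Algebra.Etale Γ(Y, U.1) Γ(X, V.1) := RingHom.etale_algebraMap.mp h1
    exact RingHom.quasiFinite_algebraMap.mpr inferInstance
  · rintro ⟨h1, h2⟩
    rw [HasRingHomProperty.iff_appLE (P := @Etale)]
    intro U V e
    have h3 := HasRingHomProperty.appLE (P := @Smooth) f h1 U V e
    have h4 := HasRingHomProperty.appLE (P := @LocallyQuasiFinite) f h2 U V e
    algebraize [(f.appLE U V e).hom]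
    haveI : Algebra.Smooth Γ(Y, U.1) Γ(X, V.1) := RingHom.smooth_algebraMap.mp h3
    haveI : Algebra.QuasiFinite Γ(Y, U.1) Γ(X, V.1) := RingHom.quasiFinite_algebraMap.mp h4
    exact RingHom.etale_algebraMap.mpr (etale_of_smooth_of_quasiFinite _ _)

end Groth.Agent.Lib.Helper19.SmQF
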