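import Mathlib
import Groth.Prelude.Def_CAlg
import Groth.Prelude.Def_EGA4b
import Groth.Agent.Lib.Helper21.CMFibKit
import Groth.Agent.Lib.Helper21.FlatLocal11
import Groth.Agent.Lib.Helper21.CMKit
import Groth.Agent.Lib.Helper5.GorFibreA
import Groth.Agent.Lib.Helper5.RegSmooth
import Groth.Agent.Lib.Helper5.RegCompletion
import Groth.Agent.S2608
import Groth.Agent.S2609

set_option autoImplicit false
set_option linter.style.haveILetI false
universe u

namespace Groth.Agent.Lib.Helper19.SmSerre1

open TensorProduct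
open Groth.Agent.Lib.Helper21 Groth.Agent.Lib.Helper21.CMKit Groth.Agent.Lib.Helper21.CMFibKit
open Groth.Agent.Lib.Helper21.FlatLocal

variable (R S : Type u) [CommRing R] [CommRing S] [Algebra R S] [IsNoetherianRing R]
  [Algebra.Smooth R S]

theorem isRegularRing_fiber (p : Ideal R) [p.IsPrime] : IsRegularRing (p.Fiber S) := by
  haveI : Algebra.Smooth p.ResidueField (p.Fiber S) := inferInstance
  exact Groth.Agent.Lib.Helper5.RegSmooth.isRegularRing_of_smooth p.ResidueField (p.Fiber S)

end Groth.Agent.Lib.Helper19.SmSerre1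

namespace Groth.Agent.Lib.Helper19.SmSerre1

open TensorProduct
open Groth.Agent.Lib.Helper21 Groth.Agent.Lib.Helper21.CMKit Groth.Agent.Lib.Helper21.CMFibKit
open Groth.Agent.Lib.Helper21.FlatLocal

variable (R S : Type u) [CommRing R] [CommRing S] [Algebra R S] [IsNoetherianRing R]
  [Algebra.Smooth R S]

include R in
theorem isNoetherianRing_of_smooth : IsNoetherianRing S :=
  Algebra.FiniteType.isNoetherianRing R S

theorem isCM_fibLocMod [IsNoetherianRing S] (r : Ideal S) [r.IsPrime] :
    LocCoh.IsCohenMacaulayModule (Localization.AtPrime r) (EGA4.FibLocMod R S r S) := by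
  obtain ⟨Q, hQ, hr⟩ := exists_fiber_prime (r.under R) r rfl
  haveI := isRegularRing_fiber R S (r.under R)
  have h := isCM_of_isRegularRing ((r.under R).Fiber S)
  exact (isCM_fiber_loc_iff (r.under R) Q r hr).1 (h.isCohenMacaulayLocalRing_localization Q)

theorem isRegularLocalRing_fibLocRing (r : Ideal S) [r.IsPrime] :
    IsRegularLocalRing (EGA4.FibLocRing R S r) := by
  haveI := isRegularRing_fiber R S (r.under R)
  haveI : r.LiesOver (r.under R) := ⟨rfl⟩
  exact Groth.Agent.Lib.Helper5.GorFibre.quotient_localization_of_fiber R S (r.under R)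
    (fun T _ => IsRegularLocalRing T)
    (fun T T' _ _ e hT => by haveI := hT; exact IsRegularLocalRing.of_ringEquiv e)
    (fun q' _ => inferInstance) r

theorem hasRk_fibLocRing (k : ℕ) (r : Ideal S) [r.IsPrime] :
    LocCoh.HasRk k (EGA4.FibLocRing R S r) := by
  haveI := isRegularLocalRing_fibLocRing R S r
  haveI := Groth.Agent.Lib.Helper5.RegCompletion.isRegularRing_of_isRegularLocalRing
    (EGA4.FibLocRing R S r)
  intro p hp _
  infer_instance

theorem main (n : ℕ) (Q : Ideal S) [Q.IsPrime] :
    (EGA4.HasSkAt n S S Q ↔ EGA4.HasSkAt n R R (Q.comap (algebraMap R S))) ∧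
    (EGA4.HasRkAt n S Q ↔ EGA4.HasRkAt n R (Q.comap (algebraMap R S))) := by
  haveI := isNoetherianRing_of_smooth R S
  haveI : Module.Flat R S := inferInstance
  refine ⟨(hasSkAt_iff_of_CM_fibres n (fun r _ => isCM_fibLocMod R S r) Q).symm, ?_, ?_⟩
  · exact Groth.Agent.S2608.result n R S Q
  · exact Groth.Agent.S2609.result n R S (fun q _ => hasRk_fibLocRing R S n q) Q

end Groth.Agent.Lib.Helper19.SmSerre1
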