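import Mathlib
import Groth.Prelude.Def_CAlg
import Groth.Prelude.Def_EGA4b
import Groth.Agent.Lib.Helper21.CMFibKit
import Groth.Agent.Lib.Helper21.SkKit
import Groth.Agent.Lib.Helper21.FlatLocal8

set_option autoImplicit false
set_option linter.style.haveILetI false
universe u

namespace Groth.Agent.Lib.Helper19.SmSerre2

open Groth.Agent.Lib.Helper21 Groth.Agent.Lib.Helper21.CMFibKit
open Groth.Agent.Lib.Helper21.FlatLocal

theorem hasSk_congr {R : Type u} [CommRing R] {M N : Type u} [AddCommGroup M] [Module R M]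
    [AddCommGroup N] [Module R N] (e : M ≃ₗ[R] N) (k : ℕ) :
    LocCoh.HasSk k R M ↔ LocCoh.HasSk k R N := by
  unfold LocCoh.HasSk
  refine forall_congr' fun p => forall_congr' fun hp => ?_
  rw [depth_loc_congr e p, supportDim_loc_congr e p]

theorem hasRk_of_ringEquiv {R R' : Type u} [CommRing R] [CommRing R'] (e : R ≃+* R') (k : ℕ)
    (h : LocCoh.HasRk k R) : LocCoh.HasRk k R' := by
  intro P' hP' hht
  haveI : (P'.comap (e : R →+* R')).IsPrime := Ideal.comap_isPrime _ _
  have hh : (P'.comap (e : R →+* R')).height ≤ k := by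
    have := RingEquiv.height_comap e P'
    exact this ▸ hht
  haveI := h (P'.comap (e : R →+* R')) hh
  have H : (P'.comap (e : R →+* R')).primeCompl.map e.toMonoidHom = P'.primeCompl := by
    ext y
    constructor
    · rintro ⟨a, ha, rfl⟩
      exact ha
    · intro hy
      refine ⟨e.symm y, ?_, by simp⟩
      change ¬ (e (e.symm y) ∈ P')
      simpa using hy
  exact IsRegularLocalRing.of_ringEquiv
    (IsLocalization.ringEquivOfRingEquiv (Localization.AtPrime (P'.comap (e : R →+* R')))
      (Localization.AtPrime P') e H)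

theorem hasRk_iff_of_ringEquiv {R R' : Type u} [CommRing R] [CommRing R'] (e : R ≃+* R') (k : ℕ) :
    LocCoh.HasRk k R ↔ LocCoh.HasRk k R' :=
  ⟨hasRk_of_ringEquiv e k, hasRk_of_ringEquiv e.symm k⟩

theorem hasSk_iff_of_ringEquiv {R R' : Type u} [CommRing R] [CommRing R'] [IsNoetherianRing R]
    [IsNoetherianRing R'] (e : R ≃+* R') (k : ℕ) :
    LocCoh.HasSk k R R ↔ LocCoh.HasSk k R' R' :=
  ⟨SkKit.hasSk_of_ringEquiv e k, SkKit.hasSk_of_ringEquiv e.symm k⟩

/-- `(S_k)` of `S` at `q` is `(S_k)` of any model of the local ring `S_q`. -/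
theorem hasSkAt_self_iff {S : Type u} [CommRing S] [IsNoetherianRing S] (q : Ideal S) [q.IsPrime]
    (T : Type u) [CommRing T] [Algebra S T] [IsLocalization.AtPrime T q] (k : ℕ) :
    EGA4.HasSkAt k S S q ↔ LocCoh.HasSk k T T := by
  haveI : IsNoetherianRing T := IsLocalization.isNoetherianRing q.primeCompl T inferInstance
  unfold EGA4.HasSkAt
  rw [hasSk_congr (localizedSelfEquiv q) k]
  exact hasSk_iff_of_ringEquiv
    (IsLocalization.algEquiv q.primeCompl (Localization.AtPrime q) T).toRingEquiv k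

theorem hasRkAt_iff {S : Type u} [CommRing S] (q : Ideal S) [q.IsPrime]
    (T : Type u) [CommRing T] [Algebra S T] [IsLocalization.AtPrime T q] (k : ℕ) :
    EGA4.HasRkAt k S q ↔ LocCoh.HasRk k T := by
  unfold EGA4.HasRkAt
  exact hasRk_iff_of_ringEquiv
    (IsLocalization.algEquiv q.primeCompl (Localization.AtPrime q) T).toRingEquiv k

end Groth.Agent.Lib.Helper19.SmSerre2
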