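import Mathlib
import Groth.Prelude.Def_CAlg
import Groth.Prelude.Def_EGA4b
import Groth.Agent.S2793
import Groth.Agent.Lib.helper19.SmSerre1
import Groth.Agent.Lib.helper19.SmSerre2

set_option autoImplicit false
set_option linter.style.haveILetI false
universe u

namespace Groth.Agent.Lib.Helper19.SmSerre3

open CategoryTheory CategoryTheory.Limits AlgebraicGeometry IsLocalRing TopologicalSpace

theorem main {X Y : Scheme.{u}} (f : X ⟶ Y)
    [IsLocallyNoetherian Y] [LocallyOfFiniteType f] (x : ↥X)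
    (hx : ∃ U : X.Opens, x ∈ U ∧ Smooth (U.ι ≫ f)) (n : ℕ) :
    (LocCoh.HasSk n ↑(X.presheaf.stalk x) ↑(X.presheaf.stalk x) ↔
        LocCoh.HasSk n ↑(Y.presheaf.stalk (f.base x)) ↑(Y.presheaf.stalk (f.base x))) ∧
      (LocCoh.HasRk n ↑(X.presheaf.stalk x) ↔ LocCoh.HasRk n ↑(Y.presheaf.stalk (f.base x))) := by
  haveI : LocallyOfFinitePresentation f :=
    LocallyOfFinitePresentation.iff_locallyOfFiniteType.mpr inferInstance
  have hxs : (f.stalkMap x).hom.FormallySmooth := (Groth.Agent.S2793.nhd_smooth_iff f x).mp hx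
  obtain ⟨U, hU, V, hV, hVU, hxV, H⟩ := exists_smooth_of_formallySmooth_stalk f x hxs
  haveI : IsNoetherianRing Γ(Y, U) := IsLocallyNoetherian.component_noetherian ⟨U, hU⟩
  algebraize [(f.appLE U V hVU).hom]
  haveI : Algebra.Smooth Γ(Y, U) Γ(X, V) := RingHom.smooth_algebraMap.mp H
  haveI : IsNoetherianRing Γ(X, V) := SmSerre1.isNoetherianRing_of_smooth Γ(Y, U) Γ(X, V)
  set Q := (hV.primeIdealOf ⟨x, hxV⟩).asIdeal with hQ
  have hQP : Q.comap (algebraMap Γ(Y, U) Γ(X, V)) = (hU.primeIdealOf ⟨f x, hVU hxV⟩).asIdeal :=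
    congrArg PrimeSpectrum.asIdeal (IsAffineOpen.comap_primeIdealOf_appLE U hU V hV hVU hxV)
  obtain ⟨h1, h2⟩ := SmSerre1.main Γ(Y, U) Γ(X, V) n Q
  letI := X.presheaf.algebra_section_stalk ⟨x, hxV⟩
  haveI := hV.isLocalization_stalk ⟨x, hxV⟩
  letI := Y.presheaf.algebra_section_stalk ⟨f x, hVU hxV⟩
  have hlocY := hU.isLocalization_stalk ⟨f x, hVU hxV⟩
  have key : ∀ (P : Ideal Γ(Y, U)) [P.IsPrime], P = (hU.primeIdealOf ⟨f x, hVU hxV⟩).asIdeal →
      (EGA4.HasSkAt n Γ(Y, U) Γ(Y, U) P ↔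
        LocCoh.HasSk n (Y.presheaf.stalk (f x)) (Y.presheaf.stalk (f x))) ∧
      (EGA4.HasRkAt n Γ(Y, U) P ↔ LocCoh.HasRk n (Y.presheaf.stalk (f x))) := by
    intro P _ hP
    subst hP
    exact ⟨SmSerre2.hasSkAt_self_iff _ _ n, SmSerre2.hasRkAt_iff _ _ n⟩
  obtain ⟨k1, k2⟩ := key _ hQP
  refine ⟨?_, ?_⟩
  · rw [← SmSerre2.hasSkAt_self_iff Q (X.presheaf.stalk x) n, h1, k1]
  · rw [← SmSerre2.hasRkAt_iff Q (X.presheaf.stalk x) n, h2, k2]

end Groth.Agent.Lib.Helper19.SmSerre3
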