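import Mathlib
import Groth.Agent.Lib.helper19.SmChart1

set_option autoImplicit false
set_option linter.style.haveILetI false
universe u
open TensorProduct KaehlerDifferential Polynomial

namespace Groth.Agent.Lib.Helper19.SmSlice1

/-- Under the elementwise separability hypothesis, differentials of elements of `q` span the fibre
of the Kähler differentials at `q`. -/
theorem span_tmul_D_mem_eq_top (A B : Type u) [CommRing A] [CommRing B] [Algebra A B]
    (q : Ideal B) [q.IsPrime]
    (H : ∀ r : B, ∃ M : A[X], aeval r M ∈ q ∧ aeval r (derivative M) ∉ q) :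
    Submodule.span q.ResidueField
      {z : q.ResidueField ⊗[B] Ω[B⁄A] | ∃ y ∈ q, z = (1 : q.ResidueField) ⊗ₜ[B] D A B y} = ⊤ := by
  rw [eq_top_iff, ← SmChart1.span_tmul_D_eq_top A B q, Submodule.span_le]
  rintro _ ⟨r, rfl⟩
  obtain ⟨M, hM, hM'⟩ := H r
  set c : B := aeval r (derivative M) with hc
  have h1 : D A B (aeval r M) = c • D A B r := Derivation.map_aeval (D A B) M r
  have h2 : (1 : q.ResidueField) ⊗ₜ[B] D A B (aeval r M) =
      algebraMap B q.ResidueField c • ((1 : q.ResidueField) ⊗ₜ[B] D A B r) := by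
    rw [h1, TensorProduct.tmul_smul, TensorProduct.smul_tmul', TensorProduct.smul_tmul',
      Algebra.smul_def, mul_one, smul_eq_mul, mul_one]
  have h3 : algebraMap B q.ResidueField c ≠ 0 := by
    intro h0
    apply hM'
    rwa [← Ideal.ker_algebraMap_residueField q, RingHom.mem_ker]
  have h4 : (1 : q.ResidueField) ⊗ₜ[B] D A B r =
      (algebraMap B q.ResidueField c)⁻¹ • ((1 : q.ResidueField) ⊗ₜ[B] D A B (aeval r M)) := by
    rw [h2, smul_smul, inv_mul_cancel₀ h3, one_smul]
  show (1 : q.ResidueField) ⊗ₜ[B] D A B r ∈ _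
  rw [h4]
  exact Submodule.smul_mem _ _ (Submodule.subset_span ⟨_, hM, rfl⟩)

theorem exists_coords_mem (A B : Type u) [CommRing A] [CommRing B] [Algebra A B]
    (q : Ideal B) [q.IsPrime]
    [Module.Finite q.ResidueField (q.ResidueField ⊗[B] Ω[B⁄A])]
    (H : ∀ r : B, ∃ M : A[X], aeval r M ∈ q ∧ aeval r (derivative M) ∉ q) :
    ∃ (d : ℕ) (x : Fin d → B), (∀ i, x i ∈ q) ∧
      LinearIndependent q.ResidueField (fun i => (1 : q.ResidueField) ⊗ₜ[B] D A B (x i)) ∧
      Submodule.span q.ResidueField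
        (Set.range fun i => (1 : q.ResidueField) ⊗ₜ[B] D A B (x i)) = ⊤ := by
  classical
  set s : Set (q.ResidueField ⊗[B] Ω[B⁄A]) :=
    {z | ∃ y ∈ q, z = (1 : q.ResidueField) ⊗ₜ[B] D A B y} with hs
  have hspan : Submodule.span q.ResidueField s = ⊤ := span_tmul_D_mem_eq_top A B q H
  obtain ⟨f, hfs, hfspan, hfli⟩ := Submodule.exists_fun_fin_finrank_span_eq q.ResidueField s
  have hfs' : ∀ i, ∃ y ∈ q, f i = (1 : q.ResidueField) ⊗ₜ[B] D A B y := fun i => hfs i
  choose y hyq hy using hfs'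
  have : (fun i => (1 : q.ResidueField) ⊗ₜ[B] D A B (y i)) = f := funext fun i => (hy i).symm
  refine ⟨_, y, hyq, ?_, ?_⟩
  · rw [this]; exact hfli
  · rw [this, hfspan, hspan]

end Groth.Agent.Lib.Helper19.SmSlice1
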