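import Mathlib
import Groth.Agent.Lib.helper19.SmChart1
import Groth.Agent.Lib.helper19.SmSlice1
import Groth.Agent.Lib.helper19.SmSlice2
import Groth.Agent.Lib.helper19.QFL5

set_option autoImplicit false
set_option linter.style.haveILetI false
universe u
open CategoryTheory CategoryTheory.Limits AlgebraicGeometry TensorProduct

namespace Groth.Agent.Lib.Helper19.SmSlice3

theorem locallyQuasiFinite_of_etale {X Y : Scheme.{u}} (f : X ⟶ Y) [Etale f] :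
    LocallyQuasiFinite f := by
  rw [HasRingHomProperty.iff_appLE (P := @LocallyQuasiFinite)]
  intro U V e
  have h1 := HasRingHomProperty.appLE (P := @Etale) f inferInstance U V e
  algebraize [(f.appLE U V e).hom]
  haveI : Algebra.Etale Γ(Y, U.1) Γ(X, V.1) := RingHom.etale_algebraMap.mp h1
  exact RingHom.quasiFinite_algebraMap.mpr inferInstance

theorem main {X S : Scheme.{u}} (f : X ⟶ S) [Smooth f] (x : X)
    (hsep : @Algebra.IsSeparable (S.residueField (f x)) (X.residueField x) _ _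
      (f.residueFieldMap x).hom.toAlgebra) :
    ∃ (Z : Scheme.{u}) (i : Z ⟶ X) (z : Z), IsImmersion i ∧ Etale (i ≫ f) ∧ i z = x ∧
      ∀ z' : ↑Z, f (i z') = f x → z' = z := by
  classical
  obtain ⟨_, ⟨V₀, hV₀, rfl⟩, hsV₀, -⟩ := S.isBasis_affineOpens.exists_subset_of_mem_open
    (Set.mem_univ (f x)) isOpen_univ
  have hmem : x ∈ ((f ⁻¹ᵁ V₀ : X.Opens) : Set X) := hsV₀
  obtain ⟨_, ⟨U₀, hU₀, rfl⟩, hxU₀, hle⟩ := X.isBasis_affineOpens.exists_subset_of_mem_open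
    hmem (f ⁻¹ᵁ V₀).2
  letI : Algebra Γ(S, V₀) Γ(X, U₀) := (f.appLE V₀ U₀ hle).hom.toAlgebra
  haveI : Algebra.Smooth Γ(S, V₀) Γ(X, U₀) := by
    have h1 := HasRingHomProperty.appLE (P := @Smooth) f inferInstance ⟨V₀, hV₀⟩ ⟨U₀, hU₀⟩ hle
    exact RingHom.smooth_algebraMap.mp h1
  let q : Ideal Γ(X, U₀) := (hU₀.primeIdealOf ⟨x, hxU₀⟩).asIdeal
  haveI : q.IsPrime := (hU₀.primeIdealOf ⟨x, hxU₀⟩).2
  let p : PrimeSpectrum Γ(S, V₀) := hV₀.primeIdealOf ⟨f x, hsV₀⟩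
  have hp : p.asIdeal = q.comap (algebraMap Γ(S, V₀) Γ(X, U₀)) :=
    Groth.Agent.Lib.Helper19.QFL.liesOver_primeIdealOf f hV₀ hU₀ hle x hxU₀ (f x) rfl hsV₀
  haveI : Algebra.FinitePresentation Γ(S, V₀) Γ(X, U₀) := Algebra.Smooth.finitePresentation
  haveI : Algebra.IsSmoothAt Γ(S, V₀) q := inferInstance
  haveI : Module.Finite q.ResidueField (q.ResidueField ⊗[Γ(X, U₀)] Ω[Γ(X, U₀)⁄Γ(S, V₀)]) :=
    inferInstance
  have H : ∀ r : Γ(X, U₀), ∃ M : Polynomial Γ(S, V₀),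
      Polynomial.aeval r M ∈ q ∧ Polynomial.aeval r (Polynomial.derivative M) ∉ q := by
    intro r
    obtain ⟨M, h1, h2⟩ := SmSlice2.hyp_H f x hV₀ hsV₀ hU₀ hxU₀ hle hsep r
    exact ⟨M, h1, h2⟩
  obtain ⟨d, xc, hxq, hli, hsp⟩ := SmSlice1.exists_coords_mem Γ(S, V₀) Γ(X, U₀) q H
  obtain ⟨g, hg, hφ⟩ := SmChart1.chart_of_coords Γ(S, V₀) Γ(X, U₀) q xc hli hsp
  let Bg := Localization.Away g
  let φ : MvPolynomial (Fin d) Γ(S, V₀) →+* Bg :=
    (algebraMap Γ(X, U₀) Bg).comp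
      (MvPolynomial.aeval xc : MvPolynomial (Fin d) Γ(S, V₀) →ₐ[Γ(S, V₀)] Γ(X, U₀)).toRingHom
  have hφC : φ.comp MvPolynomial.C =
      (algebraMap Γ(X, U₀) Bg).comp (algebraMap Γ(S, V₀) Γ(X, U₀)) := by
    ext a
    simp [φ]
  let ev0 : MvPolynomial (Fin d) Γ(S, V₀) →+* Γ(S, V₀) :=
    (MvPolynomial.aeval (fun _ : Fin d => (0 : Γ(S, V₀))) :
      MvPolynomial (Fin d) Γ(S, V₀) →ₐ[Γ(S, V₀)] Γ(S, V₀)).toRingHom
  have hev0C : ev0.comp MvPolynomial.C = RingHom.id _ := by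
    ext a
    simp [ev0]
  -- the point of `Bg` above `q`
  have hdisj : Disjoint (Submonoid.powers g : Set Γ(X, U₀)) (q : Set Γ(X, U₀)) := by
    rw [Set.disjoint_left]
    rintro _ ⟨n, rfl⟩ hn
    exact hg (Ideal.IsPrime.mem_of_pow_mem inferInstance n hn)
  have hqg_prime : (q.map (algebraMap Γ(X, U₀) Bg)).IsPrime :=
    IsLocalization.isPrime_of_isPrime_disjoint (Submonoid.powers g) Bg q inferInstance hdisj
  have hqg_comap : (q.map (algebraMap Γ(X, U₀) Bg)).comap (algebraMap Γ(X, U₀) Bg) = q :=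
    IsLocalization.comap_map_of_isPrime_disjoint (Submonoid.powers g) Bg inferInstance hdisj
  let qg : PrimeSpectrum Bg := ⟨q.map (algebraMap Γ(X, U₀) Bg), hqg_prime⟩
  have hkey : PrimeSpectrum.comap φ qg = PrimeSpectrum.comap ev0 p := by
    apply PrimeSpectrum.ext
    ext h
    have h1 : (Ideal.Quotient.mk q).comp
        (MvPolynomial.aeval xc : MvPolynomial (Fin d) Γ(S, V₀) →ₐ[Γ(S, V₀)] Γ(X, U₀)).toRingHom =
        ((Ideal.Quotient.mk q).comp (algebraMap Γ(S, V₀) Γ(X, U₀))).comp ev0 := by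
      apply MvPolynomial.ringHom_ext
      · intro a
        simp [ev0]
      · intro i
        simp [ev0, Ideal.Quotient.eq_zero_iff_mem.mpr (hxq i)]
    have h2 := congrArg (fun F => F h) h1
    simp only [RingHom.comp_apply] at h2
    show φ h ∈ q.map (algebraMap Γ(X, U₀) Bg) ↔ ev0 h ∈ p.asIdeal
    rw [hp, Ideal.mem_comap, ← Ideal.Quotient.eq_zero_iff_mem (I := q), ← h2,
      Ideal.Quotient.eq_zero_iff_mem]
    show algebraMap Γ(X, U₀) Bg (MvPolynomial.aeval xc h) ∈ _ ↔ _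
    rw [← Ideal.mem_comap, hqg_comap]
    rfl
  -- categorical versions
  let P := CommRingCat.of (MvPolynomial (Fin d) Γ(S, V₀))
  let φc : P ⟶ CommRingCat.of Bg := CommRingCat.ofHom φ
  let ev0c : P ⟶ Γ(S, V₀) := CommRingCat.ofHom ev0
  let Cc : Γ(S, V₀) ⟶ P := CommRingCat.ofHom MvPolynomial.C
  let ιc : Γ(X, U₀) ⟶ CommRingCat.of Bg := CommRingCat.ofHom (algebraMap Γ(X, U₀) Bg)
  have e1 : Cc ≫ φc = f.appLE V₀ U₀ hle ≫ ιc := by
    apply CommRingCat.hom_ext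
    exact hφC
  have e0 : Cc ≫ ev0c = 𝟙 _ := by
    apply CommRingCat.hom_ext
    exact hev0C
  haveI : Etale (Spec.map φc) := HasRingHomProperty.Spec_iff.mpr hφ
  haveI : IsOpenImmersion hV₀.fromSpec := hV₀.isOpenImmersion_fromSpec
  haveI : IsOpenImmersion hU₀.fromSpec := hU₀.isOpenImmersion_fromSpec
  haveI : IsOpenImmersion (Spec.map ιc) := IsOpenImmersion.of_isLocalization g
  haveI : IsClosedImmersion (Spec.map ev0c) := by
    apply IsClosedImmersion.spec_of_surjective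
    intro a
    refine ⟨MvPolynomial.C a, ?_⟩
    have := congrArg (fun F => F a) hev0C
    simp only [RingHom.comp_apply, RingHom.id_apply] at this
    exact this
  let Z₀ := pullback (Spec.map φc) (Spec.map ev0c)
  let i₀ : Z₀ ⟶ X := pullback.fst (Spec.map φc) (Spec.map ev0c) ≫ Spec.map ιc ≫ hU₀.fromSpec
  have hi₀f : i₀ ≫ f = pullback.snd (Spec.map φc) (Spec.map ev0c) ≫ hV₀.fromSpec := by
    show (pullback.fst (Spec.map φc) (Spec.map ev0c) ≫ Spec.map ιc ≫ hU₀.fromSpec) ≫ f = _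
    rw [Category.assoc, Category.assoc, ← hV₀.SpecMap_appLE_fromSpec f hU₀ hle,
      ← Spec.map_comp_assoc, ← e1, Spec.map_comp_assoc, pullback.condition_assoc,
      ← Spec.map_comp_assoc, e0, Spec.map_id, Category.id_comp]
  haveI : Etale (i₀ ≫ f) := by rw [hi₀f]; infer_instance
  haveI : IsImmersion i₀ := inferInstance
  obtain ⟨z₀, hz₀1, hz₀2⟩ := Scheme.Pullback.exists_preimage_pullback (f := Spec.map φc)
    (g := Spec.map ev0c) qg p hkey
  have hi₀z₀ : i₀ z₀ = x := by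
    show hU₀.fromSpec ((Spec.map ιc) ((pullback.fst (Spec.map φc) (Spec.map ev0c)) z₀)) = x
    rw [hz₀1]
    have h1 : (Spec.map ιc) qg = hU₀.primeIdealOf ⟨x, hxU₀⟩ := by
      apply PrimeSpectrum.ext
      exact hqg_comap
    rw [h1]
    exact hU₀.fromSpec_primeIdealOf ⟨x, hxU₀⟩
  -- discreteness of the fibre
  haveI : LocallyQuasiFinite (i₀ ≫ f) := locallyQuasiFinite_of_etale _
  have hdisc := (i₀ ≫ f).isDiscrete_preimage_singleton (f x)
  rw [isDiscrete_iff_forall_mem_exists_isOpen] at hdisc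
  have hz₀mem : z₀ ∈ (i₀ ≫ f) ⁻¹' {f x} := by
    show (i₀ ≫ f) z₀ = f x
    rw [Scheme.Hom.comp_apply, hi₀z₀]
  obtain ⟨O, hO, hOz⟩ := hdisc z₀ hz₀mem
  let Oo : Z₀.Opens := ⟨O, hO⟩
  have hz₀O : z₀ ∈ Oo := by
    have : z₀ ∈ O ∩ (i₀ ≫ f) ⁻¹' {f x} := by rw [hOz]; rfl
    exact this.1
  refine ⟨Oo, Oo.ι ≫ i₀, ⟨z₀, hz₀O⟩, inferInstance, ?_, ?_, ?_⟩
  · rw [Category.assoc]; infer_instance
  · rw [Scheme.Hom.comp_apply]
    exact hi₀z₀
  · intro z' hz'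
    have h1 : Oo.ι z' ∈ O ∩ (i₀ ≫ f) ⁻¹' {f x} := by
      refine ⟨z'.2, ?_⟩
      show (i₀ ≫ f) (Oo.ι z') = f x
      rw [Scheme.Hom.comp_apply]
      rw [Scheme.Hom.comp_apply] at hz'
      exact hz'
    rw [hOz] at h1
    exact Subtype.ext h1

end Groth.Agent.Lib.Helper19.SmSlice3
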