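import Mathlib

set_option autoImplicit false
universe u
open TensorProduct KaehlerDifferential

namespace Groth.Agent.Lib.Helper19.SmoothRank

section Lin

variable {B : Type u} [CommRing B] {M N Q : Type u} [AddCommGroup M] [AddCommGroup N] [AddCommGroup Q]
  [Module B M] [Module B N] [Module B Q]

/-- splitting an exact sequence with projective cokernel: ranks add. -/
theorem rank_of_split [Module.Finite B N] [Module.Projective B N] [Module.Finite B Q]
    [Module.Projective B Q] (h : N →ₗ[B] Q) (hh : Function.Surjective h) :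
    Module.Finite B (LinearMap.ker h) ∧ Module.Projective B (LinearMap.ker h) ∧
      Module.rankAtStalk (R := B) N =
        Module.rankAtStalk (R := B) (LinearMap.ker h) + Module.rankAtStalk (R := B) Q := by
  obtain ⟨s, hs⟩ := Module.projective_lifting_property h LinearMap.id hh
  have hex : Function.Exact (LinearMap.ker h).subtype h := LinearMap.exact_subtype_ker_map h
  obtain ⟨e, he1, he2⟩ := hex.splitSurjectiveEquiv (Submodule.injective_subtype _) ⟨s, hs⟩
  have hfin : Module.Finite B (LinearMap.ker h) := by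
    refine Module.Finite.of_surjective (LinearMap.fst B _ _ ∘ₗ e.toLinearMap) ?_
    intro x
    exact ⟨e.symm (x, 0), by simp⟩
  have hproj : Module.Projective B (LinearMap.ker h) := by
    refine Module.Projective.of_split (e.symm.toLinearMap ∘ₗ LinearMap.inl B _ _)
      (LinearMap.fst B _ _ ∘ₗ e.toLinearMap) ?_
    ext x
    simp
  refine ⟨hfin, hproj, ?_⟩
  rw [Module.rankAtStalk_eq_of_equiv e, Module.rankAtStalk_prod]

end Lin


section Alg

variable {k A B : Type u} [CommRing k] [CommRing A] [CommRing B] [Algebra k A] [Algebra k B]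
  [Algebra A B] [IsScalarTower k A B]

/-- if `Ω[A/k]`, `Ω[B/k]`, `Ω[B/A]` are free of ranks `a`, `a + n`, `n`, then `B ⊗ Ω[A/k] → Ω[B/k]` is
injective. -/
theorem injective_mapBaseChange_of_bases {a n : ℕ} (bA : Module.Basis (Fin a) A Ω[A⁄k])
    (bB : Module.Basis (Fin (a + n)) B Ω[B⁄k]) (bBA : Module.Basis (Fin n) B Ω[B⁄A]) :
    Function.Injective (mapBaseChange k A B) := by
  haveI : Module.Free B Ω[B⁄k] := Module.Free.of_basis bB
  haveI : Module.Finite B Ω[B⁄k] := Module.Finite.of_basis bB
  haveI : Module.Free B Ω[B⁄A] := Module.Free.of_basis bBA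
  haveI : Module.Finite B Ω[B⁄A] := Module.Finite.of_basis bBA
  let bM : Module.Basis (Fin a) B (B ⊗[A] Ω[A⁄k]) := bA.baseChange B
  haveI : Module.Free B (B ⊗[A] Ω[A⁄k]) := Module.Free.of_basis bM
  haveI : Module.Finite B (B ⊗[A] Ω[A⁄k]) := Module.Finite.of_basis bM
  obtain ⟨hfin, hproj, hrank⟩ := rank_of_split (map k A B B) (map_surjective k A B)
  have hex := exact_mapBaseChange_map k A B
  let g' : B ⊗[A] Ω[A⁄k] →ₗ[B] LinearMap.ker (map k A B B) :=
    (mapBaseChange k A B).codRestrict _ (fun x => by
      rw [LinearMap.mem_ker]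
      exact hex.apply_apply_eq_zero x)
  have hg' : Function.Surjective g' := by
    rintro ⟨y, hy⟩
    obtain ⟨x, hx⟩ := (hex y).1 hy
    exact ⟨x, Subtype.ext hx⟩
  obtain ⟨hfin', hproj', hrank'⟩ := rank_of_split g' hg'
  have h0 : Module.rankAtStalk (R := B) (LinearMap.ker g') = 0 := by
    ext p
    haveI : Nontrivial B := p.nontrivial
    have h1 := congrFun hrank p
    have h2 := congrFun hrank' p
    have e1 : Module.rankAtStalk (R := B) Ω[B⁄k] p = a + n := by
      rw [Module.rankAtStalk_eq_finrank_of_free, Module.finrank_eq_card_basis bB, Fintype.card_fin]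
      rfl
    have e2 : Module.rankAtStalk (R := B) Ω[B⁄A] p = n := by
      rw [Module.rankAtStalk_eq_finrank_of_free, Module.finrank_eq_card_basis bBA, Fintype.card_fin]
      rfl
    have e3 : Module.rankAtStalk (R := B) (B ⊗[A] Ω[A⁄k]) p = a := by
      rw [Module.rankAtStalk_eq_finrank_of_free, Module.finrank_eq_card_basis bM, Fintype.card_fin]
      rfl
    rw [Pi.add_apply, e1, e2] at h1
    rw [Pi.add_apply, e3] at h2
    simp only [Pi.zero_apply]
    omega
  have hsub : Subsingleton (LinearMap.ker g') := Module.rankAtStalk_eq_zero_iff_subsingleton.1 h0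
  have hinj : Function.Injective g' := by
    rw [← LinearMap.ker_eq_bot]
    exact Submodule.eq_bot_of_subsingleton
  intro x y hxy
  exact hinj (Subtype.ext hxy)

/-- **Smoothness from ranks of differentials.** -/
theorem formallySmooth_of_bases [Algebra.FormallySmooth k B] {a n : ℕ}
    (bA : Module.Basis (Fin a) A Ω[A⁄k]) (bB : Module.Basis (Fin (a + n)) B Ω[B⁄k])
    (bBA : Module.Basis (Fin n) B Ω[B⁄A]) : Algebra.FormallySmooth A B := by
  have hinj := injective_mapBaseChange_of_bases bA bB bBA
  refine ⟨Module.Projective.of_basis bBA, ?_⟩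
  have h1 := Algebra.H1Cotangent.exact_map_δ k A B
  have h2 := Algebra.H1Cotangent.exact_δ_mapBaseChange k A B
  refine ⟨fun x y => ?_⟩
  have hδ : ∀ z, Algebra.H1Cotangent.δ k A B z = 0 := fun z =>
    hinj (by rw [h2.apply_apply_eq_zero, map_zero])
  have hz : ∀ z : Algebra.H1Cotangent A B, z = 0 := fun z => by
    obtain ⟨w, rfl⟩ := (h1 z).1 (hδ z)
    rw [Subsingleton.elim w 0, map_zero]
  rw [hz x, hz y]

end Alg

end Groth.Agent.Lib.Helper19.SmoothRank
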