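import Mathlib

/-!
# Universal-type splitting algebras and finite flat covers dominating standard étale algebras

* `exists_splitting`: a monic polynomial of degree `n` over `R` splits into linear factors in a
  finite free faithfully flat `R`-algebra.
* `field_claim`, `exists_root_index`: selection of a root compatible with two primes.
* `main_std`: for a standard étale algebra `S`, the splitting algebra `S'` of its polynomial
  dominates `S` Zariski-locally (Stacks-type lemma on finite flat covers of étale maps).
-/

set_option autoImplicit false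
set_option linter.style.haveILetI false
universe u

open Polynomial

namespace Groth.Agent.Lib.helper19.SplitAlg

/-- A monic polynomial splits in some finite free faithfully flat algebra. -/
theorem exists_splitting : ∀ (n : ℕ) (R : Type u) [CommRing R] (f : R[X]), f.Monic →
    f.natDegree = n →
    ∃ (S' : Type u) (_ : CommRing S') (_ : Algebra R S'), Module.Finite R S' ∧ Module.Free R S' ∧
      Module.FaithfullyFlat R S' ∧
      ∃ a : Fin n → S', f.map (algebraMap R S') = ∏ i, (X - C (a i)) := by
  intro n
  induction n with
  | zero =>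
    intro R _ f hf hn
    have hf1 : f = 1 := eq_one_of_monic_natDegree_zero hf hn
    refine ⟨R, inferInstance, inferInstance, inferInstance, inferInstance, inferInstance,
      Fin.elim0, ?_⟩
    simp [hf1]
  | succ n ih =>
    intro R _ f hf hn
    let S₁ := AdjoinRoot f
    let r : S₁ := AdjoinRoot.root f
    let F : S₁[X] := f.map (algebraMap R S₁)
    have hF : F.Monic := hf.map _
    have hroot : F.IsRoot r := by
      show eval r (f.map (algebraMap R S₁)) = 0
      rw [eval_map, ← aeval_def, AdjoinRoot.aeval_eq, AdjoinRoot.mk_self]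
    let f₁ : S₁[X] := F /ₘ (X - C r)
    have hmul : (X - C r) * f₁ = F := mul_divByMonic_eq_iff_isRoot.mpr hroot
    have hf₁ : f₁.Monic := Monic.of_mul_monic_left (monic_X_sub_C r) (by rw [hmul]; exact hF)
    have hdeg : f₁.natDegree = n := by
      rcases subsingleton_or_nontrivial S₁ with h | h
      · -- degenerate case
        have : f₁.natDegree = F.natDegree - (X - C r).natDegree :=
          natDegree_divByMonic F (monic_X_sub_C r)
        have hR : Subsingleton R := by
          by_contra hR
          rw [not_subsingleton_iff_nontrivial] at hR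
          haveI := hR
          have hfr : Module.Free R S₁ := hf.free_adjoinRoot
          have : Nonempty (Fin (AdjoinRoot.powerBasis' hf).dim) := by
            rw [AdjoinRoot.powerBasis'_dim, hn]; exact ⟨0⟩
          obtain ⟨i⟩ := this
          have hne := (AdjoinRoot.powerBasis' hf).basis.ne_zero i
          exact hne (Subsingleton.elim _ _)
        have h1 : (1 : R) = 0 := Subsingleton.elim _ _
        have : f.natDegree = 0 := by
          have : f = 0 := by
            ext i; exact Subsingleton.elim _ _
          rw [this, natDegree_zero]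
        omega
      · have h1 : f₁.natDegree = F.natDegree - (X - C r).natDegree :=
          natDegree_divByMonic F (monic_X_sub_C r)
        rw [natDegree_X_sub_C, hf.natDegree_map, hn] at h1
        omega
    obtain ⟨S'', _, _, hfin, hfree, hff, a'', ha''⟩ := ih S₁ f₁ hf₁ hdeg
    letI : Algebra R S'' := ((algebraMap S₁ S'').comp (algebraMap R S₁)).toAlgebra
    haveI : IsScalarTower R S₁ S'' := IsScalarTower.of_algebraMap_eq' rfl
    haveI : Module.Finite R S₁ := hf.finite_adjoinRoot
    haveI : Module.Free R S₁ := hf.free_adjoinRoot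
    haveI : Module.FaithfullyFlat R S₁ := by
      haveI : Nonempty (Fin (AdjoinRoot.powerBasis' hf).dim) := by
        rw [AdjoinRoot.powerBasis'_dim, hn]; exact ⟨0⟩
      exact Module.FaithfullyFlat.of_linearEquiv (R := R) (M := Fin (AdjoinRoot.powerBasis' hf).dim →₀ R)
        (AdjoinRoot.powerBasis' hf).basis.repr
    refine ⟨S'', inferInstance, inferInstance, Module.Finite.trans S₁ S'',
      Module.Free.trans (R := R) (S := S₁) (M := S''), Module.FaithfullyFlat.trans R S₁ S'',
      Fin.cons (algebraMap S₁ S'' r) a'', ?_⟩
    rw [IsScalarTower.algebraMap_eq R S₁ S'', ← Polynomial.map_map]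
    show F.map (algebraMap S₁ S'') = _
    rw [← hmul, Polynomial.map_mul, ha'', Fin.prod_univ_succ]
    simp

/-- The field-theoretic heart: if `f̄` splits over `K` with roots `ā i` and `x̄ ∈ L` is a root of
`f̄`, then some `ā i` is conjugate to `x̄` over `k`. -/
theorem field_claim {k L K : Type*} [Field k] [Field L] [Field K] [Algebra k L] [Algebra k K]
    (f : k[X]) (hf : f.Monic) (x : L) (hx : aeval x f = 0) {n : ℕ} (a : Fin n → K)
    (ha : f.map (algebraMap k K) = ∏ i, (X - C (a i))) :
    ∃ i, ∀ u : k[X], aeval (a i) u = 0 ↔ aeval x u = 0 := by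
  have hint : IsIntegral k x := ⟨f, hf, hx⟩
  set h := minpoly k x with hh
  have hirr : Irreducible h := minpoly.irreducible hint
  have hdvd : h ∣ f := minpoly.dvd k x hx
  -- some root of `h`
  have hroot : ∃ i, aeval (a i) h = 0 := by
    by_contra hcon
    push Not at hcon
    have hcop : ∀ i ∈ (Finset.univ : Finset (Fin n)), IsCoprime (h.map (algebraMap k K))
        (X - C (a i)) := by
      intro i _
      rw [isCoprime_comm]
      rw [(irreducible_X_sub_C (a i)).coprime_iff_not_dvd, dvd_iff_isRoot]
      intro hr
      apply hcon i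
      rw [aeval_def, ← eval_map]
      exact hr
    have hcop' : IsCoprime (h.map (algebraMap k K)) (∏ i, (X - C (a i))) :=
      IsCoprime.prod_right hcop
    rw [← ha] at hcop'
    have hd : h.map (algebraMap k K) ∣ f.map (algebraMap k K) := Polynomial.map_dvd _ hdvd
    have hunit : IsUnit (h.map (algebraMap k K)) := hcop'.isUnit_of_dvd' dvd_rfl hd
    have hdeg := degree_eq_zero_of_isUnit hunit
    rw [degree_map] at hdeg
    exact (minpoly.degree_pos hint).ne' hdeg
  obtain ⟨i, hi⟩ := hroot
  refine ⟨i, fun u => ⟨fun hu => ?_, fun hu => ?_⟩⟩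
  · by_contra hxu
    have hnd : ¬ h ∣ u := by
      rintro ⟨w, rfl⟩
      apply hxu
      rw [map_mul, minpoly.aeval, zero_mul]
    obtain ⟨c, d, hcd⟩ := (hirr.coprime_iff_not_dvd.mpr hnd)
    have := congr(aeval (a i) $hcd)
    rw [map_add, map_mul, map_mul, hi, hu, mul_zero, mul_zero, add_zero, map_one] at this
    exact zero_ne_one this
  · obtain ⟨w, rfl⟩ := minpoly.dvd k x hu
    rw [map_mul, hi, zero_mul]

section Ring

variable {R S S' : Type u} [CommRing R] [CommRing S] [CommRing S'] [Algebra R S] [Algebra R S']

/-- Root selection: given a standard étale presentation of `S`, a splitting of its polynomial in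
`S'`, and primes `q ⊆ S`, `q' ⊆ S'` over the same prime of `R`, some root `a i` has the same
"polynomial contraction" at `q'` as `x` at `q`. -/
theorem exists_root_index (P : StandardEtalePresentation R S) {n : ℕ} (a : Fin n → S')
    (ha : P.f.map (algebraMap R S') = ∏ i, (X - C (a i)))
    (p : Ideal R) [p.IsPrime] (q : Ideal S) [q.IsPrime] (hq : p = q.comap (algebraMap R S))
    (q' : Ideal S') [q'.IsPrime] (hq' : p = q'.comap (algebraMap R S')) :
    ∃ i, ∀ u : R[X], aeval (a i) u ∈ q' ↔ aeval P.x u ∈ q := by
  letI algL : Algebra p.ResidueField q.ResidueField :=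
    (Ideal.ResidueField.map p q (algebraMap R S) hq).toAlgebra
  letI algK : Algebra p.ResidueField q'.ResidueField :=
    (Ideal.ResidueField.map p q' (algebraMap R S') hq').toAlgebra
  haveI : IsScalarTower R p.ResidueField q.ResidueField := IsScalarTower.of_algebraMap_eq (fun r => by
    rw [RingHom.algebraMap_toAlgebra, Ideal.ResidueField.map_algebraMap,
      ← IsScalarTower.algebraMap_apply])
  haveI : IsScalarTower R p.ResidueField q'.ResidueField :=
    IsScalarTower.of_algebraMap_eq (fun r => by
      rw [RingHom.algebraMap_toAlgebra, Ideal.ResidueField.map_algebraMap,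
        ← IsScalarTower.algebraMap_apply])
  let fb : p.ResidueField[X] := P.f.map (algebraMap R p.ResidueField)
  let xb : q.ResidueField := algebraMap S q.ResidueField P.x
  let ab : Fin n → q'.ResidueField := fun i => algebraMap S' q'.ResidueField (a i)
  have hxb : aeval xb fb = 0 := by
    rw [aeval_map_algebraMap, aeval_algebraMap_apply, P.hasMap.1, map_zero]
  have hab : fb.map (algebraMap p.ResidueField q'.ResidueField) = ∏ i, (X - C (ab i)) := by
    rw [Polynomial.map_map, ← IsScalarTower.algebraMap_eq,
      IsScalarTower.algebraMap_eq R S' q'.ResidueField, ← Polynomial.map_map, ha,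
      Polynomial.map_prod]
    simp [ab]
  obtain ⟨i, hi⟩ := field_claim fb (P.monic_f.map _) xb hxb ab hab
  refine ⟨i, fun u => ?_⟩
  have h1 : aeval (a i) u ∈ q' ↔ aeval (ab i) (u.map (algebraMap R p.ResidueField)) = 0 := by
    rw [aeval_map_algebraMap, aeval_algebraMap_apply, Ideal.algebraMap_residueField_eq_zero]
  have h2 : aeval P.x u ∈ q ↔ aeval xb (u.map (algebraMap R p.ResidueField)) = 0 := by
    rw [aeval_map_algebraMap, aeval_algebraMap_apply, Ideal.algebraMap_residueField_eq_zero]
  rw [h1, h2]
  exact hi _

/-- The Zariski-local domination of a standard étale algebra by a splitting algebra. -/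
theorem exists_hom_away (P : StandardEtalePresentation R S) {n : ℕ} (a : Fin n → S')
    (ha : P.f.map (algebraMap R S') = ∏ i, (X - C (a i)))
    (q : Ideal S) [q.IsPrime] (q' : Ideal S') [q'.IsPrime]
    (h : q'.comap (algebraMap R S') = q.comap (algebraMap R S)) :
    ∃ (g' : S') (_ : g' ∉ q') (φ : S →ₐ[R] Localization.Away g'),
      (q'.map (algebraMap S' (Localization.Away g'))).comap φ = q := by
  haveI : (q.comap (algebraMap R S)).IsPrime := Ideal.comap_isPrime _ _
  obtain ⟨i, hi⟩ := exists_root_index P a ha (q.comap (algebraMap R S)) q rfl q' h.symm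
  have hgx : IsUnit (aeval P.x P.g) := P.hasMap.2
  have hgxq : ∀ m : ℕ, aeval P.x P.g ^ m ∉ q := fun m hm =>
    ‹q.IsPrime›.ne_top (Ideal.eq_top_of_isUnit_mem _ hm (hgx.pow m))
  set g' : S' := aeval (a i) P.g with hg'
  have hg'q' : g' ∉ q' := by
    intro hmem
    have := (hi P.g).mp hmem
    exact hgxq 1 (by simpa using this)
  let Lg := Localization.Away g'
  let b : Lg := algebraMap S' Lg (a i)
  have hai : aeval (a i) P.f = 0 := by
    rw [aeval_def, ← eval_map, ha, eval_prod]
    apply Finset.prod_eq_zero (Finset.mem_univ i)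
    simp
  have hb : P.HasMap b := by
    refine ⟨?_, ?_⟩
    · rw [aeval_algebraMap_apply, hai, map_zero]
    · rw [aeval_algebraMap_apply]
      exact IsLocalization.Away.algebraMap_isUnit g'
  let φ : S →ₐ[R] Lg := (P.P.lift b hb).comp P.equivRing.toAlgHom
  have hφx : φ P.x = b := by
    show P.P.lift b hb (P.equivRing P.x) = b
    rw [P.equivRing_x, StandardEtalePair.lift_X]
  have hφu : ∀ u : R[X], φ (aeval P.x u) = algebraMap S' Lg (aeval (a i) u) := by
    intro u
    rw [← aeval_algHom_apply, hφx, aeval_algebraMap_apply]
  have hdisj : Disjoint (Submonoid.powers g' : Set S') (q' : Set S') := by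
    rw [Set.disjoint_left]
    rintro _ ⟨m, rfl⟩ hm
    exact hg'q' (‹q'.IsPrime›.mem_of_pow_mem m hm)
  have hcm : (q'.map (algebraMap S' Lg)).comap (algebraMap S' Lg) = q' :=
    IsLocalization.comap_map_of_isPrime_disjoint (Submonoid.powers g') Lg ‹q'.IsPrime› hdisj
  refine ⟨g', hg'q', φ, ?_⟩
  ext s
  obtain ⟨u, m, hum⟩ := P.exists_mul_aeval_x_g_pow_eq_aeval_x s
  have hφs : φ s * (algebraMap S' Lg g') ^ m = algebraMap S' Lg (aeval (a i) u) := by
    have e1 : φ (aeval P.x P.g) = algebraMap S' Lg g' := hφu P.g
    calc φ s * (algebraMap S' Lg g') ^ m = φ (s * aeval P.x P.g ^ m) := by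
          rw [map_mul, map_pow, e1]
      _ = φ (aeval P.x u) := by rw [hum]
      _ = _ := hφu u
  have hunit : IsUnit ((algebraMap S' Lg g') ^ m) :=
    (IsLocalization.Away.algebraMap_isUnit g').pow m
  rw [Ideal.mem_comap]
  constructor
  · intro hs
    have h1 : algebraMap S' Lg (aeval (a i) u) ∈ q'.map (algebraMap S' Lg) := by
      rw [← hφs]; exact Ideal.mul_mem_right _ _ hs
    have h2 : aeval (a i) u ∈ q' := by
      rw [← hcm]; exact h1
    have h3 := (hi u).mp h2
    rw [← hum] at h3
    exact (‹q.IsPrime›.mem_or_mem h3).resolve_right (hgxq m)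
  · intro hs
    have h3 : aeval P.x u ∈ q := by rw [← hum]; exact Ideal.mul_mem_right _ _ hs
    have h2 := (hi u).mpr h3
    have h1 : φ s * (algebraMap S' Lg g') ^ m ∈ q'.map (algebraMap S' Lg) := by
      rw [hφs]; exact Ideal.mem_map_of_mem _ h2
    obtain ⟨w, hw⟩ := hunit.exists_right_inv
    have : φ s = (φ s * (algebraMap S' Lg g') ^ m) * w := by
      rw [mul_assoc, hw, mul_one]
    rw [this]
    exact Ideal.mul_mem_right _ _ h1

end Ring

/-- S9453: finite flat cover dominating a standard étale algebra. -/
theorem main_std (R : Type u) [CommRing R] (S : Type u) [CommRing S] [Algebra R S]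
    [Algebra.IsStandardEtale R S] :
    ∃ (S' : Type u) (_ : CommRing S') (_ : Algebra R S'),
      Module.Finite R S' ∧ Algebra.FinitePresentation R S' ∧ Module.Flat R S' ∧
        Function.Surjective (PrimeSpectrum.comap (algebraMap R S')) ∧
        ∀ (q : Ideal S) [q.IsPrime] (q' : Ideal S') [q'.IsPrime], q'.under R = q.under R →
          ∃ (g' : S') (_ : g' ∉ q') (φ : S →ₐ[R] Localization.Away g'),
            (q'.map (algebraMap S' (Localization.Away g'))).comap φ = q := by
  obtain ⟨P⟩ := Algebra.IsStandardEtale.nonempty_standardEtalePresentation (R := R) (S := S)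
  obtain ⟨S', _, _, hfin, hfree, hff, a, ha⟩ :=
    exists_splitting P.f.natDegree R P.f P.monic_f rfl
  haveI := hfin
  haveI := hfree
  haveI := hff
  haveI : Module.FinitePresentation R S' := Module.finitePresentation_of_projective R S'
  refine ⟨S', inferInstance, inferInstance, hfin, inferInstance, inferInstance,
    PrimeSpectrum.comap_surjective_of_faithfullyFlat, ?_⟩
  intro q _ q' _ h
  exact exists_hom_away P a ha q q' h

end Groth.Agent.Lib.helper19.SplitAlg
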