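import Mathlib
import Groth.Agent.Lib.helper19.SplitAlg

/-!
# S9434: an essentially étale local extension is dominated by a finite free cover
-/

set_option autoImplicit false
set_option linter.style.haveILetI false
universe u

open Polynomial

namespace Groth.Agent.Lib.helper19.SplitAlg

theorem main_local (R : Type u) [CommRing R] [IsLocalRing R] (T : Type u) [CommRing T]
    [Algebra R T] [Algebra.Etale R T] (q : Ideal T) [q.IsPrime] (S : Type u) [CommRing S]
    [IsLocalRing S] [Algebra T S] [IsLocalization.AtPrime S q] [Algebra R S] [IsScalarTower R T S]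
    [IsLocalHom (algebraMap R S)] :
    ∃ (S' : Type u) (_ : CommRing S') (_ : Algebra R S'),
      Module.Finite R S' ∧ Algebra.FinitePresentation R S' ∧ Module.FaithfullyFlat R S' ∧
        ∀ (m' : Ideal S') [m'.IsMaximal], Nonempty (S →ₐ[R] Localization.AtPrime m') := by
  classical
  obtain ⟨f, hfq, hstd⟩ := Algebra.IsEtaleAt.exists_isStandardEtale (R := R) q
  let Tf := Localization.Away f
  obtain ⟨P⟩ := Algebra.IsStandardEtale.nonempty_standardEtalePresentation (R := R) (S := Tf)
  obtain ⟨S', _, _, hfin, hfree, hff, a, ha⟩ :=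
    exists_splitting P.f.natDegree R P.f P.monic_f rfl
  haveI := hfin
  haveI := hfree
  haveI := hff
  haveI : Module.FinitePresentation R S' := Module.finitePresentation_of_projective R S'
  refine ⟨S', inferInstance, inferInstance, hfin, inferInstance, hff, ?_⟩
  intro m' hm'
  -- the prime of `T_f`
  have hdisj : Disjoint (Submonoid.powers f : Set T) (q : Set T) := by
    rw [Set.disjoint_left]
    rintro _ ⟨k, rfl⟩ hk
    exact hfq (‹q.IsPrime›.mem_of_pow_mem k hk)
  let qf : Ideal Tf := q.map (algebraMap T Tf)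
  haveI hqf : qf.IsPrime := IsLocalization.isPrime_of_isPrime_disjoint (Submonoid.powers f) Tf q
    ‹q.IsPrime› hdisj
  have hqfq : qf.comap (algebraMap T Tf) = q :=
    IsLocalization.comap_map_of_isPrime_disjoint (Submonoid.powers f) Tf ‹q.IsPrime› hdisj
  -- contractions to `R`
  have hqR : q.comap (algebraMap R T) = IsLocalRing.maximalIdeal R := by
    have h1 : (IsLocalRing.maximalIdeal S).comap (algebraMap T S) = q :=
      IsLocalization.AtPrime.comap_maximalIdeal S q
    have h2 : (IsLocalRing.maximalIdeal S).comap (algebraMap R S) = IsLocalRing.maximalIdeal R :=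
      ((IsLocalRing.local_hom_TFAE (algebraMap R S)).out 0 4).mp ‹_›
    rw [← h1, Ideal.comap_comap, ← IsScalarTower.algebraMap_eq, h2]
  have hqfR : qf.comap (algebraMap R Tf) = IsLocalRing.maximalIdeal R := by
    rw [IsScalarTower.algebraMap_eq R T Tf, ← Ideal.comap_comap, hqfq, hqR]
  have hm'R : m'.comap (algebraMap R S') = IsLocalRing.maximalIdeal R := by
    haveI : (m'.comap (algebraMap R S')).IsMaximal :=
      Ideal.isMaximal_comap_of_isIntegral_of_isMaximal m'
    exact IsLocalRing.eq_maximalIdeal inferInstance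
  obtain ⟨g', hg'm', φ, hφ⟩ := exists_hom_away P a ha qf m' (hm'R.trans hqfR.symm)
  -- the map `S'_{g'} → S'_{m'}`
  let Lm := Localization.AtPrime m'
  let ψ₀ : S' →ₐ[R] Lm := IsScalarTower.toAlgHom R S' Lm
  have hψ₀u : ∀ y : Submonoid.powers g', IsUnit (ψ₀ y) := by
    rintro ⟨_, k, rfl⟩
    show IsUnit (algebraMap S' Lm (g' ^ k))
    rw [map_pow]
    apply IsUnit.pow
    exact IsLocalization.map_units Lm (⟨g', hg'm'⟩ : m'.primeCompl)
  let ψ₁ : Localization.Away g' →ₐ[R] Lm :=
    IsLocalization.liftAlgHom (M := Submonoid.powers g') (f := ψ₀) hψ₀u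
  have hψ₁ : ∀ s : S', ψ₁ (algebraMap S' (Localization.Away g') s) = algebraMap S' Lm s :=
    fun s => IsLocalization.lift_eq _ s
  have hψ₁mem : ∀ x : Localization.Away g', ψ₁ x ∈ IsLocalRing.maximalIdeal Lm →
      x ∈ m'.map (algebraMap S' (Localization.Away g')) := by
    intro x hx
    obtain ⟨⟨s, ⟨_, k, rfl⟩⟩, hs⟩ := IsLocalization.surj (Submonoid.powers g') x
    simp only at hs
    have hu : IsUnit (algebraMap S' (Localization.Away g') (g' ^ k)) := by
      rw [map_pow]; exact (IsLocalization.Away.algebraMap_isUnit g').pow k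
    have h1 : ψ₁ (algebraMap S' (Localization.Away g') s) ∈ IsLocalRing.maximalIdeal Lm := by
      rw [← hs, map_mul]
      exact Ideal.mul_mem_right _ _ hx
    rw [hψ₁, IsLocalization.AtPrime.to_map_mem_maximal_iff Lm m'] at h1
    obtain ⟨w, hw⟩ := hu.exists_right_inv
    have : x = algebraMap S' (Localization.Away g') s * w := by
      rw [← hs, mul_assoc, hw, mul_one]
    rw [this]
    exact Ideal.mul_mem_right _ _ (Ideal.mem_map_of_mem _ h1)
  -- the map from `T`
  let θ : T →ₐ[R] Lm := (ψ₁.comp φ).comp (IsScalarTower.toAlgHom R T Tf)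
  have hθu : ∀ y : q.primeCompl, IsUnit (θ y) := by
    rintro ⟨t, ht⟩
    by_contra hnu
    have hmem : θ t ∈ IsLocalRing.maximalIdeal Lm := (IsLocalRing.mem_maximalIdeal _).mpr hnu
    have h1 : φ (algebraMap T Tf t) ∈ m'.map (algebraMap S' (Localization.Away g')) :=
      hψ₁mem _ hmem
    have h2 : algebraMap T Tf t ∈ qf := by
      rw [← hφ]; exact h1
    have h3 : t ∈ q := by
      rw [← hqfq]; exact h2
    exact ht h3
  exact ⟨IsLocalization.liftAlgHom (M := q.primeCompl) (f := θ) hθu⟩

end Groth.Agent.Lib.helper19.SplitAlg
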