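import Mathlib
import Groth.Agent.Lib.helper19.SplitAlg

/-!
# S9454: étale surjective maps are dominated, Zariski locally, by a finite free cover
-/

set_option autoImplicit false
set_option linter.style.haveILetI false
universe u

open Polynomial TensorProduct

namespace Groth.Agent.Lib.helper19.SplitAlg

/-- Inductive construction over a finite set of standard étale localizations. -/
theorem exists_cover_finset (R : Type u) [CommRing R] (S : Type u) [CommRing S] [Algebra R S]
    (F : Finset S) (hF : ∀ f ∈ F, Algebra.IsStandardEtale R (Localization.Away f)) :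
    ∃ (S' : Type u) (_ : CommRing S') (_ : Algebra R S'),
      Module.Finite R S' ∧ Module.Free R S' ∧ Module.FaithfullyFlat R S' ∧
        ∀ (q' : Ideal S') [q'.IsPrime] (q : Ideal S) [q.IsPrime],
          q'.comap (algebraMap R S') = q.comap (algebraMap R S) → (∃ f ∈ F, f ∉ q) →
          ∃ (g' : S') (_ : g' ∉ q'), Nonempty (S →ₐ[R] Localization.Away g') := by
  classical
  induction F using Finset.induction_on with
  | empty =>
    refine ⟨R, inferInstance, inferInstance, inferInstance, inferInstance, inferInstance, ?_⟩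
    rintro q' _ q _ - ⟨f, hf, -⟩
    exact absurd hf (Finset.notMem_empty f)
  | insert f F₀ hfF₀ ih =>
    obtain ⟨S₀, _, _, hfin₀, hfree₀, hff₀, H₀⟩ :=
      ih (fun f' hf' => hF f' (Finset.mem_insert_of_mem hf'))
    haveI := hF f (Finset.mem_insert_self f F₀)
    obtain ⟨P⟩ := Algebra.IsStandardEtale.nonempty_standardEtalePresentation (R := R)
      (S := Localization.Away f)
    obtain ⟨S₁, _, _, hfin₁, hfree₁, hff₁, a, ha⟩ :=
      exists_splitting P.f.natDegree R P.f P.monic_f rfl
    haveI := hfin₀; haveI := hfree₀; haveI := hff₀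
    haveI := hfin₁; haveI := hfree₁; haveI := hff₁
    refine ⟨S₀ ⊗[R] S₁, inferInstance, inferInstance, inferInstance, inferInstance,
      Module.FaithfullyFlat.trans R S₀ (S₀ ⊗[R] S₁), ?_⟩
    intro q' _ q _ hqq' hex
    let incL : S₀ →ₐ[R] S₀ ⊗[R] S₁ := Algebra.TensorProduct.includeLeft
    let incR : S₁ →ₐ[R] S₀ ⊗[R] S₁ := Algebra.TensorProduct.includeRight
    obtain ⟨f', hf', hf'q⟩ := hex
    by_cases hcase : ∃ f'' ∈ F₀, f'' ∉ q
    · -- use the inductive cover
      let q₀ : Ideal S₀ := q'.comap incL
      haveI : q₀.IsPrime := Ideal.comap_isPrime _ _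
      have hq₀ : q₀.comap (algebraMap R S₀) = q.comap (algebraMap R S) := by
        rw [← hqq']
        show (q'.comap (incL : S₀ →+* S₀ ⊗[R] S₁)).comap (algebraMap R S₀) = _
        rw [Ideal.comap_comap, incL.comp_algebraMap]
      obtain ⟨g₀, hg₀, ⟨ψ⟩⟩ := H₀ q₀ q hq₀ hcase
      refine ⟨incL g₀, hg₀, ⟨(Localization.awayMapₐ incL g₀).comp ψ⟩⟩
    · -- then `f ∉ q`
      have hfq : f ∉ q := by
        rcases Finset.mem_insert.mp hf' with rfl | h
        · exact hf'q
        · exact absurd ⟨f', h, hf'q⟩ hcase
      let Sf := Localization.Away f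
      have hdisj : Disjoint (Submonoid.powers f : Set S) (q : Set S) := by
        rw [Set.disjoint_left]
        rintro _ ⟨k, rfl⟩ hk
        exact hfq (‹q.IsPrime›.mem_of_pow_mem k hk)
      let qf : Ideal Sf := q.map (algebraMap S Sf)
      haveI hqf : qf.IsPrime :=
        IsLocalization.isPrime_of_isPrime_disjoint (Submonoid.powers f) Sf q ‹q.IsPrime› hdisj
      have hqfq : qf.comap (algebraMap S Sf) = q :=
        IsLocalization.comap_map_of_isPrime_disjoint (Submonoid.powers f) Sf ‹q.IsPrime› hdisj
      let q₁ : Ideal S₁ := q'.comap incR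
      haveI : q₁.IsPrime := Ideal.comap_isPrime _ _
      have hq₁ : q₁.comap (algebraMap R S₁) = qf.comap (algebraMap R Sf) := by
        rw [IsScalarTower.algebraMap_eq R S Sf, ← Ideal.comap_comap, hqfq, ← hqq']
        show (q'.comap (incR : S₁ →+* S₀ ⊗[R] S₁)).comap (algebraMap R S₁) = _
        rw [Ideal.comap_comap, incR.comp_algebraMap]
      obtain ⟨g₁, hg₁, φ, -⟩ := exists_hom_away P a ha qf q₁ hq₁
      refine ⟨incR g₁, hg₁,
        ⟨((Localization.awayMapₐ incR g₁).comp φ).comp (IsScalarTower.toAlgHom R S Sf)⟩⟩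

/-- S9454. -/
theorem main_cover (R : Type u) [CommRing R] (S : Type u) [CommRing S] [Algebra R S]
    [Algebra.Etale R S] (hs : Function.Surjective (PrimeSpectrum.comap (algebraMap R S))) :
    ∃ (S' : Type u) (_ : CommRing S') (_ : Algebra R S'),
      Module.Finite R S' ∧ Algebra.FinitePresentation R S' ∧ Module.Flat R S' ∧
        Function.Surjective (PrimeSpectrum.comap (algebraMap R S')) ∧
        ∀ (q' : Ideal S') [q'.IsPrime], ∃ (g' : S') (_ : g' ∉ q'),
          Nonempty (S →ₐ[R] Localization.Away g') := by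
  classical
  -- the standard étale cover
  let U : Set S := {f | Algebra.IsStandardEtale R (Localization.Away f)}
  have hU : Ideal.span U = ⊤ := by
    by_contra hne
    obtain ⟨m, hm, hle⟩ := Ideal.exists_le_maximal _ hne
    haveI := hm.isPrime
    obtain ⟨f, hfm, hf⟩ := Algebra.IsEtaleAt.exists_isStandardEtale (R := R) m
    exact hfm (hle (Ideal.subset_span hf))
  obtain ⟨F, hFU, hF⟩ := (Ideal.span_eq_top_iff_finite U).mp hU
  obtain ⟨S', _, _, hfin, hfree, hff, H⟩ := exists_cover_finset R S F (fun f hf => hFU hf)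
  haveI := hfin; haveI := hfree; haveI := hff
  haveI : Module.FinitePresentation R S' := Module.finitePresentation_of_projective R S'
  refine ⟨S', inferInstance, inferInstance, hfin, inferInstance, inferInstance,
    PrimeSpectrum.comap_surjective_of_faithfullyFlat, ?_⟩
  intro q' _
  obtain ⟨⟨q, hq⟩, hqp⟩ := hs ⟨q'.comap (algebraMap R S'), inferInstance⟩
  have hqp' : q.comap (algebraMap R S) = q'.comap (algebraMap R S') := congr(($hqp).asIdeal)
  have hex : ∃ f ∈ F, f ∉ q := by
    by_contra hcon
    push Not at hcon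
    have : Ideal.span (F : Set S) ≤ q := Ideal.span_le.mpr (fun f hf => hcon f hf)
    rw [hF] at this
    exact hq.ne_top (top_le_iff.mp this)
  exact H q' q hqp'.symm hex

end Groth.Agent.Lib.helper19.SplitAlg
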