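import Mathlib
import Groth.Agent.S9459
import Groth.Agent.Lib.Helper12.StrictHenselizationIso
import Groth.Agent.Lib.Helper12.PtDim

set_option autoImplicit false
set_option linter.style.haveILetI false
universe u

namespace Groth.Agent.Lib.Helper19.StrictTensor

open IsLocalRing Hensel

/-- The maximal ideal of a strict henselization is generated by that of the base. -/
theorem map_maximalIdeal_of_isStrictHenselization (A S : Type u) [CommRing A] [IsLocalRing A]
    [CommRing S] [IsLocalRing S] [Algebra A S] [IsLocalHom (algebraMap A S)]
    [Hensel.IsStrictHenselization A S] :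
    (maximalIdeal A).map (algebraMap A S) = maximalIdeal S := by
  obtain ⟨e'⟩ := Groth.Agent.Lib.Helper12.StrictHenselization.nonempty_algEquiv (A := A) S
  let e := e'.symm
  refine le_antisymm (IsLocalRing.map_maximalIdeal_le _) ?_
  intro x hx
  have h1 : e.symm x ∈ maximalIdeal (Groth.Agent.Lib.Helper12.StrictHenselization A) := by
    rw [mem_maximalIdeal, mem_nonunits_iff] at hx ⊢
    intro hu
    apply hx
    have := hu.map e
    rwa [AlgEquiv.apply_symm_apply] at this
  rw [← Groth.Agent.Lib.Helper12.PtNbhd.Lim.map_maximalIdeal] at h1
  have h2 : e (e.symm x) ∈ ((maximalIdeal A).map (algebraMap A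
      (Groth.Agent.Lib.Helper12.StrictHenselization A))).map (e : _ →+* S) :=
    Ideal.mem_map_of_mem _ h1
  rw [AlgEquiv.apply_symm_apply, Ideal.map_map] at h2
  have h3 : (e : Groth.Agent.Lib.Helper12.StrictHenselization A →+* S).comp
      (algebraMap A (Groth.Agent.Lib.Helper12.StrictHenselization A)) = algebraMap A S := by
    ext a
    exact e.commutes a
  rwa [h3] at h2

theorem algebraMap_residueField_eq {R S : Type*} [CommRing R] [IsLocalRing R] [CommRing S]
    [IsLocalRing S] [Algebra R S] [IsLocalHom (algebraMap R S)] :
    algebraMap (ResidueField R) (ResidueField S) = ResidueField.map (algebraMap R S) := by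
  ext x
  obtain ⟨r, rfl⟩ := residue_surjective x
  rfl

end Groth.Agent.Lib.Helper19.StrictTensor
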