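import Mathlib
import Groth.Agent.Lib.helper19.StrictTensor1

set_option autoImplicit false
set_option linter.style.haveILetI false
set_option maxHeartbeats 1600000
universe u

namespace Groth.Agent.Lib.Helper19.StrictTensor

open IsLocalRing Hensel Groth.Agent.S9459

theorem key (R S : Type u) [CommRing R] [CommRing S] [Algebra R S] (p : Ideal R) [p.IsPrime]
    (q : Ideal S) [q.IsPrime] [q.LiesOver p]
    (Rh : Type u) [CommRing Rh] [IsLocalRing Rh] [Algebra (Localization.AtPrime p) Rh]
    [IsLocalHom (algebraMap (Localization.AtPrime p) Rh)]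
    [Hensel.IsStrictHenselization (Localization.AtPrime p) Rh] [Algebra R Rh]
    [IsScalarTower R (Localization.AtPrime p) Rh]
    (Sh : Type u) [CommRing Sh] [IsLocalRing Sh] [Algebra (Localization.AtPrime q) Sh]
    [IsLocalHom (algebraMap (Localization.AtPrime q) Sh)]
    [Hensel.IsStrictHenselization (Localization.AtPrime q) Sh] [Algebra S Sh]
    [IsScalarTower S (Localization.AtPrime q) Sh] [Algebra R Sh] [IsScalarTower R S Sh]
    [Algebra Rh Sh] [IsScalarTower R Rh Sh]
    (D : Type u) [CommRing D] (iL : Rh →+* D) (iR : S →+* D)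
    (hcomm : iL.comp (algebraMap R Rh) = iR.comp (algebraMap R S))
    (hepi : ∀ (X : Type u) [CommRing X] (a b : D →+* X),
      a.comp iL = b.comp iL → a.comp iR = b.comp iR → a = b)
    (φ : D →+* Sh) (hφL : φ.comp iL = algebraMap Rh Sh) (hφR : φ.comp iR = algebraMap S Sh)
    (Q : Ideal D) [Q.IsPrime] (hQ : Q = Ideal.comap φ (maximalIdeal Sh))
    (E : Type u) [CommRing E] [IsLocalRing E] [Algebra (Localization.AtPrime Q) E]
    [IsLocalHom (algebraMap (Localization.AtPrime Q) E)]
    [Hensel.IsStrictHenselization (Localization.AtPrime Q) E] :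
    ∃ e : E ≃+* Sh, ∀ d : D,
      e (algebraMap (Localization.AtPrime Q) E (algebraMap D (Localization.AtPrime Q) d)) = φ d := by
  haveI : HenselianLocalRing Sh := IsStrictHenselization.henselian (Localization.AtPrime q)
  haveI : HenselianLocalRing E := IsStrictHenselization.henselian (Localization.AtPrime Q)
  haveI : HenselianLocalRing Rh := IsStrictHenselization.henselian (Localization.AtPrime p)
  have hS : (maximalIdeal Sh).comap (algebraMap S Sh) = q := by
    rw [IsScalarTower.algebraMap_eq S (Localization.AtPrime q) Sh, ← Ideal.comap_comap,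
      IsLocalRing.maximalIdeal_comap]
    exact IsLocalization.AtPrime.under_maximalIdeal _ q
  have hqp : q.comap (algebraMap R S) = p := (Ideal.LiesOver.over (p := p) (P := q)).symm
  -- elementwise hypotheses
  have hφR' : ∀ s, φ (iR s) = algebraMap S Sh s := fun s => RingHom.congr_fun hφR s
  have hφL' : ∀ a, φ (iL a) = algebraMap Rh Sh a := fun a => RingHom.congr_fun hφL a
  have hcomm' : ∀ r, iL (algebraMap R Rh r) = iR (algebraMap R S r) :=
    fun r => RingHom.congr_fun hcomm r
  -- the map T → Sh
  obtain ⟨φT, hφT, hφTloc⟩ := exists_lift_local Q φ hQ.symm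
  haveI := hφTloc
  set aTE : Localization.AtPrime Q →+* E := algebraMap (Localization.AtPrime Q) E with haTE
  set aDT : D →+* Localization.AtPrime Q := algebraMap D (Localization.AtPrime Q) with haDT
  have hφT' : ∀ d, φT (aDT d) = φ d := fun d => RingHom.congr_fun hφT d
  -- the map S_q → T
  have hQR : (maximalIdeal (Localization.AtPrime Q)).comap (aDT.comp iR) = q := by
    rw [← Ideal.comap_comap, haDT]
    have : Ideal.comap (algebraMap D (Localization.AtPrime Q))
        (maximalIdeal (Localization.AtPrime Q)) = Q :=
      IsLocalization.AtPrime.under_maximalIdeal _ Q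
    rw [this, hQ, Ideal.comap_comap, hφR, hS]
  obtain ⟨ψ₀, hψ₀, hψ₀loc⟩ := exists_lift_local q (aDT.comp iR) hQR
  haveI := hψ₀loc
  have hψ₀' : ∀ s, ψ₀ (algebraMap S (Localization.AtPrime q) s) = aDT (iR s) :=
    fun s => RingHom.congr_fun hψ₀ s
  have hφTψ₀ : φT.comp ψ₀ = algebraMap (Localization.AtPrime q) Sh := by
    apply IsLocalization.ringHom_ext q.primeCompl
    ext s
    simp only [RingHom.comp_apply]
    rw [hψ₀', hφT', hφR', IsScalarTower.algebraMap_apply S (Localization.AtPrime q) Sh]
  have hφTψ₀' : ∀ x, φT (ψ₀ x) = algebraMap (Localization.AtPrime q) Sh x :=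
    fun x => RingHom.congr_fun hφTψ₀ x
  -- residue fields
  letI algTSh : Algebra (ResidueField (Localization.AtPrime Q)) (ResidueField Sh) :=
    (ResidueField.map φT).toAlgebra
  letI algST : Algebra (ResidueField (Localization.AtPrime q))
      (ResidueField (Localization.AtPrime Q)) := (ResidueField.map ψ₀).toAlgebra
  haveI : IsScalarTower (ResidueField (Localization.AtPrime q))
      (ResidueField (Localization.AtPrime Q)) (ResidueField Sh) := by
    refine IsScalarTower.of_algebraMap_eq fun x => ?_
    obtain ⟨s, rfl⟩ := residue_surjective x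
    show residue Sh (algebraMap (Localization.AtPrime q) Sh s) =
      ResidueField.map φT (ResidueField.map ψ₀ (residue _ s))
    rw [ResidueField.map_residue, ResidueField.map_residue, hφTψ₀']
  haveI : IsSepClosure (ResidueField (Localization.AtPrime q)) (ResidueField Sh) :=
    IsStrictHenselization.isSepClosure
  haveI : IsSepClosed (ResidueField Sh) :=
    IsSepClosure.sep_closed (ResidueField (Localization.AtPrime q))
  haveI : Algebra.IsSeparable (ResidueField (Localization.AtPrime Q)) (ResidueField Sh) :=
    Algebra.isSeparable_tower_top_of_isSeparable (ResidueField (Localization.AtPrime q))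
      (ResidueField (Localization.AtPrime Q)) (ResidueField Sh)
  haveI : IsSepClosure (ResidueField (Localization.AtPrime Q)) (ResidueField Sh) :=
    ⟨inferInstance, inferInstance⟩
  haveI : IsSepClosure (ResidueField (Localization.AtPrime Q)) (ResidueField E) :=
    IsStrictHenselization.isSepClosure
  let τ : ResidueField E ≃ₐ[ResidueField (Localization.AtPrime Q)] ResidueField Sh :=
    IsSepClosure.equiv _ _ _
  have hτ : (τ : ResidueField E →+* ResidueField Sh).comp
      (ResidueField.map (algebraMap (Localization.AtPrime Q) E)) = ResidueField.map φT := by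
    refine RingHom.ext fun x => ?_
    rw [RingHom.comp_apply, ← algebraMap_residueField_eq]
    exact τ.commutes x
  -- g : E → Sh
  obtain ⟨g, ⟨hg1, hg2⟩, -⟩ := IsStrictHenselization.universal (R := Localization.AtPrime Q)
    (S := E) Sh φT (τ : ResidueField E →+* ResidueField Sh) hτ
  have hg1' : ∀ t, g (aTE t) = φT t := fun t => RingHom.congr_fun hg1 t
  have hg2' : ∀ x, residue Sh (g x) = τ (residue E x) := hg2
  -- h : Sh → E
  let ψ : Localization.AtPrime q →+* E := aTE.comp ψ₀
  haveI : IsLocalHom ψ := RingHom.isLocalHom_comp _ _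
  have hτ' : (τ.symm : ResidueField Sh →+* ResidueField E).comp
      (ResidueField.map (algebraMap (Localization.AtPrime q) Sh)) = ResidueField.map ψ := by
    refine RingHom.ext fun x => ?_
    obtain ⟨s, rfl⟩ := residue_surjective x
    rw [RingHom.comp_apply, ResidueField.map_residue, ResidueField.map_residue]
    show τ.symm (residue Sh (algebraMap (Localization.AtPrime q) Sh s)) = residue E (ψ s)
    rw [AlgEquiv.symm_apply_eq, ← hg2']
    show _ = residue Sh (g (aTE (ψ₀ s)))
    rw [hg1', hφTψ₀']
  obtain ⟨h, ⟨hh1, hh2⟩, -⟩ := IsStrictHenselization.universal (R := Localization.AtPrime q)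
    (S := Sh) E ψ (τ.symm : ResidueField Sh →+* ResidueField E) hτ'
  have hh1' : ∀ x, h (algebraMap (Localization.AtPrime q) Sh x) = ψ x :=
    fun x => RingHom.congr_fun hh1 x
  have hh2' : ∀ x, residue E (h x) = τ.symm (residue Sh x) := hh2
  -- g ∘ h = id
  have hgh : g.comp h = RingHom.id Sh := by
    have hid : (RingHom.id (ResidueField Sh)).comp
        (ResidueField.map (algebraMap (Localization.AtPrime q) Sh)) =
        ResidueField.map (algebraMap (Localization.AtPrime q) Sh) := RingHom.id_comp _
    refine (IsStrictHenselization.universal (R := Localization.AtPrime q) (S := Sh) Sh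
      (algebraMap (Localization.AtPrime q) Sh) (RingHom.id _) hid).unique ⟨?_, ?_⟩ ⟨?_, ?_⟩
    · ext x
      simp only [RingHom.comp_apply]
      rw [hh1']
      show g (aTE (ψ₀ x)) = _
      rw [hg1', hφTψ₀']
    · intro x
      rw [RingHom.comp_apply, hg2', hh2', AlgEquiv.apply_symm_apply]
      rfl
    · exact RingHom.id_comp _
    · intro x; rfl
  -- h ∘ φ = fDE on S
  have hS' : ∀ s, h (φ (iR s)) = aTE (aDT (iR s)) := by
    intro s
    rw [hφR', IsScalarTower.algebraMap_apply S (Localization.AtPrime q) Sh, hh1']
    show aTE (ψ₀ _) = _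
    rw [hψ₀']
  -- the composite D → E
  set fDE : D →+* E := aTE.comp aDT with hfDE
  have hDE : (maximalIdeal E).comap fDE = Q := by
    rw [hfDE, ← Ideal.comap_comap, IsLocalRing.maximalIdeal_comap]
    exact IsLocalization.AtPrime.under_maximalIdeal _ Q
  have hSE : (maximalIdeal E).comap (fDE.comp iR) = q := by
    rw [← Ideal.comap_comap, hDE, hQ, Ideal.comap_comap, hφR, hS]
  -- the two maps Rh → E agree
  let γ₂ : Rh →+* E := fDE.comp iL
  let f : Localization.AtPrime p →+* E := γ₂.comp (algebraMap (Localization.AtPrime p) Rh)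
  have hfR : f.comp (algebraMap R (Localization.AtPrime p)) =
      (fDE.comp iR).comp (algebraMap R S) := by
    ext r
    show fDE (iL (algebraMap (Localization.AtPrime p) Rh (algebraMap R _ r))) =
      fDE (iR (algebraMap R S r))
    rw [← IsScalarTower.algebraMap_apply R (Localization.AtPrime p) Rh, hcomm']
  haveI hfloc : IsLocalHom f := by
    apply isLocalHom_of_comap p
    rw [hfR, ← Ideal.comap_comap, hSE, hqp]
  haveI hγ₂loc : IsLocalHom γ₂ := by
    refine ⟨fun a ha => ?_⟩
    by_contra hnu
    have h1 : a ∈ maximalIdeal Rh := hnu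
    rw [← map_maximalIdeal_of_isStrictHenselization (Localization.AtPrime p) Rh] at h1
    have h2 : γ₂ a ∈ ((maximalIdeal (Localization.AtPrime p)).map
        (algebraMap (Localization.AtPrime p) Rh)).map γ₂ := Ideal.mem_map_of_mem _ h1
    rw [Ideal.map_map] at h2
    have h3 : γ₂ a ∈ maximalIdeal E := IsLocalRing.map_maximalIdeal_le f h2
    exact ((mem_maximalIdeal _).mp h3) ha
  have hτ'' : (ResidueField.map γ₂).comp
      (ResidueField.map (algebraMap (Localization.AtPrime p) Rh)) = ResidueField.map f :=
    (ResidueField.map_comp _ _).symm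
  have hR' : (h.comp φ).comp iL = γ₂ := by
    refine (IsStrictHenselization.universal (R := Localization.AtPrime p) (S := Rh) E f
      (ResidueField.map γ₂) hτ'').unique ⟨?_, ?_⟩ ⟨rfl, fun x => ?_⟩
    · apply IsLocalization.ringHom_ext p.primeCompl
      rw [hfR]
      ext r
      show h (φ (iL (algebraMap (Localization.AtPrime p) Rh (algebraMap R _ r)))) =
        fDE (iR (algebraMap R S r))
      rw [← IsScalarTower.algebraMap_apply R (Localization.AtPrime p) Rh, hcomm', hS']
      rfl
    · intro a
      show residue E (h (φ (iL a))) = ResidueField.map γ₂ (residue Rh a)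
      rw [ResidueField.map_residue, hh2', AlgEquiv.symm_apply_eq, ← hg2']
      show _ = residue Sh (g (aTE (aDT (iL a))))
      rw [hg1', hφT']
    · rw [ResidueField.map_residue]
  have hhφ : h.comp φ = fDE := hepi E _ _ hR' (RingHom.ext fun s => hS' s)
  have hhφ' : ∀ d, h (φ d) = aTE (aDT d) := fun d => RingHom.congr_fun hhφ d
  -- h ∘ g = id
  have hhg : h.comp g = RingHom.id E := by
    have hid : (RingHom.id (ResidueField E)).comp
        (ResidueField.map (algebraMap (Localization.AtPrime Q) E)) =
        ResidueField.map (algebraMap (Localization.AtPrime Q) E) := RingHom.id_comp _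
    refine (IsStrictHenselization.universal (R := Localization.AtPrime Q) (S := E) E
      aTE (RingHom.id _) hid).unique ⟨?_, ?_⟩ ⟨?_, ?_⟩
    · apply IsLocalization.ringHom_ext Q.primeCompl
      ext d
      show h (g (aTE (aDT d))) = aTE (aDT d)
      rw [hg1', hφT', hhφ']
    · intro x
      rw [RingHom.comp_apply, hh2', hg2', AlgEquiv.symm_apply_apply]
      rfl
    · exact RingHom.id_comp _
    · intro x; rfl
  refine ⟨RingEquiv.ofRingHom g h hgh hhg, fun d => ?_⟩
  show g (aTE (aDT d)) = φ d
  rw [hg1', hφT']

end Groth.Agent.Lib.Helper19.StrictTensor
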