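import Mathlib
import Groth.Prelude.Def_SymTen
import Groth.Prelude.Def_PolLaw2
import Groth.Prelude.Def_W4c5normfunctorschNorm

/-! Top exterior power as a quotient of the tensor power: the determinant functional. -/

set_option autoImplicit false
universe u
open scoped TensorProduct

namespace Groth.Agent.Lib.helper19.SymTenAlt

open Module

variable {R : Type u} [CommRing R] {M : Type u} [AddCommGroup M] [Module R M] {d : ℕ}

/-- The determinant functional on the tensor power, w.r.t. a basis. -/
noncomputable def omega (b : Basis (Fin d) R M) : (⨂[R] _ : Fin d, M) →ₗ[R] R :=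
  PiTensorProduct.lift b.det.toMultilinearMap

@[simp]
theorem omega_tprod (b : Basis (Fin d) R M) (m : Fin d → M) :
    omega b (PiTensorProduct.tprod R m) = b.det m := by
  simp [omega]

theorem omega_basis (b : Basis (Fin d) R M) :
    omega b (PiTensorProduct.tprod R (fun i => b i)) = 1 := by
  rw [omega_tprod]; exact b.det_self

theorem omega_altSpan (b : Basis (Fin d) R M) {x : ⨂[R] _ : Fin d, M}
    (hx : x ∈ SymTen.altSpan R M d) : omega b x = 0 := by
  unfold SymTen.altSpan at hx
  induction hx using Submodule.span_induction with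
  | mem x hx =>
    obtain ⟨p, i, j, hij, hp, rfl⟩ := hx
    rw [omega_tprod]
    exact b.det.map_eq_zero_of_eq p hp hij
  | zero => simp
  | add x y _ _ hx hy => simp [hx, hy]
  | smul a x _ hx => simp [hx]

/-- The class of `tprod` in the quotient by `altSpan`, as an alternating map. -/
noncomputable def mkAlt (R : Type u) [CommRing R] (M : Type u) [AddCommGroup M] [Module R M] (d : ℕ) :
    M [⋀^Fin d]→ₗ[R] ((⨂[R] _ : Fin d, M) ⧸ SymTen.altSpan R M d) :=
  { (SymTen.altSpan R M d).mkQ.compMultilinearMap (PiTensorProduct.tprod R) with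
    map_eq_zero_of_eq' := by
      intro v i j hv hij
      show (SymTen.altSpan R M d).mkQ (PiTensorProduct.tprod R v) = 0
      rw [Submodule.mkQ_apply, Submodule.Quotient.mk_eq_zero]
      exact Submodule.subset_span ⟨v, i, j, hij, hv, rfl⟩ }

theorem mkAlt_apply (v : Fin d → M) :
    mkAlt R M d v = Submodule.Quotient.mk (PiTensorProduct.tprod R v) := rfl

theorem mkAlt_eq (b : Basis (Fin d) R M) :
    mkAlt R M d = (b.det).smulRight (mkAlt R M d (fun i => b i)) := by
  classical
  refine Basis.ext_alternating b fun v hv => ?_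
  have hbij : Function.Bijective v := Finite.injective_iff_bijective.mp hv
  let σ : Equiv.Perm (Fin d) := Equiv.ofBijective v hbij
  have hσ : (fun i => b (v i)) = (fun i => b i) ∘ σ := rfl
  rw [hσ, AlternatingMap.map_perm, AlternatingMap.map_perm]
  simp [AlternatingMap.smulRight_apply, b.det_self]

/-- Every tensor is congruent to `omega x • E` modulo `altSpan`. -/
theorem sub_omega_smul_mem (b : Basis (Fin d) R M) (x : ⨂[R] _ : Fin d, M) :
    x - omega b x • PiTensorProduct.tprod R (fun i => b i) ∈ SymTen.altSpan R M d := by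
  induction x using PiTensorProduct.induction_on with
  | smul_tprod r m =>
    have h := congrArg (fun f => f m) (mkAlt_eq (R := R) (M := M) (d := d) b)
    simp only [AlternatingMap.smulRight_apply, mkAlt_apply] at h
    rw [← Submodule.Quotient.mk_smul, ← sub_eq_zero, ← Submodule.Quotient.mk_sub,
      Submodule.Quotient.mk_eq_zero] at h
    have h2 := Submodule.smul_mem _ r h
    convert h2 using 1
    simp [smul_sub, smul_smul]
  | add x y hx hy =>
    have := Submodule.add_mem _ hx hy
    convert this using 1
    simp only [map_add, add_smul]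
    abel

theorem mem_altSpan_iff (b : Basis (Fin d) R M) (x : ⨂[R] _ : Fin d, M) :
    x ∈ SymTen.altSpan R M d ↔ omega b x = 0 := by
  refine ⟨omega_altSpan b, fun h => ?_⟩
  have := sub_omega_smul_mem b x
  rwa [h, zero_smul, sub_zero] at this

/-- `omega` kills swap-invariant tensors. -/
theorem omega_eq_zero_of_swap (b : Basis (Fin d) R M) {i j : Fin d} (hij : i ≠ j)
    (x : ⨂[R] _ : Fin d, M)
    (hx : PiTensorProduct.reindex R (fun _ : Fin d => M) (Equiv.swap i j) x = x) :
    omega b x = 0 := by
  classical
  let B : Basis (Fin d → Fin d) R (⨂[R] _ : Fin d, M) := Basis.piTensorProduct (fun _ => b)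
  let τ : Equiv.Perm (Fin d) := Equiv.swap i j
  have hB : ∀ c : Fin d → Fin d, B c = PiTensorProduct.tprod R (fun k => b (c k)) := fun c => by
    simp [B]
  have hτB : ∀ c : Fin d → Fin d,
      PiTensorProduct.reindex R (fun _ : Fin d => M) τ (B c) = B (c ∘ τ) := by
    intro c
    rw [hB, hB, PiTensorProduct.reindex_tprod]
    rfl
  have hrepr : ∀ (y : ⨂[R] _ : Fin d, M) (c : Fin d → Fin d),
      B.repr (PiTensorProduct.reindex R (fun _ : Fin d => M) τ y) c = B.repr y (c ∘ τ) := by
    intro y c
    have : (Finsupp.lapply c ∘ₗ B.repr.toLinearMap ∘ₗ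
        (PiTensorProduct.reindex R (fun _ : Fin d => M) τ).toLinearMap) =
        (Finsupp.lapply (c ∘ τ) ∘ₗ B.repr.toLinearMap) := by
      refine B.ext fun c' => ?_
      simp only [LinearMap.comp_apply, LinearEquiv.coe_coe, hτB, Basis.repr_self,
        Finsupp.lapply_apply, Finsupp.single_apply]
      have : (c' ∘ τ = c) ↔ (c' = c ∘ τ) := by
        constructor
        · rintro rfl; funext k; simp [τ]
        · rintro rfl; funext k; simp [τ]
      simp only [this]
    exact congrArg (fun f => f y) this
  have hcoef : ∀ c : Fin d → Fin d, B.repr x (c ∘ τ) = B.repr x c := by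
    intro c
    rw [← hrepr, hx]
  have hexp : omega b x = ∑ c : Fin d → Fin d, B.repr x c * b.det (fun k => b (c k)) := by
    conv_lhs => rw [← B.sum_repr x]
    rw [map_sum]
    refine Finset.sum_congr rfl fun c _ => ?_
    rw [map_smul, hB, omega_tprod, smul_eq_mul]
  rw [hexp]
  refine Finset.sum_involution (fun c _ => c ∘ τ) ?_ ?_ (fun _ _ => Finset.mem_univ _) ?_
  · intro c _
    have : (fun k => b ((c ∘ τ) k)) = (fun k => b (c k)) ∘ τ := rfl
    rw [hcoef, this, AlternatingMap.map_perm]
    simp [τ, Equiv.Perm.sign_swap hij]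
  · intro c _ hne hc
    apply hne
    have hcij : c i = c j := by
      have := congrFun hc i
      simpa [τ] using this.symm
    rw [b.det.map_eq_zero_of_eq _ (by simp [hcij]) hij, mul_zero]
  · intro c _
    funext k
    simp [τ]

end Groth.Agent.Lib.helper19.SymTenAlt
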