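import Groth.Agent.Lib.helper19.SymTenLaw

/-! The action of `φ c` on the top exterior power is the norm: law computation and conclusion. -/

set_option autoImplicit false
universe u
open scoped TensorProduct

namespace Groth.Agent.Lib.helper19.SymTenFinal

open Module Groth.Agent.Lib.helper19.SymTenAlt Groth.Agent.Lib.helper19.SymTenNorm
  Groth.Agent.Lib.helper19.SymTenMain Groth.Agent.Lib.helper19.SymTenLaw

variable {R : Type u} [CommRing R] {R' : Type u} [CommRing R'] [Algebra R R'] {d : ℕ}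
variable {C : Type u} [CommRing C] [Algebra R C]

theorem postcomp_psi [Module.Free R R'] [Module.Finite R R'] (hd : Module.finrank R R' = d)
    (b : Basis (Fin d) R R') (γ : PolLaw.MulLaw R R' C d)
    (φ : C →ₐ[R] (⨂[R] _ : Fin d, R')) (hφ : PolLaw.MulLaw.postcomp φ γ = SymTen.tpowLaw R R' d)
    (hsym : ∀ (σ : Equiv.Perm (Fin d)) (c : C),
      PiTensorProduct.reindex R (fun _ : Fin d => R') σ (φ c) = φ c) :
    PolLaw.postcomp (psi b φ hsym).toLinearMap γ.law = (PolLaw.normLaw R R' d hd).law := by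
  apply law_ext_generic b
  have h := congrArg (fun F => F.law.toFun' (MvPolynomial (Fin d) R)
    (∑ i, (MvPolynomial.X i : MvPolynomial (Fin d) R) ⊗ₜ[R] b i)) hφ
  change φ.toLinearMap.lTensor (MvPolynomial (Fin d) R) (γ.law.toFun' (MvPolynomial (Fin d) R) _) = _ at h
  change (psi b φ hsym).toLinearMap.lTensor (MvPolynomial (Fin d) R)
    (γ.law.toFun' (MvPolynomial (Fin d) R) _) = _
  rw [psi_toLinearMap, psiLin, LinearMap.lTensor_comp, LinearMap.comp_apply, h, tpowLaw_sum,
    PolLaw.normLaw_apply, norm_generic, map_sum, TensorProduct.sum_tmul]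
  refine Finset.sum_congr rfl fun c _ => ?_
  rw [LinearMap.lTensor_tmul, LinearMap.comp_apply, LinearMap.mulRight_apply,
    PiTensorProduct.tprod_mul_tprod, omega_tprod, TensorProduct.smul_tmul, smul_eq_mul, mul_one]
  rfl

theorem main [Module.Free R R'] [Module.Finite R R'] (hd : Module.finrank R R' = d)
    (γ : PolLaw.MulLaw R R' C d) (hγ : PolLaw.IsGammaD γ)
    (φ : C →ₐ[R] (⨂[R] _ : Fin d, R')) (hφ : PolLaw.MulLaw.postcomp φ γ = SymTen.tpowLaw R R' d)
    (π : C →ₐ[R] R) (hπ : PolLaw.MulLaw.postcomp π γ = PolLaw.normLaw R R' d hd)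
    (c : C) (x : ⨂[R] _ : Fin d, R') :
    SymTen.tpowAct R R' R' d (φ c) x - π c • x ∈ SymTen.altSpan R R' d := by
  rcases subsingleton_or_nontrivial R with hR | hR
  · have : Subsingleton (⨂[R] _ : Fin d, R') := Module.subsingleton R _
    rw [Subsingleton.elim (SymTen.tpowAct R R' R' d (φ c) x - π c • x) 0]
    exact zero_mem _
  let b : Basis (Fin d) R R' := Module.finBasisOfFinrankEq R R' hd
  have hsym := phi_sym γ hγ φ hφ
  obtain ⟨f, _, huniq⟩ := hγ R (PolLaw.normLaw R R' d hd)
  have h1 : π = f := huniq π (congrArg PolLaw.MulLaw.law hπ)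
  have h2 : psi b φ hsym = f := huniq _ (postcomp_psi hd b γ φ hφ hsym)
  have hπc : π c = omega b (φ c * PiTensorProduct.tprod R (fun i => b i)) := by
    rw [h1, ← h2]; rfl
  rw [mem_altSpan_iff b, tpowAct_eq_mul, map_sub, map_smul, smul_eq_mul,
    omega_mul_sym b (φ c) (fun σ => hsym σ c), hπc, sub_self]

end Groth.Agent.Lib.helper19.SymTenFinal
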