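import Groth.Agent.Lib.helper19.SymTenMain

/-! The norm of the generic element and the law computation. -/

set_option autoImplicit false
universe u
open scoped TensorProduct

namespace Groth.Agent.Lib.helper19.SymTenLaw

open Module Groth.Agent.Lib.helper19.SymTenAlt Groth.Agent.Lib.helper19.SymTenNorm
  Groth.Agent.Lib.helper19.SymTenMain

variable {R : Type u} [CommRing R] {R' : Type u} [CommRing R'] [Algebra R R'] {d : ℕ}
variable {C : Type u} [CommRing C] [Algebra R C]

theorem det_structure (b : Basis (Fin d) R R') (c : Fin d → Fin d) :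
    b.det (fun j => b (c j) * b j) =
      Matrix.det (Matrix.of fun j k => b.repr (b (c j) * b j) k) := by
  classical
  rw [Basis.det_apply, ← Matrix.det_transpose]
  congr 1

theorem norm_generic (b : Basis (Fin d) R R') :
    Algebra.norm (MvPolynomial (Fin d) R)
        (∑ i, (MvPolynomial.X i : MvPolynomial (Fin d) R) ⊗ₜ[R] b i) =
      ∑ c : Fin d → Fin d, b.det (fun j => b (c j) * b j) •
        ∏ j, (MvPolynomial.X (c j) : MvPolynomial (Fin d) R) := by
  classical
  rw [Algebra.norm_eq_matrix_det (Algebra.TensorProduct.basis (MvPolynomial (Fin d) R) b)]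
  have hM : Algebra.leftMulMatrix (Algebra.TensorProduct.basis (MvPolynomial (Fin d) R) b)
      (∑ i, (MvPolynomial.X i : MvPolynomial (Fin d) R) ⊗ₜ[R] b i) =
      (Matrix.of fun j k => ∑ i, (MvPolynomial.X i : MvPolynomial (Fin d) R) *
        algebraMap R (MvPolynomial (Fin d) R) (b.repr (b i * b j) k)).transpose := by
    refine Matrix.ext fun k j => ?_
    rw [Algebra.leftMulMatrix_eq_repr_mul, Algebra.TensorProduct.basis_apply, Finset.sum_mul,
      map_sum (Algebra.TensorProduct.basis (MvPolynomial (Fin d) R) b).repr, Finsupp.finset_sum_apply]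
    simp only [Matrix.transpose_apply, Matrix.of_apply]
    refine Finset.sum_congr rfl fun i _ => ?_
    rw [Algebra.TensorProduct.tmul_mul_tmul, mul_one, Algebra.TensorProduct.basis_repr_tmul]
    simp [Finsupp.mapRange_apply]
  rw [hM, Matrix.det_transpose]
  have hrow : (Matrix.of fun j k => ∑ i, (MvPolynomial.X i : MvPolynomial (Fin d) R) *
        algebraMap R (MvPolynomial (Fin d) R) (b.repr (b i * b j) k)) =
      fun j => ∑ i, (MvPolynomial.X i : MvPolynomial (Fin d) R) •
        (fun k => algebraMap R (MvPolynomial (Fin d) R) (b.repr (b i * b j) k)) := by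
    funext j k
    simp [Finset.sum_apply]
  have hdet : ∀ M : Matrix (Fin d) (Fin d) (MvPolynomial (Fin d) R),
      M.det = (Matrix.detRowAlternating (R := MvPolynomial (Fin d) R)
        (n := Fin d)).toMultilinearMap M := fun M => rfl
  rw [hdet, hrow, MultilinearMap.map_sum]
  refine Finset.sum_congr rfl fun c _ => ?_
  rw [MultilinearMap.map_smul_univ, det_structure, smul_eq_mul, Algebra.smul_def, mul_comm]
  congr 1
  rw [RingHom.map_det]
  rfl

end Groth.Agent.Lib.helper19.SymTenLaw
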