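import Groth.Agent.Lib.helper19.SymTenPolar

/-! The linearised norm `TS^n_A(R) → A` when `n!` is invertible. -/

set_option autoImplicit false
universe u
open scoped TensorProduct

namespace Groth.Agent.Lib.helper19.SymTenLinNorm

open Module Finset Groth.Agent.Lib.helper19.SymTenAlt Groth.Agent.Lib.helper19.SymTenNorm
  Groth.Agent.Lib.helper19.SymTenMain Groth.Agent.Lib.helper19.SymTenPolar

variable {A : Type u} [CommRing A] {R : Type u} [CommRing R] [Algebra A R] {n : ℕ}

theorem sum_reindex_mem (x : ⨂[A] _ : Fin n, R) :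
    ∑ σ : Equiv.Perm (Fin n), PiTensorProduct.reindex A (fun _ : Fin n => R) σ x ∈
      Submodule.span A (Set.range fun r : R => PiTensorProduct.tprod A (fun _ : Fin n => r)) := by
  classical
  induction x using PiTensorProduct.induction_on with
  | smul_tprod a m =>
    simp only [map_smul, PiTensorProduct.reindex_tprod]
    rw [← Finset.smul_sum]
    apply Submodule.smul_mem
    have h1 : ∑ σ : Equiv.Perm (Fin n), PiTensorProduct.tprod A (fun k => m (σ.symm k)) =
        ∑ σ : Equiv.Perm (Fin n), PiTensorProduct.tprod A (fun k => m (σ k)) :=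
      Fintype.sum_equiv (Equiv.inv (Equiv.Perm (Fin n))) _ _ (fun σ => rfl)
    rw [h1, polarization (PiTensorProduct.tprod A) m]
    refine Submodule.sum_mem _ fun S _ => ?_
    refine zsmul_mem (Submodule.subset_span ?_) _
    exact ⟨_, rfl⟩
  | add x y hx hy =>
    simp only [map_add, Finset.sum_add_distrib]
    exact Submodule.add_mem _ hx hy

theorem span_tpow_eq_top (hfact : IsUnit ((Nat.factorial n : ℕ) : A)) :
    Submodule.span A (Set.range fun r : R => (SymTen.tpow A R n r : SymTen.TS A R n)) = ⊤ := by
  classical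
  rw [eq_top_iff]
  rintro z -
  obtain ⟨u, hu⟩ := hfact.exists_left_inv
  have h1 : ∑ σ : Equiv.Perm (Fin n), PiTensorProduct.reindex A (fun _ : Fin n => R) σ z.1 =
      ((Nat.factorial n : ℕ) : A) • z.1 := by
    rw [Finset.sum_congr rfl (fun σ _ => z.2 σ), Finset.sum_const, Finset.card_univ,
      Fintype.card_perm, Fintype.card_fin, Nat.cast_smul_eq_nsmul]
  have h2 : z.1 ∈ Submodule.span A
      (Set.range fun r : R => PiTensorProduct.tprod A (fun _ : Fin n => r)) := by
    have := Submodule.smul_mem _ u (sum_reindex_mem (A := A) (R := R) z.1)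
    rwa [h1, smul_smul, hu, one_smul] at this
  have h3 : Submodule.span A (Set.range fun r : R => PiTensorProduct.tprod A (fun _ : Fin n => r)) =
      Submodule.map (SymTen.TS A R n).val.toLinearMap
        (Submodule.span A (Set.range fun r : R => (SymTen.tpow A R n r : SymTen.TS A R n))) := by
    rw [Submodule.map_span, ← Set.range_comp]
    rfl
  rw [h3] at h2
  obtain ⟨z', hz', hzz⟩ := h2
  have : z' = z := Subtype.ext hzz
  rwa [this] at hz'

theorem det_mul_eq_norm (b : Basis (Fin n) A R) (r : R) :
    b.det (fun i => r * b i) = Algebra.norm A r := by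
  classical
  rw [Algebra.norm_eq_matrix_det b, Basis.det_apply]
  congr 1
  ext i j
  rw [Algebra.leftMulMatrix_eq_repr_mul, Basis.toMatrix_apply]

theorem main [Module.Free A R] [Module.Finite A R] (hn : Module.finrank A R = n)
    (hfact : IsUnit ((Nat.factorial n : ℕ) : A)) :
    ∃! φ : SymTen.TS A R n →ₐ[A] A, ∀ r : R, φ (SymTen.tpow A R n r) = Algebra.norm A r := by
  have huniq : ∀ φ₁ φ₂ : SymTen.TS A R n →ₐ[A] A,
      (∀ r : R, φ₁ (SymTen.tpow A R n r) = Algebra.norm A r) →
      (∀ r : R, φ₂ (SymTen.tpow A R n r) = Algebra.norm A r) → φ₁ = φ₂ := by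
    intro φ₁ φ₂ h₁ h₂
    have : φ₁.toLinearMap = φ₂.toLinearMap := by
      apply LinearMap.ext_on (span_tpow_eq_top (A := A) (R := R) (n := n) hfact)
      rintro _ ⟨r, rfl⟩
      simp only [AlgHom.toLinearMap_apply]
      rw [h₁, h₂]
    exact AlgHom.ext fun z => congrArg (fun f => f z) this
  rcases subsingleton_or_nontrivial A with hA | hA
  · have hT : Subsingleton (SymTen.TS A R n) := Module.subsingleton A _
    let φ : SymTen.TS A R n →ₐ[A] A :=
      { toFun := fun _ => 0
        map_one' := Subsingleton.elim _ _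
        map_mul' := fun _ _ => Subsingleton.elim _ _
        map_zero' := rfl
        map_add' := fun _ _ => Subsingleton.elim _ _
        commutes' := fun _ => Subsingleton.elim _ _ }
    exact ⟨φ, fun r => Subsingleton.elim _ _, fun ψ _ => AlgHom.ext fun z => Subsingleton.elim _ _⟩
  let b : Basis (Fin n) A R := Module.finBasisOfFinrankEq A R hn
  have hsym : ∀ (σ : Equiv.Perm (Fin n)) (c : SymTen.TS A R n),
      PiTensorProduct.reindex A (fun _ : Fin n => R) σ ((SymTen.TS A R n).val c) =
        (SymTen.TS A R n).val c := fun σ c => c.2 σ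
  have hφ : ∀ r : R, psi b (SymTen.TS A R n).val hsym (SymTen.tpow A R n r) = Algebra.norm A r := by
    intro r
    rw [psi_apply]
    show omega b (PiTensorProduct.tprod A (fun _ : Fin n => r) *
      PiTensorProduct.tprod A (fun i => b i)) = _
    rw [PiTensorProduct.tprod_mul_tprod, omega_tprod]
    exact det_mul_eq_norm b r
  exact ⟨psi b (SymTen.TS A R n).val hsym, hφ, fun ψ hψ => huniq _ _ hψ hφ⟩

end Groth.Agent.Lib.helper19.SymTenLinNorm
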