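import Groth.Agent.Lib.helper19.SymTenNorm

/-! Symmetric tensors act on the top exterior power through the norm: main part. -/

set_option autoImplicit false
universe u
open scoped TensorProduct

namespace Groth.Agent.Lib.helper19.SymTenMain

open Module Groth.Agent.Lib.helper19.SymTenAlt Groth.Agent.Lib.helper19.SymTenNorm

variable {R : Type u} [CommRing R] {R' : Type u} [CommRing R'] [Algebra R R'] {d : ℕ}
variable {C : Type u} [CommRing C] [Algebra R C]

/-- `φ` lands in the symmetric tensors. -/
theorem phi_sym (γ : PolLaw.MulLaw R R' C d) (hγ : PolLaw.IsGammaD γ)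
    (φ : C →ₐ[R] (⨂[R] _ : Fin d, R')) (hφ : PolLaw.MulLaw.postcomp φ γ = SymTen.tpowLaw R R' d)
    (σ : Equiv.Perm (Fin d)) (c : C) :
    PiTensorProduct.reindex R (fun _ : Fin d => R') σ (φ c) = φ c := by
  obtain ⟨f, _, huniq⟩ := hγ _ (SymTen.tpowLaw R R' d)
  have h1 : φ = f := huniq φ (congrArg PolLaw.MulLaw.law hφ)
  have h2 : (SymTen.perm R R' d σ).comp φ = f := by
    apply huniq
    apply PolynomialLaw.ext
    funext S _ _ x
    have h := congrArg (fun F => F.law.toFun' S x) hφ
    change φ.toLinearMap.lTensor S (γ.law.toFun' S x) = _ at h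
    change ((SymTen.perm R R' d σ).comp φ).toLinearMap.lTensor S (γ.law.toFun' S x) = _
    have hc : ((SymTen.perm R R' d σ).comp φ).toLinearMap =
        (SymTen.perm R R' d σ).toLinearMap ∘ₗ φ.toLinearMap := rfl
    rw [hc, LinearMap.lTensor_comp, LinearMap.comp_apply, h, SymTen.tpowLaw,
      PolLaw.MulLaw.prodMap_toFun', PolLaw.lTensor_algHom_apply, map_prod]
    simp only [← AlgHom.comp_apply, ← Algebra.TensorProduct.map_comp, AlgHom.comp_id,
      perm_comp_single]
    exact Equiv.prod_comp σ (fun j => Algebra.TensorProduct.map (AlgHom.id S S)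
      (PiTensorProduct.singleAlgHom (A := fun _ : Fin d => R') j) x)
  have h3 : SymTen.perm R R' d σ (φ c) = φ c := by
    have := congrArg (fun g => g c) (h2.trans h1.symm)
    simpa using this
  rw [← SymTen.perm_apply]; exact h3

theorem omega_mul_altSpan (b : Basis (Fin d) R R') (z : ⨂[R] _ : Fin d, R')
    (hz : ∀ σ : Equiv.Perm (Fin d), PiTensorProduct.reindex R (fun _ : Fin d => R') σ z = z)
    {y : ⨂[R] _ : Fin d, R'} (hy : y ∈ SymTen.altSpan R R' d) : omega b (z * y) = 0 := by
  unfold SymTen.altSpan at hy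
  induction hy using Submodule.span_induction with
  | mem y hy =>
    obtain ⟨p, i, j, hij, hp, rfl⟩ := hy
    apply omega_eq_zero_of_swap b hij
    rw [← SymTen.perm_apply, map_mul, SymTen.perm_apply, hz, SymTen.perm_tprod]
    congr 2
    funext k
    rw [Equiv.symm_swap, Equiv.swap_apply_def]
    split_ifs with h1 h2
    · rw [h1, hp]
    · rw [h2, hp]
    · rfl
  | zero => simp
  | add x y _ _ hx hy => rw [mul_add, map_add, hx, hy, add_zero]
  | smul a x _ hx => rw [mul_smul_comm, map_smul, hx, smul_zero]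

theorem omega_mul_sym (b : Basis (Fin d) R R') (z : ⨂[R] _ : Fin d, R')
    (hz : ∀ σ : Equiv.Perm (Fin d), PiTensorProduct.reindex R (fun _ : Fin d => R') σ z = z)
    (x : ⨂[R] _ : Fin d, R') :
    omega b (z * x) = omega b (z * PiTensorProduct.tprod R (fun i => b i)) * omega b x := by
  have hy := sub_omega_smul_mem b x
  have h0 := omega_mul_altSpan b z hz hy
  rw [mul_sub, map_sub, mul_smul_comm, map_smul, smul_eq_mul, sub_eq_zero] at h0
  rw [h0, mul_comm]

/-- The action of `φ c` on the top exterior power, as a linear functional. -/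
noncomputable def psiLin (b : Basis (Fin d) R R') (φ : C →ₐ[R] (⨂[R] _ : Fin d, R')) : C →ₗ[R] R :=
  (omega b ∘ₗ LinearMap.mulRight R (PiTensorProduct.tprod R (fun i => b i))) ∘ₗ φ.toLinearMap

theorem psiLin_apply (b : Basis (Fin d) R R') (φ : C →ₐ[R] (⨂[R] _ : Fin d, R')) (c : C) :
    psiLin b φ c = omega b (φ c * PiTensorProduct.tprod R (fun i => b i)) := rfl

/-- The action of `φ c` on the top exterior power, as an algebra map. -/
noncomputable def psi (b : Basis (Fin d) R R') (φ : C →ₐ[R] (⨂[R] _ : Fin d, R'))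
    (hsym : ∀ (σ : Equiv.Perm (Fin d)) (c : C),
      PiTensorProduct.reindex R (fun _ : Fin d => R') σ (φ c) = φ c) : C →ₐ[R] R :=
  AlgHom.ofLinearMap (psiLin b φ)
    (by rw [psiLin_apply, map_one, one_mul]; exact omega_basis b)
    (fun c c' => by
      rw [psiLin_apply, psiLin_apply, psiLin_apply, map_mul φ c c', mul_assoc,
        omega_mul_sym b (φ c) (fun σ => hsym σ c)])

theorem psi_toLinearMap (b : Basis (Fin d) R R') (φ : C →ₐ[R] (⨂[R] _ : Fin d, R'))
    (hsym : ∀ (σ : Equiv.Perm (Fin d)) (c : C),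
      PiTensorProduct.reindex R (fun _ : Fin d => R') σ (φ c) = φ c) :
    (psi b φ hsym).toLinearMap = psiLin b φ := rfl

theorem psi_apply (b : Basis (Fin d) R R') (φ : C →ₐ[R] (⨂[R] _ : Fin d, R'))
    (hsym : ∀ (σ : Equiv.Perm (Fin d)) (c : C),
      PiTensorProduct.reindex R (fun _ : Fin d => R') σ (φ c) = φ c) (c : C) :
    psi b φ hsym c = omega b (φ c * PiTensorProduct.tprod R (fun i => b i)) := rfl

end Groth.Agent.Lib.helper19.SymTenMain
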