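import Groth.Agent.Lib.helper19.SymTenAlt

/-! Symmetric tensors act on the top exterior power through the norm. -/

set_option autoImplicit false
universe u
open scoped TensorProduct

namespace Groth.Agent.Lib.helper19.SymTenNorm

open Module Groth.Agent.Lib.helper19.SymTenAlt

variable {R : Type u} [CommRing R] {R' : Type u} [CommRing R'] [Algebra R R'] {d : ℕ}

theorem tpowAct_eq_mul (z x : ⨂[R] _ : Fin d, R') : SymTen.tpowAct R R' R' d z x = z * x := by
  have h : SymTen.tpowAct R R' R' d = LinearMap.mul R (⨂[R] _ : Fin d, R') := by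
    apply PiTensorProduct.ext
    ext a p
    simp only [MultilinearMap.compLinearMap_apply, LinearMap.compMultilinearMap_apply,
      LinearMap.mul_apply', PiTensorProduct.tprod_mul_tprod]
    simp [SymTen.tpowAct, PiTensorProduct.mapMultilinear_apply, PiTensorProduct.map_tprod]
    rfl
  rw [h]; rfl

theorem perm_comp_single (σ : Equiv.Perm (Fin d)) (j : Fin d) :
    (SymTen.perm R R' d σ).comp (PiTensorProduct.singleAlgHom (A := fun _ : Fin d => R') j) =
      PiTensorProduct.singleAlgHom (A := fun _ : Fin d => R') (σ j) := by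
  classical
  ext y
  simp only [AlgHom.comp_apply, PiTensorProduct.singleAlgHom_apply, SymTen.perm_tprod]
  congr 1
  funext i
  simp only [MonoidHom.mulSingle_apply, Pi.mulSingle_apply]
  by_cases h : i = σ j
  · subst h; simp
  · have : σ.symm i ≠ j := fun h' => h (by rw [← h']; simp)
    simp [h, this]

theorem prod_tmul {S A : Type u} [CommSemiring S] [Algebra R S] [CommRing A] [Algebra R A]
    {ι : Type*} (s : Finset ι) (f : ι → S) (g : ι → A) :
    ∏ j ∈ s, (f j ⊗ₜ[R] g j) = (∏ j ∈ s, f j) ⊗ₜ[R] (∏ j ∈ s, g j) := by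
  classical
  induction s using Finset.induction_on with
  | empty => simp [Algebra.TensorProduct.one_def]
  | insert j s hj ih =>
    rw [Finset.prod_insert hj, Finset.prod_insert hj, Finset.prod_insert hj, ih,
      Algebra.TensorProduct.tmul_mul_tmul]

/-- Value of the tensor-power law on `∑ sᵢ ⊗ mᵢ`. -/
theorem tpowLaw_sum (S : Type u) [CommSemiring S] [Algebra R S] {n : ℕ} (s : Fin n → S)
    (m : Fin n → R') :
    (SymTen.tpowLaw R R' d).law.toFun' S (∑ i, s i ⊗ₜ[R] m i) =
      ∑ c : Fin d → Fin n, (∏ j, s (c j)) ⊗ₜ[R] PiTensorProduct.tprod R (fun j => m (c j)) := by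
  classical
  rw [SymTen.tpowLaw, PolLaw.MulLaw.prodMap_toFun']
  simp only [map_sum, Algebra.TensorProduct.map_tmul, AlgHom.id_apply]
  rw [Finset.prod_univ_sum]
  simp only [Fintype.piFinset_univ]
  refine Finset.sum_congr rfl fun c _ => ?_
  rw [prod_tmul]
  congr 1
  simp only [PiTensorProduct.singleAlgHom_apply, MonoidHom.mulSingle_apply]
  rw [← PiTensorProduct.tprod_prod]
  exact congrArg _ (Finset.univ_prod_mulSingle (fun j : Fin d => m (c j)))

/-- Two polynomial laws on a free module of rank `d` agreeing on the generic element are equal. -/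
theorem law_ext_generic {N : Type u} [AddCommGroup N] [Module R N] (b : Basis (Fin d) R R')
    (F G : R' →ₚₗ[R] N)
    (h : F.toFun' (MvPolynomial (Fin d) R) (∑ i, MvPolynomial.X i ⊗ₜ[R] b i) =
      G.toFun' (MvPolynomial (Fin d) R) (∑ i, MvPolynomial.X i ⊗ₜ[R] b i)) : F = G := by
  apply PolynomialLaw.ext
  funext S _ _ x
  let s : Fin d → S := fun i => (Algebra.TensorProduct.basis S b).repr x i
  have hx : x = ∑ i, s i ⊗ₜ[R] b i := by
    conv_lhs => rw [← (Algebra.TensorProduct.basis S b).sum_repr x]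
    refine Finset.sum_congr rfl fun i _ => ?_
    rw [Algebra.TensorProduct.basis_apply, TensorProduct.smul_tmul', smul_eq_mul, mul_one]
  let ev : MvPolynomial (Fin d) R →ₐ[R] S := MvPolynomial.aeval s
  have hev : ev.toLinearMap.rTensor R' (∑ i, MvPolynomial.X i ⊗ₜ[R] b i) = x := by
    rw [hx, map_sum]
    refine Finset.sum_congr rfl fun i _ => ?_
    simp [ev]
  rw [← hev]
  have hF := congrFun (F.isCompat' ev) (∑ i, MvPolynomial.X i ⊗ₜ[R] b i)
  have hG := congrFun (G.isCompat' ev) (∑ i, MvPolynomial.X i ⊗ₜ[R] b i)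
  simp only [Function.comp_apply] at hF hG
  rw [← hF, ← hG, h]

end Groth.Agent.Lib.helper19.SymTenNorm
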