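import Groth.Agent.Lib.helper19.SymTenFinal

/-! Polarization: symmetrized pure tensors are combinations of diagonal tensors. -/

set_option autoImplicit false
universe u
open scoped TensorProduct

namespace Groth.Agent.Lib.helper19.SymTenPolar

open Module Finset

variable {A : Type u} [CommRing A] {M N : Type u} [AddCommGroup M] [Module A M]
  [AddCommGroup N] [Module A N] {n : ℕ}

theorem sum_superset_sign (I : Finset (Fin n)) :
    (∑ S : Finset (Fin n), if I ⊆ S then (-1 : ℤ) ^ (#Sᶜ) else 0) = if Iᶜ = ∅ then 1 else 0 := by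
  classical
  rw [← Finset.sum_powerset_neg_one_pow_card (x := Iᶜ)]
  rw [← Finset.sum_filter]
  refine Finset.sum_bij' (fun S _ => Sᶜ) (fun U _ => Uᶜ) ?_ ?_ ?_ ?_ ?_
  · intro S hS
    simp only [mem_filter, mem_univ, true_and] at hS
    simpa [Finset.mem_powerset] using Finset.compl_subset_compl.mpr hS
  · intro U hU
    simp only [Finset.mem_powerset] at hU
    simp only [mem_filter, mem_univ, true_and]
    have := Finset.compl_subset_compl.mpr hU
    simpa using this
  · intro S _; simp
  · intro U _; simp
  · intro S _; rfl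

theorem polarization (f : MultilinearMap A (fun _ : Fin n => M) N) (m : Fin n → M) :
    ∑ σ : Equiv.Perm (Fin n), f (fun k => m (σ k)) =
      ∑ S : Finset (Fin n), ((-1 : ℤ) ^ (#Sᶜ)) • f (fun _ => ∑ i ∈ S, m i) := by
  classical
  have h1 : ∀ S : Finset (Fin n), f (fun _ => ∑ i ∈ S, m i) =
      ∑ c : Fin n → Fin n, if (∀ k, c k ∈ S) then f (fun k => m (c k)) else 0 := by
    intro S
    rw [MultilinearMap.map_sum_finset f (fun _ i => m i) (fun _ => S), ← Finset.sum_filter]
    refine Finset.sum_congr ?_ fun _ _ => rfl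
    ext c
    simp [Fintype.mem_piFinset]
  simp_rw [h1, Finset.smul_sum]
  rw [Finset.sum_comm]
  have h2 : ∀ c : Fin n → Fin n,
      (∑ S : Finset (Fin n), ((-1 : ℤ) ^ (#Sᶜ)) • (if (∀ k, c k ∈ S) then f (fun k => m (c k)) else 0)) =
        (if Function.Surjective c then f (fun k => m (c k)) else 0) := by
    intro c
    have : ∀ S : Finset (Fin n), ((-1 : ℤ) ^ (#Sᶜ)) • (if (∀ k, c k ∈ S) then f (fun k => m (c k)) else 0) =
        (if Finset.univ.image c ⊆ S then (-1 : ℤ) ^ (#Sᶜ) else 0) • f (fun k => m (c k)) := by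
      intro S
      have hiff : (∀ k, c k ∈ S) ↔ Finset.univ.image c ⊆ S := by
        simp [Finset.subset_iff]
      by_cases h : ∀ k, c k ∈ S
      · rw [if_pos h, if_pos (hiff.mp h)]
      · rw [if_neg h, if_neg (fun h' => h (hiff.mpr h')), smul_zero, zero_smul]
    simp_rw [this]
    rw [← Finset.sum_smul, sum_superset_sign]
    have hs : ((Finset.univ.image c)ᶜ = ∅) ↔ Function.Surjective c := by
      rw [Finset.compl_eq_empty_iff]
      constructor
      · intro h k
        have : k ∈ Finset.univ.image c := by rw [h]; exact Finset.mem_univ _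
        obtain ⟨j, _, hj⟩ := Finset.mem_image.mp this
        exact ⟨j, hj⟩
      · exact Finset.image_univ_of_surjective
    by_cases h : Function.Surjective c
    · rw [if_pos (hs.mpr h), if_pos h, one_smul]
    · rw [if_neg (fun h' => h (hs.mp h')), if_neg h, zero_smul]
  simp_rw [h2]
  rw [← Finset.sum_filter]
  symm
  refine Finset.sum_bij' (fun c hc => Equiv.ofBijective c
      (Finite.surjective_iff_bijective.mp (by simpa using hc)))
    (fun σ _ => ⇑σ) ?_ ?_ ?_ ?_ ?_
  · intro c _; exact Finset.mem_univ _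
  · intro σ _; simp [σ.surjective]
  · intro c _; rfl
  · intro σ _; ext k; rfl
  · intro c _; rfl

end Groth.Agent.Lib.helper19.SymTenPolar
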