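import Groth.Agent.Lib.helper19.SymTenAlt

/-! Symmetric tensors preserve the alternating span (finite projective modules). -/

set_option autoImplicit false
universe u
open scoped TensorProduct

namespace Groth.Agent.Lib.helper19.SymTenStable

open Module Groth.Agent.Lib.helper19.SymTenAlt

variable {R : Type u} [CommRing R] {d : ℕ}

/-- swap-invariant tensors of a finite free module lie in the alternating span -/
theorem mem_altSpan_of_swap_free {P : Type u} [AddCommGroup P] [Module R P] {m : ℕ}
    (b : Basis (Fin m) R P) {i j : Fin d} (hij : i ≠ j) (x : ⨂[R] _ : Fin d, P)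
    (hx : PiTensorProduct.reindex R (fun _ : Fin d => P) (Equiv.swap i j) x = x) :
    x ∈ SymTen.altSpan R P d := by
  classical
  let B : Basis (Fin d → Fin m) R (⨂[R] _ : Fin d, P) := Basis.piTensorProduct (fun _ => b)
  let τ : Equiv.Perm (Fin d) := Equiv.swap i j
  have hB : ∀ c : Fin d → Fin m, B c = PiTensorProduct.tprod R (fun k => b (c k)) := fun c => by
    simp [B]
  have hτB : ∀ c : Fin d → Fin m,
      PiTensorProduct.reindex R (fun _ : Fin d => P) τ (B c) = B (c ∘ τ) := by
    intro c
    rw [hB, hB, PiTensorProduct.reindex_tprod]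
    rfl
  have hrepr : ∀ (y : ⨂[R] _ : Fin d, P) (c : Fin d → Fin m),
      B.repr (PiTensorProduct.reindex R (fun _ : Fin d => P) τ y) c = B.repr y (c ∘ τ) := by
    intro y c
    have : (Finsupp.lapply c ∘ₗ B.repr.toLinearMap ∘ₗ
        (PiTensorProduct.reindex R (fun _ : Fin d => P) τ).toLinearMap) =
        (Finsupp.lapply (c ∘ τ) ∘ₗ B.repr.toLinearMap) := by
      refine B.ext fun c' => ?_
      simp only [LinearMap.comp_apply, LinearEquiv.coe_coe, hτB, Basis.repr_self,
        Finsupp.lapply_apply, Finsupp.single_apply]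
      have : (c' ∘ τ = c) ↔ (c' = c ∘ τ) := by
        constructor
        · rintro rfl; funext k; simp [τ]
        · rintro rfl; funext k; simp [τ]
      simp only [this]
    exact congrArg (fun f => f y) this
  have hcoef : ∀ c : Fin d → Fin m, B.repr x (c ∘ τ) = B.repr x c := by
    intro c
    rw [← hrepr, hx]
  rw [← Submodule.Quotient.mk_eq_zero]
  have hexp : (Submodule.Quotient.mk x : (⨂[R] _ : Fin d, P) ⧸ SymTen.altSpan R P d) =
      ∑ c : Fin d → Fin m, B.repr x c • mkAlt R P d (fun k => b (c k)) := by
    conv_lhs => rw [← B.sum_repr x]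
    rw [← Submodule.mkQ_apply, map_sum]
    refine Finset.sum_congr rfl fun c _ => ?_
    rw [map_smul, hB]
    rfl
  rw [hexp]
  refine Finset.sum_involution (fun c _ => c ∘ τ) ?_ ?_ (fun _ _ => Finset.mem_univ _) ?_
  · intro c _
    have : (fun k => b ((c ∘ τ) k)) = (fun k => b (c k)) ∘ τ := rfl
    rw [hcoef, this, AlternatingMap.map_perm]
    simp [τ, Equiv.Perm.sign_swap hij]
  · intro c _ hne hc
    apply hne
    have hcij : c i = c j := by
      have := congrFun hc i
      simpa [τ] using this.symm
    rw [(mkAlt R P d).map_eq_zero_of_eq _ (by simp [hcij]) hij, smul_zero]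
  · intro c _
    funext k
    simp [τ]

theorem map_mem_altSpan {P P' : Type u} [AddCommGroup P] [Module R P] [AddCommGroup P'] [Module R P']
    (h : P →ₗ[R] P') {x : ⨂[R] _ : Fin d, P} (hx : x ∈ SymTen.altSpan R P d) :
    PiTensorProduct.map (fun _ : Fin d => h) x ∈ SymTen.altSpan R P' d := by
  unfold SymTen.altSpan at hx
  induction hx using Submodule.span_induction with
  | mem x hx =>
    obtain ⟨p, i, j, hij, hp, rfl⟩ := hx
    rw [PiTensorProduct.map_tprod]
    exact Submodule.subset_span ⟨_, i, j, hij, by simp [hp], rfl⟩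
  | zero => simp
  | add x y _ _ hx hy => rw [map_add]; exact Submodule.add_mem _ hx hy
  | smul a x _ hx => rw [map_smul]; exact Submodule.smul_mem _ a hx

/-- swap-invariant tensors of a finite projective module lie in the alternating span -/
theorem mem_altSpan_of_swap_proj {P : Type u} [AddCommGroup P] [Module R P]
    [Module.Finite R P] [Module.Projective R P]
    {i j : Fin d} (hij : i ≠ j) (x : ⨂[R] _ : Fin d, P)
    (hx : PiTensorProduct.reindex R (fun _ : Fin d => P) (Equiv.swap i j) x = x) :
    x ∈ SymTen.altSpan R P d := by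
  obtain ⟨n, f, g, _, _, hfg⟩ := Module.Finite.exists_comp_eq_id_of_projective R P
  have h1 : PiTensorProduct.reindex R (fun _ : Fin d => (Fin n → R)) (Equiv.swap i j)
      (PiTensorProduct.map (fun _ : Fin d => g) x) = PiTensorProduct.map (fun _ : Fin d => g) x := by
    rw [← PiTensorProduct.map_reindex (fun _ : Fin d => g) (Equiv.swap i j) x, hx]
  have h2 := mem_altSpan_of_swap_free (R := R) (Pi.basisFun R (Fin n)) hij _ h1
  have h3 := map_mem_altSpan f h2
  have h4 : PiTensorProduct.map (fun _ : Fin d => f) (PiTensorProduct.map (fun _ : Fin d => g) x) = x := by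
    rw [← LinearMap.comp_apply, ← PiTensorProduct.map_comp]
    simp only [hfg]
    rw [PiTensorProduct.map_id]
    rfl
  rwa [h4] at h3

end Groth.Agent.Lib.helper19.SymTenStable
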