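import Mathlib
import Groth.Prelude.Def_CAlg
import Groth.Prelude.Def_EGA4b
import Groth.Prelude.Def_RegImm
import Groth.Agent.Lib.Helper21.CMFibKit
import Groth.Agent.Lib.Helper21.FlatLocal11
import Groth.Agent.Lib.Helper21.CMKit
import Groth.Agent.Lib.Helper5.CMFlatLocal
import Groth.Agent.S9142

set_option autoImplicit false
set_option linter.style.haveILetI false
universe u

namespace Groth.Agent.Lib.Helper19.SynSerre1

open TensorProduct
open Groth.Agent.Lib.Helper21 Groth.Agent.Lib.Helper21.CMKit Groth.Agent.Lib.Helper21.CMFibKit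
open Groth.Agent.Lib.Helper21.FlatLocal

variable (R S : Type u) [CommRing R] [CommRing S] [Algebra R S] [IsNoetherianRing R]

include R in
theorem isNoetherianRing_of_syntomic (h : Synt.IsSyntomic R S) : IsNoetherianRing S := by
  haveI := h.2.1
  exact Algebra.FiniteType.isNoetherianRing R S

theorem isCM_fibLocMod (h : Synt.IsSyntomic R S) [IsNoetherianRing S] (r : Ideal S) [r.IsPrime] :
    LocCoh.IsCohenMacaulayModule (Localization.AtPrime r) (EGA4.FibLocMod R S r S) := by
  haveI := h.1
  obtain ⟨Q, hQ, hr⟩ := exists_fiber_prime (r.under R) r rfl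
  have h' := Groth.Agent.S9142.result _ _ (h.2.2 ⟨r.under R, inferInstance⟩)
  exact (isCM_fiber_loc_iff (r.under R) Q r hr).1 (h'.isCohenMacaulayLocalRing_localization Q)

theorem hasSkAt_iff (h : Synt.IsSyntomic R S) (n : ℕ) (Q : Ideal S) [Q.IsPrime] :
    EGA4.HasSkAt n S S Q ↔ EGA4.HasSkAt n R R (Q.comap (algebraMap R S)) := by
  haveI := isNoetherianRing_of_syntomic R S h
  haveI := h.1
  exact (hasSkAt_iff_of_CM_fibres n (fun r _ => isCM_fibLocMod R S h r) Q).symm

theorem codepth_eq (h : Synt.IsSyntomic R S) (Q : Ideal S) [Q.IsPrime] :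
    ringKrullDim (Localization.AtPrime (Q.comap (algebraMap R S))) +
        ((LocCoh.depth (Localization.AtPrime Q) (Localization.AtPrime Q) : ℕ∞) : WithBot ℕ∞) =
      ringKrullDim (Localization.AtPrime Q) +
        ((LocCoh.depth (Localization.AtPrime (Q.comap (algebraMap R S)))
          (Localization.AtPrime (Q.comap (algebraMap R S))) : ℕ∞) : WithBot ℕ∞) := by
  haveI := isNoetherianRing_of_syntomic R S h
  haveI := h.1
  exact codepth_eq_of_CM_fibres Q (isCM_fibLocMod R S h Q)

end Groth.Agent.Lib.Helper19.SynSerre1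

namespace Groth.Agent.Lib.Helper19.SynSerre1

open TensorProduct
open Groth.Agent.Lib.Helper21 Groth.Agent.Lib.Helper21.CMKit Groth.Agent.Lib.Helper21.CMFibKit
open Groth.Agent.Lib.Helper21.FlatLocal

theorem exists_nat_dim_depth (A : Type u) [CommRing A] [IsLocalRing A] [IsNoetherianRing A] :
    ∃ a d : ℕ, ringKrullDim A = (a : WithBot ℕ∞) ∧ LocCoh.depth A A = (d : ℕ∞) := by
  obtain ⟨a, ha⟩ := DepthKit.exists_nat_supportDim (A := A) (M := A)
  have hda := DepthKit.depth_le_supportDim (A := A) (M := A)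
  rw [ha] at hda
  rw [Module.supportDim_self_eq_ringKrullDim] at ha
  have h1 : LocCoh.depth A A ≤ (a : ℕ∞) := by exact_mod_cast hda
  obtain ⟨d, hd⟩ := ENat.ne_top_iff_exists.1 (ne_top_of_le_ne_top (ENat.coe_ne_top a) h1)
  exact ⟨a, d, ha, hd.symm⟩

theorem isCM_iff_of_codepth (A B : Type u) [CommRing A] [IsLocalRing A] [IsNoetherianRing A]
    [CommRing B] [IsLocalRing B] [IsNoetherianRing B]
    (hc : ringKrullDim A + ((LocCoh.depth B B : ℕ∞) : WithBot ℕ∞) =
      ringKrullDim B + ((LocCoh.depth A A : ℕ∞) : WithBot ℕ∞)) :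
    LocCoh.IsCohenMacaulayLocalRing B ↔ LocCoh.IsCohenMacaulayLocalRing A := by
  obtain ⟨a, d, ha, hd⟩ := exists_nat_dim_depth A
  obtain ⟨b, e, hb, he⟩ := exists_nat_dim_depth B
  rw [Groth.Agent.Lib.Helper5.CMFlatLocal.isCM_self_iff,
    Groth.Agent.Lib.Helper5.CMFlatLocal.isCM_self_iff]
  unfold LocCoh.IsCohenMacaulayModule
  rw [Module.supportDim_self_eq_ringKrullDim, Module.supportDim_self_eq_ringKrullDim]
  rw [ha, hb, hd, he] at hc ⊢
  have hc' : a + e = b + d := by exact_mod_cast hc
  constructor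
  · intro h
    have : b = e := by exact_mod_cast h
    have : a = d := by omega
    exact_mod_cast this
  · intro h
    have : a = d := by exact_mod_cast h
    have : b = e := by omega
    exact_mod_cast this

variable (R S : Type u) [CommRing R] [CommRing S] [Algebra R S] [IsNoetherianRing R]

theorem isCM_iff (h : Synt.IsSyntomic R S) (Q : Ideal S) [Q.IsPrime] :
    LocCoh.IsCohenMacaulayLocalRing (Localization.AtPrime Q) ↔
      LocCoh.IsCohenMacaulayLocalRing (Localization.AtPrime (Q.comap (algebraMap R S))) := by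
  haveI := isNoetherianRing_of_syntomic R S h
  haveI : IsNoetherianRing (Localization.AtPrime Q) :=
    IsLocalization.isNoetherianRing Q.primeCompl _ inferInstance
  haveI : IsNoetherianRing (Localization.AtPrime (Q.comap (algebraMap R S))) :=
    IsLocalization.isNoetherianRing (Q.comap (algebraMap R S)).primeCompl _ inferInstance
  exact isCM_iff_of_codepth _ _ (codepth_eq R S h Q)

end Groth.Agent.Lib.Helper19.SynSerre1
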