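import Mathlib
import Groth.Prelude.Def_CAlg
import Groth.Prelude.Def_EGA4b
import Groth.Prelude.Def_RegImm
import Groth.Agent.Lib.helper19.SynSerre1
import Groth.Agent.Lib.helper19.SmSerre2
import Groth.Agent.Lib.Helper3.NoethDescent

set_option autoImplicit false
set_option linter.style.haveILetI false
universe u

namespace Groth.Agent.Lib.Helper19.SynSerre2

open CategoryTheory CategoryTheory.Limits AlgebraicGeometry IsLocalRing TopologicalSpace
open Groth.Agent.Lib.Helper19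

theorem flat_of_isSyntomicMor {X S : Scheme.{u}} (f : X ⟶ S) (h : Synt.IsSyntomicMor f) :
    Flat f := by
  rw [HasRingHomProperty.iff_exists_appLE (P := @Flat)
    (RingHom.Flat.stableUnderComposition.stableUnderCompositionWithLocalizationAway
      RingHom.Flat.holdsForLocalizationAway).1]
  intro x
  obtain ⟨U, V, e, hx, hs⟩ := h x
  exact ⟨V, U, hx, e, hs.1⟩

theorem lfp_of_isSyntomicMor {X S : Scheme.{u}} (f : X ⟶ S) (h : Synt.IsSyntomicMor f) :
    LocallyOfFinitePresentation f := by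
  rw [HasRingHomProperty.iff_exists_appLE (P := @LocallyOfFinitePresentation)
    (RingHom.finitePresentation_stableUnderComposition.stableUnderCompositionWithLocalizationAway
      RingHom.finitePresentation_holdsForLocalizationAway).left]
  intro x
  obtain ⟨U, V, e, hx, hs⟩ := h x
  exact ⟨V, U, hx, e, hs.2.1⟩

theorem isCM_iff_of_isLocalization {S : Type u} [CommRing S] (q : Ideal S) [q.IsPrime]
    (T : Type u) [CommRing T] [Algebra S T] [IsLocalization.AtPrime T q] :
    LocCoh.IsCohenMacaulayLocalRing (Localization.AtPrime q) ↔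
      LocCoh.IsCohenMacaulayLocalRing T := by
  constructor
  · intro h
    exact Groth.Agent.Lib.Helper5.CMFlatLocal.isCohenMacaulayLocalRing_of_ringEquiv
      (IsLocalization.algEquiv q.primeCompl (Localization.AtPrime q) T).toRingEquiv
  · intro h
    exact Groth.Agent.Lib.Helper5.CMFlatLocal.isCohenMacaulayLocalRing_of_ringEquiv
      (IsLocalization.algEquiv q.primeCompl (Localization.AtPrime q) T).toRingEquiv.symm

theorem stalk_iff {X Y : Scheme.{u}} (f : X ⟶ Y) [IsLocallyNoetherian Y] (x : ↥X)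
    (hx : Synt.IsSyntomicAt f x) (n : ℕ) :
    (LocCoh.HasSk n ↑(X.presheaf.stalk x) ↑(X.presheaf.stalk x) ↔
        LocCoh.HasSk n ↑(Y.presheaf.stalk (f x)) ↑(Y.presheaf.stalk (f x))) ∧
      (LocCoh.IsCohenMacaulayLocalRing ↑(X.presheaf.stalk x) ↔
        LocCoh.IsCohenMacaulayLocalRing ↑(Y.presheaf.stalk (f x))) := by
  obtain ⟨⟨V, hV⟩, ⟨U, hU⟩, hVU, hxV, H⟩ := hx
  dsimp only at hVU hxV H
  haveI : IsNoetherianRing Γ(Y, U) := IsLocallyNoetherian.component_noetherian ⟨U, hU⟩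
  letI := (f.appLE U V hVU).hom.toAlgebra
  haveI : IsNoetherianRing Γ(X, V) := SynSerre1.isNoetherianRing_of_syntomic Γ(Y, U) Γ(X, V) H
  set Q := (hV.primeIdealOf ⟨x, hxV⟩).asIdeal with hQ
  have hQP : Q.comap (algebraMap Γ(Y, U) Γ(X, V)) = (hU.primeIdealOf ⟨f x, hVU hxV⟩).asIdeal :=
    congrArg PrimeSpectrum.asIdeal (IsAffineOpen.comap_primeIdealOf_appLE U hU V hV hVU hxV)
  have h1 := SynSerre1.hasSkAt_iff Γ(Y, U) Γ(X, V) H n Q
  have h2 := SynSerre1.isCM_iff Γ(Y, U) Γ(X, V) H Q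
  letI := X.presheaf.algebra_section_stalk ⟨x, hxV⟩
  haveI := hV.isLocalization_stalk ⟨x, hxV⟩
  letI := Y.presheaf.algebra_section_stalk ⟨f x, hVU hxV⟩
  have hlocY := hU.isLocalization_stalk ⟨f x, hVU hxV⟩
  have key : ∀ (P : Ideal Γ(Y, U)) [P.IsPrime], P = (hU.primeIdealOf ⟨f x, hVU hxV⟩).asIdeal →
      (EGA4.HasSkAt n Γ(Y, U) Γ(Y, U) P ↔
        LocCoh.HasSk n (Y.presheaf.stalk (f x)) (Y.presheaf.stalk (f x))) ∧
      (LocCoh.IsCohenMacaulayLocalRing (Localization.AtPrime P) ↔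
        LocCoh.IsCohenMacaulayLocalRing (Y.presheaf.stalk (f x))) := by
    intro P _ hP
    subst hP
    exact ⟨SmSerre2.hasSkAt_self_iff _ _ n, isCM_iff_of_isLocalization _ _⟩
  obtain ⟨k1, k2⟩ := key _ hQP
  refine ⟨?_, ?_⟩
  · rw [← SmSerre2.hasSkAt_self_iff Q (X.presheaf.stalk x) n, h1, k1]
  · rw [← isCM_iff_of_isLocalization Q (X.presheaf.stalk x), h2, k2]

end Groth.Agent.Lib.Helper19.SynSerre2
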