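import Mathlib
import Groth.Prelude.Def_CAlg
import Groth.Prelude.Def_EGA4b
import Groth.Prelude.Def_RegImm
import Groth.Agent.Lib.helper19.SynSerre2

set_option autoImplicit false
set_option linter.style.haveILetI false
universe u

namespace Groth.Agent.Lib.Helper19.SynSerre3

open CategoryTheory CategoryTheory.Limits AlgebraicGeometry IsLocalRing TopologicalSpace
open Groth.Agent.Lib.Helper19

theorem noeth_of_cover {ι : Type u} {S : Scheme.{u}} {X : ι → Scheme.{u}} (f : ∀ i, X i ⟶ S)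
    (hsurj : ∀ s : S, ∃ i, s ∈ Set.range (f i).base) (hsyn : ∀ i, Synt.IsSyntomicMor (f i))
    (hN : ∀ i, IsLocallyNoetherian (X i)) : IsLocallyNoetherian S := by
  haveI : ∀ i, Flat (f i) := fun i => SynSerre2.flat_of_isSyntomicMor _ (hsyn i)
  haveI : ∀ i, LocallyOfFinitePresentation (f i) :=
    fun i => SynSerre2.lfp_of_isSyntomicMor _ (hsyn i)
  haveI : Flat (Sigma.desc f) := IsZariskiLocalAtSource.sigmaDesc (fun i => inferInstance)
  haveI : LocallyOfFinitePresentation (Sigma.desc f) :=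
    IsZariskiLocalAtSource.sigmaDesc (fun i => inferInstance)
  haveI : Surjective (Sigma.desc f) := by
    apply Surjective.sigmaDesc_of_union_range_eq_univ
    rw [Set.eq_univ_iff_forall]
    intro s
    obtain ⟨i, hi⟩ := hsurj s
    exact Set.mem_iUnion.mpr ⟨i, hi⟩
  haveI : IsLocallyNoetherian (∐ X) := by
    rw [isLocallyNoetherian_iff_openCover (sigmaOpenCover X)]
    intro i
    exact hN i
  exact Groth.Agent.Lib.Helper3.isLocallyNoetherian_of_flat_lfp_surjective (Sigma.desc f)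

theorem noeth_of_base {X S : Scheme.{u}} (f : X ⟶ S) (hsyn : Synt.IsSyntomicMor f)
    [IsLocallyNoetherian S] : IsLocallyNoetherian X := by
  haveI := SynSerre2.lfp_of_isSyntomicMor f hsyn
  exact LocallyOfFiniteType.isLocallyNoetherian f

theorem main_sk {ι : Type u} {S : Scheme.{u}} {X : ι → Scheme.{u}} (f : ∀ i, X i ⟶ S)
    (hsurj : ∀ s : S, ∃ i, s ∈ Set.range (f i).base) (hsyn : ∀ i, Synt.IsSyntomicMor (f i)) (k : ℕ) :
    (IsLocallyNoetherian S ∧ ∀ s : S, LocCoh.HasSk k (S.presheaf.stalk s) (S.presheaf.stalk s)) ↔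
      ∀ i, IsLocallyNoetherian (X i) ∧ ∀ x : X i, LocCoh.HasSk k ((X i).presheaf.stalk x) ((X i).presheaf.stalk x) := by
  constructor
  · rintro ⟨hS, h⟩ i
    refine ⟨noeth_of_base (f i) (hsyn i), fun x => ?_⟩
    exact (SynSerre2.stalk_iff (f i) x (hsyn i x) k).1.2 (h _)
  · intro h
    haveI hS : IsLocallyNoetherian S := noeth_of_cover f hsurj hsyn (fun i => (h i).1)
    refine ⟨hS, fun s => ?_⟩
    obtain ⟨i, x, rfl⟩ := hsurj s
    exact (SynSerre2.stalk_iff (f i) x (hsyn i x) k).1.1 ((h i).2 x)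

theorem main_cm {ι : Type u} {S : Scheme.{u}} {X : ι → Scheme.{u}} (f : ∀ i, X i ⟶ S)
    (hsurj : ∀ s : S, ∃ i, s ∈ Set.range (f i).base) (hsyn : ∀ i, Synt.IsSyntomicMor (f i)) :
    (IsLocallyNoetherian S ∧ ∀ s : S, LocCoh.IsCohenMacaulayLocalRing (S.presheaf.stalk s)) ↔
      ∀ i, IsLocallyNoetherian (X i) ∧ ∀ x : X i, LocCoh.IsCohenMacaulayLocalRing ((X i).presheaf.stalk x) := by
  constructor
  · rintro ⟨hS, h⟩ i
    refine ⟨noeth_of_base (f i) (hsyn i), fun x => ?_⟩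
    exact (SynSerre2.stalk_iff (f i) x (hsyn i x) 0).2.2 (h _)
  · intro h
    haveI hS : IsLocallyNoetherian S := noeth_of_cover f hsurj hsyn (fun i => (h i).1)
    refine ⟨hS, fun s => ?_⟩
    obtain ⟨i, x, rfl⟩ := hsurj s
    exact (SynSerre2.stalk_iff (f i) x (hsyn i x) 0).2.1 ((h i).2 x)

end Groth.Agent.Lib.Helper19.SynSerre3
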