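import Mathlib
import Groth.Agent.Lib.helper19.SmDiv9

set_option autoImplicit false
universe u v w

namespace Groth.Agent.Lib.Helper19.Tame4

open TensorProduct KaehlerDifferential IsLocalRing

/-- `B` local Noetherian `k`-algebra with `Ω[B/k]` free of rank one, `κ(B)/k` formally smooth,
`s` irreducible: `a ↦ a • ds` is bijective. -/
theorem bijective_smul_D {k B : Type u} [CommRing k] [CommRing B] [IsLocalRing B]
    [IsNoetherianRing B] [Algebra k B]
    [Module.Free B Ω[B⁄k]] [Module.Finite B Ω[B⁄k]] (hrk : Module.finrank B Ω[B⁄k] = 1)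
    [Algebra.FormallySmooth k (ResidueField B)]
    (s : B) (hs : Irreducible s) :
    Function.Bijective (fun a : B => a • D k B s) := by
  classical
  have hinj := Groth.Agent.Lib.Helper19.SmDiv9.kerCotangentToTensor_injective (R := k) (P := B)
    (S := ResidueField B) residue_surjective
  have hker : RingHom.ker (algebraMap B (ResidueField B)) = maximalIdeal B := IsLocalRing.ker_residue
  -- key: for t ∈ m, 1 ⊗ dt = 0 implies t ∈ m²
  have key : ∀ t ∈ maximalIdeal B, (1 : ResidueField B) ⊗ₜ[B] D k B t = 0 → t ∈ maximalIdeal B ^ 2 := by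
    intro t ht h0
    have htk : t ∈ RingHom.ker (algebraMap B (ResidueField B)) := by rw [hker]; exact ht
    have h1 : kerCotangentToTensor k B (ResidueField B)
        ((RingHom.ker (algebraMap B (ResidueField B))).toCotangent ⟨t, htk⟩) = 0 := by
      rw [kerCotangentToTensor_toCotangent]; exact h0
    have h2 := (map_eq_zero_iff _ hinj).1 h1
    rw [Ideal.toCotangent_eq_zero] at h2
    rw [← hker]; exact h2
  have hrkK : Module.finrank (ResidueField B) (ResidueField B ⊗[B] Ω[B⁄k]) = 1 := by
    rw [Module.finrank_baseChange, hrk]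
  have hsm : s ∈ maximalIdeal B := hs.not_isUnit
  -- s ∉ m²
  have hs2 : s ∉ maximalIdeal B ^ 2 := by
    intro hs2
    by_cases hall : ∀ t ∈ maximalIdeal B, (1 : ResidueField B) ⊗ₜ[B] D k B t = 0
    · -- m = m², so m = 0
      have hmm : maximalIdeal B ≤ maximalIdeal B ^ 2 := fun t ht => key t ht (hall t ht)
      have hm0 : maximalIdeal B = ⊥ := by
        refine Submodule.eq_bot_of_le_smul_of_le_jacobson_bot (maximalIdeal B) _
          (IsNoetherian.noetherian _) ?_ (IsLocalRing.maximalIdeal_le_jacobson _)
        rw [smul_eq_mul, ← sq]; exact hmm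
      rw [hm0] at hsm
      exact hs.ne_zero (by simpa using hsm)
    · push Not at hall
      obtain ⟨π, hπm, hπ⟩ := hall
      have hspan := (finrank_eq_one_iff_of_nonzero' _ hπ).1 hrkK
      -- m ≤ (π) + m²
      have hle : maximalIdeal B ≤ Ideal.span {π} ⊔ maximalIdeal B • maximalIdeal B := by
        intro t ht
        obtain ⟨c, hc⟩ := hspan ((1 : ResidueField B) ⊗ₜ[B] D k B t)
        obtain ⟨b, rfl⟩ := residue_surjective c
        have h0 : (1 : ResidueField B) ⊗ₜ[B] D k B (t - b * π) = 0 := by
          have e1 : (1 : ResidueField B) ⊗ₜ[B] (b • D k B π) =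
              residue B b • ((1 : ResidueField B) ⊗ₜ[B] D k B π) := by
            rw [TensorProduct.tmul_smul]
            exact (algebraMap_smul (ResidueField B) b _).symm
          have e2 : (1 : ResidueField B) ⊗ₜ[B] (π • D k B b) = 0 := by
            rw [TensorProduct.tmul_smul, ← algebraMap_smul (ResidueField B) π]
            have : algebraMap B (ResidueField B) π = 0 := (residue_eq_zero_iff π).2 hπm
            rw [this, zero_smul]
          rw [map_sub, Derivation.leibniz, TensorProduct.tmul_sub, TensorProduct.tmul_add,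
            e1, e2, add_zero, hc, sub_self]
        have h3 := key (t - b * π) (Ideal.sub_mem _ ht (Ideal.mul_mem_left _ _ hπm)) h0
        have : t = b * π + (t - b * π) := by ring
        rw [this]
        refine Submodule.add_mem_sup (Ideal.mem_span_singleton'.2 ⟨b, rfl⟩) ?_
        rw [smul_eq_mul, ← sq]; exact h3
      have hmπ : maximalIdeal B = Ideal.span {π} := by
        apply le_antisymm
        · exact Submodule.le_of_le_smul_of_le_jacobson_bot (IsNoetherian.noetherian _)
            (IsLocalRing.maximalIdeal_le_jacobson _) hle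
        · rw [Ideal.span_singleton_le_iff_mem]; exact hπm
      rw [hmπ, Ideal.span_singleton_pow, Ideal.mem_span_singleton'] at hs2
      obtain ⟨c, hc⟩ := hs2
      have hπnu : ¬ IsUnit π := hπm
      have : s = π * (c * π) := by rw [← hc]; ring
      rcases hs.isUnit_or_isUnit this with h | h
      · exact hπnu h
      · exact hπnu (isUnit_of_mul_isUnit_right h)
  have hds : (1 : ResidueField B) ⊗ₜ[B] D k B s ≠ 0 := fun h0 => hs2 (key s hsm h0)
  -- Ω ≃ B
  haveI : Module.Free B B := Module.Free.self B
  obtain ⟨e⟩ : Nonempty (Ω[B⁄k] ≃ₗ[B] B) :=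
    FiniteDimensional.nonempty_linearEquiv_of_finrank_eq (by rw [hrk, Module.finrank_self])
  have hu : IsUnit (e (D k B s)) := by
    by_contra hnu
    have hum : e (D k B s) ∈ maximalIdeal B := hnu
    apply hds
    have h1 : D k B s = e (D k B s) • e.symm 1 := by
      rw [← map_smul, smul_eq_mul, mul_one, LinearEquiv.symm_apply_apply]
    rw [h1, TensorProduct.tmul_smul, TensorProduct.smul_tmul']
    have h2 : e (D k B s) • (1 : ResidueField B) = 0 := by
      rw [Algebra.smul_def, mul_one]
      exact (residue_eq_zero_iff _).2 hum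
    rw [h2, TensorProduct.zero_tmul]
  have hcomp : (fun a : B => a • D k B s) = e.symm ∘ (fun a : B => a * e (D k B s)) := by
    funext a
    simp only [Function.comp_apply]
    rw [← smul_eq_mul, map_smul, LinearEquiv.symm_apply_apply]
  rw [hcomp]
  refine e.symm.bijective.comp ?_
  obtain ⟨u, hu'⟩ := hu
  rw [← hu']
  exact (Units.mulRight u).bijective

end Groth.Agent.Lib.Helper19.Tame4
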