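import Mathlib
import Groth.Prelude.Def_CurvBase
import Groth.Agent.Lib.Helper7.ResFieldTrdeg
import Groth.Agent.Lib.helper19.Tame4

set_option autoImplicit false
universe u

namespace Groth.Agent.Lib.Helper19.Tame5

open AlgebraicGeometry CategoryTheory TensorProduct KaehlerDifferential
open Groth.Agent.Lib.Helper7

variable (k : Type u) [Field k] (X : Scheme.{u}) [X.Over (Spec (CommRingCat.of k))]

theorem exists_stdSmooth_nhd (n : ℕ) (x : X)
    (hsm : ∃ U : X.Opens, x ∈ U ∧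
      SmoothOfRelativeDimension n (U.ι ≫ (X ↘ Spec (CommRingCat.of k)))) :
    ∃ (V : X.Opens) (_ : IsAffineOpen V) (_ : x ∈ V),
      (ResTrdeg.kToΓ k X V).IsStandardSmoothOfRelativeDimension n := by
  obtain ⟨U, hxU, hU⟩ := hsm
  obtain ⟨W, hW, V', hV', hxV', e', hφ⟩ :=
    SmoothOfRelativeDimension.exists_isStandardSmoothOfRelativeDimension (n := n)
      (f := U.ι ≫ (X ↘ Spec (CommRingCat.of k))) (⟨x, hxU⟩ : U.toScheme)
  have hWtop : W = ⊤ := by
    apply TopologicalSpace.Opens.ext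
    apply Set.eq_univ_of_forall
    intro z
    have h1 : (U.ι ≫ (X ↘ Spec (CommRingCat.of k))) (⟨x, hxU⟩ : U.toScheme) ∈ W := e' hxV'
    have : z = (U.ι ≫ (X ↘ Spec (CommRingCat.of k))) (⟨x, hxU⟩ : U.toScheme) :=
      Subsingleton.elim _ _
    rw [this]; exact h1
  subst hWtop
  have hV : IsAffineOpen (U.ι ''ᵁ V') := hV'.image_of_isOpenImmersion U.ι
  have hxV : x ∈ U.ι ''ᵁ V' := ⟨⟨x, hxU⟩, hxV', rfl⟩
  refine ⟨U.ι ''ᵁ V', hV, hxV, ?_⟩
  have e₂ : V' ≤ U.ι ⁻¹ᵁ (U.ι ''ᵁ V') := by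
    intro z hz
    exact ⟨z, hz, rfl⟩
  have h3 : (X ↘ Spec (CommRingCat.of k)).appLE ⊤ (U.ι ''ᵁ V') le_top ≫
      U.ι.appLE (U.ι ''ᵁ V') V' e₂ = (U.ι ≫ (X ↘ Spec (CommRingCat.of k))).appLE ⊤ V' e' :=
    Scheme.Hom.appLE_comp_appLE _ _ _ _ _ _ _
  haveI : IsIso (U.ι.appLE (U.ι ''ᵁ V') V' e₂) := by
    rw [Scheme.Opens.ι_appLE]
    have hle : U.ι ''ᵁ V' ≤ U.ι ''ᵁ V' := le_rfl
    haveI : IsIso (homOfLE hle : U.ι ''ᵁ V' ⟶ U.ι ''ᵁ V') :=
      ⟨⟨homOfLE hle, Subsingleton.elim _ _, Subsingleton.elim _ _⟩⟩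
    haveI : IsIso (homOfLE hle : U.ι ''ᵁ V' ⟶ U.ι ''ᵁ V').op := inferInstance
    exact Functor.map_isIso X.presheaf (homOfLE hle : U.ι ''ᵁ V' ⟶ U.ι ''ᵁ V').op
  have h4 : ((U.ι.appLE (U.ι ''ᵁ V') V' e₂).hom.comp
      ((X ↘ Spec (CommRingCat.of k)).appLE ⊤ (U.ι ''ᵁ V') le_top).hom).IsStandardSmoothOfRelativeDimension n := by
    rw [← CommRingCat.hom_comp, h3]; exact hφ
  have h5 := (RingHom.isStandardSmoothOfRelativeDimension_respectsIso.cancel_right_isIso _
    (U.ι.appLE (U.ι ''ᵁ V') V' e₂)).mp h4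
  unfold ResTrdeg.kToΓ
  exact RingHom.isStandardSmoothOfRelativeDimension_respectsIso.2 _
    ((Scheme.ΓSpecIso (CommRingCat.of k)).symm.commRingCatIsoToRingEquiv) h5

end Groth.Agent.Lib.Helper19.Tame5

namespace Groth.Agent.Lib.Helper19.Tame5

open AlgebraicGeometry CategoryTheory TensorProduct KaehlerDifferential
open Groth.Agent.Lib.Helper7

variable (k : Type u) [Field k] (X : Scheme.{u}) [X.Over (Spec (CommRingCat.of k))]

set_option maxHeartbeats 800000 in
theorem stalk_facts (n : ℕ) (x : X) (V : X.Opens) (hV : IsAffineOpen V) (hxV : x ∈ V)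
    (hφ : (ResTrdeg.kToΓ k X V).IsStandardSmoothOfRelativeDimension n) :
    letI := Curv2.stalkAlgebra k X x
    IsNoetherianRing (X.presheaf.stalk x) ∧
    Module.Free (X.presheaf.stalk x) Ω[X.presheaf.stalk x⁄k] ∧
    Module.Finite (X.presheaf.stalk x) Ω[X.presheaf.stalk x⁄k] ∧
    Module.finrank (X.presheaf.stalk x) Ω[X.presheaf.stalk x⁄k] = n ∧
    Algebra.EssFiniteType k (X.presheaf.stalk x) := by
  letI algΓ : Algebra k Γ(X, V) := (ResTrdeg.kToΓ k X V).toAlgebra
  haveI : Algebra.IsStandardSmoothOfRelativeDimension n k Γ(X, V) := hφ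
  letI algB : Algebra k (X.presheaf.stalk x) := Curv2.stalkAlgebra k X x
  letI algΓB : Algebra Γ(X, V) (X.presheaf.stalk x) := (X.presheaf.germ V x hxV).hom.toAlgebra
  haveI : IsScalarTower k Γ(X, V) (X.presheaf.stalk x) :=
    IsScalarTower.of_algebraMap_eq (fun c => (ResTrdeg.germ_kToΓ k X V x hxV c).symm)
  haveI hloc : IsLocalization.AtPrime (X.presheaf.stalk x) (hV.primeIdealOf ⟨x, hxV⟩).asIdeal :=
    hV.isLocalization_stalk ⟨x, hxV⟩
  haveI : Algebra.FormallyEtale Γ(X, V) (X.presheaf.stalk x) :=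
    Algebra.FormallyEtale.of_isLocalization (hV.primeIdealOf ⟨x, hxV⟩).asIdeal.primeCompl
  haveI : Nontrivial Γ(X, V) := RingHom.domain_nontrivial (X.presheaf.germ V x hxV).hom
  haveI : Algebra.IsStandardSmooth k Γ(X, V) :=
    Algebra.IsStandardSmoothOfRelativeDimension.isStandardSmooth n
  haveI : Algebra.FinitePresentation k Γ(X, V) := inferInstance
  haveI : Algebra.FiniteType k Γ(X, V) := inferInstance
  haveI : IsNoetherianRing Γ(X, V) := Algebra.FiniteType.isNoetherianRing k Γ(X, V)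
  have hrk : Module.finrank Γ(X, V) Ω[Γ(X, V)⁄k] = n := by
    have := Algebra.IsStandardSmoothOfRelativeDimension.rank_kaehlerDifferential
      (R := k) (S := Γ(X, V)) n
    exact Module.finrank_eq_of_rank_eq this
  let e1 := tensorKaehlerEquivOfFormallyEtale k Γ(X, V) (X.presheaf.stalk x)
  haveI : Algebra.EssFiniteType Γ(X, V) (X.presheaf.stalk x) :=
    Algebra.EssFiniteType.of_isLocalization _ (hV.primeIdealOf ⟨x, hxV⟩).asIdeal.primeCompl
  refine ⟨IsLocalization.isNoetherianRing (hV.primeIdealOf ⟨x, hxV⟩).asIdeal.primeCompl _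
    inferInstance, Module.Free.of_equiv e1, Module.Finite.equiv e1, ?_,
    Algebra.EssFiniteType.comp k Γ(X, V) (X.presheaf.stalk x)⟩
  rw [← e1.finrank_eq, Module.finrank_baseChange, hrk]

end Groth.Agent.Lib.Helper19.Tame5

namespace Groth.Agent.Lib.Helper19.Tame5

open AlgebraicGeometry CategoryTheory TensorProduct KaehlerDifferential
open Groth.Agent.Lib.Helper7

set_option maxHeartbeats 800000 in
theorem main6555 (k : Type u) [Field k] (X : Scheme.{u}) [X.Over (Spec (CommRingCat.of k))]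
    (x : X)
    (hsm : ∃ U : X.Opens, x ∈ U ∧
      SmoothOfRelativeDimension 1 (U.ι ≫ (X ↘ (Spec (CommRingCat.of k)))))
    (hsep : @Algebra.IsSeparable k (X.residueField x) _ _ (Curv2.resAlgebra k X x))
    (s : X.presheaf.stalk x) (hs : Irreducible s) :
    letI := Curv2.stalkAlgebra k X x
    Function.Bijective
      (fun a : X.presheaf.stalk x => a • KaehlerDifferential.D k (X.presheaf.stalk x) s) := by
  obtain ⟨V, hV, hxV, hφ⟩ := exists_stdSmooth_nhd k X 1 x hsm
  obtain ⟨hN, hfree, hfin, hrk, -⟩ := stalk_facts k X 1 x V hV hxV hφ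
  letI algB : Algebra k (X.presheaf.stalk x) := Curv2.stalkAlgebra k X x
  have hinst : (IsLocalRing.ResidueField.algebra (X.presheaf.stalk x) :
      Algebra k (IsLocalRing.ResidueField (X.presheaf.stalk x))) =
      Curv2.resAlgebra k X x := Algebra.algebra_ext _ _ (fun c => rfl)
  haveI hsep' : Algebra.IsSeparable k (IsLocalRing.ResidueField (X.presheaf.stalk x)) := by
    rw [hinst]; exact hsep
  haveI : Algebra.FormallyEtale k (IsLocalRing.ResidueField (X.presheaf.stalk x)) :=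
    Algebra.FormallyEtale.of_isSeparable _ _
  haveI : Algebra.FormallySmooth k (IsLocalRing.ResidueField (X.presheaf.stalk x)) :=
    inferInstance
  exact Tame4.bijective_smul_D (k := k) (B := X.presheaf.stalk x) hrk s hs

end Groth.Agent.Lib.Helper19.Tame5
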