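import Mathlib
import Groth.Agent.Lib.helper19.TensorLocal

set_option autoImplicit false
set_option linter.style.haveILetI false
universe u

namespace Groth.Agent.Lib.Helper19.TensorLocal

open TensorProduct IsLocalRing

/-- S9404. -/
theorem main_or (A : Type u) [CommRing A]
    [IsLocalRing A] (B : Type u) [CommRing B] [IsLocalRing B] [Algebra A B]
    [IsLocalHom (algebraMap A B)] (C : Type u) [CommRing C] [IsLocalRing C] [Algebra A C]
    [IsLocalHom (algebraMap A C)] [Algebra.IsIntegral A C]
    (h : IsPurelyInseparable (IsLocalRing.ResidueField A) (IsLocalRing.ResidueField C) ∨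
      IsPurelyInseparable (IsLocalRing.ResidueField A) (IsLocalRing.ResidueField B)) :
    IsLocalRing (B ⊗[A] C) ∧
      IsLocalHom (Algebra.TensorProduct.includeLeft : B →ₐ[A] B ⊗[A] C).toRingHom ∧
      IsLocalHom (Algebra.TensorProduct.includeRight : C →ₐ[A] B ⊗[A] C).toRingHom := by
  haveI hloc : IsLocalRing (B ⊗[A] C) := by
    rcases h with h | h
    · exact isLocalRing_left A B C
    · exact isLocalRing_right A B C
  have hJmax : J A B C ≤ maximalIdeal (B ⊗[A] C) := J_le A B C _ (maximalIdeal.isMaximal _)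
  refine ⟨hloc, ⟨fun b hb => ?_⟩, ⟨fun c hc => ?_⟩⟩
  · by_contra hnu
    have h1 : iS A B C b ∈ J A B C := iS_mem_J A B C ((mem_maximalIdeal _).mpr hnu)
    exact ((mem_maximalIdeal _).mp (hJmax h1)) hb
  · by_contra hnu
    have h1 : iR' A B C c ∈ J A B C := iR'_mem_J A B C ((mem_maximalIdeal _).mpr hnu)
    exact ((mem_maximalIdeal _).mp (hJmax h1)) hc

end Groth.Agent.Lib.Helper19.TensorLocal
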