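import Groth.Agent.Lib.helper19.TwistUnit
import Groth.Agent.Lib.Helper28.TwistGenDInv

set_option autoImplicit false
universe u
open CategoryTheory CategoryTheory.Limits AlgebraicGeometry Opposite TopologicalSpace
noncomputable section

namespace Groth.Agent.Lib.helper19.TwistCompact

open Groth.Agent.Lib.Helper28

variable {R A : Type u} [CommRing R] [CommRing A] [Algebra R A] (𝒜 : ℕ → Submodule R A) [GradedAlgebra 𝒜]

theorem exists_cover (Y : (Proj 𝒜).Opens) (hY : IsCompact (Y : Set (Proj 𝒜))) :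
    ∃ d : ℕ, 0 < d ∧
      (∀ y : Proj 𝒜, y ∈ Y → ∃ (i j : ℕ) (a b : A), a ∈ 𝒜 i ∧ b ∈ 𝒜 j ∧ i = j + d ∧
        y ∈ Proj.basicOpen 𝒜 (a * b)) := by
  classical
  have hex : ∀ y : Proj 𝒜, ∃ (e : ℕ) (g : A), 0 < e ∧ g ∈ 𝒜 e ∧ y ∈ Proj.basicOpen 𝒜 g := by
    intro y
    obtain ⟨e, g, he, hg, hgy, -⟩ := GrSectComap.exists_pos_basicOpen 𝒜 ⊤ y trivial
    exact ⟨e, g, he, hg, (Proj.mem_basicOpen 𝒜 g y).2 hgy⟩
  choose e g he hg hgy using hex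
  obtain ⟨t, ht⟩ := hY.elim_finite_subcover (fun y : Proj 𝒜 => ((Proj.basicOpen 𝒜 (g y) : (Proj 𝒜).Opens) : Set (Proj 𝒜)))
    (fun y => (Proj.basicOpen 𝒜 (g y)).isOpen)
    (fun y _ => Set.mem_iUnion.2 ⟨y, hgy y⟩)
  refine ⟨∏ y ∈ t, e y, Finset.prod_pos (fun y _ => he y), ?_⟩
  intro z hz
  obtain ⟨y, hy⟩ := Set.mem_iUnion.1 (ht hz)
  obtain ⟨hyt, hzy⟩ := Set.mem_iUnion.1 hy
  obtain ⟨c, hc⟩ := Finset.dvd_prod_of_mem e hyt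
  refine ⟨(c + 1) • e y, e y, g y ^ (c + 1), g y, SetLike.pow_mem_graded (c + 1) (hg y), hg y, ?_, ?_⟩
  · rw [hc, smul_eq_mul]; ring
  · have hzy' : z ∈ Proj.basicOpen 𝒜 (g y) := hzy
    rw [Proj.mem_basicOpen] at hzy' ⊢
    intro hmem
    have : g y ^ (c + 2) ∈ z.asHomogeneousIdeal := by
      have h1 : g y ^ (c + 1) * g y = g y ^ (c + 2) := by ring
      rwa [h1] at hmem
    exact hzy' (z.isPrime.mem_of_pow_mem _ this)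

theorem main (Y : (Proj 𝒜).Opens) (hY : IsCompact (Y : Set (Proj 𝒜))) :
    ∃ d : ℕ, 0 < d ∧
      (∀ y : Proj 𝒜, y ∈ Y → ∃ (i j : ℕ) (a b : A), a ∈ 𝒜 i ∧ b ∈ 𝒜 j ∧ i = j + d ∧
        y ∈ Proj.basicOpen 𝒜 (a * b)) ∧
      ∀ n : ℤ, PicF.IsInvertible ((Twist.twist 𝒜 (n * d)).restrict Y.ι) := by
  obtain ⟨d, hd, hcov⟩ := exists_cover 𝒜 Y hY
  refine ⟨d, hd, hcov, fun n => ?_⟩
  refine TwistGenD.isInvertible_restrict_of_local Y.ι _ ?_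
  intro y
  obtain ⟨i, j, a, b, ha, hb, hij, hy⟩ := hcov (Y.ι.base y) y.2
  exact ⟨Proj.basicOpen 𝒜 (a * b), hy, Groth.Agent.Lib.helper19.TwistUnit.main 𝒜 hd ha hb hij n⟩

end Groth.Agent.Lib.helper19.TwistCompact
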