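import Groth.Agent.Lib.Helper28.TwistInv

set_option autoImplicit false
universe u
open CategoryTheory CategoryTheory.Limits AlgebraicGeometry Opposite TopologicalSpace HomogeneousLocalization
noncomputable section

namespace Groth.Agent.Lib.helper19.TwistUnit

open Groth.Agent.Lib.Helper28 Groth.Agent.Lib.Helper28.QCohLoc Groth.Agent.Lib.Helper28.GrTildeQC
  Groth.Agent.Lib.Helper28.TwistMul

variable {R A : Type u} [CommRing R] [CommRing A] [Algebra R A] (𝒜 : ℕ → Submodule R A) [GradedAlgebra 𝒜]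

theorem smul_bijective {g : A} {e : ℕ} (he : 0 < e) (hg : g ∈ 𝒜 e) {u v w : A} {p q r : ℕ}
    (hu : u ∈ 𝒜 p) (hv : v ∈ 𝒜 q) (hw : w ∈ 𝒜 r) (N : ℕ) (huvw : u * v * w = g ^ N)
    (hdeg : p + q + r = N * e) (m : ℤ) (hm : (p : ℤ) - q = m)
    (s : Γ(Twist.twist 𝒜 m, Proj.basicOpen 𝒜 g))
    (hs : ∀ x : Proj.basicOpen 𝒜 g, TwistQC.val 𝒜 s x =
      Localization.mk (u * u * w) ⟨g ^ N, GrSectMod.pow_nin 𝒜 N x⟩) :
    Function.Bijective (fun c : Γ(Proj 𝒜, Proj.basicOpen 𝒜 g) =>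
      (c • s : Γ(Twist.twist 𝒜 m, Proj.basicOpen 𝒜 g))) := by
  have hunit : ∀ x : Proj.basicOpen 𝒜 g, IsUnit (TwistQC.val 𝒜 s x) := by
    intro x
    rw [hs x]
    refine IsUnit.of_mul_eq_one
      (Localization.mk (v * v * w) ⟨g ^ N, GrSectMod.pow_nin 𝒜 N x⟩) ?_
    rw [Localization.mk_mul]
    have h1 : u * u * w * (v * v * w) = g ^ N * g ^ N := by
      rw [← huvw]; ring
    have h2 : (u * u * w * (v * v * w)) =
        ((⟨g ^ N, GrSectMod.pow_nin 𝒜 N x⟩ * ⟨g ^ N, GrSectMod.pow_nin 𝒜 N x⟩ :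
          x.1.asHomogeneousIdeal.toIdeal.primeCompl) : A) := h1
    rw [h2]
    exact Localization.mk_self _
  constructor
  · intro c c' hcc
    apply ProjFrac.valO_ext
    intro x
    have h1 : TwistQC.val 𝒜 (c • s : Γ(Twist.twist 𝒜 m, Proj.basicOpen 𝒜 g)) x =
        TwistQC.val 𝒜 (c' • s : Γ(Twist.twist 𝒜 m, Proj.basicOpen 𝒜 g)) x :=
      congrArg (fun t => TwistQC.val 𝒜 t x) hcc
    rw [TwistQC.val_smul, TwistQC.val_smul] at h1
    exact (hunit x).mul_left_injective h1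
  · intro t
    obtain ⟨k, i, α, hα, hi, hval⟩ := TwistQC.exists_frac 𝒜 hg he m t
    have hd' : α * v * v * w ∈ 𝒜 ((k + N) • e) := by
      have h1 : α * v * v * w ∈ 𝒜 (i + q + q + r) :=
        SetLike.mul_mem_graded (SetLike.mul_mem_graded (SetLike.mul_mem_graded hα hv) hv) hw
      have h2 : i + q + q + r = (k + N) • e := by
        rw [smul_eq_mul]
        zify
        have h3 : ((p : ℤ) + q + r) = N * e := by exact_mod_cast hdeg
        linarith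
      rwa [h2] at h1
    refine ⟨Proj.awayToSection 𝒜 g (HomogeneousLocalization.Away.mk 𝒜 hg (k + N)
      (α * v * v * w) hd'), ?_⟩
    symm
    apply TwistQC.ext_val
    intro x
    rw [hval x, TwistQC.val_smul, GrTildeQC.val_valO_awayToSection 𝒜 hg _ _ hd' x, hs x,
      Localization.mk_mul, Localization.mk_eq_mk_iff, Localization.r_iff_exists]
    refine ⟨1, ?_⟩
    simp only [OneMemClass.coe_one, one_mul, Submonoid.coe_mul]
    have h1 : α * v * v * w * (u * u * w) = α * (g ^ N * g ^ N) := by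
      rw [← huvw]; ring
    rw [h1]
    ring

theorem aux {g0 : A} {e0 : ℕ} (hg0 : g0 ∈ 𝒜 e0) (he0 : 0 < e0) {u0 v0 : A} {p0 q0 : ℕ}
    (hu0 : u0 ∈ 𝒜 p0) (hv0 : v0 ∈ 𝒜 q0) (huv : u0 * v0 = g0) (hpq : p0 + q0 = e0) (N : ℕ) (m : ℤ)
    (hm : (N : ℤ) * ((p0 : ℤ) - q0) = m) :
    Nonempty ((Twist.twist 𝒜 m).restrict (Proj.basicOpen 𝒜 g0).ι ≅
      Coh.structureModule ↑(Proj.basicOpen 𝒜 g0)) := by
  have huN : u0 ^ N ∈ 𝒜 (N • p0) := SetLike.pow_mem_graded N hu0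
  have hvN : v0 ^ N ∈ 𝒜 (N • q0) := SetLike.pow_mem_graded N hv0
  have h1' : (1 : A) ∈ 𝒜 0 := SetLike.GradedOne.one_mem
  have hσm : (((N • p0 + N • p0 + 0 : ℕ)) : ℤ) = (N : ℤ) * e0 + m := by
    rw [← hm, ← hpq]; push_cast; simp only [smul_eq_mul]; push_cast; ring
  let σ : Γ(Twist.twist 𝒜 m, Proj.basicOpen 𝒜 g0) :=
    TwistQC.mkSect 𝒜 hg0 m N (N • p0 + N • p0 + 0) (u0 ^ N * u0 ^ N * 1)
      (SetLike.mul_mem_graded (SetLike.mul_mem_graded huN huN) h1') hσm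
  refine InvGen.nonempty_restrict_iso_of_generator (Twist.twist 𝒜 m) (Proj.basicOpen 𝒜 g0) σ
    (fun W => ∃ (h : A) (e : ℕ), 0 < e ∧ h ∈ 𝒜 e ∧ W = Proj.basicOpen 𝒜 (g0 * h)) ?_ ?_
  · intro V x hxV hVU
    obtain ⟨e, h, he, hh, hhx, hhV⟩ := GrSectComap.exists_pos_basicOpen 𝒜 V x hxV
    refine ⟨Proj.basicOpen 𝒜 (g0 * h), ⟨h, e, he, hh, rfl⟩, ?_, ?_⟩
    · rw [Proj.basicOpen_mul]
      exact ⟨hVU hxV, (Proj.mem_basicOpen 𝒜 h x).2 hhx⟩
    · intro y hy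
      rw [Proj.basicOpen_mul] at hy
      exact hhV y ((Proj.mem_basicOpen 𝒜 h y).1 hy.2)
  · rintro W hW ⟨h, e, he, hh, rfl⟩
    have hhN : h ^ N ∈ 𝒜 (N • e) := SetLike.pow_mem_graded N hh
    refine smul_bijective 𝒜 (g := g0 * h) (e := e0 + e) (by omega)
      (SetLike.mul_mem_graded hg0 hh) huN hvN hhN N ?_ ?_ m ?_ _ ?_
    · rw [← huv]; ring
    · simp only [smul_eq_mul]; rw [← hpq]; ring
    · rw [← hm]; simp only [smul_eq_mul]; push_cast; ring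
    · intro x
      rw [TwistQC.val_res, TwistQC.val_mkSect, Localization.mk_eq_mk_iff, Localization.r_iff_exists]
      refine ⟨1, ?_⟩
      simp only [OneMemClass.coe_one, one_mul]
      ring

theorem main {d : ℕ} (hd : 0 < d) {i j : ℕ} {a b : A} (ha : a ∈ 𝒜 i) (hb : b ∈ 𝒜 j)
    (hij : i = j + d) (n : ℤ) :
    Nonempty ((Twist.twist 𝒜 (n * d)).restrict (Proj.basicOpen 𝒜 (a * b)).ι ≅
      Coh.structureModule ↑(Proj.basicOpen 𝒜 (a * b))) := by
  have hab : a * b ∈ 𝒜 (i + j) := SetLike.mul_mem_graded ha hb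
  have hpos : 0 < i + j := by omega
  rcases le_total 0 n with hn | hn
  · refine aux 𝒜 hab hpos ha hb rfl rfl n.toNat (n * d) ?_
    rw [Int.toNat_of_nonneg hn, hij]; push_cast; ring
  · refine aux 𝒜 hab hpos hb ha (mul_comm b a) (add_comm j i) (-n).toNat (n * d) ?_
    rw [Int.toNat_of_nonneg (by omega), hij]; push_cast; ring

end Groth.Agent.Lib.helper19.TwistUnit
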