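import Mathlib

set_option autoImplicit false
universe u

namespace Groth.Agent.Lib.helper19.UncountA

open MvPolynomial

variable (k : Type u) [Field k] [Uncountable k]

/-- countably many nonzero univariate polynomials over an uncountable field have a common non-root -/
theorem exists_common_nonroot_poly (q : ℕ → Polynomial k) (hq : ∀ n, q n ≠ 0) :
    ∃ t : k, ∀ n, (q n).eval t ≠ 0 := by
  classical
  by_contra hcon
  push Not at hcon
  have hcover : (Set.univ : Set k) ⊆ ⋃ n, ((q n).roots.toFinset : Set k) := by
    intro t _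
    obtain ⟨n, hn⟩ := hcon t
    refine Set.mem_iUnion.2 ⟨n, ?_⟩
    simp only [Finset.mem_coe, Multiset.mem_toFinset]
    exact (Polynomial.mem_roots (hq n)).2 hn
  have hcount : (⋃ n, ((q n).roots.toFinset : Set k)).Countable :=
    Set.countable_iUnion fun n => (Finset.finite_toSet _).countable
  have : (Set.univ : Set k).Countable := hcount.mono hcover
  exact Set.not_countable_univ this

/-- countably many nonzero polynomials in finitely many variables over an uncountable field have a
common non-root -/
theorem exists_common_nonroot : ∀ (s : ℕ) (b : ℕ → MvPolynomial (Fin s) k), (∀ n, b n ≠ 0) →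
    ∃ a : Fin s → k, ∀ n, eval a (b n) ≠ 0 := by
  intro s
  induction s with
  | zero =>
    intro b hb
    refine ⟨fun i => i.elim0, fun n h => hb n ?_⟩
    have h1 := MvPolynomial.eq_C_of_isEmpty (b n)
    rw [h1, eval_C] at h
    rw [h1, h, C_0]
  | succ s ih =>
    intro b hb
    have hp : ∀ n, finSuccEquiv k s (b n) ≠ 0 := fun n h =>
      hb n ((finSuccEquiv k s).injective (h.trans (map_zero _).symm))
    have hc : ∀ n, (finSuccEquiv k s (b n)).leadingCoeff ≠ 0 := fun n =>
      Polynomial.leadingCoeff_ne_zero.2 (hp n)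
    obtain ⟨a', ha'⟩ := ih (fun n => (finSuccEquiv k s (b n)).leadingCoeff) hc
    have hq : ∀ n, Polynomial.map (eval a') (finSuccEquiv k s (b n)) ≠ 0 := by
      intro n h
      have h1 := congrArg (fun p => Polynomial.coeff p (finSuccEquiv k s (b n)).natDegree) h
      simp only [Polynomial.coeff_map, Polynomial.coeff_zero] at h1
      exact ha' n h1
    obtain ⟨t, ht⟩ := exists_common_nonroot_poly k _ hq
    refine ⟨Fin.cons t a', fun n => ?_⟩
    rw [eval_eq_eval_mv_eval']
    exact ht n

/-- **Core**: in a domain of finite type over an uncountable field, countably many nonzero elements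
are avoided by a common maximal ideal. -/
theorem exists_maximal_notMem (A : Type u) [CommRing A] [IsDomain A] [Algebra k A]
    [Algebra.FiniteType k A] (f : ℕ → A) (hf : ∀ n, f n ≠ 0) :
    ∃ M : Ideal A, M.IsMaximal ∧ ∀ n, f n ∉ M := by
  obtain ⟨s, g, hginj, hgfin⟩ := exists_finite_inj_algHom_of_fg k A
  letI : Algebra (MvPolynomial (Fin s) k) A := g.toRingHom.toAlgebra
  have hfin : Module.Finite (MvPolynomial (Fin s) k) A := hgfin
  haveI : Algebra.IsIntegral (MvPolynomial (Fin s) k) A := Algebra.IsIntegral.of_finite _ _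
  have hinj : Function.Injective (algebraMap (MvPolynomial (Fin s) k) A) := hginj
  have hb : ∀ n, ∃ b : MvPolynomial (Fin s) k, b ≠ 0 ∧
      algebraMap (MvPolynomial (Fin s) k) A b ∈ Ideal.span ({f n} : Set A) := by
    intro n
    have h1 := Ideal.comap_ne_bot_of_integral_mem (R := MvPolynomial (Fin s) k)
      (I := Ideal.span ({f n} : Set A)) (hf n) (Ideal.mem_span_singleton_self _)
      (Algebra.IsIntegral.isIntegral (f n))
    obtain ⟨b, hbmem, hb0⟩ := Submodule.exists_mem_ne_zero_of_ne_bot h1
    exact ⟨b, hb0, hbmem⟩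
  choose b hb0 hbmem using hb
  obtain ⟨a, ha⟩ := exists_common_nonroot k s b hb0
  let m : Ideal (MvPolynomial (Fin s) k) := RingHom.ker (eval a)
  haveI hm : m.IsMaximal := RingHom.ker_isMaximal_of_surjective (eval a) (fun c => ⟨C c, eval_C _⟩)
  obtain ⟨M, hM, hMm⟩ := Ideal.exists_ideal_over_maximal_of_isIntegral (S := A) m (by
    rw [(RingHom.injective_iff_ker_eq_bot _).1 hinj]; exact bot_le)
  refine ⟨M, hM, fun n hn => ha n ?_⟩
  have h1 : algebraMap (MvPolynomial (Fin s) k) A (b n) ∈ M := by
    have : Ideal.span ({f n} : Set A) ≤ M := (Ideal.span_singleton_le_iff_mem _).2 hn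
    exact this (hbmem n)
  have h2 : b n ∈ M.comap (algebraMap (MvPolynomial (Fin s) k) A) := h1
  rw [hMm] at h2
  exact h2

end Groth.Agent.Lib.helper19.UncountA
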