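import Groth.Agent.Lib.helper19.UncountA

set_option autoImplicit false
universe u

open CategoryTheory AlgebraicGeometry

namespace Groth.Agent.Lib.helper19.UncountB

variable (k : Type u) [Field k] [Uncountable k]

/-- variant of `exists_maximal_notMem` for rings with prime nilradical -/
theorem exists_maximal_notMem' (A : Type u) [CommRing A] [Algebra k A]
    [Algebra.FiniteType k A] (hP : (nilradical A).IsPrime) (f : ℕ → A)
    (hf : ∀ n, f n ∉ nilradical A) :
    ∃ M : Ideal A, M.IsMaximal ∧ ∀ n, f n ∉ M := by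
  haveI := hP
  haveI : IsDomain (A ⧸ nilradical A) := Ideal.Quotient.isDomain _
  haveI : Algebra.FiniteType k (A ⧸ nilradical A) :=
    Algebra.FiniteType.of_surjective (Ideal.Quotient.mkₐ k (nilradical A))
      (Ideal.Quotient.mkₐ_surjective k _)
  obtain ⟨M', hM', hfM'⟩ := UncountA.exists_maximal_notMem k (A ⧸ nilradical A)
    (fun n => Ideal.Quotient.mk _ (f n))
    (fun n h => hf n (Ideal.Quotient.eq_zero_iff_mem.1 h))
  refine ⟨M'.comap (Ideal.Quotient.mk (nilradical A)),
    Ideal.comap_isMaximal_of_surjective _ Ideal.Quotient.mk_surjective, fun n hn => hfM' n hn⟩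

/-- **Main**: irreducible scheme locally of finite type over an uncountable field; every nonempty open
contains a closed point of `X` avoiding countably many proper closed subsets. -/
theorem exists_closed_point_mem_open (X : Scheme.{u}) (sX : X ⟶ Spec (CommRingCat.of k))
    [IrreducibleSpace X] [LocallyOfFiniteType sX]
    (W : X.Opens) (hW : (W : Set X).Nonempty)
    (Z : ℕ → TopologicalSpace.Closeds X) (hZ : ∀ n, (Z n : Set X) ≠ Set.univ) :
    ∃ x : X, x ∈ W ∧ IsClosed ({x} : Set X) ∧ ∀ n, x ∉ Z n := by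
  obtain ⟨x₀, hx₀⟩ := hW
  obtain ⟨U, hU, hx₀U, hUW⟩ :=
    TopologicalSpace.Opens.isBasis_iff_nbhd.1 X.isBasis_affineOpens (U := W) hx₀
  have hU : IsAffineOpen U := hU
  haveI : JacobsonSpace X := LocallyOfFiniteType.jacobsonSpace sX
  -- the algebra structure
  let ψ : CommRingCat.of k ⟶ Γ(X, U) :=
    (Scheme.ΓSpecIso (CommRingCat.of k)).inv ≫ sX.appLE ⊤ U (by simp)
  have hψ : ψ.hom.FiniteType := by
    have h1 : (sX.appLE ⊤ U (by simp)).hom.FiniteType :=
      (HasRingHomProperty.iff_appLE (P := @LocallyOfFiniteType)).1 inferInstance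
        ⟨⊤, isAffineOpen_top _⟩ ⟨U, hU⟩ (by simp)
    have h2 : ((Scheme.ΓSpecIso (CommRingCat.of k)).inv).hom.FiniteType :=
      RingHom.FiniteType.of_surjective _
        (ConcreteCategory.bijective_of_isIso (Scheme.ΓSpecIso (CommRingCat.of k)).inv).2
    exact h1.comp h2
  letI : Algebra k Γ(X, U) := ψ.hom.toAlgebra
  haveI : Algebra.FiniteType k Γ(X, U) := hψ
  -- the open immersion
  let φ : Spec Γ(X, U) ⟶ X := hU.fromSpec
  have hφ : Topology.IsOpenEmbedding φ := φ.isOpenEmbedding
  have hrange : Set.range φ = (U : Set X) := hU.range_fromSpec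
  obtain ⟨p₀, hp₀⟩ : ∃ p₀ : Spec Γ(X, U), φ p₀ = x₀ := by
    have : x₀ ∈ Set.range φ := by rw [hrange]; exact hx₀U
    exact this
  -- irreducibility
  have hirr : IsIrreducible (Set.univ : Set (PrimeSpectrum Γ(X, U))) := by
    refine ⟨⟨p₀, trivial⟩, ?_⟩
    have := (IrreducibleSpace.isIrreducible_univ X).isPreirreducible.preimage hφ
    rw [Set.preimage_univ] at this
    exact this
  have hP : (nilradical Γ(X, U)).IsPrime := by
    have := PrimeSpectrum.isIrreducible_iff_vanishingIdeal_isPrime.1 hirr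
    rwa [PrimeSpectrum.vanishingIdeal_univ] at this
  have hUdense : Dense (U : Set X) := U.isOpen.dense ⟨x₀, hx₀U⟩
  -- the functions
  have hf : ∀ n, ∃ f : Γ(X, U), f ∈ PrimeSpectrum.vanishingIdeal (φ ⁻¹' (Z n : Set X)) ∧
      f ∉ nilradical Γ(X, U) := by
    intro n
    by_contra hcon
    push Not at hcon
    set S : Set (PrimeSpectrum Γ(X, U)) := φ ⁻¹' (Z n : Set X) with hS
    have hle : PrimeSpectrum.vanishingIdeal S ≤ nilradical Γ(X, U) := hcon
    have hcl : IsClosed S := (Z n).isClosed.preimage hφ.continuous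
    have h1 : PrimeSpectrum.zeroLocus (nilradical Γ(X, U) : Set Γ(X, U)) ⊆
        PrimeSpectrum.zeroLocus (PrimeSpectrum.vanishingIdeal S : Set Γ(X, U)) :=
      PrimeSpectrum.zeroLocus_anti_mono_ideal hle
    rw [PrimeSpectrum.zeroLocus_vanishingIdeal_eq_closure, hcl.closure_eq,
      ← PrimeSpectrum.vanishingIdeal_univ, PrimeSpectrum.zeroLocus_vanishingIdeal_eq_closure,
      closure_univ] at h1
    have h2 : (U : Set X) ⊆ (Z n : Set X) := by
      rw [← hrange]
      rintro _ ⟨p, rfl⟩
      exact h1 (Set.mem_univ p)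
    have h3 : closure (U : Set X) ⊆ (Z n : Set X) := (Z n).isClosed.closure_subset_iff.2 h2
    rw [hUdense.closure_eq] at h3
    exact hZ n (Set.univ_subset_iff.1 h3)
  choose f hfv hfn using hf
  obtain ⟨M, hM, hfM⟩ := exists_maximal_notMem' k Γ(X, U) hP f hfn
  let p : PrimeSpectrum Γ(X, U) := ⟨M, hM.isPrime⟩
  refine ⟨φ p, hUW ?_, ?_, fun n hn => hfM n ?_⟩
  · have : φ p ∈ Set.range φ := ⟨p, rfl⟩
    rw [hrange] at this
    exact this
  · have hp : p ∈ closedPoints (PrimeSpectrum Γ(X, U)) :=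
      (PrimeSpectrum.isClosed_singleton_iff_isMaximal p).2 hM
    have h := hφ.preimage_closedPoints
    have : p ∈ φ ⁻¹' closedPoints X := by rw [h]; exact hp
    exact this
  · exact (PrimeSpectrum.mem_vanishingIdeal _ _).1 (hfv n) p hn

end Groth.Agent.Lib.helper19.UncountB
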