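import Groth.Agent.Lib.helper19.UncountB

set_option autoImplicit false
universe u

open CategoryTheory AlgebraicGeometry TopologicalSpace

namespace Groth.Agent.Lib.helper19.UncountC

/-- In a locally Noetherian scheme, every member of a family of irreducible closed subsets lies below
a maximal member of the family. -/
theorem exists_maximal_of_mem (X : Scheme.{u}) [IsLocallyNoetherian X] (C : Set (Closeds X))
    (hC : ∀ T ∈ C, IsIrreducible (T : Set X)) (T : Closeds X) (hT : T ∈ C) :
    ∃ T' ∈ C, T ≤ T' ∧ ∀ T'' ∈ C, T' ≤ T'' → T'' = T' := by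
  obtain ⟨x, hx⟩ := QuasiSober.sober (hC T hT) T.isClosed
  let φ := X.fromSpecStalk x
  have hφ : Topology.IsEmbedding φ := φ.isEmbedding
  have hrange : Set.range φ = {y | y ⤳ x} := Scheme.range_fromSpecStalk
  let Q : Set (PrimeSpectrum (X.presheaf.stalk x)) :=
    {q | ∃ T' ∈ C, IsGenericPoint (φ q) (T' : Set X)}
  have hQne : Q.Nonempty := by
    have : x ∈ Set.range φ := by rw [hrange]; exact specializes_rfl
    obtain ⟨q, hq⟩ := this
    exact ⟨q, T, hT, by rw [hq]; exact hx⟩
  obtain ⟨q₀, hq₀, hmin⟩ := WellFounded.has_min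
    (InvImage.wf (fun q : PrimeSpectrum (X.presheaf.stalk x) => q.asIdeal.height) wellFounded_lt)
    Q hQne
  obtain ⟨T', hT'C, hT'⟩ := hq₀
  have hq₀x : φ q₀ ⤳ x := by
    have : φ q₀ ∈ Set.range φ := ⟨q₀, rfl⟩
    rw [hrange] at this
    exact this
  refine ⟨T', hT'C, ?_, ?_⟩
  · -- T ≤ T'
    intro y hy
    have hy' : y ∈ closure ({x} : Set X) := by rw [hx.def]; exact hy
    have h1 : x ⤳ y := specializes_iff_mem_closure.2 hy'
    have h2 : φ q₀ ⤳ y := hq₀x.trans h1
    have h3 : y ∈ closure ({φ q₀} : Set X) := specializes_iff_mem_closure.1 h2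
    rw [hT'.def] at h3
    exact h3
  · intro T'' hT''C hle
    obtain ⟨y'', hy''⟩ := QuasiSober.sober (hC T'' hT''C) T''.isClosed
    have h1 : y'' ⤳ φ q₀ := by
      rw [specializes_iff_mem_closure, hy''.def]
      apply hle
      show φ q₀ ∈ (T' : Set X)
      rw [← hT'.def]
      exact subset_closure rfl
    have h2 : y'' ∈ Set.range φ := by rw [hrange]; exact h1.trans hq₀x
    obtain ⟨q'', rfl⟩ := h2
    have hq''Q : q'' ∈ Q := ⟨T'', hT''C, hy''⟩
    have h3 : q'' ⤳ q₀ := hφ.isInducing.specializes_iff.1 h1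
    have h4 : @LE.le (PrimeSpectrum (X.presheaf.stalk x)) _ q'' q₀ :=
      (PrimeSpectrum.le_iff_specializes _ _).2 h3
    rcases eq_or_lt_of_le h4 with h5 | h5
    · subst h5
      apply Closeds.ext
      rw [← hy''.def, ← hT'.def]
    · exfalso
      apply hmin q'' hq''Q
      show q''.asIdeal.height < q₀.asIdeal.height
      exact Ideal.height_strict_mono_of_isPrime h5

variable (k : Type u) [Field k] [Uncountable k]

/-- If the closed points of an irreducible closed subset `T` are covered by countably many closed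
subsets, then `T` is contained in one of them. -/
theorem exists_le_of_closedPoints_subset (X : Scheme.{u}) (sX : X ⟶ Spec (CommRingCat.of k))
    [LocallyOfFiniteType sX] (T : Closeds X) (hT : IsIrreducible (T : Set X))
    (S' : Set (Closeds X)) (hS' : S'.Countable)
    (h : ∀ x : X, IsClosed ({x} : Set X) → x ∈ T → ∃ T' ∈ S', x ∈ T') :
    ∃ T' ∈ S', T ≤ T' := by
  by_contra hcon
  push Not at hcon
  obtain ⟨f, hf⟩ := (hS'.insert ⊥).exists_eq_range (Set.insert_nonempty _ _)
  let I := Scheme.IdealSheafData.vanishingIdeal T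
  let ι : I.subscheme ⟶ X := I.subschemeι
  have hι : Topology.IsClosedEmbedding ι := ι.isClosedEmbedding
  have hrange : Set.range ι = (T : Set X) := by
    rw [Scheme.IdealSheafData.range_subschemeι, Scheme.IdealSheafData.coe_support_vanishingIdeal]
  haveI : IrreducibleSpace I.subscheme := by
    obtain ⟨t₀, ht₀⟩ := hT.nonempty
    have : t₀ ∈ Set.range ι := by rw [hrange]; exact ht₀
    obtain ⟨y₀, hy₀⟩ := this
    refine { isPreirreducible_univ := ?_, toNonempty := ⟨y₀⟩ }
    rintro u v hu hv ⟨a, _, hau⟩ ⟨b, _, hbv⟩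
    obtain ⟨u', hu', rfl⟩ := hι.isInducing.isOpen_iff.1 hu
    obtain ⟨v', hv', rfl⟩ := hι.isInducing.isOpen_iff.1 hv
    have hTa : ((T : Set X) ∩ u').Nonempty := ⟨ι a, by rw [← hrange]; exact ⟨a, rfl⟩, hau⟩
    have hTb : ((T : Set X) ∩ v').Nonempty := ⟨ι b, by rw [← hrange]; exact ⟨b, rfl⟩, hbv⟩
    obtain ⟨z, hzT, hzu, hzv⟩ := hT.isPreirreducible u' v' hu' hv' hTa hTb
    rw [← hrange] at hzT
    obtain ⟨y, rfl⟩ := hzT
    exact ⟨y, trivial, hzu, hzv⟩
  have hZ : ∀ n, (ι ⁻¹' (f n : Set X)) ≠ Set.univ := by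
    intro n hn
    have hfn : f n ∈ insert ⊥ S' := by rw [hf]; exact ⟨n, rfl⟩
    have hle : T ≤ f n := by
      intro y hy
      have : y ∈ Set.range ι := by rw [hrange]; exact hy
      obtain ⟨z, rfl⟩ := this
      have : z ∈ ι ⁻¹' (f n : Set X) := by rw [hn]; trivial
      exact this
    rcases hfn with h0 | h1
    · rw [h0] at hle
      obtain ⟨y, hy⟩ := hT.nonempty
      exact hle hy
    · exact hcon _ h1 hle
  obtain ⟨y, -, hy, hyZ⟩ := UncountB.exists_closed_point_mem_open k I.subscheme (ι ≫ sX) ⊤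
    (by simpa using (inferInstance : Nonempty I.subscheme))
    (fun n => ⟨ι ⁻¹' (f n : Set X), (f n).isClosed.preimage hι.continuous⟩) hZ
  have hx : IsClosed ({ι y} : Set X) := by
    have := hι.isClosedMap _ hy
    rwa [Set.image_singleton] at this
  have hxT : ι y ∈ T := by
    have : ι y ∈ Set.range ι := ⟨y, rfl⟩
    rw [hrange] at this
    exact this
  obtain ⟨T', hT'S, hT'⟩ := h (ι y) hx hxT
  have : T' ∈ Set.range f := by rw [← hf]; exact Set.mem_insert_of_mem _ hT'S
  obtain ⟨n, rfl⟩ := this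
  exact hyZ n hT'

end Groth.Agent.Lib.helper19.UncountC
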