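import Groth.Agent.Lib.helper19.UncountC

set_option autoImplicit false
universe u

open CategoryTheory AlgebraicGeometry TopologicalSpace

namespace Groth.Agent.Lib.helper19.UncountD

theorem mem_sSup_finite {X : Type u} [TopologicalSpace X] (S : Set (Closeds X)) (hS : S.Finite)
    (x : X) : x ∈ sSup S ↔ ∃ T ∈ S, x ∈ T := by
  induction S, hS using Set.Finite.induction_on with
  | empty =>
    simp only [sSup_empty, Set.mem_empty_iff_false, false_and, exists_false, iff_false]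
    exact fun h => h
  | insert ha hs ih =>
    rw [sSup_insert]
    simp only [Set.mem_insert_iff, exists_eq_or_imp]
    rw [← ih]
    show x ∈ ((_ ⊔ _ : Closeds X) : Set X) ↔ _
    rw [Closeds.coe_sup]
    rfl

variable (k : Type u) [Field k] [Uncountable k]

/-- one inclusion for uniqueness -/
theorem subset_of_same_closedPoints (X : Scheme.{u}) (sX : X ⟶ Spec (CommRingCat.of k))
    [LocallyOfFiniteType sX] (S₁ S₂ : Set (Closeds X))
    (hc₁ : S₁.Countable) (hc₂ : S₂.Countable)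
    (hi₁ : ∀ T ∈ S₁, IsIrreducible (T : Set X)) (hi₂ : ∀ T ∈ S₂, IsIrreducible (T : Set X))
    (ha₁ : IsAntichain (· ≤ ·) S₁)
    (h : {x : X | IsClosed ({x} : Set X) ∧ ∃ T ∈ S₁, x ∈ T} =
      {x : X | IsClosed ({x} : Set X) ∧ ∃ T ∈ S₂, x ∈ T}) : S₁ ⊆ S₂ := by
  intro T hT
  obtain ⟨T', hT'S, hTT'⟩ := UncountC.exists_le_of_closedPoints_subset k X sX T (hi₁ T hT) S₂ hc₂
    (fun x hx hxT => by
      have : x ∈ {x : X | IsClosed ({x} : Set X) ∧ ∃ T ∈ S₁, x ∈ T} := ⟨hx, T, hT, hxT⟩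
      rw [h] at this
      exact this.2)
  obtain ⟨T'', hT''S, hT'T''⟩ := UncountC.exists_le_of_closedPoints_subset k X sX T' (hi₂ T' hT'S)
    S₁ hc₁
    (fun x hx hxT => by
      have : x ∈ {x : X | IsClosed ({x} : Set X) ∧ ∃ T ∈ S₂, x ∈ T} := ⟨hx, T', hT'S, hxT⟩
      rw [← h] at this
      exact this.2)
  have h1 : T = T'' := by
    by_contra hne
    exact ha₁ hT hT''S hne (hTT'.trans hT'T'')
  have h2 : T = T' := le_antisymm hTT' (h1 ▸ hT'T'')
  rw [h2]
  exact hT'S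

theorem main (X : Scheme.{u}) (sX : X ⟶ Spec (CommRingCat.of k)) [LocallyOfFiniteType sX]
    [QuasiCompact sX] (Z : ℕ → Closeds X) :
    ∃! S : Set (Closeds X), S.Countable ∧ (∀ T ∈ S, IsIrreducible (T : Set X)) ∧
      IsAntichain (· ≤ ·) S ∧
      {x : X | IsClosed ({x} : Set X) ∧ ∃ T ∈ S, x ∈ T} =
        {x : X | IsClosed ({x} : Set X) ∧ ∃ n, x ∈ Z n} := by
  haveI : IsLocallyNoetherian X := LocallyOfFiniteType.isLocallyNoetherian sX
  haveI : CompactSpace X := QuasiCompact.compactSpace_of_compactSpace sX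
  haveI : IsNoetherian X := {}
  choose Sn hSnfin hSnirr hSnsup using
    fun n => NoetherianSpace.exists_finite_set_closeds_irreducible (Z n)
  let C : Set (Closeds X) := ⋃ n, Sn n
  have hCc : C.Countable := Set.countable_iUnion fun n => (hSnfin n).countable
  have hCi : ∀ T ∈ C, IsIrreducible (T : Set X) := by
    intro T hT
    obtain ⟨n, hn⟩ := Set.mem_iUnion.1 hT
    exact hSnirr n T hn
  let S : Set (Closeds X) := {T | T ∈ C ∧ ∀ T'' ∈ C, T ≤ T'' → T'' = T}
  have hS : S.Countable ∧ (∀ T ∈ S, IsIrreducible (T : Set X)) ∧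
      IsAntichain (· ≤ ·) S ∧
      {x : X | IsClosed ({x} : Set X) ∧ ∃ T ∈ S, x ∈ T} =
        {x : X | IsClosed ({x} : Set X) ∧ ∃ n, x ∈ Z n} := by
    refine ⟨hCc.mono fun T hT => hT.1, fun T hT => hCi T hT.1, ?_, ?_⟩
    · intro T₁ hT₁ T₂ hT₂ hne hle
      exact hne (hT₁.2 T₂ hT₂.1 hle).symm
    · ext x
      constructor
      · rintro ⟨hx, T, ⟨hTC, -⟩, hxT⟩
        obtain ⟨n, hn⟩ := Set.mem_iUnion.1 hTC
        refine ⟨hx, n, ?_⟩
        rw [hSnsup n]
        exact (le_sSup hn : T ≤ sSup (Sn n)) hxT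
      · rintro ⟨hx, n, hxn⟩
        rw [hSnsup n] at hxn
        obtain ⟨T, hTn, hxT⟩ := (mem_sSup_finite (Sn n) (hSnfin n) x).1 hxn
        obtain ⟨T', hT'C, hTT', hmax⟩ := UncountC.exists_maximal_of_mem X C hCi T
          (Set.mem_iUnion.2 ⟨n, hTn⟩)
        exact ⟨hx, T', ⟨hT'C, hmax⟩, hTT' hxT⟩
  refine ⟨S, hS, ?_⟩
  rintro S' ⟨hc', hi', ha', he'⟩
  obtain ⟨hc, hi, ha, he⟩ := hS
  exact Set.Subset.antisymm
    (subset_of_same_closedPoints k X sX S' S hc' hc hi' hi ha' (he'.trans he.symm))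
    (subset_of_same_closedPoints k X sX S S' hc hc' hi hi' ha (he.trans he'.symm))

end Groth.Agent.Lib.helper19.UncountD
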