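import Mathlib

set_option autoImplicit false
set_option linter.style.haveILetI false
universe u v w
open TensorProduct

namespace Groth.Agent.Lib.Helper19.UnramFlat

variable (A : Type u) (C : Type v) (M : Type w) [CommRing A] [CommRing C] [Algebra A C]
  [AddCommGroup M] [Module A M] [Module C M] [IsScalarTower A C M]

/-- `x ↦ (m ↦ x · (1 ⊗ m))`. -/
noncomputable def Φ : C ⊗[A] C →ₗ[A] M →ₗ[A] C ⊗[A] M :=
  TensorProduct.lift
    { toFun := fun a =>
        { toFun := fun b =>
            { toFun := fun m => a ⊗ₜ[A] (b • m)
              map_add' := fun m m' => by rw [smul_add, tmul_add]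
              map_smul' := fun r m => by
                rw [RingHom.id_apply, smul_comm b r m, tmul_smul] }
          map_add' := fun b b' => by
            ext m
            simp [add_smul, tmul_add]
          map_smul' := fun r b => by
            ext m
            simp [tmul_smul] }
      map_add' := fun a a' => by
        ext b m
        simp [add_tmul]
      map_smul' := fun r a => by
        ext b m
        simp [smul_tmul'] }

@[simp] theorem Φ_tmul (a b : C) (m : M) : Φ A C M (a ⊗ₜ b) m = a ⊗ₜ[A] (b • m) := rfl

/-- The action map `C ⊗ M → M`. -/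
noncomputable def r : C ⊗[A] M →ₗ[C] M :=
  TensorProduct.AlgebraTensorModule.lift
    { toFun := fun c =>
        { toFun := fun m => c • m
          map_add' := fun m m' => smul_add _ _ _
          map_smul' := fun a m => by rw [RingHom.id_apply, smul_comm] }
      map_add' := fun c c' => by ext m; simp [add_smul]
      map_smul' := fun c c' => by ext m; simp [mul_smul] }

@[simp] theorem r_tmul (c : C) (m : M) : r A C M (c ⊗ₜ m) = c • m := rfl

theorem r_Φ (x : C ⊗[A] C) (m : M) : r A C M (Φ A C M x m) = (Algebra.TensorProduct.lmul' A x : C) • m := by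
  induction x with
  | zero => simp
  | tmul a b => simp [mul_smul]
  | add x y hx hy => simp [hx, hy, add_smul]

theorem Φ_left (c : C) (x : C ⊗[A] C) (m : M) :
    Φ A C M ((c ⊗ₜ 1) * x) m = c • Φ A C M x m := by
  induction x with
  | zero => simp
  | tmul a b => simp [TensorProduct.smul_tmul']
  | add x y hx hy => simp [mul_add, hx, hy]

theorem Φ_right (c : C) (x : C ⊗[A] C) (m : M) :
    Φ A C M ((1 ⊗ₜ c) * x) m = Φ A C M x (c • m) := by
  induction x with
  | zero => simp
  | tmul a b => simp [mul_smul, smul_comm c b m]
  | add x y hx hy => simp [mul_add, hx, hy]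

theorem flat_of_formallyUnramified [Algebra.FormallyUnramified A C] [Algebra.EssFiniteType A C]
    [Module.Flat A M] : Module.Flat C M := by
  let e := Algebra.FormallyUnramified.elem A C
  let i : M →ₗ[C] C ⊗[A] M :=
    { toFun := fun m => Φ A C M e m
      map_add' := fun m m' => map_add _ _ _
      map_smul' := fun c m => by
        rw [RingHom.id_apply, ← Φ_right,
          Algebra.FormallyUnramified.one_tmul_mul_elem (R := A) (S := C), Φ_left] }
  have hri : (r A C M).comp i = LinearMap.id := by
    ext m
    show r A C M (Φ A C M e m) = m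
    rw [r_Φ, Algebra.FormallyUnramified.lmul_elem (R := A) (S := C), one_smul]
  exact Module.Flat.of_retract i (r A C M) hri


open CategoryTheory CategoryTheory.Limits AlgebraicGeometry

theorem flat_stalk_iff {T S : Scheme.{u}} (g : T ⟶ S) [Etale g] (t : T) (M : Type v)
    [AddCommGroup M] [Module (T.presheaf.stalk t) M]
    [Algebra (S.presheaf.stalk (g.base t)) (T.presheaf.stalk t)]
    [Module (S.presheaf.stalk (g.base t)) M]
    [IsScalarTower (S.presheaf.stalk (g.base t)) (T.presheaf.stalk t) M]
    (halg : algebraMap (S.presheaf.stalk (g.base t)) (T.presheaf.stalk t) = (g.stalkMap t).hom) :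
    Module.Flat (S.presheaf.stalk (g.base t)) M ↔ Module.Flat (T.presheaf.stalk t) M := by
  haveI : Algebra.FormallyUnramified (S.presheaf.stalk (g.base t)) (T.presheaf.stalk t) := by
    rw [← RingHom.formallyUnramified_algebraMap, halg]
    exact FormallyUnramified.stalkMap g t
  haveI : Algebra.EssFiniteType (S.presheaf.stalk (g.base t)) (T.presheaf.stalk t) := by
    rw [← RingHom.essFiniteType_algebraMap, halg]
    exact LocallyOfFiniteType.stalkMap g t
  haveI : Module.Flat (S.presheaf.stalk (g.base t)) (T.presheaf.stalk t) := by
    have := Flat.stalkMap g t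
    rw [← halg] at this
    exact RingHom.flat_algebraMap_iff.mp this
  constructor
  · intro h
    exact flat_of_formallyUnramified (S.presheaf.stalk (g.base t)) (T.presheaf.stalk t) M
  · intro h
    exact Module.Flat.trans (S.presheaf.stalk (g.base t)) (T.presheaf.stalk t) M

end Groth.Agent.Lib.Helper19.UnramFlat
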