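import Mathlib
import Groth.Agent.Lib.helper19.UnramLocal5

set_option autoImplicit false
set_option linter.style.haveILetI false
universe u

open TensorProduct AlgebraicGeometry CategoryTheory CategoryTheory.Limits

namespace Groth.Agent.Lib.Helper19.UnramLocal

section Factor

variable {X S : Scheme.{u}} (f : X ⟶ S) (W : X.Opens) {S₀ : S.Opens} (hS₀ : IsAffineOpen S₀)
  {T : X.Opens} (hT : IsAffineOpen T) (hTW : T ≤ W) (hle : T ≤ f ⁻¹ᵁ S₀)

include hS₀ hT hTW in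
theorem spec_factor : ∃ (l : Spec Γ(X, T) ⟶ W) (_ : IsOpenImmersion l),
    Spec.map (f.appLE S₀ T hle) ≫ hS₀.fromSpec = l ≫ (W.ι ≫ f) := by
  have hrange : Set.range hT.fromSpec ⊆ Set.range W.ι := by
    rw [hT.range_fromSpec, Scheme.Opens.range_ι]
    exact hTW
  let l : Spec Γ(X, T) ⟶ W := IsOpenImmersion.lift W.ι hT.fromSpec hrange
  have hl : l ≫ W.ι = hT.fromSpec := IsOpenImmersion.lift_fac _ _ _
  haveI : IsOpenImmersion (l ≫ W.ι) := hl ▸ inferInstance
  refine ⟨l, IsOpenImmersion.of_comp l W.ι, ?_⟩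
  rw [hS₀.SpecMap_appLE_fromSpec f hT hle, ← hl, Category.assoc]

include hS₀ hT hTW in
theorem finiteType_appLE [LocallyOfFiniteType (W.ι ≫ f)] :
    (f.appLE S₀ T hle).hom.FiniteType := by
  obtain ⟨l, _, h⟩ := spec_factor f W hS₀ hT hTW hle
  haveI : LocallyOfFiniteType (Spec.map (f.appLE S₀ T hle) ≫ hS₀.fromSpec) := h ▸ inferInstance
  haveI := locallyOfFiniteType_of_comp (Spec.map (f.appLE S₀ T hle)) hS₀.fromSpec
  exact HasRingHomProperty.Spec_iff.mp this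

include hS₀ hT hTW in
theorem formallyUnramified_appLE [FormallyUnramified (W.ι ≫ f)] :
    (f.appLE S₀ T hle).hom.FormallyUnramified := by
  obtain ⟨l, _, h⟩ := spec_factor f W hS₀ hT hTW hle
  haveI : FormallyUnramified l := inferInstance
  haveI : FormallyUnramified (l ≫ W.ι ≫ f) :=
    MorphismProperty.comp_mem @FormallyUnramified l (W.ι ≫ f) ‹_› ‹_›
  haveI : FormallyUnramified (Spec.map (f.appLE S₀ T hle) ≫ hS₀.fromSpec) := h ▸ this
  haveI := FormallyUnramified.of_comp (Spec.map (f.appLE S₀ T hle)) hS₀.fromSpec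
  exact HasRingHomProperty.Spec_iff.mp this

include hS₀ hT hTW in
theorem etale_appLE [Etale (W.ι ≫ f)] :
    (f.appLE S₀ T hle).hom.Etale := by
  obtain ⟨l, _, h⟩ := spec_factor f W hS₀ hT hTW hle
  haveI : Etale (Spec.map (f.appLE S₀ T hle) ≫ hS₀.fromSpec) := h ▸ inferInstance
  haveI := Etale.of_comp (Spec.map (f.appLE S₀ T hle)) hS₀.fromSpec
  exact HasRingHomProperty.Spec_iff.mp this

end Factor

/-- S9555. -/
theorem main_unram {X S : Scheme.{u}} (f : X ⟶ S) (s : S)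
    {ι : Type} [Finite ι] (x : ι → ↑X) (hinj : Function.Injective x) (hs : ∀ i, f (x i) = s)
    (hx : ∀ i, ∃ W : X.Opens, x i ∈ W ∧ LocallyOfFiniteType (W.ι ≫ f) ∧
      FormallyUnramified (W.ι ≫ f)) :
    ∃ (U : Scheme.{u}) (g : U ⟶ S) (u : U), Etale g ∧ g u = s ∧
      ∃ (K : Type) (_ : Finite K) (lab : K → ι) (V : K → (pullback f g).Opens),
        (∀ k, IsClosedImmersion ((V k).ι ≫ pullback.snd f g) ∧
          ∃ w : ↑(pullback f g), w ∈ V k ∧ pullback.snd f g w = u) ∧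
        (∀ (k k' : K) (w : ↑(pullback f g)), w ∈ V k → w ∈ V k' →
          pullback.snd f g w = u → k = k') ∧
        (∀ (w : ↑(pullback f g)) (i : ι), pullback.snd f g w = u → pullback.fst f g w = x i →
          ∃ k, lab k = i ∧ w ∈ V k) := by
  obtain ⟨_, ⟨S₀, hS₀, rfl⟩, hsS₀, -⟩ := S.isBasis_affineOpens.exists_subset_of_mem_open
    (Set.mem_univ s) isOpen_univ
  choose W hxW hlft hfu using hx
  have hT : ∀ i, ∃ T : X.Opens, IsAffineOpen T ∧ x i ∈ T ∧ T ≤ W i ∧ T ≤ f ⁻¹ᵁ S₀ := by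
    intro i
    have hmem : x i ∈ ((W i ⊓ f ⁻¹ᵁ S₀ : X.Opens) : Set X) := by
      refine ⟨hxW i, ?_⟩
      show f (x i) ∈ S₀
      rw [hs i]; exact hsS₀
    obtain ⟨_, ⟨T, hT, rfl⟩, hxT, hTle⟩ := X.isBasis_affineOpens.exists_subset_of_mem_open
      hmem (W i ⊓ f ⁻¹ᵁ S₀).2
    exact ⟨T, hT, hxT, fun y hy => (hTle hy).1, fun y hy => (hTle hy).2⟩
  choose T hT hxT hTW hle using hT
  letI : ∀ i, Algebra Γ(S, S₀) Γ(X, T i) := fun i => (f.appLE S₀ (T i) (hle i)).hom.toAlgebra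
  haveI : ∀ i, Algebra.Unramified Γ(S, S₀) Γ(X, T i) := fun i =>
    { formallyUnramified := by
        haveI := hfu i
        exact formallyUnramified_appLE f (W i) hS₀ (hT i) (hTW i) (hle i)
      finiteType := by
        haveI := hlft i
        exact finiteType_appLE f (W i) hS₀ (hT i) (hTW i) (hle i) }
  obtain ⟨R', _, _, _, p', _, _, hD⟩ := exists_family Γ(S, S₀) (fun i => Γ(X, T i))
    (hS₀.primeIdealOf ⟨s, hsS₀⟩).asIdeal
  obtain ⟨g, u, hg, hu, K, hK, lab, V, h1, h2, h3, h4⟩ := scheme_main f s x hinj S₀ hS₀ hsS₀ T hT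
    hxT hle (fun i => rfl) R' p' (fun _ => True) (fun i => (hD i).toF)
  refine ⟨_, g, u, hg, hu, K, hK, lab, V, fun k => ⟨?_, h2 k⟩, h3, h4⟩
  obtain ⟨I, -, iso, hiso⟩ := h1 k
  rw [hiso]
  haveI : IsClosedImmersion (Spec.map (CommRingCat.ofHom (Ideal.Quotient.mk I))) :=
    IsClosedImmersion.spec_of_surjective _ Ideal.Quotient.mk_surjective
  infer_instance

end Groth.Agent.Lib.Helper19.UnramLocal
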