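import Mathlib
import Groth.Agent.Lib.helper19.UnramLocal6

set_option autoImplicit false
set_option linter.style.haveILetI false
universe u

open TensorProduct AlgebraicGeometry CategoryTheory CategoryTheory.Limits

namespace Groth.Agent.Lib.Helper19.UnramLocal

/-- S9557. -/
theorem main_etale {X S : Scheme.{u}} (f : X ⟶ S) (s : S)
    {ι : Type} [Finite ι] (x : ι → ↑X) (hinj : Function.Injective x) (hs : ∀ i, f (x i) = s)
    (hx : ∀ i, ∃ W : X.Opens, x i ∈ W ∧ Etale (W.ι ≫ f)) :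
    ∃ (U : Scheme.{u}) (g : U ⟶ S) (u : U), Etale g ∧ g u = s ∧
      ∃ (K : Type) (_ : Finite K) (lab : K → ι) (V : K → (pullback f g).Opens),
        (∀ k, IsIso ((V k).ι ≫ pullback.snd f g)) ∧
        (∀ (k k' : K) (w : ↑(pullback f g)), w ∈ V k → w ∈ V k' →
          pullback.snd f g w = u → k = k') ∧
        (∀ (w : ↑(pullback f g)) (i : ι), pullback.snd f g w = u → pullback.fst f g w = x i →
          ∃ k, lab k = i ∧ w ∈ V k) := by
  obtain ⟨_, ⟨S₀, hS₀, rfl⟩, hsS₀, -⟩ := S.isBasis_affineOpens.exists_subset_of_mem_open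
    (Set.mem_univ s) isOpen_univ
  choose W hxW het using hx
  have hT : ∀ i, ∃ T : X.Opens, IsAffineOpen T ∧ x i ∈ T ∧ T ≤ W i ∧ T ≤ f ⁻¹ᵁ S₀ := by
    intro i
    have hmem : x i ∈ ((W i ⊓ f ⁻¹ᵁ S₀ : X.Opens) : Set X) := by
      refine ⟨hxW i, ?_⟩
      show f (x i) ∈ S₀
      rw [hs i]; exact hsS₀
    obtain ⟨_, ⟨T, hT, rfl⟩, hxT, hTle⟩ := X.isBasis_affineOpens.exists_subset_of_mem_open
      hmem (W i ⊓ f ⁻¹ᵁ S₀).2
    exact ⟨T, hT, hxT, fun y hy => (hTle hy).1, fun y hy => (hTle hy).2⟩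
  choose T hT hxT hTW hle using hT
  letI : ∀ i, Algebra Γ(S, S₀) Γ(X, T i) := fun i => (f.appLE S₀ (T i) (hle i)).hom.toAlgebra
  haveI : ∀ i, Algebra.Etale Γ(S, S₀) Γ(X, T i) := fun i => by
    haveI := het i
    exact etale_appLE f (W i) hS₀ (hT i) (hTW i) (hle i)
  obtain ⟨R', _, _, _, p', _, _, hD⟩ := exists_family_etale Γ(S, S₀) (fun i => Γ(X, T i))
    (hS₀.primeIdealOf ⟨s, hsS₀⟩).asIdeal
  obtain ⟨g, u, hg, hu, K, hK, lab, V, h1, h2, h3, h4⟩ := scheme_main f s x hinj S₀ hS₀ hsS₀ T hT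
    hxT hle (fun i => rfl) R' p' (fun I => I = ⊥) (fun i => (hD i).toF)
  refine ⟨_, g, u, hg, hu, K, hK, lab, V, fun k => ?_, h3, h4⟩
  obtain ⟨I, rfl, iso, hiso⟩ := h1 k
  rw [hiso]
  haveI : IsIso (CommRingCat.ofHom (Ideal.Quotient.mk (⊥ : Ideal R'))) := by
    rw [ConcreteCategory.isIso_iff_bijective]
    exact ⟨(RingHom.injective_iff_ker_eq_bot _).mpr Ideal.mk_ker, Ideal.Quotient.mk_surjective⟩
  infer_instance

end Groth.Agent.Lib.Helper19.UnramLocal
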