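import Mathlib

set_option autoImplicit false
set_option linter.style.haveILetI false
universe u

open AlgebraicGeometry CategoryTheory CategoryTheory.Limits TopologicalSpace

namespace Groth.Agent.Lib.Helper19.UnramLocal

theorem opens_disjoint_of {X : Type*} [TopologicalSpace X] {A B : Opens X}
    (h : ∀ w, w ∈ A → w ∈ B → False) : Disjoint A B := by
  rw [disjoint_iff]
  ext w
  simp only [Opens.coe_inf, Set.mem_inter_iff, SetLike.mem_coe, Opens.coe_bot,
    Set.mem_empty_iff_false, iff_false, not_and]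
  exact fun ha hb => h w ha hb

/-- Shrinking lemma: from the local structure (possibly overlapping pieces) to a decomposition,
for separated morphisms. -/
theorem shrink {X S : Scheme.{u}} (f : X ⟶ S) [IsSeparated f]
    (MP : MorphismProperty Scheme.{u}) [MP.IsStableUnderBaseChange]
    (hMP : ∀ {A B : Scheme.{u}} (h : A ⟶ B), MP h → IsClosedImmersion h)
    {ι : Type} (x : ι → ↑X)
    {U : Scheme.{u}} (g : U ⟶ S) (u : U) {K : Type} [Finite K]
    (V : K → (pullback f g).Opens)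
    (h1 : ∀ k, MP ((V k).ι ≫ pullback.snd f g))
    (h1' : ∀ k, ∃ w : ↑(pullback f g), w ∈ V k ∧ pullback.snd f g w = u)
    (h2 : ∀ (k k' : K) (w : ↑(pullback f g)), w ∈ V k → w ∈ V k' →
      pullback.snd f g w = u → k = k')
    (h3 : ∀ (w : ↑(pullback f g)) (i : ι), pullback.snd f g w = u → pullback.fst f g w = x i →
      ∃ k, w ∈ V k) :
    ∃ (U' : U.Opens) (hu : u ∈ U') (W : (pullback f (U'.ι ≫ g)).Opens)
      (V' : K → (pullback f (U'.ι ≫ g)).Opens),
      W ⊔ (⨆ k, V' k) = ⊤ ∧ (∀ k, Disjoint W (V' k)) ∧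
      (∀ k k', k ≠ k' → Disjoint (V' k) (V' k')) ∧
      (∀ k, MP ((V' k).ι ≫ pullback.snd f (U'.ι ≫ g))) ∧
      (∀ k, ∃ w : ↑(pullback f (U'.ι ≫ g)), w ∈ V' k ∧
        pullback.snd f (U'.ι ≫ g) w = (⟨u, hu⟩ : U')) ∧
      (∀ (w : ↑(pullback f (U'.ι ≫ g))) (i : ι), w ∈ W →
        pullback.snd f (U'.ι ≫ g) w = (⟨u, hu⟩ : U') → pullback.fst f (U'.ι ≫ g) w ≠ x i) := by
  classical
  -- each `V k` is closed
  haveI : ∀ k, IsClosedImmersion ((V k).ι ≫ pullback.snd f g) := fun k => hMP _ (h1 k)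
  haveI : ∀ k, IsClosedImmersion (V k).ι := fun k =>
    IsClosedImmersion.of_comp (f := (V k).ι) (g := pullback.snd f g)
  have hVclosed : ∀ k, IsClosed ((V k : (pullback f g).Opens) : Set ↑(pullback f g)) := by
    intro k
    have := (V k).ι.isClosedEmbedding.isClosed_range
    rwa [Scheme.Opens.range_ι] at this
  -- the bad closed subset of `U`
  let Z : K × K → Set U := fun kk =>
    (pullback.snd f g) '' ((V kk.1 : Set ↑(pullback f g)) ∩ (V kk.2 : Set ↑(pullback f g)))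
  have hZclosed : ∀ kk, IsClosed (Z kk) := by
    intro kk
    have h : Z kk = ((V kk.1).ι ≫ pullback.snd f g) '' ((V kk.1).ι ⁻¹' (V kk.2 : Set _)) := by
      ext y
      constructor
      · rintro ⟨w, ⟨hw1, hw2⟩, rfl⟩
        exact ⟨⟨w, hw1⟩, hw2, rfl⟩
      · rintro ⟨v, hv, rfl⟩
        exact ⟨(V kk.1).ι v, ⟨v.2, hv⟩, rfl⟩
    rw [h]
    exact ((V kk.1).ι ≫ pullback.snd f g).isClosedEmbedding.isClosedMap _
      ((hVclosed kk.2).preimage (V kk.1).ι.continuous)
  let Zall : Set U := ⋃ kk : {kk : K × K // kk.1 ≠ kk.2}, Z kk.1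
  have hZall : IsClosed Zall := isClosed_iUnion_of_finite fun kk => hZclosed kk.1
  let U' : U.Opens := ⟨Zallᶜ, hZall.isOpen_compl⟩
  have hu : u ∈ U' := by
    show u ∉ Zall
    rintro hmem
    obtain ⟨⟨kk, hne⟩, hk⟩ := Set.mem_iUnion.mp hmem
    obtain ⟨w, ⟨hw1, hw2⟩, hwu⟩ := hk
    exact hne (h2 kk.1 kk.2 w hw1 hw2 hwu)
  -- the comparison map
  let g' : (U' : Scheme.{u}) ⟶ S := U'.ι ≫ g
  let j : pullback f g' ⟶ pullback f g :=
    pullback.lift (pullback.fst f g') (pullback.snd f g' ≫ U'.ι)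
      (by rw [pullback.condition, Category.assoc])
  have hj_fst : j ≫ pullback.fst f g = pullback.fst f g' := pullback.lift_fst _ _ _
  have hj_snd : j ≫ pullback.snd f g = pullback.snd f g' ≫ U'.ι := pullback.lift_snd _ _ _
  have sqJ : IsPullback j (pullback.snd f g') (pullback.snd f g) U'.ι := by
    refine IsPullback.of_right ?_ hj_snd (IsPullback.of_hasPullback f g)
    rw [hj_fst]
    exact IsPullback.of_hasPullback f g'
  have hj_fst' : ∀ w, pullback.fst f g (j w) = pullback.fst f g' w := fun w => by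
    rw [← hj_fst]; rfl
  have hj_snd' : ∀ w, pullback.snd f g (j w) = U'.ι (pullback.snd f g' w) := fun w => by
    have := congr($hj_snd w)
    exact this
  let V' : K → (pullback f g').Opens := fun k => j ⁻¹ᵁ (V k)
  have hV'closed : ∀ k, IsClosed ((V' k : (pullback f g').Opens) : Set ↑(pullback f g')) :=
    fun k => (hVclosed k).preimage j.continuous
  have hUnion : IsClosed (⋃ k, ((V' k : (pullback f g').Opens) : Set ↑(pullback f g'))) :=
    isClosed_iUnion_of_finite hV'closed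
  let W : (pullback f g').Opens := ⟨(⋃ k, ((V' k : (pullback f g').Opens) : Set _))ᶜ,
    hUnion.isOpen_compl⟩
  have hW : ∀ w, w ∈ W ↔ ∀ k, w ∉ V' k := by
    intro w
    show w ∉ (⋃ k, ((V' k : (pullback f g').Opens) : Set _)) ↔ _
    simp
  refine ⟨U', hu, W, V', ?_, ?_, ?_, ?_, ?_, ?_⟩
  · rw [eq_top_iff]
    intro w _
    by_cases hw : ∃ k, w ∈ V' k
    · obtain ⟨k, hk⟩ := hw
      exact (le_sup_right : (⨆ k, V' k) ≤ W ⊔ (⨆ k, V' k)) (Opens.mem_iSup.mpr ⟨k, hk⟩)
    · push_neg at hw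
      exact (le_sup_left : W ≤ W ⊔ (⨆ k, V' k)) ((hW w).mpr hw)
  · intro k
    exact opens_disjoint_of fun w hw1 hw2 => (hW w).mp hw1 k hw2
  · intro k k' hkk'
    refine opens_disjoint_of fun w hw1 hw2 => ?_
    have hmem : pullback.snd f g (j w) ∈ Zall :=
      Set.mem_iUnion.mpr ⟨⟨(k, k'), hkk'⟩, ⟨j w, ⟨hw1, hw2⟩, rfl⟩⟩
    rw [hj_snd'] at hmem
    exact (pullback.snd f g' w).2 hmem
  · intro k
    have sq1 : IsPullback (j ∣_ V k) (V' k).ι (V k).ι j := isPullback_morphismRestrict j (V k)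
    have sq2 := sq1.paste_vert sqJ
    exact MorphismProperty.of_isPullback sq2 (h1 k)
  · intro k
    obtain ⟨w, hwV, hwu⟩ := h1' k
    obtain ⟨w', hw'1, hw'2⟩ := Scheme.exists_preimage_of_isPullback sqJ w (⟨u, hu⟩ : U')
      (by rw [hwu]; rfl)
    refine ⟨w', ?_, hw'2⟩
    show j w' ∈ V k
    rw [show j w' = w from hw'1]
    exact hwV
  · intro w i hwW hwu hwx
    have h1 : pullback.snd f g (j w) = u := by
      rw [hj_snd', hwu]; rfl
    have h2 : pullback.fst f g (j w) = x i := by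
      rw [hj_fst', hwx]
    obtain ⟨k, hk⟩ := h3 (j w) i h1 h2
    exact (hW w).mp hwW k hk

end Groth.Agent.Lib.Helper19.UnramLocal
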