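import Mathlib
import Groth.Agent.Lib.helper19.UnramLocal7
import Groth.Agent.Lib.helper19.UnramLocal8

set_option autoImplicit false
set_option linter.style.haveILetI false
universe u

open AlgebraicGeometry CategoryTheory CategoryTheory.Limits TopologicalSpace

namespace Groth.Agent.Lib.Helper19.UnramLocal

/-- S9556. -/
theorem main_unram_sep {X S : Scheme.{u}} (f : X ⟶ S) [IsSeparated f] (s : S)
    {ι : Type} [Finite ι] (x : ι → ↑X) (hinj : Function.Injective x) (hs : ∀ i, f (x i) = s)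
    (hx : ∀ i, ∃ W : X.Opens, x i ∈ W ∧ LocallyOfFiniteType (W.ι ≫ f) ∧
      FormallyUnramified (W.ι ≫ f)) :
    ∃ (U : Scheme.{u}) (g : U ⟶ S) (u : U), Etale g ∧ g u = s ∧
      ∃ (K : Type) (_ : Finite K) (W : (pullback f g).Opens) (V : K → (pullback f g).Opens),
        W ⊔ (⨆ k, V k) = ⊤ ∧ (∀ k, Disjoint W (V k)) ∧
        (∀ k k', k ≠ k' → Disjoint (V k) (V k')) ∧
        (∀ k, IsClosedImmersion ((V k).ι ≫ pullback.snd f g) ∧
          ∃ w : ↑(pullback f g), w ∈ V k ∧ pullback.snd f g w = u) ∧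
        (∀ (w : ↑(pullback f g)) (i : ι), w ∈ W → pullback.snd f g w = u →
          pullback.fst f g w ≠ x i) := by
  obtain ⟨U, g, u, hg, hu, K, hK, lab, V, h1, h2, h3⟩ := main_unram f s x hinj hs hx
  obtain ⟨U', hu', W, V', c1, c2, c3, c4, c5, c6⟩ := shrink f @IsClosedImmersion
    (fun _ h => h) x g u V (fun k => (h1 k).1) (fun k => (h1 k).2) h2
    (fun w i hw hwx => by
      obtain ⟨k, -, hk⟩ := h3 w i hw hwx
      exact ⟨k, hk⟩)
  refine ⟨U', U'.ι ≫ g, ⟨u, hu'⟩, inferInstance, hu, K, hK, W, V', c1, c2, c3,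
    fun k => ⟨c4 k, c5 k⟩, c6⟩

/-- S9558. -/
theorem main_etale_sep {X S : Scheme.{u}} (f : X ⟶ S) [IsSeparated f] (s : S)
    {ι : Type} [Finite ι] (x : ι → ↑X) (hinj : Function.Injective x) (hs : ∀ i, f (x i) = s)
    (hx : ∀ i, ∃ W : X.Opens, x i ∈ W ∧ Etale (W.ι ≫ f)) :
    ∃ (U : Scheme.{u}) (g : U ⟶ S) (u : U), Etale g ∧ g u = s ∧
      ∃ (K : Type) (_ : Finite K) (W : (pullback f g).Opens) (V : K → (pullback f g).Opens),
        W ⊔ (⨆ k, V k) = ⊤ ∧ (∀ k, Disjoint W (V k)) ∧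
        (∀ k k', k ≠ k' → Disjoint (V k) (V k')) ∧
        (∀ k, IsIso ((V k).ι ≫ pullback.snd f g)) ∧
        (∀ (w : ↑(pullback f g)) (i : ι), w ∈ W → pullback.snd f g w = u →
          pullback.fst f g w ≠ x i) := by
  obtain ⟨U, g, u, hg, hu, K, hK, lab, V, h1, h2, h3⟩ := main_etale f s x hinj hs hx
  obtain ⟨U', hu', W, V', c1, c2, c3, c4, c5, c6⟩ := shrink f (MorphismProperty.isomorphisms _)
    (fun h hh => by
      haveI : IsIso h := hh
      infer_instance) x g u V (fun k => h1 k)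
    (fun k => by
      haveI := h1 k
      let v : V k := (inv ((V k).ι ≫ pullback.snd f g)) u
      have hv : ((V k).ι ≫ pullback.snd f g) v = u := by
        have := congr($(IsIso.inv_hom_id ((V k).ι ≫ pullback.snd f g)) u)
        exact this
      exact ⟨(V k).ι v, v.2, hv⟩) h2
    (fun w i hw hwx => by
      obtain ⟨k, -, hk⟩ := h3 w i hw hwx
      exact ⟨k, hk⟩)
  refine ⟨U', U'.ι ≫ g, ⟨u, hu'⟩, inferInstance, hu, K, hK, W, V', c1, c2, c3,
    fun k => c4 k, c6⟩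

end Groth.Agent.Lib.Helper19.UnramLocal
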