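import Groth.Prelude.Def_W4c1liftfrobW2
import Groth.Agent.Lib.helper19.EtLift
import Mathlib

namespace Helper19.W2Et
universe u v
open TensorProduct

variable (p : ℕ) [Fact p.Prime]

/-- The kernel of the residue map of `W₂(k)` squares to zero in characteristic `p`. -/
lemma ker_res_sq (k : Type u) [CommRing k] [CharP k p] :
    (RingHom.ker (FrobAlg.res p k)) ^ 2 = ⊥ := by
  rw [eq_bot_iff, pow_two]
  intro z hz
  refine Submodule.mul_induction_on hz ?_ ?_
  · intro x hx y hy
    rw [RingHom.mem_ker, FrobAlg.res_apply] at hx hy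
    obtain ⟨X, rfl⟩ := WittVector.truncate_surjective p 2 k x
    obtain ⟨Y, rfl⟩ := WittVector.truncate_surjective p 2 k y
    rw [WittVector.coeff_truncate] at hx hy
    change X.coeff 0 = 0 at hx
    change Y.coeff 0 = 0 at hy
    rw [Ideal.mem_bot, ← map_mul]
    obtain ⟨f, hf⟩ := WittVector.nth_mul_coeff p k 0
    have h00 : f (WittVector.truncateFun (0 + 1) (0 : WittVector p k))
        (WittVector.truncateFun (0 + 1) (0 : WittVector p k)) = 0 := by
      have := hf 0 0
      simpa using this.symm
    have hX : WittVector.truncateFun (0 + 1) X = WittVector.truncateFun (0 + 1) (0 : WittVector p k) := by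
      apply TruncatedWittVector.ext
      intro i
      rw [WittVector.coeff_truncateFun, WittVector.coeff_truncateFun]
      have : (i : ℕ) = 0 := by omega
      rw [this, hx, WittVector.zero_coeff]
    have hY : WittVector.truncateFun (0 + 1) Y = WittVector.truncateFun (0 + 1) (0 : WittVector p k) := by
      apply TruncatedWittVector.ext
      intro i
      rw [WittVector.coeff_truncateFun, WittVector.coeff_truncateFun]
      have : (i : ℕ) = 0 := by omega
      rw [this, hy, WittVector.zero_coeff]
    apply TruncatedWittVector.ext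
    intro i
    rw [WittVector.coeff_truncate, TruncatedWittVector.coeff_zero]
    have hi : (i : ℕ) = 0 ∨ (i : ℕ) = 1 := by omega
    rcases hi with hi | hi
    · rw [hi, WittVector.mul_coeff_zero, hx, zero_mul]
    · rw [hi]
      have := hf X Y
      rw [hX, hY, h00, hx, hy] at this
      have hp0 : (0 : k) ^ p ^ (0 + 1) = 0 :=
        zero_pow (pow_ne_zero _ (Fact.out : p.Prime).ne_zero)
      rw [hp0, mul_zero, mul_zero, add_zero, add_zero] at this
      exact this
  · intro x y hx hy
    exact Ideal.add_mem _ hx hy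

/-- A type synonym used to carry a twisted algebra structure. -/
def Tw (D : Type v) : Type v := D

instance (D : Type v) [CommRing D] : CommRing (Tw D) := inferInstanceAs (CommRing D)

/-- Lifting a ring endomorphism along a formally smooth algebra and a square-zero extension. -/
lemma exists_twisted_lift {B D C : Type v} [CommRing B] [CommRing D] [CommRing C] [Algebra B D]
    [Algebra.FormallySmooth B D] (Φ : B →+* B) (πD : D →+* C)
    (hsurj : Function.Surjective πD) (hker : RingHom.ker πD ^ 2 = ⊥) (F : C →+* C)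
    (hF : ∀ b, F (πD (algebraMap B D b)) = πD (algebraMap B D (Φ b))) :
    ∃ ΦD : D →+* D, (∀ b, ΦD (algebraMap B D b) = algebraMap B D (Φ b)) ∧
      ∀ d, πD (ΦD d) = F (πD d) := by
  letI a1 : Algebra B (Tw D) :=
    RingHom.toAlgebra (show B →+* Tw D from (algebraMap B D).comp Φ)
  letI a2 : Algebra B (Tw C) :=
    RingHom.toAlgebra (show B →+* Tw C from πD.comp ((algebraMap B D).comp Φ))
  let g : Tw D →ₐ[B] Tw C :=
    { toRingHom := (show Tw D →+* Tw C from πD)
      commutes' := fun b => rfl }
  let f : D →ₐ[B] Tw C :=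
    { toRingHom := (show D →+* Tw C from F.comp πD)
      commutes' := fun b => hF b }
  have hg : Function.Surjective g := hsurj
  have hnil : IsNilpotent (RingHom.ker (g : Tw D →+* Tw C)) := ⟨2, hker⟩
  let h : D →ₐ[B] Tw D := Algebra.FormallySmooth.liftOfSurjective f g hg hnil
  refine ⟨(show D →+* D from h.toRingHom), ?_, ?_⟩
  · intro b
    exact h.commutes b
  · intro d
    exact Algebra.FormallySmooth.liftOfSurjective_apply f g hg hnil d

theorem main (k : Type u) [Field k] [CharP k p] (A C : Type v) [CommRing A]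
    [CommRing C] [Algebra k A] [Algebra k C] [Algebra A C] [IsScalarTower k A C]
    [Algebra.Etale A C] (hA : FrobAlg.IsFLiftable p k A) : FrobAlg.IsFLiftable p k C := by
  obtain ⟨B, _, ι, π, Φ, hΦ⟩ := hA
  have hL := hΦ.toIsLift
  let eq : B ⧸ RingHom.ker π ≃+* A := RingHom.quotientKerEquivOfSurjective hL.surj
  letI : Algebra (B ⧸ RingHom.ker π) A := eq.toRingHom.toAlgebra
  haveI : Algebra.Etale (B ⧸ RingHom.ker π) A :=
    Algebra.Etale.of_equiv (AlgEquiv.ofRingEquiv (f := eq) (fun x => rfl))
  letI : Algebra (B ⧸ RingHom.ker π) C := ((algebraMap A C).comp eq.toRingHom).toAlgebra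
  haveI : IsScalarTower (B ⧸ RingHom.ker π) A C := IsScalarTower.of_algebraMap_eq' rfl
  haveI : Algebra.Etale (B ⧸ RingHom.ker π) C := Algebra.Etale.comp (B ⧸ RingHom.ker π) A C
  obtain ⟨D, _, _, hDet, ⟨e⟩⟩ := Helper19.EtLift.main B (RingHom.ker π) C
  let incl : D →+* (B ⧸ RingHom.ker π) ⊗[B] D :=
    (Algebra.TensorProduct.includeRight : D →ₐ[B] (B ⧸ RingHom.ker π) ⊗[B] D).toRingHom
  have hincl : ∀ d, incl d = (1 : B ⧸ RingHom.ker π) ⊗ₜ[B] d := fun d => rfl
  let πD : D →+* C := (e : (B ⧸ RingHom.ker π) ⊗[B] D →+* C).comp incl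
  have hπD' : ∀ d, πD d = e ((1 : B ⧸ RingHom.ker π) ⊗ₜ[B] d) := fun d => rfl
  let ιD : FrobAlg.W2 p k →+* D := (algebraMap B D).comp ι
  have hincl_surj : Function.Surjective incl := by
    exact Algebra.TensorProduct.includeRight_surjective (R := B) (S := B ⧸ RingHom.ker π) D
      Ideal.Quotient.mk_surjective
  have hsurjD : Function.Surjective πD := e.surjective.comp hincl_surj
  have hkerD : RingHom.ker πD = Ideal.map (algebraMap B D) (RingHom.ker π) := by
    ext d
    rw [RingHom.mem_ker, hπD', EmbeddingLike.map_eq_zero_iff,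
      ← (TensorProduct.quotTensorEquivQuotSMul D (RingHom.ker π)).map_eq_zero_iff,
      TensorProduct.quotTensorEquivQuotSMul_mk_one_tmul, Submodule.Quotient.mk_eq_zero,
      Ideal.smul_top_eq_map, Submodule.restrictScalars_mem]
  have hπD : ∀ b : B, πD (algebraMap B D b) = algebraMap A C (π b) := by
    intro b
    rw [hπD']
    have h1 : (1 : B ⧸ RingHom.ker π) ⊗ₜ[B] (algebraMap B D b) =
        algebraMap (B ⧸ RingHom.ker π) ((B ⧸ RingHom.ker π) ⊗[B] D)
          (Ideal.Quotient.mk _ b) := by
      rw [Algebra.TensorProduct.algebraMap_apply, Algebra.algebraMap_self, RingHom.id_apply,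
        Algebra.algebraMap_eq_smul_one, ← TensorProduct.smul_tmul, Algebra.smul_def, mul_one]
      rfl
    rw [h1, AlgEquiv.commutes]
    rfl
  have hliftD : FrobAlg.IsLift p k C D ιD πD := by
    refine ⟨?_, hsurjD, ?_, ?_⟩
    · haveI : Module.Flat B D := inferInstance
      exact RingHom.Flat.comp hL.flat ((RingHom.flat_algebraMap_iff).mpr inferInstance)
    · rw [hkerD, hL.ker_eq, Ideal.map_map]
    · ext w
      change πD (algebraMap B D (ι w)) = algebraMap k C (FrobAlg.res p k w)
      rw [hπD]
      have := congrArg (fun f => f w) hL.comm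
      simp only [RingHom.comp_apply] at this
      rw [this, ← IsScalarTower.algebraMap_apply]
  have hkerD2 : RingHom.ker πD ^ 2 = ⊥ := by
    rw [hkerD, hL.ker_eq, Ideal.map_map, ← Ideal.map_pow, ker_res_sq, Ideal.map_bot]
  rcases subsingleton_or_nontrivial C with hC | hC
  · haveI : Subsingleton D := by
      have htop : RingHom.ker πD = ⊤ := by
        ext d
        simp only [RingHom.mem_ker, Submodule.mem_top, iff_true]
        exact Subsingleton.elim _ _
      rw [htop, Ideal.top_pow] at hkerD2
      have h1 : (1 : D) ∈ (⊥ : Ideal D) := by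
        rw [← hkerD2]
        exact Submodule.mem_top
      exact subsingleton_of_zero_eq_one ((Ideal.mem_bot.mp h1).symm)
    refine ⟨D, inferInstance, ιD, πD, RingHom.id D, ⟨hliftD, ?_, ?_⟩⟩
    · ext w
      exact Subsingleton.elim _ _
    · intro d
      exact Subsingleton.elim _ _
  · haveI : CharP C p := charP_of_injective_algebraMap (algebraMap k C).injective p
    obtain ⟨ΦD, h1, h2⟩ := exists_twisted_lift Φ πD hsurjD hkerD2 (frobenius C p) (by
      intro b
      rw [hπD, hπD, frobenius_def, ← map_pow, hΦ.red])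
    refine ⟨D, inferInstance, ιD, πD, ΦD, ⟨hliftD, ?_, ?_⟩⟩
    · ext w
      change ΦD (algebraMap B D (ι w)) = algebraMap B D (ι (FrobAlg.sigma p k w))
      rw [h1]
      have := congrArg (fun f => f w) hΦ.semi
      simp only [RingHom.comp_apply] at this
      rw [this]
    · intro d
      rw [h2, frobenius_def]

end Helper19.W2Et
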